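import Groth.Agent.ModStalk.Pullback
import Groth.Agent.AmpleLib.Tensor
import Mathlib.Algebra.Category.ModuleCat.Monoidal.Adjunction

/-! The natural isomorphism `f^*(M ⊗ N) ≅ f^*M ⊗ f^*N`. -/

set_option autoImplicit false
set_option backward.isDefEq.respectTransparency false
set_option backward.defeqAttrib.useBackward true
set_option linter.style.haveILetI false

universe u

open CategoryTheory CategoryTheory.Limits AlgebraicGeometry Opposite TopologicalSpace MonoidalCategory
open Groth.Agent.ModStalk Groth.Agent.Coherent Groth.Agent.PicLib Groth.Agent.AmpleLib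
open scoped TensorProduct

namespace Groth.Agent.DCat.PullTensor

variable {X Y : Scheme.{u}} (f : X ⟶ Y)

/-- Sheafification does nothing on germs. -/
lemma shPStalk_germ (x : X) (P : CohB1.PMod X) (U : X.Opens) (hx : x ∈ U) (s : P.obj (op U)) :
    (shPStalkIso x).hom.app P (germP x (DCoh.toP.obj (DCoh.shP.obj P)) U hx
      ((PresheafOfModules.sheafificationAdjunction.{u, u, u, u} (R := X.ringCatSheaf)
        (𝟙 X.ringCatSheaf.obj)).unit.app P |>.app (op U) s)) = germP x P U hx s := by
  have h := congrArg (fun φ => sval (A := (stalkP x).obj P) (U := U) ((φ : P ⟶ (skyP x).obj ((stalkP x).obj P)).app (op U) s) hx)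
    (Adjunction.unit_leftAdjointUniq_hom_app ((PresheafOfModules.sheafificationAdjunction.{u, u, u, u} (R := X.ringCatSheaf)
      (𝟙 X.ringCatSheaf.obj)).comp (stalkAdj x)) (stalkSkyAdj x) P)
  exact h

/-- The stalk iso of a pullback on germs of pulled back sections. -/
lemma pullbackStalk_germ (x : X) (M : Y.Modules) (U : Y.Opens) (hx : f.base x ∈ U) (s : Γ(M, U)) :
    (pullbackStalkIso f x).hom.app M
        (germP x (DCoh.toP.obj ((Scheme.Modules.pullback f).obj M)) (f ⁻¹ᵁ U) hx (pullSec f s)) =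
      (ModuleCat.extendRestrictScalarsAdj (f.stalkMap x).hom).unit.app ((DerSch.stalkFunctor Y (f.base x)).obj M)
        (germP (f.base x) (DCoh.toP.obj M) U hx s) := by
  have h := congrArg (fun φ => sval (A := (ModuleCat.restrictScalars (f.stalkMap x).hom).obj
      ((ModuleCat.extendScalars (f.stalkMap x).hom).obj ((DerSch.stalkFunctor Y (f.base x)).obj M))) (U := U)
      (Scheme.Modules.Hom.app (φ : M ⟶ (sky (f.base x)).obj ((ModuleCat.restrictScalars (f.stalkMap x).hom).obj
        ((ModuleCat.extendScalars (f.stalkMap x).hom).obj ((DerSch.stalkFunctor Y (f.base x)).obj M)))) U s) hx)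
    (Adjunction.unit_leftAdjointUniq_hom_app
      (((Scheme.Modules.pullbackPushforwardAdjunction f).comp (stalkAdj x)).ofNatIsoRight (skyPushIso f x))
      ((stalkAdj (f.base x)).comp (ModuleCat.extendRestrictScalarsAdj (f.stalkMap x).hom)) M)
  exact h

lemma stalkMap_germP {M N : X.Modules} (φ : M ⟶ N) (x : X) (U : X.Opens) (hx : x ∈ U) (s : Γ(M, U)) :
    (DerSch.stalkFunctor X x).map φ (germP x (DCoh.toP.obj M) U hx s) =
      germP x (DCoh.toP.obj N) U hx (φ.app U s) :=
  stalkP_map_germP (DCoh.toP.map φ) U hx s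

/-- The stalk iso of a tensor product on germs. -/
lemma stalkTensor_germ (x : X) (M N : X.Modules) (U : X.Opens) (hx : x ∈ U) (a : Γ(M, U)) (b : Γ(N, U)) :
    (stalkTensorIso x M N).hom (germP x (DCoh.toP.obj (CohB1.tensorMod M N)) U hx (tmul a b)) =
      germP x (DCoh.toP.obj M) U hx a ⊗ₜ germP x (DCoh.toP.obj N) U hx b := by
  have h₁ := shPStalk_germ x (DCoh.toP.obj M ⊗ DCoh.toP.obj N) U hx
    (secTmul (DCoh.toP.obj M) (DCoh.toP.obj N) a b)
  change ((stalkFunctorIso x).app M ⊗ᵢ (stalkFunctorIso x).app N).inv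
    ((stalkTensIso x (DCoh.toP.obj M) (DCoh.toP.obj N)).hom ((shPStalkIso x).hom.app _ _)) = _
  erw [h₁]
  erw [tensToStalks_germP]
  rfl

/-- The comparison map, as a bilinear map. -/
noncomputable def comparison (M N : Y.Modules) :
    Bilin M N ((Scheme.Modules.pushforward f).obj
      (((DCoh.tensorBi (X := X)).obj ((Scheme.Modules.pullback f).obj M)).obj ((Scheme.Modules.pullback f).obj N))) where
  app U a b := (show Γ(CohB1.tensorMod ((Scheme.Modules.pullback f).obj M) ((Scheme.Modules.pullback f).obj N), f ⁻¹ᵁ U)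
    from tmul (pullSec f a) (pullSec f b))
  add_left U a a' b := by
    show tmul (pullSec f (a + a')) (pullSec f b) = tmul (pullSec f a) (pullSec f b) + tmul (pullSec f a') (pullSec f b)
    rw [show pullSec f (a + a') = pullSec f a + pullSec f a' from map_add _ _ _, tmul_add_left]
  add_right U a b b' := by
    show tmul (pullSec f a) (pullSec f (b + b')) = tmul (pullSec f a) (pullSec f b) + tmul (pullSec f a) (pullSec f b')
    rw [show pullSec f (b + b') = pullSec f b + pullSec f b' from map_add _ _ _, tmul_add_right]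
  smul_left U r a b := by
    show tmul (pullSec f (r • a)) (pullSec f b) = f.app U r • tmul (pullSec f a) (pullSec f b)
    rw [pullSec_smul, tmul_smul_left]
  smul_right U r a b := by
    show tmul (pullSec f a) (pullSec f (r • b)) = f.app U r • tmul (pullSec f a) (pullSec f b)
    rw [pullSec_smul, tmul_smul_right]
  res U V h a b := by
    show resM _ ((Opens.map f.base).map (homOfLE h)).le (tmul (pullSec f a) (pullSec f b)) = _
    rw [resM_tmul, resM_pullSec f h, resM_pullSec f h]

/-- The comparison map. -/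
noncomputable def pullTensorHom (M N : Y.Modules) :
    (Scheme.Modules.pullback f).obj (((DCoh.tensorBi (X := Y)).obj M).obj N) ⟶
      ((DCoh.tensorBi (X := X)).obj ((Scheme.Modules.pullback f).obj M)).obj ((Scheme.Modules.pullback f).obj N) :=
  ((Scheme.Modules.pullbackPushforwardAdjunction f).homEquiv _ _).symm (comparison f M N).desc

lemma pullTensorHom_pullSec (M N : Y.Modules) (U : Y.Opens) (a : Γ(M, U)) (b : Γ(N, U)) :
    (pullTensorHom f M N).app (f ⁻¹ᵁ U) (pullSec f (tmul a b)) = tmul (pullSec f a) (pullSec f b) :=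
  (homEquiv_symm_app_pullSec f (comparison f M N).desc (tmul a b)).trans
    (Bilin.desc_tmul (comparison f M N) U a b)

lemma homEquiv_apply' {R S : Type u} [CommRing R] [CommRing S] (φ : R →+* S) {A : ModuleCat.{u} R}
    {T : ModuleCat.{u} S} (g : (ModuleCat.extendScalars φ).obj A ⟶ T) (z : A) :
    (ModuleCat.Hom.hom ((ModuleCat.extendRestrictScalarsAdj φ).homEquiv A T g)) z =
      g ((ModuleCat.extendRestrictScalarsAdj φ).unit.app A z) := by
  rw [Adjunction.homEquiv_unit]
  rfl

lemma extendScalars_map_unit {R S : Type u} [CommRing R] [CommRing S] (φ : R →+* S) {A B : ModuleCat.{u} R}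
    (e : A ⟶ B) (z : A) : (ModuleCat.extendScalars φ).map e ((ModuleCat.extendRestrictScalarsAdj φ).unit.app A z) =
      (ModuleCat.extendRestrictScalarsAdj φ).unit.app B (e z) :=
  ConcreteCategory.congr_hom ((ModuleCat.extendRestrictScalarsAdj φ).unit.naturality e).symm z

lemma delta_unit {R S : Type u} [CommRing R] [CommRing S] (φ : R →+* S) {A B : ModuleCat.{u} R}
    (a : A) (b : B) : Functor.OplaxMonoidal.δ (ModuleCat.extendScalars φ) A B
      ((ModuleCat.extendRestrictScalarsAdj φ).unit.app (A ⊗ B) (a ⊗ₜ b)) =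
      (show ((ModuleCat.extendScalars φ).obj A) from (ModuleCat.extendRestrictScalarsAdj φ).unit.app A a) ⊗ₜ
        (show ((ModuleCat.extendScalars φ).obj B) from (ModuleCat.extendRestrictScalarsAdj φ).unit.app B b) :=
  ModuleCat.extendScalars_δ_tmul φ A B a b

lemma isIso_pullTensorHom_stalk (M N : Y.Modules) (x : X) :
    (pullbackStalkIso f x).inv.app _ ≫ (DerSch.stalkFunctor X x).map (pullTensorHom f M N) ≫
        (stalkTensorIso x _ _).hom ≫
          (((pullbackStalkIso f x).app M).hom ⊗ₘ ((pullbackStalkIso f x).app N).hom) =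
      (ModuleCat.extendScalars (f.stalkMap x).hom).map (stalkTensorIso (f.base x) M N).hom ≫
        Functor.OplaxMonoidal.δ (ModuleCat.extendScalars (f.stalkMap x).hom) _ _ := by
  apply ((ModuleCat.extendRestrictScalarsAdj (f.stalkMap x).hom).homEquiv _ _).injective
  rw [← cancel_epi (stalkTensorIso (f.base x) M N).inv]
  refine ModuleCat.MonoidalCategory.tensor_ext fun m n => ?_
  obtain ⟨U, hU, a, b, rfl, rfl⟩ := exists_common (DCoh.toP.obj M) (DCoh.toP.obj N) m n
  have hinv : (stalkTensorIso (f.base x) M N).inv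
      (germP (f.base x) (DCoh.toP.obj M) U hU a ⊗ₜ germP (f.base x) (DCoh.toP.obj N) U hU b) =
      germP (f.base x) (DCoh.toP.obj (CohB1.tensorMod M N)) U hU (tmul a b) := by
    rw [← stalkTensor_germ (f.base x) M N U hU a b]
    exact Iso.hom_inv_id_apply (stalkTensorIso (f.base x) M N) _
  simp only [ModuleCat.hom_comp, LinearMap.comp_apply]
  have hinv' : (ModuleCat.Hom.hom (stalkTensorIso (f.base x) M N).inv)
      (germP (f.base x) (DCoh.toP.obj M) U hU a ⊗ₜ germP (f.base x) (DCoh.toP.obj N) U hU b) =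
      germP (f.base x) (DCoh.toP.obj (CohB1.tensorMod M N)) U hU (tmul a b) := hinv
  rw [hinv']
  rw [homEquiv_apply', homEquiv_apply']
  simp only [ConcreteCategory.comp_apply]
  have hp := pullbackStalk_germ f x (CohB1.tensorMod M N) U hU (tmul a b)
  have hz : (pullbackStalkIso f x).inv.app (((DCoh.tensorBi (X := Y)).obj M).obj N)
      ((ModuleCat.extendRestrictScalarsAdj (f.stalkMap x).hom).unit.app _
        (germP (f.base x) (DCoh.toP.obj (CohB1.tensorMod M N)) U hU (tmul a b))) =
      germP x (DCoh.toP.obj ((Scheme.Modules.pullback f).obj (CohB1.tensorMod M N))) (f ⁻¹ᵁ U) hU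
        (pullSec f (tmul a b)) := by
    exact (congrArg (fun z => (pullbackStalkIso f x).inv.app (((DCoh.tensorBi (X := Y)).obj M).obj N) z) hp.symm).trans
      (Iso.hom_inv_id_apply ((pullbackStalkIso f x).app _) _)
  refine Eq.trans (congrArg (fun w => (((pullbackStalkIso f x).app M).hom ⊗ₘ ((pullbackStalkIso f x).app N).hom)
      ((stalkTensorIso x ((Scheme.Modules.pullback f).obj M) ((Scheme.Modules.pullback f).obj N)).hom w))
    (((congrArg _ hz).trans (stalkMap_germP (pullTensorHom f M N) x (f ⁻¹ᵁ U) hU _)).trans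
      (congrArg _ (pullTensorHom_pullSec f M N U a b)))) ?_
  refine Eq.trans (congrArg _ (stalkTensor_germ x _ _ (f ⁻¹ᵁ U) hU (pullSec f a) (pullSec f b))) ?_
  refine Eq.trans (ModuleCat.MonoidalCategory.tensorHom_tmul _ _ _ _) ?_
  refine Eq.trans (congrArg₂ (fun u v => u ⊗ₜ v) (pullbackStalk_germ f x M U hU a) (pullbackStalk_germ f x N U hU b)) ?_
  refine Eq.symm (Eq.trans (congrArg _ ?_) (delta_unit _ _ _))
  rw [extendScalars_map_unit]
  have hb := stalkTensor_germ (f.base x) M N U hU a b
  exact congrArg (ModuleCat.Hom.hom ((ModuleCat.extendRestrictScalarsAdj (f.stalkMap x).hom).unit.app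
    ((DerSch.stalkFunctor Y (f.base x)).obj M ⊗ (DerSch.stalkFunctor Y (f.base x)).obj N))) hb

instance isIso_pullTensorHom (M N : Y.Modules) : IsIso (pullTensorHom f M N) := by
  refine isIso_of_stalks _ fun x => ?_
  have h := isIso_pullTensorHom_stalk f M N x
  haveI : IsIso ((pullbackStalkIso f x).inv.app (((DCoh.tensorBi (X := Y)).obj M).obj N) ≫
      (DerSch.stalkFunctor X x).map (pullTensorHom f M N) ≫ (stalkTensorIso x _ _).hom ≫
      (((pullbackStalkIso f x).app M).hom ⊗ₘ ((pullbackStalkIso f x).app N).hom)) := by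
    rw [h]; infer_instance
  haveI := IsIso.of_isIso_comp_left ((pullbackStalkIso f x).inv.app (((DCoh.tensorBi (X := Y)).obj M).obj N))
    ((DerSch.stalkFunctor X x).map (pullTensorHom f M N) ≫ (stalkTensorIso x _ _).hom ≫
      (((pullbackStalkIso f x).app M).hom ⊗ₘ ((pullbackStalkIso f x).app N).hom))
  exact IsIso.of_isIso_comp_right ((DerSch.stalkFunctor X x).map (pullTensorHom f M N))
    ((stalkTensorIso x _ _).hom ≫ (((pullbackStalkIso f x).app M).hom ⊗ₘ ((pullbackStalkIso f x).app N).hom))

/-- `tensorBi` on morphisms is `tensorMap`. -/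
lemma tensorBi_map_tmul {M M' N : X.Modules} (φ : M ⟶ M') (U : X.Opens) (a : Γ(M, U)) (b : Γ(N, U)) :
    (((DCoh.tensorBi (X := X)).map φ).app N).app U (tmul a b) = tmul (φ.app U a) b := by
  exact (congrArg (fun t => PresheafOfModules.Hom.app t (op U)) ((PresheafOfModules.sheafificationAdjunction.{u, u, u, u} (R := X.ringCatSheaf)
    (𝟙 X.ringCatSheaf.obj)).unit.naturality (DCoh.toP.map φ ▷ DCoh.toP.obj N))|> fun e =>
      (ConcreteCategory.congr_hom e (secTmul (DCoh.toP.obj M) (DCoh.toP.obj N) a b))).symm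

lemma tensorBi_obj_map_tmul {M N N' : X.Modules} (ψ : N ⟶ N') (U : X.Opens) (a : Γ(M, U)) (b : Γ(N, U)) :
    (((DCoh.tensorBi (X := X)).obj M).map ψ).app U (tmul a b) = tmul a (ψ.app U b) := by
  exact (congrArg (fun t => PresheafOfModules.Hom.app t (op U)) ((PresheafOfModules.sheafificationAdjunction.{u, u, u, u} (R := X.ringCatSheaf)
    (𝟙 X.ringCatSheaf.obj)).unit.naturality (DCoh.toP.obj M ◁ DCoh.toP.map ψ))|> fun e =>
      (ConcreteCategory.congr_hom e (secTmul (DCoh.toP.obj M) (DCoh.toP.obj N) a b))).symm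

lemma pullback_map_pullSec {M M' : Y.Modules} (φ : M ⟶ M') (U : Y.Opens) (a : Γ(M, U)) :
    ((Scheme.Modules.pullback f).map φ).app (f ⁻¹ᵁ U) (pullSec f a) = pullSec f (φ.app U a) :=
  ConcreteCategory.congr_hom (congrArg (fun ψ => Scheme.Modules.Hom.app ψ U)
    ((Scheme.Modules.pullbackPushforwardAdjunction f).unit.naturality φ).symm) a

lemma hom_ext_pullback {M N : Y.Modules} {T : X.Modules}
    {φ ψ : (Scheme.Modules.pullback f).obj (((DCoh.tensorBi (X := Y)).obj M).obj N) ⟶ T}
    (h : ∀ (U : Y.Opens) (a : Γ(M, U)) (b : Γ(N, U)),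
      φ.app (f ⁻¹ᵁ U) (pullSec f (tmul a b)) = ψ.app (f ⁻¹ᵁ U) (pullSec f (tmul a b))) : φ = ψ := by
  apply ((Scheme.Modules.pullbackPushforwardAdjunction f).homEquiv _ _).injective
  refine AmpleLib.hom_ext fun U a b => ?_
  rw [Adjunction.homEquiv_unit, Adjunction.homEquiv_unit]
  exact h U a b

lemma pullTensorHom_nat₁ {M M' : Y.Modules} (φ : M ⟶ M') (N : Y.Modules) :
    (Scheme.Modules.pullback f).map (((DCoh.tensorBi (X := Y)).map φ).app N) ≫ pullTensorHom f M' N =
      pullTensorHom f M N ≫
        ((DCoh.tensorBi (X := X)).map ((Scheme.Modules.pullback f).map φ)).app ((Scheme.Modules.pullback f).obj N) := by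
  refine hom_ext_pullback f fun U a b => ?_
  simp only [Scheme.Modules.Hom.comp_app, ConcreteCategory.comp_apply]
  refine (congrArg _ ((pullback_map_pullSec f _ U _).trans (congrArg _ (tensorBi_map_tmul φ U a b)))).trans ?_
  refine (pullTensorHom_pullSec f M' N U _ b).trans ?_
  refine Eq.symm ((congrArg _ (pullTensorHom_pullSec f M N U a b)).trans ?_)
  exact (tensorBi_map_tmul _ _ _ _).trans (congrArg (fun w => tmul w (pullSec f b)) (pullback_map_pullSec f φ U a))

lemma pullTensorHom_nat₂ (M : Y.Modules) {N N' : Y.Modules} (ψ : N ⟶ N') :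
    (Scheme.Modules.pullback f).map (((DCoh.tensorBi (X := Y)).obj M).map ψ) ≫ pullTensorHom f M N' =
      pullTensorHom f M N ≫
        ((DCoh.tensorBi (X := X)).obj ((Scheme.Modules.pullback f).obj M)).map ((Scheme.Modules.pullback f).map ψ) := by
  refine hom_ext_pullback f fun U a b => ?_
  simp only [Scheme.Modules.Hom.comp_app, ConcreteCategory.comp_apply]
  refine (congrArg _ ((pullback_map_pullSec f _ U _).trans (congrArg _ (tensorBi_obj_map_tmul ψ U a b)))).trans ?_
  refine (pullTensorHom_pullSec f M N' U a _).trans ?_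
  refine Eq.symm ((congrArg _ (pullTensorHom_pullSec f M N U a b)).trans ?_)
  exact (tensorBi_obj_map_tmul _ _ _ _).trans (congrArg (fun w => tmul (pullSec f a) w) (pullback_map_pullSec f ψ U b))

/-- `f^*(M ⊗ N) ≅ f^*M ⊗ f^*N`. -/
noncomputable def pullTensorIso (M N : Y.Modules) :
    (Scheme.Modules.pullback f).obj (((DCoh.tensorBi (X := Y)).obj M).obj N) ≅
      ((DCoh.tensorBi (X := X)).obj ((Scheme.Modules.pullback f).obj M)).obj ((Scheme.Modules.pullback f).obj N) :=
  asIso (pullTensorHom f M N)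

end Groth.Agent.DCat.PullTensor
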