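import Mathlib.Algebra.Category.ModuleCat.Sheaf.Abelian
import Mathlib.Algebra.Category.ModuleCat.Sheaf.Colimits
import Mathlib.Algebra.Category.ModuleCat.Sheaf.Limits
import Mathlib.Algebra.Category.ModuleCat.Presheaf.Generator
import Mathlib.Algebra.Category.Grp.AB
import Mathlib.Algebra.Category.Grp.FilteredColimits
import Mathlib.CategoryTheory.Abelian.GrothendieckAxioms.FunctorCategory
import Mathlib.CategoryTheory.Abelian.GrothendieckCategory.EnoughInjectives
import Mathlib.AlgebraicGeometry.Modules.Sheaf

/-! Modules over a sheaf of rings form a Grothendieck abelian category. -/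

set_option autoImplicit false
set_option backward.isDefEq.respectTransparency false
set_option backward.defeqAttrib.useBackward true

universe u

open CategoryTheory CategoryTheory.Limits

namespace Groth.Agent.DCat

variable {C : Type u} [SmallCategory C]

theorem presheafOfModules_exactColimits (R : Cᵒᵖ ⥤ RingCat.{u}) (K : Type u) [SmallCategory K]
    [IsFiltered K] : HasExactColimitsOfShape K (PresheafOfModules.{u} R) := by
  haveI : (PresheafOfModules.toPresheaf R).ReflectsIsomorphisms := inferInstance
  haveI : ReflectsFiniteLimits (PresheafOfModules.toPresheaf R) :=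
    ⟨fun J _ _ => reflectsLimitsOfShape_of_reflectsIsomorphisms⟩
  exact HasExactColimitsOfShape.domain_of_functor K (PresheafOfModules.toPresheaf R)

variable (J : GrothendieckTopology C) (R : Sheaf J RingCat.{u})

theorem sheafOfModules_exactColimits (K : Type u) [SmallCategory K] [IsFiltered K] :
    HasExactColimitsOfShape K (SheafOfModules.{u} R) := by
  haveI := presheafOfModules_exactColimits R.obj K
  exact (PresheafOfModules.sheafificationAdjunction (𝟙 R.obj)).hasExactColimitsOfShape K

/-- The sheafified free module on a representable. -/
noncomputable def freeOn (X : C) : SheafOfModules.{u} R :=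
  (PresheafOfModules.sheafification (𝟙 R.obj)).obj ((yoneda ⋙ PresheafOfModules.free R.obj).obj X)

theorem sheafOfModules_isSeparating :
    ObjectProperty.IsSeparating (ObjectProperty.ofObj (freeOn J R)) := by
  intro M N f g h
  let adj := PresheafOfModules.sheafificationAdjunction (𝟙 R.obj)
  refine (SheafOfModules.forget R ⋙ PresheafOfModules.restrictScalars (𝟙 R.obj)).map_injective ?_
  refine PresheafOfModules.freeYoneda.isSeparating R.obj _ _ fun G hG k => ?_
  obtain ⟨X⟩ := hG
  have := congrArg (adj.homEquiv _ _) (h (freeOn J R X) ⟨X⟩ ((adj.homEquiv _ _).symm k))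
  rwa [Adjunction.homEquiv_naturality_right, Adjunction.homEquiv_naturality_right,
    Equiv.apply_symm_apply] at this

theorem sheafOfModules_hasSeparator : HasSeparator (SheafOfModules.{u} R) :=
  ⟨_, (sheafOfModules_isSeparating J R).isSeparator_coproduct⟩

instance sheafOfModules_isGrothendieckAbelian :
    IsGrothendieckAbelian.{u} (SheafOfModules.{u} R) where
  hasFilteredColimitsOfSize := ⟨fun K _ _ => inferInstance⟩
  ab5OfSize := ⟨fun K _ _ => sheafOfModules_exactColimits J R K⟩
  hasSeparator := sheafOfModules_hasSeparator J R

open AlgebraicGeometry in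
instance schemeModules_isGrothendieckAbelian (X : Scheme.{u}) :
    IsGrothendieckAbelian.{u} X.Modules :=
  sheafOfModules_isGrothendieckAbelian (Opens.grothendieckTopology X) X.ringCatSheaf

end Groth.Agent.DCat
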