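import Groth.Agent.DCat.LTensorSheaf
import Groth.Agent.DCat.PullTensor
import Mathlib.Algebra.Homology.BifunctorAssociator

/-! Associativity of the tensor product of O_X-modules, and of their complexes. -/

set_option autoImplicit false
set_option backward.isDefEq.respectTransparency false
set_option backward.defeqAttrib.useBackward true
set_option linter.style.haveILetI false

universe u

open CategoryTheory CategoryTheory.Limits AlgebraicGeometry Opposite MonoidalCategory HomologicalComplex
open Groth.Agent.ModStalk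

attribute [local instance] HasDerivedCategory.standard

namespace Groth.Agent.DCat.TensorAssoc

variable {X : Scheme.{u}}

/-- Sheafification of presheaves of modules: the unit. -/
noncomputable abbrev η (P : CohB1.PMod X) : P ⟶ DCoh.toP.obj (DCoh.shP.obj P) :=
  (PresheafOfModules.sheafificationAdjunction.{u, u, u, u} (R := X.ringCatSheaf) (𝟙 X.ringCatSheaf.obj)).unit.app P

lemma η_naturality {P Q : CohB1.PMod X} (φ : P ⟶ Q) : φ ≫ η Q = η P ≫ DCoh.toP.map (DCoh.shP.map φ) :=
  (PresheafOfModules.sheafificationAdjunction.{u, u, u, u} (R := X.ringCatSheaf) (𝟙 X.ringCatSheaf.obj)).unit.naturality φ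

lemma isIso_stalkP_η (x : X) (P : CohB1.PMod X) : IsIso ((stalkP x).map (η P)) := by
  have e : (stalkP x).map (η P) ≫ (stalkFunctorIso x).inv.app _ ≫ (shPStalkIso x).hom.app P = 𝟙 _ :=
    stalkP_hom_ext fun U hU s => by
      simp only [ConcreteCategory.comp_apply]
      erw [stalkP_map_germP]
      exact PullTensor.shPStalk_germ x P U hU s
  haveI : IsIso ((stalkP x).map (η P) ≫ (stalkFunctorIso x).inv.app _ ≫ (shPStalkIso x).hom.app P) := by
    rw [e]; infer_instance
  exact IsIso.of_isIso_comp_right ((stalkP x).map (η P))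
    ((stalkFunctorIso x).inv.app _ ≫ (shPStalkIso x).hom.app P)

lemma isIso_shP_map {P Q : CohB1.PMod X} (φ : P ⟶ Q) (h : ∀ x : X, IsIso ((stalkP x).map φ)) :
    IsIso (DCoh.shP.map φ) :=
  isIso_of_stalks _ fun x => by
    haveI := h x
    exact (NatIso.isIso_map_iff (shPStalkIso x) φ).2 ‹_›

lemma isIso_shP_whiskerRight (P Q : CohB1.PMod X) : IsIso (DCoh.shP.map (η P ▷ Q)) :=
  isIso_shP_map _ fun x => by
    have e := stalkTensIso_natural (x := x) (η P) (𝟙 Q)
    rw [MonoidalCategory.tensorHom_id, (stalkP x).map_id] at e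
    haveI := isIso_stalkP_η x P
    haveI : IsIso ((stalkP x).map (η P ▷ Q) ≫ (stalkTensIso x _ Q).hom) := by rw [e]; infer_instance
    exact IsIso.of_isIso_comp_right _ (stalkTensIso x _ Q).hom

lemma isIso_shP_whiskerLeft (P Q : CohB1.PMod X) : IsIso (DCoh.shP.map (P ◁ η Q)) :=
  isIso_shP_map _ fun x => by
    have e := stalkTensIso_natural (x := x) (𝟙 P) (η Q)
    rw [MonoidalCategory.id_tensorHom, (stalkP x).map_id] at e
    haveI := isIso_stalkP_η x Q
    haveI : IsIso ((stalkP x).map (P ◁ η Q) ≫ (stalkTensIso x P _).hom) := by rw [e]; infer_instance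
    exact IsIso.of_isIso_comp_right _ (stalkTensIso x P _).hom

variable (M N P : X.Modules)

/-- The first comparison. -/
noncomputable def leftIso : DCoh.shP.obj ((DCoh.toP.obj M ⊗ DCoh.toP.obj N) ⊗ DCoh.toP.obj P) ≅
    ((shT X).obj (((shT X).obj M).obj N)).obj P :=
  haveI := isIso_shP_whiskerRight (DCoh.toP.obj M ⊗ DCoh.toP.obj N) (DCoh.toP.obj P)
  asIso (DCoh.shP.map (η (DCoh.toP.obj M ⊗ DCoh.toP.obj N) ▷ DCoh.toP.obj P))

/-- The second comparison. -/
noncomputable def rightIso : DCoh.shP.obj (DCoh.toP.obj M ⊗ (DCoh.toP.obj N ⊗ DCoh.toP.obj P)) ≅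
    ((shT X).obj M).obj (((shT X).obj N).obj P) :=
  haveI := isIso_shP_whiskerLeft (DCoh.toP.obj M) (DCoh.toP.obj N ⊗ DCoh.toP.obj P)
  asIso (DCoh.shP.map (DCoh.toP.obj M ◁ η (DCoh.toP.obj N ⊗ DCoh.toP.obj P)))

/-- The associator. -/
noncomputable def assocIso : ((shT X).obj (((shT X).obj M).obj N)).obj P ≅
    ((shT X).obj M).obj (((shT X).obj N).obj P) :=
  (leftIso M N P).symm ≪≫ DCoh.shP.mapIso (α_ _ _ _) ≪≫ rightIso M N P

variable {M N P}

lemma assocIso_nat {M' N' P' : X.Modules} (f : M ⟶ M') (g : N ⟶ N') (h : P ⟶ P') :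
    DCoh.shP.map (DCoh.toP.map (DCoh.shP.map (DCoh.toP.map f ⊗ₘ DCoh.toP.map g)) ⊗ₘ DCoh.toP.map h) ≫
        (assocIso M' N' P').hom =
      (assocIso M N P).hom ≫
        DCoh.shP.map (DCoh.toP.map f ⊗ₘ DCoh.toP.map (DCoh.shP.map (DCoh.toP.map g ⊗ₘ DCoh.toP.map h))) := by
  simp only [assocIso, Iso.trans_hom, Iso.symm_hom, Functor.mapIso_hom, Category.assoc]
  rw [Iso.eq_inv_comp, ← Category.assoc, ← Category.assoc]
  simp only [leftIso, rightIso, asIso_hom, asIso_inv]
  haveI := isIso_shP_whiskerRight (DCoh.toP.obj M' ⊗ DCoh.toP.obj N') (DCoh.toP.obj P')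
  have e₁ : DCoh.shP.map (η (DCoh.toP.obj M ⊗ DCoh.toP.obj N) ▷ DCoh.toP.obj P) ≫
      DCoh.shP.map (DCoh.toP.map (DCoh.shP.map (DCoh.toP.map f ⊗ₘ DCoh.toP.map g)) ⊗ₘ DCoh.toP.map h) =
      DCoh.shP.map ((DCoh.toP.map f ⊗ₘ DCoh.toP.map g) ⊗ₘ DCoh.toP.map h) ≫
        DCoh.shP.map (η (DCoh.toP.obj M' ⊗ DCoh.toP.obj N') ▷ DCoh.toP.obj P') := by
    rw [← Functor.map_comp, ← Functor.map_comp, ← MonoidalCategory.tensorHom_id, ← MonoidalCategory.tensorHom_id,
      MonoidalCategory.tensorHom_comp_tensorHom, MonoidalCategory.tensorHom_comp_tensorHom, ← η_naturality,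
      Category.id_comp, Category.comp_id]
  rw [e₁, Category.assoc (DCoh.shP.map _) (DCoh.shP.map _) _, IsIso.hom_inv_id, Category.comp_id,
    ← Functor.map_comp, ← Functor.map_comp, ← Functor.map_comp, ← Functor.map_comp]
  congr 1
  rw [MonoidalCategory.associator_naturality_assoc, ← MonoidalCategory.id_tensorHom,
    ← MonoidalCategory.id_tensorHom,
    MonoidalCategory.tensorHom_comp_tensorHom, MonoidalCategory.tensorHom_comp_tensorHom, ← η_naturality,
    Category.id_comp, Category.comp_id]

lemma assocIso_nat₁ {M' : X.Modules} (f : M ⟶ M') :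
    ((shT X).map (((shT X).map f).app N)).app P ≫ (assocIso M' N P).hom =
      (assocIso M N P).hom ≫ ((shT X).map f).app (((shT X).obj N).obj P) := by
  have h := assocIso_nat f (𝟙 N) (𝟙 P)
  simp only [CategoryTheory.Functor.map_id, MonoidalCategory.tensorHom_id, MonoidalCategory.id_tensorHom,
    MonoidalCategory.id_whiskerRight, MonoidalCategory.whiskerLeft_id] at h
  erw [CategoryTheory.Functor.map_id, CategoryTheory.Functor.map_id, MonoidalCategory.tensorHom_id] at h
  exact h

lemma assocIso_nat₂ {N' : X.Modules} (g : N ⟶ N') :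
    ((shT X).map (((shT X).obj M).map g)).app P ≫ (assocIso M N' P).hom =
      (assocIso M N P).hom ≫ ((shT X).obj M).map (((shT X).map g).app P) := by
  have h := assocIso_nat (𝟙 M) g (𝟙 P)
  simp only [CategoryTheory.Functor.map_id, MonoidalCategory.tensorHom_id, MonoidalCategory.id_tensorHom,
    MonoidalCategory.id_whiskerRight, MonoidalCategory.whiskerLeft_id] at h
  exact h

lemma assocIso_nat₃ {P' : X.Modules} (h' : P ⟶ P') :
    ((shT X).obj (((shT X).obj M).obj N)).map h' ≫ (assocIso M N P').hom =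
      (assocIso M N P).hom ≫ ((shT X).obj M).map (((shT X).obj N).map h') := by
  have h := assocIso_nat (𝟙 M) (𝟙 N) h'
  simp only [CategoryTheory.Functor.map_id, MonoidalCategory.tensorHom_id, MonoidalCategory.id_tensorHom,
    MonoidalCategory.id_whiskerRight, MonoidalCategory.whiskerLeft_id] at h
  exact h

/-- The associator as a natural isomorphism of trifunctors. -/
noncomputable def associator (X : Scheme.{u}) : bifunctorComp₁₂ (shT X) (shT X) ≅ bifunctorComp₂₃ (shT X) (shT X) :=
  NatIso.ofComponents (fun M => NatIso.ofComponents (fun N => NatIso.ofComponents (fun P => assocIso M N P)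
    fun h => assocIso_nat₃ h)
    fun g => by ext P : 2; exact assocIso_nat₂ g)
    fun f => by ext N P : 4; exact assocIso_nat₁ f

section Colimits

variable {J : Type} (M : X.Modules)

/-- Colimit-preserving after taking stalks implies colimit-preserving. -/
lemma preservesColimitsOfShape_of_stalks {K : Type} [SmallCategory K] (F : X.Modules ⥤ X.Modules)
    [HasColimitsOfShape K X.Modules]
    (h : ∀ x : X, PreservesColimitsOfShape K (F ⋙ DerSch.stalkFunctor X x))
    [∀ x : X, PreservesColimitsOfShape K (DerSch.stalkFunctor X x)] : PreservesColimitsOfShape K F where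
  preservesColimit {D} := ⟨fun {c} hc => ⟨by
    haveI : IsIso ((colimit.isColimit (D ⋙ F)).desc (F.mapCocone c)) := isIso_of_stalks _ fun x => by
      haveI := h x
      let h₁ := isColimitOfPreserves (DerSch.stalkFunctor X x) (colimit.isColimit (D ⋙ F))
      let h₂ : IsColimit ((DerSch.stalkFunctor X x).mapCocone (F.mapCocone c)) :=
        isColimitOfPreserves (F ⋙ DerSch.stalkFunctor X x) hc
      rw [show (DerSch.stalkFunctor X x).map ((colimit.isColimit (D ⋙ F)).desc (F.mapCocone c)) =
          (h₁.coconePointUniqueUpToIso h₂).hom from h₁.hom_ext fun j => by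
        rw [h₁.comp_coconePointUniqueUpToIso_hom h₂ j]
        exact ((DerSch.stalkFunctor X x).map_comp _ _).symm.trans
          (congrArg (DerSch.stalkFunctor X x).map ((colimit.isColimit (D ⋙ F)).fac (F.mapCocone c) j))]
      infer_instance
    exact IsColimit.ofPointIso (colimit.isColimit (D ⋙ F)) (t := F.mapCocone c)⟩⟩

instance preservesCoproduct_stalk (x : X) : PreservesColimitsOfShape (Discrete J) (DerSch.stalkFunctor X x) :=
  haveI := (stalkAdj x).leftAdjoint_preservesColimits (F := DerSch.stalkFunctor X x)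
  inferInstance

instance preservesCoproduct_obj : PreservesColimitsOfShape (Discrete J) ((shT X).obj M) :=
  preservesColimitsOfShape_of_stalks _ fun x =>
    preservesColimitsOfShape_of_natIso (NatIso.ofComponents (fun N => (stalkTensorIso x M N).symm)
      (fun {N N'} g => by
        rw [Iso.symm_hom, Iso.symm_hom, Iso.eq_inv_comp, ← Category.assoc, Iso.comp_inv_eq]
        exact (stalkTensor_nat₂ x M g).symm) :
      DerSch.stalkFunctor X x ⋙ tensorLeft ((DerSch.stalkFunctor X x).obj M) ≅
        (shT X).obj M ⋙ DerSch.stalkFunctor X x)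

instance preservesCoproduct_flip : PreservesColimitsOfShape (Discrete J) ((shT X).flip.obj M) :=
  preservesColimitsOfShape_of_stalks _ fun x =>
    haveI : PreservesColimitsOfShape (Discrete J) (tensorRight ((DerSch.stalkFunctor X x).obj M)) :=
      preservesColimitsOfShape_of_natIso (BraidedCategory.tensorLeftIsoTensorRight _)
    preservesColimitsOfShape_of_natIso (NatIso.ofComponents (fun N => (stalkTensorIso x N M).symm)
      (fun {N N'} g => by
        rw [Iso.symm_hom, Iso.symm_hom, Iso.eq_inv_comp, ← Category.assoc, Iso.comp_inv_eq]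
        exact (stalkTensor_nat₁ x g M).symm) :
      DerSch.stalkFunctor X x ⋙ tensorRight ((DerSch.stalkFunctor X x).obj M) ≅
        (shT X).flip.obj M ⋙ DerSch.stalkFunctor X x)

end Colimits

/-- Associativity of total tensor complexes. -/
noncomputable def totAssocIso (A B C : CochainComplex X.Modules ℤ) :
    tot (shT X) (tot (shT X) A B) C ≅ tot (shT X) A (tot (shT X) B C) :=
  mapBifunctorAssociator (associator X) A B C (ComplexShape.up ℤ) (ComplexShape.up ℤ) (ComplexShape.up ℤ)

end Groth.Agent.DCat.TensorAssoc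

namespace Groth.Agent.DCat.TensorAssoc

variable {X : Scheme.{u}}

/-- Naturality of the associativity isomorphism in the first variable. -/
lemma totAssocIso_nat₁ {A A' : CochainComplex X.Modules ℤ} (f : A ⟶ A') (B C : CochainComplex X.Modules ℤ) :
    totMap₁ (shT X) (totMap₁ (shT X) f B) C ≫ (totAssocIso A' B C).hom =
      (totAssocIso A B C).hom ≫ totMap₁ (shT X) f (tot (shT X) B C) := by
  ext j : 1
  refine mapBifunctor₁₂.hom_ext fun i₁ i₂ i₃ h => ?_
  simp only [HomologicalComplex.comp_f]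
  change _ ≫ _ ≫ (mapBifunctorAssociatorX (associator X) A' B C _ _ _ j).hom =
    _ ≫ (mapBifunctorAssociatorX (associator X) A B C _ _ _ j).hom ≫ _
  rw [ι_mapBifunctorAssociatorX_hom_assoc,
    mapBifunctor₁₂.ι_eq _ _ _ _ _ _ _ i₁ i₂ i₃ (i₁ + i₂) j rfl h,
    mapBifunctor₂₃.ι_eq _ _ _ _ _ (ComplexShape.up ℤ) _ _ i₁ i₂ i₃ (i₂ + i₃) j rfl
      (by change i₁ + i₂ + i₃ = j at h; change i₁ + (i₂ + i₃) = j; omega)]
  simp only [Category.assoc, ι_mapBifunctorMap_assoc, ι_mapBifunctorMap]
  rw [← NatTrans.comp_app_assoc, ← Functor.map_comp, ι_mapBifunctorMap]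
  simp only [Functor.map_comp, NatTrans.comp_app, Category.assoc, CategoryTheory.Functor.map_id,
    HomologicalComplex.id_f, Category.id_comp, NatTrans.id_app]
  have e₁ := mapBifunctor₁₂.ι_eq (shT X) (shT X) A' B C (ComplexShape.up ℤ) (ComplexShape.up ℤ) i₁ i₂ i₃
    (i₁ + i₂) j rfl h
  erw [← reassoc_of% e₁]
  rw [ι_mapBifunctorAssociatorX_hom,
    mapBifunctor₂₃.ι_eq _ _ _ _ _ (ComplexShape.up ℤ) _ _ i₁ i₂ i₃ (i₂ + i₃) j rfl (by change i₁ + i₂ + i₃ = j at h; change i₁ + (i₂ + i₃) = j; omega)]
  have n₁ := assocIso_nat₁ (N := B.X i₂) (P := C.X i₃) (f.f i₁)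
  have n₂ := ((shT X).map (f.f i₁)).naturality (ιMapBifunctor B C (shT X) (ComplexShape.up ℤ) i₂ i₃ (i₂ + i₃) rfl)
  simp only [associator, NatIso.ofComponents_hom_app]
  rw [reassoc_of% n₁, reassoc_of% n₂]

/-- The comparison map for iterated derived tensor products. -/
noncomputable def iterComparison (K L : CochainComplex X.Modules ℤ) [DCoh.HasLTensorCx K] [DCoh.HasLTensorCx L] :
    DerivedCategory.Q ⋙ (DCoh.LTensorCx K ⋙ DCoh.LTensorCx L) ⟶ DCoh.tensorCxQ (tot (shT X) K L) where
  app A := (DCoh.LTensorCx L).map ((LTensorSheaf.counit K).app A) ≫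
    (LTensorSheaf.counit L).app (tot (shT X) A K) ≫ DerivedCategory.Q.map (totAssocIso A K L).hom
  naturality {A A'} f := by
    have n₁ := (LTensorSheaf.counit K).naturality f
    have n₂ := (LTensorSheaf.counit L).naturality (totMap₁ (shT X) f K)
    change (DCoh.LTensorCx L).map ((DCoh.LTensorCx K).map (DerivedCategory.Q.map f)) ≫ _ =
      _ ≫ DerivedCategory.Q.map (totMap₁ (shT X) f (tot (shT X) K L))
    simp only [Category.assoc, ← Functor.map_comp]
    rw [← totAssocIso_nat₁, Functor.map_comp, ← Functor.map_comp_assoc]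
    erw [n₁]
    rw [Functor.map_comp, Category.assoc]
    erw [reassoc_of% n₂]
    rfl

/-- `(- ⊗^L K) ⊗^L L ≅ - ⊗^L (K ⊗ L)` for K-flat `L`. -/
theorem nonempty_LTensor_comp (K L : CochainComplex X.Modules ℤ) (hL : IsKFlatFor (shT X) L)
    [DCoh.HasLTensorCx K] [DCoh.HasLTensorCx L] [DCoh.HasLTensorCx (tot (shT X) K L)] :
    Nonempty (DCoh.LTensorCx K ⋙ DCoh.LTensorCx L ≅ DCoh.LTensorCx (tot (shT X) K L)) := by
  have hd : ∀ A, IsKFlatFor (shT X) A → IsIso ((iterComparison K L).app A) := fun A hA => by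
    haveI := LTensorSheaf.isIso_counit K hA
    haveI := LTensorSheaf.isIso_counit_of_right hL (tot (shT X) A K)
    simp only [iterComparison]
    infer_instance
  obtain ⟨e⟩ : Nonempty (DCoh.LTensorCx K ⋙ DCoh.LTensorCx L ≅ DCoh.LTensorCx (tot (shT X) K L)) := by
    let c := LTensorSheaf.counit (tot (shT X) K L)
    let W := HomologicalComplex.quasiIso X.Modules (ComplexShape.up ℤ)
    let φ := (DCoh.LTensorCx (tot (shT X) K L)).leftDerivedLift c W (DCoh.LTensorCx K ⋙ DCoh.LTensorCx L)
      (iterComparison K L)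
    haveI : IsIso φ := by
      rw [NatTrans.isIso_iff_isIso_app]
      intro Y
      obtain ⟨N, k, hN, -, hk, -⟩ := exists_kflat_sheaf (DerivedCategory.Q.objPreimage Y)
      haveI := hk
      refine (NatTrans.isIso_app_iff_of_iso φ
        (asIso (DerivedCategory.Q.map k) ≪≫ DerivedCategory.Q.objObjPreimageIso Y)).1 ?_
      haveI := LTensorSheaf.isIso_counit (tot (shT X) K L) hN
      haveI := hd N hN
      have e := (DCoh.LTensorCx (tot (shT X) K L)).leftDerived_fac_app c W
        (DCoh.LTensorCx K ⋙ DCoh.LTensorCx L) (iterComparison K L) N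
      haveI : IsIso (φ.app (DerivedCategory.Q.obj N) ≫ c.app N) := by rw [e]; infer_instance
      exact IsIso.of_isIso_comp_right (φ.app (DerivedCategory.Q.obj N)) (c.app N)
    exact ⟨asIso φ⟩
  exact ⟨e⟩

end Groth.Agent.DCat.TensorAssoc
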