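import Groth.Agent.DCat.JShriek
import Mathlib.AlgebraicGeometry.Morphisms.Flat
import Mathlib.Algebra.Homology.HomotopyCategory.KInjective

/-! Pullback along a flat morphism is exact; direct image of K-injectives along flat morphisms. -/

set_option autoImplicit false
set_option backward.isDefEq.respectTransparency false
set_option backward.defeqAttrib.useBackward true
set_option linter.style.haveILetI false

universe v u v' u'

open CategoryTheory CategoryTheory.Limits AlgebraicGeometry HomologicalComplex
open Groth.Agent.ModStalk

namespace Groth.Agent.DCat.FlatPull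

/-- Direct image by an exact left adjoint preserves K-injectives. -/
theorem isKInjective_map_of_adj {A : Type u} [Category.{v} A] [Abelian A] {B : Type u'} [Category.{v'} B] [Abelian B]
    {G : A ⥤ B} {F : B ⥤ A} [G.Additive] [F.Additive] [PreservesFiniteLimits G] [PreservesFiniteColimits G]
    (adj : G ⊣ F) (I : CochainComplex B ℤ) [I.IsKInjective] :
    CochainComplex.IsKInjective ((F.mapHomologicalComplex (ComplexShape.up ℤ)).obj I) := by
  refine ⟨fun {K} φ hK => ?_⟩
  let a := adjCx (ComplexShape.up ℤ) adj
  have h1 : ((G.mapHomologicalComplex (ComplexShape.up ℤ)).obj K).Acyclic := fun n => by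
    have := hK n
    rw [HomologicalComplex.exactAt_iff] at this ⊢
    exact this.map G
  let ψ := (a.homEquiv _ _).symm φ
  have h2 := CochainComplex.IsKInjective.homotopyZero ψ h1
  exact ⟨(Homotopy.ofEq ((a.homEquiv_unit (f := ψ)).symm.trans ((a.homEquiv _ _).apply_symm_apply φ)).symm).trans
    (((F.mapHomotopy h2).compLeft (a.unit.app K)).trans (.ofEq (by simp)))⟩

variable {X Y : Scheme.{u}} (f : X ⟶ Y) [Flat f]

theorem mono_extendScalars_of_flat {R S : Type u} [CommRing R] [CommRing S] (φ : R →+* S) (hφ : φ.Flat)
    {M N : ModuleCat.{u} R} (g : M ⟶ N) [Mono g] : Mono ((ModuleCat.extendScalars φ).map g) := by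
  letI := φ.toAlgebra
  haveI : Module.Flat R S := hφ
  rw [ModuleCat.mono_iff_injective]
  exact Module.Flat.lTensor_preserves_injective_linearMap g.hom ((ModuleCat.mono_iff_injective g).1 inferInstance)

instance preservesMonomorphisms_pullback : (Scheme.Modules.pullback f).PreservesMonomorphisms where
  preserves {A B} g _ := by
    refine Preadditive.mono_of_isZero_kernel _ (isZero_of_stalks fun x => ?_)
    haveI := mono_extendScalars_of_flat (f.stalkMap x).hom (Flat.stalkMap f x)
      ((DerSch.stalkFunctor Y (f.base x)).map g)
    haveI : Mono ((DerSch.stalkFunctor X x).map ((Scheme.Modules.pullback f).map g)) :=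
      (MorphismProperty.monomorphisms (ModuleCat (X.presheaf.stalk x))).arrow_mk_iso_iff
        (Arrow.isoMk (f := Arrow.mk ((DerSch.stalkFunctor X x).map ((Scheme.Modules.pullback f).map g)))
          (g := Arrow.mk ((ModuleCat.extendScalars (f.stalkMap x).hom).map ((DerSch.stalkFunctor Y (f.base x)).map g)))
          ((pullbackStalkIso f x).app A) ((pullbackStalkIso f x).app B)
          ((pullbackStalkIso f x).hom.naturality g).symm) |>.2 ‹_›
    exact IsZero.of_iso (isZero_kernel_of_mono _)
      (PreservesKernel.iso (DerSch.stalkFunctor X x) ((Scheme.Modules.pullback f).map g))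

instance preservesFiniteLimits_pullback : PreservesFiniteLimits (Scheme.Modules.pullback f) := by
  have e := (Functor.preservesFiniteLimits_tfae (Scheme.Modules.pullback f)).out 0 3
  refine e.1 fun S hS => ⟨?_, ?_⟩
  · have e' := (Functor.preservesFiniteColimits_tfae (Scheme.Modules.pullback f)).out 3 0
    exact (e'.1 inferInstance S hS).1
  · haveI := hS.mono_f
    infer_instance

theorem isKInjective_pushforward (I : CochainComplex X.Modules ℤ) [I.IsKInjective] :
    CochainComplex.IsKInjective
      (((Scheme.Modules.pushforward f).mapHomologicalComplex (ComplexShape.up ℤ)).obj I) :=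
  isKInjective_map_of_adj (Scheme.Modules.pullbackPushforwardAdjunction f) I

end Groth.Agent.DCat.FlatPull
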