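import Groth.Agent.DCat.PullTot
import Mathlib.Algebra.Homology.DerivedCategory.Fractions

/-! Tensor products of perfect complexes of O_X-modules. -/

set_option autoImplicit false
set_option backward.isDefEq.respectTransparency false
set_option backward.defeqAttrib.useBackward true
set_option linter.style.haveILetI false

universe u

open CategoryTheory CategoryTheory.Limits AlgebraicGeometry HomologicalComplex TopologicalSpace
open Groth.Agent.ModStalk

attribute [local instance] HasDerivedCategory.standard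

namespace Groth.Agent.DCat.PerfTensor

variable {X : Scheme.{u}}

lemma isFinLocFree_of_iso {M N : X.Modules} (e : M ≅ N) (h : FlatMod.IsFinLocFree M) :
    FlatMod.IsFinLocFree N := fun x => by
  obtain ⟨U, n, hx, ⟨e'⟩⟩ := h x
  exact ⟨U, n, hx, ⟨(Scheme.Modules.restrictFunctor U.ι).mapIso e.symm ≪≫ e'⟩⟩

/-- Pullback of a free module. -/
lemma nonempty_pullback_free {Y : Scheme.{u}} (g : Y ⟶ X) (n : ℕ) :
    Nonempty ((Scheme.Modules.pullback g).obj (FlatMod.freeMod X n) ≅ FlatMod.freeMod Y n) := by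
  haveI := (Scheme.Modules.pullbackPushforwardAdjunction g).leftAdjoint_preservesColimits (F := Scheme.Modules.pullback g)
  obtain ⟨e₁⟩ := AmpleLib.exists_pullStructureIso g
  exact ⟨PreservesCoproduct.iso (Scheme.Modules.pullback g) _ ≪≫ Sigma.mapIso fun _ => e₁⟩

/-- Pullback to a smaller open, in two steps. -/
noncomputable def pullShrink {V W : X.Opens} (h : W ≤ V) :
    Scheme.Modules.pullback W.ι ≅ Scheme.Modules.pullback V.ι ⋙ Scheme.Modules.pullback (X.homOfLE h) :=
  Scheme.Modules.pullbackCongr (X.homOfLE_ι h).symm ≪≫ (Scheme.Modules.pullbackComp _ _).symm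

lemma free_of_le {M : X.Modules} {U W : X.Opens} (h : W ≤ U) {n : ℕ} (e : M.restrict U.ι ≅ FlatMod.freeMod U n) :
    Nonempty ((Scheme.Modules.pullback W.ι).obj M ≅ FlatMod.freeMod W n) := by
  obtain ⟨e'⟩ := nonempty_pullback_free (X.homOfLE h) n
  exact ⟨(pullShrink h).app M ≪≫ (Scheme.Modules.pullback (X.homOfLE h)).mapIso
    ((Scheme.Modules.restrictFunctorIsoPullback U.ι).symm.app M ≪≫ e) ≪≫ e'⟩

/-- A sum of free modules is free. -/
lemma nonempty_sigma_free {J : Type} [Finite J] (n : J → ℕ) :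
    ∃ m, Nonempty ((∐ fun j => FlatMod.freeMod X (n j)) ≅ FlatMod.freeMod X m) := by
  have := Fintype.ofFinite J
  exact ⟨Fintype.card (Σ j, Fin (n j)), ⟨sigmaSigmaIso (fun j => Fin (n j)) (fun _ _ => Coh.structureModule X) ≪≫
    Sigma.whiskerEquiv (f := fun _ : (Σ j, Fin (n j)) => Coh.structureModule X)
      (g := fun _ : Fin (Fintype.card (Σ j, Fin (n j))) => Coh.structureModule X) (Fintype.equivFin _) (fun _ => Iso.refl _)⟩⟩

lemma isFinLocFree_of_isZero {M : X.Modules} (h : IsZero M) : FlatMod.IsFinLocFree M := fun x =>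
  ⟨⊤, 0, trivial, ⟨((Scheme.Modules.restrictFunctor (⊤ : X.Opens).ι).map_isZero h).iso
    (IsZero.of_iso (isZero_zero _) (HasZeroObject.zeroIsoInitial ≪≫ initialIsInitial.uniqueUpToIso
      (IsInitial.ofUniqueHom (fun Y => Sigma.desc fun i : Fin 0 => i.elim0) fun Y m => Sigma.hom_ext _ _ fun i => i.elim0)).symm)⟩⟩

/-- Finite coproducts of finite locally free modules. -/
lemma isFinLocFree_sigma {J : Type} [Finite J] (M : J → X.Modules) (h : ∀ j, FlatMod.IsFinLocFree (M j)) :
    FlatMod.IsFinLocFree (∐ M) := fun x => by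
  choose U n hU e using fun j => h j x
  have := Fintype.ofFinite J
  let W : X.Opens := Finset.univ.inf U
  have hW : ∀ j, W ≤ U j := fun j => Finset.inf_le (Finset.mem_univ j)
  have hx : x ∈ W := by
    have : ∀ s : Finset J, x ∈ s.inf U := by
      classical
      intro s
      induction s using Finset.induction_on with
      | empty => rw [Finset.inf_empty]; trivial
      | insert a s _ ih => rw [Finset.inf_insert]; exact ⟨hU a, ih⟩
    exact this _
  haveI := (Scheme.Modules.pullbackPushforwardAdjunction W.ι).leftAdjoint_preservesColimits (F := Scheme.Modules.pullback W.ι)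
  obtain ⟨m, ⟨em⟩⟩ := nonempty_sigma_free (X := (W : Scheme.{u})) n
  exact ⟨W, m, hx, ⟨(Scheme.Modules.restrictFunctorIsoPullback W.ι).app _ ≪≫
    PreservesCoproduct.iso (Scheme.Modules.pullback W.ι) _ ≪≫
    Sigma.mapIso (fun j => (free_of_le (hW j) (e j).some).some) ≪≫ em⟩⟩

/-- `M ⊗ O ≅ M`. -/
noncomputable def unitorR (M : X.Modules) :
    ((DCoh.tensorBi (X := X)).obj M).obj (Coh.structureModule X) ≅ M :=
  AmpleLib.tensorComm M (Coh.structureModule X) ≪≫ AmpleLib.unitTensorIso M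

lemma nonempty_tensor_free (m n : ℕ) :
    ∃ k, Nonempty (((DCoh.tensorBi (X := X)).obj (FlatMod.freeMod X m)).obj (FlatMod.freeMod X n) ≅
      FlatMod.freeMod X k) := by
  haveI : PreservesFiniteCoproducts ((DCoh.tensorBi (X := X)).obj (FlatMod.freeMod X m)) :=
    ⟨fun k => preservesCoproductsOfShape_of_preservesBiproductsOfShape _⟩
  obtain ⟨k, ⟨e⟩⟩ := nonempty_sigma_free (X := X) (J := Fin n) (fun _ => m)
  exact ⟨k, ⟨PreservesCoproduct.iso ((DCoh.tensorBi (X := X)).obj (FlatMod.freeMod X m)) _ ≪≫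
    Sigma.mapIso (fun _ => unitorR _) ≪≫ e⟩⟩

lemma isFinLocFree_tensor {M N : X.Modules} (hM : FlatMod.IsFinLocFree M) (hN : FlatMod.IsFinLocFree N) :
    FlatMod.IsFinLocFree (((DCoh.tensorBi (X := X)).obj M).obj N) := fun x => by
  obtain ⟨U, m, hU, ⟨a⟩⟩ := hM x
  obtain ⟨V, n, hV, ⟨b⟩⟩ := hN x
  obtain ⟨a'⟩ := free_of_le (W := U ⊓ V) inf_le_left a
  obtain ⟨b'⟩ := free_of_le (W := U ⊓ V) inf_le_right b
  obtain ⟨k, ⟨e⟩⟩ := nonempty_tensor_free (X := (U ⊓ V : X.Opens).toScheme) m n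
  exact ⟨U ⊓ V, k, ⟨hU, hV⟩, ⟨(Scheme.Modules.restrictFunctorIsoPullback (U ⊓ V).ι).app _ ≪≫
    PullTensor.pullTensorIso (U ⊓ V).ι M N ≪≫ ((DCoh.tensorBi (X := _)).mapIso a').app _ ≪≫
    ((DCoh.tensorBi (X := _)).obj _).mapIso b' ≪≫ e⟩⟩

lemma ι_congr (E E' : CochainComplex X.Modules ℤ) {p p' q q' n : ℤ} (hp : p = p') (hq : q = q')
    (h : p + q = n) (h' : p' + q' = n) :
    ιMapBifunctor E E' (shT X) (ComplexShape.up ℤ) p q n h =
      eqToHom (by rw [hp, hq]) ≫ ιMapBifunctor E E' (shT X) (ComplexShape.up ℤ) p' q' n h' := by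
  subst hp hq
  simp

lemma sigma_ι_congr {J : Type} [Finite J] (g : J → X.Modules) {j j' : J} (e : j = j') (h : g j = g j') :
    eqToHom h ≫ Sigma.ι g j' = Sigma.ι g j := by
  subst e
  simp

/-- Total tensor products of strictly perfect complexes. -/
theorem strictlyPerfect_tot {E E' : CochainComplex X.Modules ℤ} (hE : DCoh.IsStrictlyPerfect E)
    (hE' : DCoh.IsStrictlyPerfect E') : DCoh.IsStrictlyPerfect (tot (shT X) E E') := by
  classical
  obtain ⟨⟨a, b, hab⟩, hf⟩ := hE
  obtain ⟨⟨a', b', hab'⟩, hf'⟩ := hE'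
  have hz : ∀ p q : ℤ, (p < a ∨ b < p ∨ q < a' ∨ b' < q) → IsZero (((shT X).obj (E.X p)).obj (E'.X q)) := by
    intro p q h
    rcases h with h | h | h | h
    · exact Functor.map_isZero ((shT X).flip.obj (E'.X q)) (hab p (Or.inl h))
    · exact Functor.map_isZero ((shT X).flip.obj (E'.X q)) (hab p (Or.inr h))
    · exact Functor.map_isZero ((shT X).obj (E.X p)) (hab' q (Or.inl h))
    · exact Functor.map_isZero ((shT X).obj (E.X p)) (hab' q (Or.inr h))
  refine ⟨⟨a + a', b + b', fun n hn => ?_⟩, fun n => ?_⟩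
  · rw [IsZero.iff_id_eq_zero]
    exact mapBifunctor.hom_ext fun p q h => (hz p q (by simp at h; omega)).eq_of_src _ _
  · let S := {p : ℤ // p ∈ Finset.Icc a b}
    let J := Fin (Fintype.card S)
    let p : J → ℤ := fun j => ((Fintype.equivFin S).symm j).1
    let g : J → X.Modules := fun j => ((shT X).obj (E.X (p j))).obj (E'.X (n - p j))
    let hom : ∐ g ⟶ (tot (shT X) E E').X n :=
      Sigma.desc fun j => ιMapBifunctor E E' (shT X) (ComplexShape.up ℤ) (p j) (n - p j) n (by simp)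
    let inv : (tot (shT X) E E').X n ⟶ ∐ g := mapBifunctorDesc fun i q h =>
      if hi : i ∈ Finset.Icc a b then
        eqToHom (by
          have e : p (Fintype.equivFin S ⟨i, hi⟩) = i := by simp [p]
          have e' : n - p (Fintype.equivFin S ⟨i, hi⟩) = q := by
            rw [e]; change i + q = n at h; omega
          show _ = g _
          simp only [g]; rw [e', e]) ≫ Sigma.ι g (Fintype.equivFin S ⟨i, hi⟩)
      else 0
    refine isFinLocFree_of_iso (M := ∐ g) ⟨hom, inv, ?_, ?_⟩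
      (isFinLocFree_sigma g fun j => isFinLocFree_tensor (hf _) (hf' _))
    · refine Sigma.hom_ext _ _ fun j => ?_
      have hj : p j ∈ Finset.Icc a b := ((Fintype.equivFin S).symm j).2
      have e : j = Fintype.equivFin S ⟨p j, hj⟩ := by simp [p]
      simp only [hom, inv, colimit.ι_desc_assoc, Cofan.mk_pt, Cofan.mk_ι_app, ι_mapBifunctorDesc,
        dif_pos hj, Category.comp_id]
      exact sigma_ι_congr g e _
    · refine mapBifunctor.hom_ext fun i q h => ?_
      by_cases hi : i ∈ Finset.Icc a b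
      · simp only [inv, hom, ι_mapBifunctorDesc_assoc, dif_pos hi, Category.assoc, Sigma.ι_desc, Category.comp_id]
        have e : p (Fintype.equivFin S ⟨i, hi⟩) = i := by simp [p]
        exact (ι_congr E E' e.symm (by rw [e]; change i + q = n at h; omega) h _).symm
      · exact (hz i q (by simp at hi; omega)).eq_of_src _ _

instance preservesFiniteLimits_pullback_openImmersion {U : Scheme.{u}} (j : U ⟶ X) [IsOpenImmersion j] :
    PreservesFiniteLimits (Scheme.Modules.pullback j) :=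
  preservesFiniteLimits_of_natIso (Scheme.Modules.restrictFunctorIsoPullback j)

instance preservesFiniteColimits_pullback {U : Scheme.{u}} (j : U ⟶ X) :
    PreservesFiniteColimits (Scheme.Modules.pullback j) :=
  haveI := (Scheme.Modules.pullbackPushforwardAdjunction j).leftAdjoint_preservesColimits (F := Scheme.Modules.pullback j)
  inferInstance

/-- Restriction of complexes is pullback. -/
noncomputable def restrictPullIso (V : X.Opens) (F : CochainComplex X.Modules ℤ) :
    (DCoh.restrictCx V).obj F ≅ ((Scheme.Modules.pullback V.ι).mapHomologicalComplex (ComplexShape.up ℤ)).obj F :=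
  Hom.isoOfComponents (fun n => (Scheme.Modules.restrictFunctorIsoPullback V.ι).app (F.X n))
    (fun i j _ => ((Scheme.Modules.restrictFunctorIsoPullback V.ι).hom.naturality (F.d i j)).symm)

/-- Shrinking the open on which a complex is strictly perfect. -/
lemma exists_perfect_le {V W : X.Opens} (h : W ≤ V) {F : CochainComplex X.Modules ℤ}
    {E : CochainComplex (V : Scheme.{u}).Modules ℤ} (hE : DCoh.IsStrictlyPerfect E)
    (e : DerivedCategory.Q.obj ((DCoh.restrictCx V).obj F) ≅ DerivedCategory.Q.obj E) :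
    ∃ E' : CochainComplex (W : Scheme.{u}).Modules ℤ, DCoh.IsStrictlyPerfect E' ∧ Nonempty
      (DerivedCategory.Q.obj (((Scheme.Modules.pullback W.ι).mapHomologicalComplex (ComplexShape.up ℤ)).obj F) ≅
        DerivedCategory.Q.obj E') := by
  let P := Scheme.Modules.pullback (X.homOfLE h)
  let i : ((Scheme.Modules.pullback W.ι).mapHomologicalComplex (ComplexShape.up ℤ)).obj F ≅
      (P.mapHomologicalComplex (ComplexShape.up ℤ)).obj ((DCoh.restrictCx V).obj F) :=
    (Hom.isoOfComponents (fun n => (pullShrink h).app (F.X n))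
      (fun i j _ => ((pullShrink h).hom.naturality (F.d i j)).symm) :
      ((Scheme.Modules.pullback W.ι).mapHomologicalComplex (ComplexShape.up ℤ)).obj F ≅
        (P.mapHomologicalComplex (ComplexShape.up ℤ)).obj
          (((Scheme.Modules.pullback V.ι).mapHomologicalComplex (ComplexShape.up ℤ)).obj F)) ≪≫
    (P.mapHomologicalComplex (ComplexShape.up ℤ)).mapIso (restrictPullIso V F).symm
  exact ⟨_, PullPerf.strictlyPerfect_pullback (X.homOfLE h) hE, ⟨DerivedCategory.Q.mapIso i ≪≫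
    (P.mapDerivedCategoryFactors.app _).symm ≪≫ P.mapDerivedCategory.mapIso e ≪≫
    P.mapDerivedCategoryFactors.app E⟩⟩

/-- Tensoring isomorphic K-flat complexes. -/
lemma nonempty_tot₂_iso (M : CochainComplex X.Modules ℤ) {L L' : CochainComplex X.Modules ℤ}
    (hL : IsKFlatFor (shT X) L) (hL' : IsKFlatFor (shT X) L')
    (e : DerivedCategory.Q.obj L ≅ DerivedCategory.Q.obj L') :
    Nonempty (DerivedCategory.Q.obj (tot (shT X) M L) ≅ DerivedCategory.Q.obj (tot (shT X) M L')) := by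
  obtain ⟨Z, s, hs, g, hg⟩ := DerivedCategory.right_fac e.hom
  haveI : IsIso (DerivedCategory.Q.map g) := by
    haveI : IsIso (inv (DerivedCategory.Q.map s) ≫ DerivedCategory.Q.map g) := hg ▸ e.isIso_hom
    exact IsIso.of_isIso_comp_left (inv (DerivedCategory.Q.map s)) _
  haveI := (DerivedCategory.isIso_Q_map_iff_quasiIso _ s).1 hs
  haveI := (DerivedCategory.isIso_Q_map_iff_quasiIso _ g).1 ‹_›
  obtain ⟨N, c, hN, -, hc, -⟩ := exists_kflat_sheaf Z
  haveI := hc
  haveI h1 := quasiIso_tot_sheaf hN hL (c ≫ s) M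
  haveI h2 := quasiIso_tot_sheaf hN hL' (c ≫ g) M
  haveI := (DerivedCategory.isIso_Q_map_iff_quasiIso _ (totMap₂ (shT X) M (c ≫ s))).2 h1
  haveI := (DerivedCategory.isIso_Q_map_iff_quasiIso _ (totMap₂ (shT X) M (c ≫ g))).2 h2
  exact ⟨(asIso (DerivedCategory.Q.map (totMap₂ (shT X) M (c ≫ s)))).symm ≪≫
    asIso (DerivedCategory.Q.map (totMap₂ (shT X) M (c ≫ g)))⟩

/-- Perfect tensor perfect is perfect. -/
theorem isPerfect_LTensor {L : CochainComplex X.Modules ℤ} (hL : IsKFlatFor (shT X) L)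
    (hLp : DCoh.IsPerfect (DerivedCategory.Q.obj L)) [DCoh.HasLTensorCx L] (K : DCoh.D X) (hK : DCoh.IsPerfect K) :
    DCoh.IsPerfect ((DCoh.LTensorCx L).obj K) := by
  intro x
  obtain ⟨V₁, hV₁, h₁⟩ := hK x
  obtain ⟨V₂, hV₂, h₂⟩ := hLp x
  refine ⟨V₁ ⊓ V₂, ⟨hV₁, hV₂⟩, fun F ⟨eF⟩ => ?_⟩
  obtain ⟨N, hN, ⟨e⟩⟩ := PullPerf.exists_kflat_rep K
  obtain ⟨E₀, hE₀, ⟨a₀⟩⟩ := h₁ N ⟨e⟩
  obtain ⟨E₀', hE₀', ⟨b₀⟩⟩ := h₂ L ⟨Iso.refl _⟩
  obtain ⟨E, hE, ⟨a⟩⟩ := exists_perfect_le (W := V₁ ⊓ V₂) inf_le_left hE₀ a₀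
  obtain ⟨E', hE', ⟨b⟩⟩ := exists_perfect_le (W := V₁ ⊓ V₂) inf_le_right hE₀' b₀
  let j := (V₁ ⊓ V₂).ι
  let L' := ((Scheme.Modules.pullback j).mapHomologicalComplex (ComplexShape.up ℤ)).obj L
  haveI := LTensorSheaf.hasLTensorCx L'
  obtain ⟨c⟩ := nonempty_tot₂_iso E (PullTot.isKFlatFor_pullback j hL) (PullPerf.isKFlatFor_of_strictlyPerfect hE') b
  exact ⟨_, strictlyPerfect_tot hE hE', ⟨
    PullPerf.restrictIso _ (eF ≪≫ (DCoh.LTensorCx L).mapIso e.symm ≪≫ LTensorSheaf.ltensorCxIso L hN) ≪≫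
    DerivedCategory.Q.mapIso (restrictPullIso _ _ ≪≫ PullTot.pullTotIso j N L) ≪≫
    (LTensorSheaf.ltensorCxIso L' (PullTot.isKFlatFor_pullback j hN)).symm ≪≫
    (DCoh.LTensorCx L').mapIso a ≪≫
    LTensorSheaf.ltensorCxIso L' (PullPerf.isKFlatFor_of_strictlyPerfect hE) ≪≫ c⟩⟩

end Groth.Agent.DCat.PerfTensor
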