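import Mathlib.Algebra.Homology.HomotopyCategory.DegreewiseSplit
import Mathlib.Algebra.Homology.HomotopyCategory.Pretriangulated
import Mathlib.Algebra.Homology.HomologicalComplexBiprod
import Mathlib.Algebra.Homology.HomologySequenceLemmas
import Mathlib.Algebra.Homology.HomologicalComplexAbelian

/-! Functors on complexes preserving quasi-isomorphisms. -/

set_option autoImplicit false
set_option backward.isDefEq.respectTransparency false
set_option backward.defeqAttrib.useBackward true

universe v v' u u'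

open CategoryTheory CategoryTheory.Limits HomologicalComplex

namespace Groth.Agent.DCat

variable {A : Type u} [Category.{v} A] [Abelian A] {C : Type u'} [Category.{v'} C] [Abelian C]

/-- Every map of complexes is a degreewise split mono followed by a homotopy equivalence. -/
theorem exists_split_factorization {L₁ L₂ : CochainComplex A ℤ} (f : L₁ ⟶ L₂) :
    ∃ (M Q : CochainComplex A ℤ) (i : L₁ ⟶ M) (e : HomotopyEquiv M L₂) (p : M ⟶ Q) (w : i ≫ p = 0),
      i ≫ e.hom = f ∧ ∀ n, Nonempty (((ShortComplex.mk i p w).map (eval A (ComplexShape.up ℤ) n)).Splitting) := by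
  let D := CochainComplex.mappingCone (𝟙 L₁)
  let i : L₁ ⟶ L₂ ⊞ D := biprod.lift f (CochainComplex.mappingCone.inr (𝟙 L₁))
  let r : ∀ n, (L₂ ⊞ D).X n ⟶ L₁.X n := fun n =>
    (biprod.snd : L₂ ⊞ D ⟶ D).f n ≫ (CochainComplex.mappingCone.snd (𝟙 L₁)).v n n (add_zero n)
  have hr : ∀ n, i.f n ≫ r n = 𝟙 _ := fun n => by
    dsimp [r, i]
    rw [← comp_f_assoc, biprod.lift_snd]
    simp
  haveI hmono : ∀ n, IsSplitMono (i.f n) := fun n => ⟨⟨{ retraction := r n, id := hr n }⟩⟩
  haveI : Mono i := mono_of_mono_f _ fun n => inferInstance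
  have hD : Homotopy (𝟙 D) 0 := CochainComplex.mappingCone.homotopyToZeroOfId L₁
  let e : HomotopyEquiv (L₂ ⊞ D) L₂ :=
    { hom := biprod.fst
      inv := biprod.inl
      homotopyHomInvId := by
        refine (Homotopy.equivSubZero.symm ?_)
        refine (Homotopy.ofEq (?_ : biprod.fst ≫ biprod.inl - 𝟙 (L₂ ⊞ D) =
          (biprod.snd ≫ 𝟙 D) ≫ (-biprod.inr))).trans ?_
        · rw [Category.comp_id, Preadditive.comp_neg, ← biprod.total (X := L₂) (Y := D)]; abel
        · exact ((hD.compLeft (biprod.snd : L₂ ⊞ D ⟶ D)).compRight (-biprod.inr)).trans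
            (Homotopy.ofEq (by simp))
      homotopyInvHomId := Homotopy.ofEq biprod.inl_fst }
  refine ⟨L₂ ⊞ D, cokernel i, i, e, cokernel.π i, cokernel.condition i, biprod.lift_fst _ _, fun n => ?_⟩
  have hS : (ShortComplex.mk i (cokernel.π i) (cokernel.condition i)).ShortExact :=
    { exact := ShortComplex.exact_cokernel _ }
  exact ⟨ShortComplex.Splitting.ofExactOfRetraction _ ((hS.exact).map _) (r n) (hr n)
    (inferInstanceAs (Epi ((cokernel.π i).f n)))⟩

/-- A short exact sequence with acyclic cokernel begins with a quasi-isomorphism. -/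
lemma _root_.CategoryTheory.ShortComplex.ShortExact.quasiIso_f_of_acyclic'
    {S : ShortComplex (CochainComplex C ℤ)} (hS : S.ShortExact) (h₃ : S.X₃.Acyclic) :
    QuasiIso S.f where
  quasiIsoAt n := by
    rw [quasiIsoAt_iff_isIso_homologyMap]
    have hz : ∀ k, IsZero (S.X₃.homology k) := fun k =>
      (HomologicalComplex.exactAt_iff_isZero_homology _ _).1 (h₃ k)
    have e₂ := (hS.homology_exact₂ n).epi_f ((hz n).eq_of_tgt _ _)
    have e₁ := (hS.homology_exact₁ (n - 1) n (by simp)).mono_g ((hz _).eq_of_src _ _)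
    exact isIso_of_mono_of_epi _

/-- A functor on complexes which preserves homotopy equivalences and degreewise split short exact
sequences maps a quasi-isomorphism to one as soon as it kills the acyclic complexes built from its
ends by degreewise split extensions. -/
theorem quasiIso_map_of_kills (Φ : CochainComplex A ℤ ⥤ CochainComplex C ℤ) [Φ.Additive]
    (hh : ∀ {K L : CochainComplex A ℤ} (f g : K ⟶ L), Homotopy f g → Nonempty (Homotopy (Φ.map f) (Φ.map g)))
    (hs : ∀ S : ShortComplex (CochainComplex A ℤ),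
      (∀ n, Nonempty ((S.map (eval A (ComplexShape.up ℤ) n)).Splitting)) → (S.map Φ).ShortExact)
    {L₁ L₂ : CochainComplex A ℤ} (f : L₁ ⟶ L₂) [QuasiIso f]
    (hk : ∀ (S : ShortComplex (CochainComplex A ℤ)) (_ : HomotopyEquiv S.X₂ L₂), S.X₁ = L₁ →
      (∀ n, Nonempty ((S.map (eval A (ComplexShape.up ℤ) n)).Splitting)) → S.X₃.Acyclic → (Φ.obj S.X₃).Acyclic) :
    QuasiIso (Φ.map f) := by
  obtain ⟨M, Q, i, e, p, w, hf, hsp⟩ := exists_split_factorization f
  let S := ShortComplex.mk i p w
  have hS : S.ShortExact := shortExact_of_degreewise_shortExact _ fun n => (hsp n).some.shortExact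
  haveI : QuasiIso e.hom := homotopyEquivalences_le_quasiIso _ _ _ ⟨e, rfl⟩
  haveI : QuasiIso i := by
    haveI : QuasiIso (i ≫ e.hom) := hf ▸ ‹QuasiIso f›
    exact quasiIso_of_comp_right i e.hom
  have hQ : Q.Acyclic := hS.acyclic_X₃ (inferInstanceAs (QuasiIso i))
  have hΦQ := hk S e rfl hsp hQ
  haveI : QuasiIso (Φ.map i) := (hs S hsp).quasiIso_f_of_acyclic' hΦQ
  haveI : QuasiIso (Φ.map e.hom) := homotopyEquivalences_le_quasiIso _ _ _
    ⟨{ hom := Φ.map e.hom
       inv := Φ.map e.inv
       homotopyHomInvId := (Homotopy.ofEq (Φ.map_comp _ _).symm).trans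
         ((hh _ _ e.homotopyHomInvId).some.trans (Homotopy.ofEq (Φ.map_id _)))
       homotopyInvHomId := (Homotopy.ofEq (Φ.map_comp _ _).symm).trans
         ((hh _ _ e.homotopyInvHomId).some.trans (Homotopy.ofEq (Φ.map_id _))) }, rfl⟩
  rw [← hf, Φ.map_comp]
  infer_instance

end Groth.Agent.DCat
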