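import Groth.Agent.DCat.TotExact
import Groth.Agent.DCat.SplitQis
import Mathlib.Algebra.Homology.HomotopyCategory.Acyclic
import Mathlib.Algebra.Homology.SingleHomology
import Mathlib.Algebra.Homology.HomotopyCategory.SingleFunctors
import Mathlib.CategoryTheory.Abelian.GrothendieckAxioms.Colim
import Mathlib.Algebra.Homology.Additive
import Mathlib.CategoryTheory.Functor.OfSequence

/-! K-flat complexes for a biadditive functor. -/

set_option autoImplicit false
set_option backward.isDefEq.respectTransparency false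
set_option backward.defeqAttrib.useBackward true
set_option linter.style.haveILetI false

universe t v₁ v₂ v₃ u₁ u₂ u₃

open CategoryTheory CategoryTheory.Limits HomologicalComplex

namespace Groth.Agent.DCat

section Brutal

variable {B : Type u₂} [Category.{v₂} B] [Abelian B] (K : CochainComplex B ℤ)

open ZeroObject in
/-- Terms of the brutal truncation. -/
noncomputable def brutalX (p n : ℤ) : B := if p ≤ n then K.X n else 0

/-- The inclusion of a term. -/
noncomputable def brutalι (p n : ℤ) : brutalX K p n ⟶ K.X n :=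
  if h : p ≤ n then eqToHom (if_pos h) else 0

lemma isZero_brutalX {p n : ℤ} (h : ¬ p ≤ n) : IsZero (brutalX K p n) := by
  rw [brutalX, if_neg h]
  exact isZero_zero B

lemma isIso_brutalι {p n : ℤ} (h : p ≤ n) : IsIso (brutalι K p n) := by
  rw [brutalι, dif_pos h]
  infer_instance

instance mono_brutalι (p n : ℤ) : Mono (brutalι K p n) := by
  by_cases h : p ≤ n
  · have := isIso_brutalι K h
    infer_instance
  · exact ⟨fun f g _ => (isZero_brutalX K h).eq_of_tgt f g⟩

/-- Differential of the brutal truncation. -/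
noncomputable def brutalD (p i j : ℤ) : brutalX K p i ⟶ brutalX K p j :=
  if h : p ≤ j then
    haveI := isIso_brutalι K h
    brutalι K p i ≫ K.d i j ≫ inv (brutalι K p j)
  else 0

lemma brutalD_ι (p i j : ℤ) : brutalD K p i j ≫ brutalι K p j = brutalι K p i ≫ K.d i j := by
  by_cases h : p ≤ j
  · have := isIso_brutalι K h
    simp [brutalD, dif_pos h]
  · by_cases hr : i + 1 = j
    · exact (isZero_brutalX K (show ¬ p ≤ i by omega)).eq_of_src _ _
    · rw [K.shape _ _ hr, comp_zero, brutalD, dif_neg h, zero_comp]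

/-- The brutal truncation `σ≥p K`. -/
noncomputable def brutal (p : ℤ) : CochainComplex B ℤ where
  X := brutalX K p
  d := brutalD K p
  shape i j h := by
    rw [← cancel_mono (brutalι K p j), brutalD_ι, K.shape _ _ h, comp_zero, zero_comp]
  d_comp_d' i j k _ _ := by
    rw [← cancel_mono (brutalι K p k), Category.assoc, brutalD_ι, ← Category.assoc, brutalD_ι,
      Category.assoc, d_comp_d, comp_zero, zero_comp]

/-- The inclusion of the brutal truncation. -/
noncomputable def brutalIncl (p : ℤ) : brutal K p ⟶ K where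
  f := brutalι K p
  comm' i j _ := (brutalD_ι K p i j).symm

/-- Transition maps. -/
noncomputable def brutalMapX {p p' : ℤ} (_h : p' ≤ p) (n : ℤ) : brutalX K p n ⟶ brutalX K p' n :=
  if h' : p' ≤ n then haveI := isIso_brutalι K h'; brutalι K p n ≫ inv (brutalι K p' n) else 0

lemma brutalMapX_ι {p p' : ℤ} (h : p' ≤ p) (n : ℤ) :
    brutalMapX K h n ≫ brutalι K p' n = brutalι K p n := by
  by_cases h' : p' ≤ n
  · have := isIso_brutalι K h'
    simp [brutalMapX, dif_pos h']
  · exact (isZero_brutalX K (show ¬ p ≤ n by omega)).eq_of_src _ _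

/-- Transition maps. -/
noncomputable def brutalMap {p p' : ℤ} (h : p' ≤ p) : brutal K p ⟶ brutal K p' where
  f := brutalMapX K h
  comm' i j _ := by
    change brutalMapX K h i ≫ brutalD K p' i j = brutalD K p i j ≫ brutalMapX K h j
    rw [← cancel_mono (brutalι K p' j), Category.assoc, Category.assoc, brutalD_ι, brutalMapX_ι,
      brutalD_ι, reassoc_of% brutalMapX_ι K h i]

lemma brutalMap_incl {p p' : ℤ} (h : p' ≤ p) : brutalMap K h ≫ brutalIncl K p' = brutalIncl K p := by
  ext n
  exact brutalMapX_ι K h n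

/-- The sequence of brutal truncations. -/
noncomputable def brutalSeq : ℕ ⥤ CochainComplex B ℤ :=
  Functor.ofSequence (X := fun k : ℕ => brutal K (-(k : ℤ))) fun k => brutalMap K (by omega)

/-- The cocone of the brutal truncations. -/
noncomputable def brutalCocone : Cocone (brutalSeq K) where
  pt := K
  ι := NatTrans.ofSequence (fun k => brutalIncl K (-(k : ℤ))) fun k => by
    dsimp [brutalSeq]
    rw [Functor.ofSequence_map_homOfLE_succ, brutalMap_incl, Category.comp_id]

lemma isIso_brutalCocone_app (q : ℤ) (k : ℕ) (hk : -(k : ℤ) ≤ q) :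
    IsIso (((brutalCocone K).ι.app k).f q) := by
  dsimp [brutalCocone, brutalIncl]
  exact isIso_brutalι K hk

/-- Degreewise, the brutal truncations converge. -/
noncomputable def isColimitBrutalEval (q : ℤ) :
    IsColimit ((HomologicalComplex.eval B (ComplexShape.up ℤ) q).mapCocone (brutalCocone K)) :=
  haveI := isIso_brutalCocone_app K q (-q).toNat (by omega)
  { desc := fun s => inv (((brutalCocone K).ι.app (-q).toNat).f q) ≫ s.ι.app (-q).toNat
    fac := fun s k => by
      dsimp
      by_cases hk : -(k : ℤ) ≤ q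
      · have hk' : (-q).toNat ≤ k := by omega
        have h₁ := congr_hom ((brutalCocone K).w (homOfLE hk')) q
        have h₂ := s.w (homOfLE hk')
        dsimp at h₁ h₂
        haveI := isIso_brutalCocone_app K q k hk
        haveI : IsIso (((brutalSeq K).map (homOfLE hk')).f q ≫ ((brutalCocone K).ι.app k).f q) := by
          rw [h₁]
          exact isIso_brutalCocone_app K q (-q).toNat (by omega)
        haveI : IsIso (((brutalSeq K).map (homOfLE hk')).f q) :=
          IsIso.of_isIso_comp_right _ (((brutalCocone K).ι.app k).f q)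
        rw [← cancel_epi (((brutalSeq K).map (homOfLE hk')).f q), reassoc_of% h₁, IsIso.hom_inv_id_assoc]
        exact h₂.symm
      · apply IsZero.eq_of_src
        have : IsZero (brutalX K (-(k : ℤ)) q) := isZero_brutalX K hk
        exact this
    uniq := fun s m hm => by
      dsimp at hm ⊢
      rw [← hm (-q).toNat, IsIso.inv_hom_id_assoc] }

end Brutal

variable {A : Type u₁} [Category.{v₁} A] [Abelian A] {B : Type u₂} [Category.{v₂} B] [Abelian B]
  {C : Type u₃} [Category.{v₃} C] [Abelian C]
  (T : A ⥤ B ⥤ C) [T.Additive] [∀ a, (T.obj a).Additive]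
  [∀ (K₁ : CochainComplex A ℤ) (K₂ : CochainComplex B ℤ), CochainComplex.HasMapBifunctor K₁ K₂ T]

/-- `K` is K-flat for `T`. -/
def IsKFlatFor (K : CochainComplex B ℤ) : Prop :=
  ∀ M : CochainComplex A ℤ, M.Acyclic → (tot T M K).Acyclic

lemma acyclic_of_iso' {K L : CochainComplex C ℤ} (e : K ≅ L) (h : K.Acyclic) : L.Acyclic :=
  fun n => (h n).of_iso e

lemma acyclic_of_homotopyEquiv {K L : CochainComplex C ℤ} (e : HomotopyEquiv K L) (h : K.Acyclic) :
    L.Acyclic := fun n => by
  rw [HomologicalComplex.exactAt_iff_isZero_homology]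
  exact ((HomologicalComplex.exactAt_iff_isZero_homology _ _).1 (h n)).of_iso (e.toHomologyIso n).symm

instance additive_map₂CochainComplex_obj (M : CochainComplex A ℤ) :
    (T.map₂CochainComplex.obj M).Additive where
  map_add {X Y f g} := by
    ext n
    refine mapBifunctor.hom_ext fun p q h => ?_
    simp [ι_mapBifunctorMap, Preadditive.comp_add, Preadditive.add_comp]

instance additive_map₂CochainComplex_flip_obj (K : CochainComplex B ℤ) :
    (T.map₂CochainComplex.flip.obj K).Additive where
  map_add {X Y f g} := by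
    ext n
    refine mapBifunctor.hom_ext fun p q h => ?_
    simp [ι_mapBifunctorMap, Preadditive.comp_add, Preadditive.add_comp]

variable {T}

lemma IsKFlatFor.of_iso {K K' : CochainComplex B ℤ} (e : K ≅ K') (h : IsKFlatFor T K) :
    IsKFlatFor T K' := fun M hM =>
  acyclic_of_iso' ((T.map₂CochainComplex.obj M).mapIso e) (h M hM)

lemma IsKFlatFor.of_homotopyEquiv {K K' : CochainComplex B ℤ} (e : HomotopyEquiv K K')
    (h : IsKFlatFor T K) : IsKFlatFor T K' := fun M hM =>
  acyclic_of_homotopyEquiv
    { hom := totMap₂ T M e.hom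
      inv := totMap₂ T M e.inv
      homotopyHomInvId := (Homotopy.ofEq ((T.map₂CochainComplex.obj M).map_comp _ _).symm).trans
        ((mapBifunctorMapHomotopy₂ (𝟙 M) e.homotopyHomInvId T (ComplexShape.up ℤ)).trans
          (Homotopy.ofEq ((T.map₂CochainComplex.obj M).map_id _)))
      homotopyInvHomId := (Homotopy.ofEq ((T.map₂CochainComplex.obj M).map_comp _ _).symm).trans
        ((mapBifunctorMapHomotopy₂ (𝟙 M) e.homotopyInvHomId T (ComplexShape.up ℤ)).trans
          (Homotopy.ofEq ((T.map₂CochainComplex.obj M).map_id _))) }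
    (h M hM)

lemma IsKFlatFor.shift {K : CochainComplex B ℤ} (h : IsKFlatFor T K) (n : ℤ) :
    IsKFlatFor T ((CategoryTheory.shiftFunctor (CochainComplex B ℤ) n).obj K) := by
  intro M hM
  refine acyclic_of_iso' (((T.map₂CochainComplex.obj M).commShiftIso n).app K).symm ?_
  rw [← HomotopyCategory.quotient_obj_mem_subcategoryAcyclic_iff_acyclic]
  exact (HomotopyCategory.subcategoryAcyclic C).prop_of_iso
    (((HomotopyCategory.quotient C (ComplexShape.up ℤ)).commShiftIso n).app _).symm
    (ObjectProperty.le_shift _ n _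
      ((HomotopyCategory.quotient_obj_mem_subcategoryAcyclic_iff_acyclic _).2 (h M hM)))

lemma isKFlatFor_of_isZero {K : CochainComplex B ℤ} (hK : IsZero K) : IsKFlatFor T K := fun M _ =>
  fun n => by
    rw [exactAt_iff_isZero_homology]
    exact (homologyFunctor C (ComplexShape.up ℤ) n).map_isZero ((T.map₂CochainComplex.obj M).map_isZero hK)

section TwoOfThree

variable [HasCountableCoproducts C] [CountableAB4 C] {S : ShortComplex (CochainComplex B ℤ)}
  (hS : ∀ (a : A) (q : ℤ), ((S.map (HomologicalComplex.eval B (ComplexShape.up ℤ) q)).map (T.obj a)).ShortExact)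

include hS

lemma shortExact_map_tot (M : CochainComplex A ℤ) : (S.map (T.map₂CochainComplex.obj M)).ShortExact :=
  shortExact_tot₂ T M _ fun p q => hS (M.X p) q

lemma IsKFlatFor.ext₂ (h₁ : IsKFlatFor T S.X₁) (h₃ : IsKFlatFor T S.X₃) : IsKFlatFor T S.X₂ :=
  fun M hM => (shortExact_map_tot hS M).acyclic_X₂ (h₁ M hM) (h₃ M hM)

lemma IsKFlatFor.ext₃ (h₁ : IsKFlatFor T S.X₁) (h₂ : IsKFlatFor T S.X₂) : IsKFlatFor T S.X₃ :=
  fun M hM => (shortExact_map_tot hS M).acyclic_X₃
    ⟨fun n => (quasiIsoAt_iff_exactAt _ _ (h₁ M hM n)).2 (h₂ M hM n)⟩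

lemma IsKFlatFor.ext₁ (h₂ : IsKFlatFor T S.X₂) (h₃ : IsKFlatFor T S.X₃) : IsKFlatFor T S.X₁ :=
  fun M hM => (shortExact_map_tot hS M).acyclic_X₁
    ⟨fun n => (quasiIsoAt_iff_exactAt _ _ (h₂ M hM n)).2 (h₃ M hM n)⟩

end TwoOfThree

omit [∀ (K₁ : CochainComplex A ℤ) (K₂ : CochainComplex B ℤ), CochainComplex.HasMapBifunctor K₁ K₂ T]
  [Abelian A] [T.Additive] in
lemma shortExact_map_of_splitting {S : ShortComplex (CochainComplex B ℤ)}
    (hsp : ∀ n, Nonempty ((S.map (HomologicalComplex.eval B (ComplexShape.up ℤ) n)).Splitting)) (a : A) (q : ℤ) :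
    ((S.map (HomologicalComplex.eval B (ComplexShape.up ℤ) q)).map (T.obj a)).ShortExact :=
  ((hsp q).some.map (T.obj a)).shortExact

section Colimit

variable {J : Type t} [SmallCategory J] [HasColimitsOfShape J C] [HasExactColimitsOfShape J C]

/-- A colimit of acyclic complexes is acyclic. -/
lemma acyclic_colimit {F : J ⥤ CochainComplex C ℤ} {c : Cocone F} (hc : IsColimit c)
    (h : ∀ j, (F.obj j).Acyclic) : c.pt.Acyclic := by
  intro n
  let ev := fun i : ℤ => HomologicalComplex.eval C (ComplexShape.up ℤ) i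
  let S : ShortComplex (J ⥤ C) := ShortComplex.mk
    (X₁ := F ⋙ ev (n - 1)) (X₂ := F ⋙ ev n) (X₃ := F ⋙ ev (n + 1))
    { app := fun j => (F.obj j).d (n - 1) n }
    { app := fun j => (F.obj j).d n (n + 1) } (by ext j; simp)
  have hS : S.Exact := by
    rw [ShortComplex.exact_iff_isZero_homology]
    refine Functor.isZero _ fun j => IsZero.of_iso ?_ (S.mapHomologyIso ((evaluation _ C).obj j)).symm
    exact (ShortComplex.exact_iff_isZero_homology _).1
      (((F.obj j).exactAt_iff' (n - 1) n (n + 1) (by simp) (by simp)).1 (h j n))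
  rw [c.pt.exactAt_iff' (n - 1) n (n + 1) (by simp) (by simp)]
  have hc' := fun i : ℤ => isColimitOfPreserves (ev i) hc
  exact colim.exact_mapShortComplex hS (hc' (n - 1)) (hc' n) (hc' (n + 1))
    (c.pt.d (n - 1) n) (c.pt.d n (n + 1)) (fun j => ((c.ι.app j).comm _ _).symm.symm)
    (fun j => ((c.ι.app j).comm _ _).symm.symm)

lemma IsKFlatFor.colimit {F : J ⥤ CochainComplex B ℤ} {c : Cocone F}
    (hc : ∀ (a : A) (q : ℤ), IsColimit ((T.obj a).mapCocone
      ((HomologicalComplex.eval B (ComplexShape.up ℤ) q).mapCocone c)))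
    (h : ∀ j, IsKFlatFor T (F.obj j)) : IsKFlatFor T c.pt := fun M hM =>
  acyclic_colimit (isColimitTot₂ T M fun p q => hc (M.X p) q) fun j => h j M hM

end Colimit

section Single

/-- The total complex with a single term. -/
theorem exists_tot_single_iso (M : CochainComplex A ℤ) (P : B) :
    Nonempty (((T.flip.obj P).mapHomologicalComplex (ComplexShape.up ℤ)).obj M ≅
      tot T M ((HomologicalComplex.single B (ComplexShape.up ℤ) 0).obj P)) := by
  classical
  let S := (HomologicalComplex.single B (ComplexShape.up ℤ) 0).obj P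
  let e := singleObjXSelf (ComplexShape.up ℤ) 0 P
  let inv' : ∀ n, (tot T M S).X n ⟶ (T.obj (M.X n)).obj P := fun n =>
    mapBifunctorDesc fun p q h => if hq : q = 0 then
      (T.map (M.XIsoOfEq (show p = n by subst hq; simpa using h)).hom).app (S.X q) ≫
        (T.obj (M.X n)).map ((S.XIsoOfEq hq).hom ≫ e.hom) else 0
  refine ⟨Hom.isoOfComponents (fun n =>
    { hom := (T.obj (M.X n)).map e.inv ≫ ιMapBifunctor M S T (ComplexShape.up ℤ) n 0 n (by simp)
      inv := inv' n
      hom_inv_id := by simp [inv', ← Functor.map_comp, S, e]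
      inv_hom_id := mapBifunctor.hom_ext fun p q h => by
        dsimp [inv']
        rw [ι_mapBifunctorDesc_assoc, Category.comp_id]
        by_cases hq : q = 0
        · subst hq
          obtain rfl : p = n := by simpa using h
          simp [← Functor.map_comp_assoc, S, e]
        · exact IsZero.eq_of_src
            ((T.obj _).map_isZero (isZero_single_obj_X (ComplexShape.up ℤ) 0 P q hq)) _ _ }) ?_⟩
  intro i j hij
  dsimp
  simp only [S, Category.assoc, mapBifunctor.d_eq, Preadditive.comp_add, mapBifunctor.ι_D₁, mapBifunctor.ι_D₂]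
  rw [mapBifunctor.d₁_eq _ _ _ _ hij _ _ (by simpa using hij), mapBifunctor.d₂_eq _ _ _ _ _
    (show (ComplexShape.up ℤ).Rel 0 1 by simp) _ (by simp at hij ⊢; omega), single_obj_d]
  simp

lemma isKFlatFor_single {P : B} [PreservesFiniteLimits (T.flip.obj P)]
    [PreservesFiniteColimits (T.flip.obj P)] (n : ℤ) :
    IsKFlatFor T ((HomologicalComplex.single B (ComplexShape.up ℤ) n).obj P) := by
  have h₀ : IsKFlatFor T ((HomologicalComplex.single B (ComplexShape.up ℤ) 0).obj P) := fun M hM => by
    obtain ⟨e⟩ := exists_tot_single_iso (T := T) M P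
    exact acyclic_of_iso' e fun m => ((M.exactAt_iff m).1 (hM m)).map (T.flip.obj P)
  exact (h₀.shift (-n)).of_iso
    (((CochainComplex.singleFunctors B).shiftIso (-n) n 0 (by omega)).app P)

end Single

section Bounded

variable [HasCountableCoproducts C] [CountableAB4 C]

/-- Induction over finite complexes by their terms. -/
theorem bounded_induction {B : Type u₂} [Category.{v₂} B] [Abelian B]
    (P : CochainComplex B ℤ → Prop) (Q : B → Prop)
    (h₀ : ∀ K, IsZero K → P K) (hQ₀ : ∀ X, IsZero X → Q X)
    (hQ : ∀ X Y, (X ≅ Y) → Q X → Q Y)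
    (hsingle : ∀ (n : ℤ) (X : B), Q X → P ((HomologicalComplex.single B (ComplexShape.up ℤ) n).obj X))
    (hext : ∀ S : ShortComplex (CochainComplex B ℤ),
      (∀ n, Nonempty ((S.map (HomologicalComplex.eval B (ComplexShape.up ℤ) n)).Splitting)) →
        P S.X₁ → P S.X₃ → P S.X₂) (a : ℤ) :
    ∀ (m : ℕ) (K : CochainComplex B ℤ) (_ : ∀ n, n < a → IsZero (K.X n))
      (_ : ∀ n, a + (m : ℤ) ≤ n → IsZero (K.X n)) (_ : ∀ n, Q (K.X n)), P K := by
  intro m
  induction m with
  | zero =>
    intro K h₁ h₂ _
    refine h₀ K ((IsZero.iff_id_eq_zero K).2 ?_)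
    ext n
    exact (if h : n < a then h₁ n h else h₂ n (by omega)).eq_of_src _ _
  | succ m ih =>
    intro K h₁ h₂ hfl
    let b : ℤ := a + m
    let i : (HomologicalComplex.single B (ComplexShape.up ℤ) b).obj (K.X b) ⟶ K :=
      mkHomFromSingle (𝟙 _) fun k hk => by
        simp only [ComplexShape.up_Rel] at hk
        exact (h₂ k (by simp [b] at hk ⊢; omega)).eq_of_tgt _ _
    have hib : IsIso (i.f b) := by
      dsimp [i]
      rw [mkHomFromSingle_f]
      infer_instance
    haveI : Mono i := mono_of_mono_f _ fun n => by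
      by_cases hn : n = b
      · subst hn; infer_instance
      · exact ⟨fun f g _ => (isZero_single_obj_X (ComplexShape.up ℤ) b (K.X b) n hn).eq_of_tgt f g⟩
    let S := ShortComplex.mk i (cokernel.π i) (cokernel.condition i)
    have hS : S.ShortExact := { exact := ShortComplex.exact_cokernel _ }
    have hzero : IsZero ((cokernel i).X b) := by
      haveI : IsIso ((HomologicalComplex.eval B (ComplexShape.up ℤ) b).map i) := hib
      exact IsZero.of_iso (isZero_cokernel_of_epi ((HomologicalComplex.eval B (ComplexShape.up ℤ) b).map i))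
        (PreservesCokernel.iso (HomologicalComplex.eval B (ComplexShape.up ℤ) b) i)
    have hiso : ∀ n, n ≠ b → IsIso ((cokernel.π i).f n) := fun n hn => by
      haveI : Mono ((cokernel.π i).f n) :=
        (hS.exact.map (HomologicalComplex.eval B (ComplexShape.up ℤ) n)).mono_g
          ((isZero_single_obj_X (ComplexShape.up ℤ) b (K.X b) n hn).eq_of_src _ _)
      exact isIso_of_mono_of_epi _
    refine hext S (fun n => ⟨?_⟩) (hsingle b (K.X b) (hfl b))
      (ih _ (fun n hn => ?_) (fun n hn => ?_) fun n => ?_)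
    · by_cases hn : n = b
      · subst hn
        exact
          { r := @inv _ _ _ _ (i.f b) hib
            s := 0
            f_r := @IsIso.hom_inv_id _ _ _ _ (i.f b) hib
            s_g := hzero.eq_of_src _ _
            id := by
              rw [comp_zero, add_zero]
              exact @IsIso.inv_hom_id _ _ _ _ (i.f b) hib }
      · exact
          { r := 0
            s := @inv _ _ _ _ ((cokernel.π i).f n) (hiso n hn)
            f_r := (isZero_single_obj_X (ComplexShape.up ℤ) b (K.X b) n hn).eq_of_src _ _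
            s_g := @IsIso.inv_hom_id _ _ _ _ ((cokernel.π i).f n) (hiso n hn)
            id := by
              rw [zero_comp, zero_add]
              exact @IsIso.hom_inv_id _ _ _ _ ((cokernel.π i).f n) (hiso n hn) }
    · exact (h₁ n hn).of_iso (@asIso _ _ _ _ _ (hiso n (by simp [b]; omega))).symm
    · by_cases hb : n = b
      · subst hb; exact hzero
      · exact (h₂ n (by simp [b] at hb; omega)).of_iso (@asIso _ _ _ _ _ (hiso n hb)).symm
    · by_cases hb : n = b
      · subst hb; exact hQ₀ _ hzero
      · exact hQ _ _ (@asIso _ _ _ _ _ (hiso n hb)) (hfl n)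

/-- Finite complexes of flat objects are K-flat. -/
lemma isKFlatFor_of_bounded (a : ℤ) (m : ℕ) (K : CochainComplex B ℤ)
    (h₁ : ∀ n, n < a → IsZero (K.X n)) (h₂ : ∀ n, a + (m : ℤ) ≤ n → IsZero (K.X n))
    (hfl : ∀ n, IsZero (K.X n) ∨ (PreservesFiniteLimits (T.flip.obj (K.X n)) ∧ PreservesFiniteColimits (T.flip.obj (K.X n)))) :
    IsKFlatFor T K :=
  bounded_induction (IsKFlatFor T)
    (fun X => IsZero X ∨ (PreservesFiniteLimits (T.flip.obj X) ∧ PreservesFiniteColimits (T.flip.obj X)))
    (fun _ h => isKFlatFor_of_isZero h) (fun _ h => Or.inl h)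
    (fun X Y e h => h.elim (fun hz => Or.inl (hz.of_iso e.symm)) fun ⟨hl, hr⟩ =>
      Or.inr ⟨@preservesFiniteLimits_of_natIso _ _ _ _ _ _ (T.flip.mapIso e) hl,
        @preservesFiniteColimits_of_natIso _ _ _ _ _ _ (T.flip.mapIso e) hr⟩)
    (fun n X h => h.elim (fun hz => isKFlatFor_of_isZero ((HomologicalComplex.single B (ComplexShape.up ℤ) n).map_isZero hz))
      fun ⟨_, _⟩ => isKFlatFor_single n)
    (fun S hS h₁ h₃ => IsKFlatFor.ext₂ (fun a q => shortExact_map_of_splitting hS a q) h₁ h₃)
    a m K h₁ h₂ hfl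

/-- Bounded above complexes of flat objects are K-flat. -/
theorem isKFlatFor_of_boundedAbove [HasColimitsOfShape ℕ C] [HasExactColimitsOfShape ℕ C]
    [∀ a, PreservesColimitsOfShape ℕ (T.obj a)] (K : CochainComplex B ℤ) (b : ℤ)
    (hb : ∀ n, b < n → IsZero (K.X n))
    (hfl : ∀ n, PreservesFiniteLimits (T.flip.obj (K.X n)) ∧ PreservesFiniteColimits (T.flip.obj (K.X n))) :
    IsKFlatFor T K := by
  refine IsKFlatFor.colimit (c := brutalCocone K)
    (fun a q => isColimitOfPreserves (T.obj a) (isColimitBrutalEval K q)) fun k => ?_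
  refine isKFlatFor_of_bounded (-(k : ℤ)) (b + 1 + k).toNat _ (fun n hn => isZero_brutalX K (by omega))
    (fun n hn => ?_) fun n => ?_
  · by_cases h : -(k : ℤ) ≤ n
    · exact (hb n (by omega)).of_iso (@asIso _ _ _ _ _ (isIso_brutalι K h))
    · exact isZero_brutalX K h
  · by_cases h : -(k : ℤ) ≤ n
    · exact Or.inr ⟨@preservesFiniteLimits_of_natIso _ _ _ _ _ _
          (T.flip.mapIso (@asIso _ _ _ _ _ (isIso_brutalι K h))).symm (hfl n).1,
        @preservesFiniteColimits_of_natIso _ _ _ _ _ _
          (T.flip.mapIso (@asIso _ _ _ _ _ (isIso_brutalι K h))).symm (hfl n).2⟩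
    · exact Or.inl (isZero_brutalX K h)

end Bounded

end Groth.Agent.DCat
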