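import Groth.Agent.DCat.TotExact
import Mathlib.Algebra.Homology.BifunctorFlip
import Mathlib.Algebra.Homology.Additive
import Mathlib.CategoryTheory.Limits.Preserves.Shapes.Products

/-! Total complexes and comparison of biadditive functors. -/

set_option autoImplicit false
set_option backward.isDefEq.respectTransparency false
set_option backward.defeqAttrib.useBackward true
set_option linter.style.haveILetI false

universe t v₁ v₂ v₃ u₁ u₂ u₃ v₁' v₂' v₃' u₁' u₂' u₃'

open CategoryTheory CategoryTheory.Limits HomologicalComplex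

namespace Groth.Agent.DCat

variable {A : Type u₁} [Category.{v₁} A] [Preadditive A] {B : Type u₂} [Category.{v₂} B] [Preadditive B]
  {C : Type u₃} [Category.{v₃} C] [Abelian C]
  {A' : Type u₁'} [Category.{v₁'} A'] [Preadditive A'] {B' : Type u₂'} [Category.{v₂'} B'] [Preadditive B']
  {C' : Type u₃'} [Category.{v₃'} C'] [Abelian C']
  (T : A ⥤ B ⥤ C) [T.Additive] [∀ a, (T.obj a).Additive]
  [∀ (K₁ : CochainComplex A ℤ) (K₂ : CochainComplex B ℤ), CochainComplex.HasMapBifunctor K₁ K₂ T]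
  (T' : A' ⥤ B' ⥤ C') [T'.Additive] [∀ a, (T'.obj a).Additive]
  [∀ (K₁ : CochainComplex A' ℤ) (K₂ : CochainComplex B' ℤ), CochainComplex.HasMapBifunctor K₁ K₂ T']
  (F : A ⥤ A') [F.Additive] (H : B ⥤ B') [H.Additive] (G : C ⥤ C') [G.Additive]
  (α : ∀ a b, G.obj ((T.obj a).obj b) ≅ (T'.obj (F.obj a)).obj (H.obj b))
  (hα₁ : ∀ {a a' : A} (f : a ⟶ a') (b : B),
    G.map ((T.map f).app b) ≫ (α a' b).hom = (α a b).hom ≫ (T'.map (F.map f)).app (H.obj b))
  (hα₂ : ∀ (a : A) {b b' : B} (g : b ⟶ b'),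
    G.map ((T.obj a).map g) ≫ (α a b').hom = (α a b).hom ≫ (T'.obj (F.obj a)).map (H.map g))
  [∀ n : ℤ, PreservesColimitsOfShape (Discrete (TotIdx n)) G]

/-- The summand inclusions of `G (tot)`. -/
noncomputable def isColimitMapTot (M : CochainComplex A ℤ) (K : CochainComplex B ℤ) (n : ℤ) :
    IsColimit (Cofan.mk (G.obj ((tot T M K).X n)) fun i : TotIdx n =>
      G.map (ιMapBifunctor M K T (ComplexShape.up ℤ) i.1.1 i.1.2 n i.2)) :=
  isColimitCofanMkObjOfIsColimit G _ _
    ((((T.mapBifunctorHomologicalComplex _ _).obj M).obj K).toGradedObject.isColimitCofanMapObj _ n)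

/-- Comparison map, degreewise. -/
noncomputable def mapTotHom (M : CochainComplex A ℤ) (K : CochainComplex B ℤ) (n : ℤ) :
    G.obj ((tot T M K).X n) ⟶
      (tot T' ((F.mapHomologicalComplex (ComplexShape.up ℤ)).obj M)
        ((H.mapHomologicalComplex (ComplexShape.up ℤ)).obj K)).X n :=
  Cofan.IsColimit.desc (isColimitMapTot T G M K n) fun i =>
    (α (M.X i.1.1) (K.X i.1.2)).hom ≫
      ιMapBifunctor ((F.mapHomologicalComplex (ComplexShape.up ℤ)).obj M)
        ((H.mapHomologicalComplex (ComplexShape.up ℤ)).obj K) T' (ComplexShape.up ℤ) i.1.1 i.1.2 n i.2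

omit [G.Additive] in
@[reassoc]
lemma ι_mapTotHom (M : CochainComplex A ℤ) (K : CochainComplex B ℤ) (p q n : ℤ) (h : p + q = n) :
    G.map (ιMapBifunctor M K T (ComplexShape.up ℤ) p q n h) ≫ mapTotHom T T' F H G α M K n =
      (α (M.X p) (K.X q)).hom ≫ ιMapBifunctor ((F.mapHomologicalComplex (ComplexShape.up ℤ)).obj M)
        ((H.mapHomologicalComplex (ComplexShape.up ℤ)).obj K) T' (ComplexShape.up ℤ) p q n h :=
  Cofan.IsColimit.fac (isColimitMapTot T G M K n) _ (⟨(p, q), h⟩ : TotIdx n)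

include hα₁ hα₂ in
/-- The comparison of total complexes. -/
noncomputable def mapTotIso (M : CochainComplex A ℤ) (K : CochainComplex B ℤ) :
    (G.mapHomologicalComplex (ComplexShape.up ℤ)).obj (tot T M K) ≅
      tot T' ((F.mapHomologicalComplex (ComplexShape.up ℤ)).obj M)
        ((H.mapHomologicalComplex (ComplexShape.up ℤ)).obj K) :=
  Hom.isoOfComponents (fun n =>
    { hom := mapTotHom T T' F H G α M K n
      inv := mapBifunctorDesc fun p q h =>
        (α (M.X p) (K.X q)).inv ≫ G.map (ιMapBifunctor M K T (ComplexShape.up ℤ) p q n h)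
      hom_inv_id := Cofan.IsColimit.hom_ext (isColimitMapTot T G M K n) _ _ fun ⟨⟨p, q⟩, h⟩ => by
        dsimp
        rw [ι_mapTotHom_assoc, ι_mapBifunctorDesc, Iso.hom_inv_id_assoc, Category.comp_id]
      inv_hom_id := mapBifunctor.hom_ext fun p q h => by
        rw [ι_mapBifunctorDesc_assoc, Category.assoc, ι_mapTotHom, Iso.inv_hom_id_assoc,
          Category.comp_id] })
    fun n n' hn => Cofan.IsColimit.hom_ext (isColimitMapTot T G M K n) _ _ fun ⟨⟨p, q⟩, h⟩ => by
      dsimp
      have h' : p + q = n := h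
      rw [ι_mapTotHom_assoc, ← G.map_comp_assoc, mapBifunctor.d_eq, mapBifunctor.d_eq]
      simp only [Preadditive.comp_add, Functor.map_add, Preadditive.add_comp, mapBifunctor.ι_D₁,
        mapBifunctor.ι_D₂, ComplexShape.up_Rel] at hn ⊢
      rw [mapBifunctor.d₁_eq _ _ _ _ (show (ComplexShape.up ℤ).Rel p (p + 1) from rfl) _ _
          (by simp; omega),
        mapBifunctor.d₂_eq _ _ _ _ _ (show (ComplexShape.up ℤ).Rel q (q + 1) from rfl) _
          (by simp; omega),
        mapBifunctor.d₁_eq _ _ _ _ (show (ComplexShape.up ℤ).Rel p (p + 1) from rfl) _ _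
          (by simp; omega),
        mapBifunctor.d₂_eq _ _ _ _ _ (show (ComplexShape.up ℤ).Rel q (q + 1) from rfl) _
          (by simp; omega)]
      simp only [Functor.map_zsmul, Units.smul_def,
        Preadditive.zsmul_comp, Preadditive.comp_zsmul, G.map_comp, Category.assoc, ι_mapTotHom,
        Functor.mapHomologicalComplex_obj_d, reassoc_of% hα₁, reassoc_of% hα₂]
      rfl

variable {T T' F H G α}

/-- Naturality of the comparison. -/
lemma mapTotHom_natural (hα₁' : ∀ {a a' : A} (f : a ⟶ a') (b : B),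
    G.map ((T.map f).app b) ≫ (α a' b).hom = (α a b).hom ≫ (T'.map (F.map f)).app (H.obj b))
    (hα₂' : ∀ (a : A) {b b' : B} (g : b ⟶ b'),
    G.map ((T.obj a).map g) ≫ (α a b').hom = (α a b).hom ≫ (T'.obj (F.obj a)).map (H.map g))
    {M M' : CochainComplex A ℤ} (f : M ⟶ M') {K K' : CochainComplex B ℤ} (g : K ⟶ K') :
    (G.mapHomologicalComplex (ComplexShape.up ℤ)).map (mapBifunctorMap f g T (ComplexShape.up ℤ)) ≫
        (mapTotIso T T' F H G α hα₁' hα₂' M' K').hom =
      (mapTotIso T T' F H G α hα₁' hα₂' M K).hom ≫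
        mapBifunctorMap ((F.mapHomologicalComplex (ComplexShape.up ℤ)).map f)
          ((H.mapHomologicalComplex (ComplexShape.up ℤ)).map g) T' (ComplexShape.up ℤ) := by
  ext n
  refine Cofan.IsColimit.hom_ext (isColimitMapTot T G M K n) _ _ fun ⟨⟨p, q⟩, h⟩ => ?_
  dsimp [mapTotIso]
  rw [← G.map_comp_assoc, ι_mapBifunctorMap, G.map_comp_assoc, G.map_comp_assoc, ι_mapTotHom,
    ι_mapTotHom_assoc, reassoc_of% hα₂', reassoc_of% hα₁', ι_mapBifunctorMap]
  rfl

end Groth.Agent.DCat
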