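import Groth.Prelude.Def_DRing4
import Groth.Agent.DCat.TotKFlat
import Groth.Agent.DCat.TotMap
import Mathlib.RingTheory.Flat.CategoryTheory
import Mathlib.Algebra.Category.ModuleCat.Projective
import Mathlib.Algebra.Homology.HomotopyCategory.DegreewiseSplit
import Mathlib.Algebra.Category.ModuleCat.AB

/-! K-flat complexes of modules. -/

set_option autoImplicit false
set_option backward.isDefEq.respectTransparency false
set_option backward.defeqAttrib.useBackward true
set_option linter.style.haveILetI false

universe u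

open CategoryTheory CategoryTheory.Limits MonoidalCategory HomologicalComplex

namespace Groth.Agent.DCat

variable {R : Type u} [CommRing R]

/-- The tensor bifunctor on modules. -/
noncomputable abbrev modT (R : Type u) [CommRing R] : ModuleCat.{u} R ⥤ ModuleCat.{u} R ⥤ ModuleCat.{u} R :=
  curriedTensor (ModuleCat.{u} R)

lemma preservesFiniteLimits_flip_of_flat (P : ModuleCat.{u} R) [Module.Flat R P] :
    PreservesFiniteLimits ((modT R).flip.obj P) :=
  inferInstanceAs (PreservesFiniteLimits (tensorRight P))

instance preservesFiniteColimits_modT_flip (P : ModuleCat.{u} R) :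
    PreservesFiniteColimits ((modT R).flip.obj P) :=
  haveI : PreservesFiniteColimits (tensorLeft P) := inferInstance
  preservesFiniteColimits_of_natIso (BraidedCategory.tensorLeftIsoTensorRight P)

instance hasExactColimitsOfShape_nat {C : Type*} [Category.{u} C] [HasFilteredColimitsOfSize.{u, u} C]
    [AB5OfSize.{u, u} C] [HasFiniteLimits C] [HasColimitsOfShape ℕ C] : HasExactColimitsOfShape ℕ C :=
  HasExactColimitsOfShape.of_domain_equivalence C (ULiftHomULiftCategory.equiv.{u, u} ℕ).symm

/-- The K-flatness condition used in the statements. -/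
lemma isKFlat_iff (P : DRing.Cx R) :
    (∀ L : DRing.Cx R, (∀ i : ℤ, IsZero (L.homology i)) → ∀ i : ℤ, IsZero ((L ⊗ P).homology i)) ↔
      IsKFlatFor (modT R) P := by
  refine ⟨fun h M hM n => ?_, fun h L hL i => ?_⟩
  · rw [exactAt_iff_isZero_homology]
    exact h M (fun i => (exactAt_iff_isZero_homology _ _).1 (hM i)) n
  · exact (exactAt_iff_isZero_homology _ _).1
      (h L (fun j => (exactAt_iff_isZero_homology _ _).2 (hL j)) i)

lemma lTensor_injective_of_presentation {a K F : Type u} [AddCommGroup a] [Module R a]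
    [AddCommGroup K] [Module R K] [AddCommGroup F] [Module R F] [Module.Flat R F]
    {i : K →ₗ[R] F} {p : F →ₗ[R] a} (hi : Function.Injective i) (hp : Function.Surjective p)
    (hip : Function.Exact i p)
    {M N P : Type u} [AddCommGroup M] [Module R M] [AddCommGroup N] [Module R N] [AddCommGroup P] [Module R P]
    [Module.Flat R P] {f : M →ₗ[R] N} {g : N →ₗ[R] P} (hf : Function.Injective f)
    (hg : Function.Surjective g) (hfg : Function.Exact f g) : Function.Injective (f.lTensor a) := by
  rw [injective_iff_map_eq_zero]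
  intro z hz
  obtain ⟨v, rfl⟩ := LinearMap.rTensor_surjective M hp z
  have h1 : p.rTensor N (f.lTensor F v) = 0 := by
    rw [← LinearMap.comp_apply, LinearMap.rTensor_comp_lTensor, ← LinearMap.lTensor_comp_rTensor]
    exact hz
  obtain ⟨w, hw⟩ := (rTensor_exact N hip hp (f.lTensor F v)).1 h1
  have h2 : i.rTensor P (g.lTensor K w) = 0 := by
    rw [← LinearMap.comp_apply, LinearMap.rTensor_comp_lTensor, ← LinearMap.lTensor_comp_rTensor,
      LinearMap.comp_apply, hw, ← LinearMap.comp_apply, ← LinearMap.lTensor_comp, hfg.linearMap_comp_eq_zero,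
      LinearMap.lTensor_zero, LinearMap.zero_apply]
  have h3 : g.lTensor K w = 0 :=
    (Module.Flat.rTensor_preserves_injective_linearMap i hi) (by rw [h2, map_zero])
  obtain ⟨t, rfl⟩ := (lTensor_exact K hfg hg w).1 h3
  have h4 : v = i.rTensor M t := by
    apply Module.Flat.lTensor_preserves_injective_linearMap (M := F) f hf
    rw [← hw, ← LinearMap.comp_apply, ← LinearMap.comp_apply, LinearMap.rTensor_comp_lTensor,
      LinearMap.lTensor_comp_rTensor]
  rw [h4, ← LinearMap.comp_apply, ← LinearMap.rTensor_comp, hip.linearMap_comp_eq_zero,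
    LinearMap.rTensor_zero, LinearMap.zero_apply]

lemma lTensor_injective_of_flat_quotient (a : Type u) [AddCommGroup a] [Module R a]
    {M N P : Type u} [AddCommGroup M] [Module R M] [AddCommGroup N] [Module R N] [AddCommGroup P] [Module R P]
    [Module.Flat R P] {f : M →ₗ[R] N} {g : N →ₗ[R] P} (hf : Function.Injective f)
    (hg : Function.Surjective g) (hfg : Function.Exact f g) : Function.Injective (f.lTensor a) :=
  lTensor_injective_of_presentation (F := a →₀ R) (K := LinearMap.ker (Finsupp.linearCombination R (id : a → a)))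
    (p := Finsupp.linearCombination R id) (i := (LinearMap.ker (Finsupp.linearCombination R (id : a → a))).subtype)
    (Submodule.injective_subtype _)
    (fun y => ⟨Finsupp.single y 1, (Finsupp.linearCombination_single R 1 y).trans (one_smul R y)⟩)
    (LinearMap.exact_subtype_ker_map _) hf hg hfg

/-- Tensoring a short exact sequence with flat cokernel stays short exact. -/
theorem shortExact_tensor_of_flat {S : ShortComplex (ModuleCat.{u} R)} (hS : S.ShortExact)
    [Module.Flat R S.X₃] (a : ModuleCat.{u} R) : (S.map ((modT R).obj a)).ShortExact := by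
  classical
  haveI : PreservesFiniteColimits ((modT R).obj a) := inferInstanceAs (PreservesFiniteColimits (tensorLeft a))
  have e := (Functor.preservesFiniteColimits_tfae ((modT R).obj a)).out 3 0
  have hr := e.1 inferInstance S hS
  haveI := hr.2
  refine { exact := hr.1, mono_f := ?_, epi_g := ‹_› }
  rw [ModuleCat.mono_iff_injective]
  exact lTensor_injective_of_flat_quotient (a : Type u)
    ((ModuleCat.mono_iff_injective _).1 hS.mono_f) ((ModuleCat.epi_iff_surjective _).1 hS.epi_g)
    ((ShortComplex.ShortExact.moduleCat_exact_iff_function_exact S).1 hS.exact)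

lemma shortExact_eval_tensor {S : ShortComplex (DRing.Cx R)} (hS : S.ShortExact)
    (h3 : DRing.TermwiseFlat S.X₃) (a : ModuleCat.{u} R) (q : ℤ) :
    ((S.map (HomologicalComplex.eval _ (ComplexShape.up ℤ) q)).map ((modT R).obj a)).ShortExact := by
  haveI : Module.Flat R (S.map (HomologicalComplex.eval _ (ComplexShape.up ℤ) q)).X₃ := h3 q
  exact shortExact_tensor_of_flat (hS.map_of_exact _) a

/-- Bounded above complexes of flat modules are K-flat. -/
theorem isKFlatFor_of_flat (P : DRing.Cx R) (b : ℤ) (hb : DRing.VanishesAbove P b)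
    (hP : DRing.TermwiseFlat P) : IsKFlatFor (modT R) P := by
  haveI : ∀ a, PreservesColimitsOfShape ℕ ((modT R).obj a) := fun a =>
    inferInstanceAs (PreservesColimitsOfShape ℕ (tensorLeft a))
  refine isKFlatFor_of_boundedAbove P b hb fun n => ⟨?_, inferInstance⟩
  haveI := hP n
  exact preservesFiniteLimits_flip_of_flat (P.X n)

/-- Colimits of K-flat complexes of modules are K-flat (filtered). -/
theorem isKFlatFor_colimit {J : Type u} [SmallCategory J] [IsFiltered J] {F : J ⥤ DRing.Cx R}
    {c : Cocone F} (hc : IsColimit c) (h : ∀ j, IsKFlatFor (modT R) (F.obj j)) :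
    IsKFlatFor (modT R) c.pt := by
  haveI : ∀ a, PreservesColimitsOfShape J ((modT R).obj a) := fun a =>
    inferInstanceAs (PreservesColimitsOfShape J (tensorLeft a))
  exact IsKFlatFor.colimit (fun a q => isColimitOfPreserves ((modT R).obj a)
    (isColimitOfPreserves (HomologicalComplex.eval _ (ComplexShape.up ℤ) q) hc)) h

/-- Symmetry of the tensor product of complexes. -/
noncomputable def totSymm (M K : DRing.Cx R) : tot (modT R) M K ≅ tot (modT R) K M :=
  (mapTotIso (modT R) ((modT R).flip) (𝟭 _) (𝟭 _) (𝟭 _) (fun a b => β_ a b)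
    (fun f b => (BraidedCategory.braiding_naturality_left f b))
    (fun a _ _ g => (BraidedCategory.braiding_naturality_right a g)) M K :) ≪≫
    mapBifunctorFlipIso K M (modT R) (ComplexShape.up ℤ)

lemma totSymm_natural {M M' K K' : DRing.Cx R} (f : M ⟶ M') (g : K ⟶ K') :
    mapBifunctorMap f g (modT R) (ComplexShape.up ℤ) ≫ (totSymm M' K').hom =
      (totSymm M K).hom ≫ mapBifunctorMap g f (modT R) (ComplexShape.up ℤ) := by
  have h₁ := mapTotHom_natural (T := modT R) (T' := (modT R).flip) (F := 𝟭 _) (H := 𝟭 _) (G := 𝟭 _)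
    (α := fun a b => β_ a b) (fun f b => (BraidedCategory.braiding_naturality_left f b))
    (fun a _ _ g => (BraidedCategory.braiding_naturality_right a g)) f g
  dsimp only [totSymm, Iso.trans_hom]
  rw [Category.assoc, ← mapBifunctorFlipIso_hom_naturality]
  exact (Category.assoc _ _ _).symm.trans ((congrArg (· ≫ _) h₁).trans (Category.assoc _ _ _))

/-- Two out of three in the homotopy category. -/
theorem isKFlatFor_triangle
    {T : Pretriangulated.Triangle (HomotopyCategory (ModuleCat.{u} R) (ComplexShape.up ℤ))}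
    (hT : T ∈ Pretriangulated.distinguishedTriangles) :
    (IsKFlatFor (modT R) T.obj₁.as → IsKFlatFor (modT R) T.obj₂.as → IsKFlatFor (modT R) T.obj₃.as) ∧
    (IsKFlatFor (modT R) T.obj₁.as → IsKFlatFor (modT R) T.obj₃.as → IsKFlatFor (modT R) T.obj₂.as) ∧
    (IsKFlatFor (modT R) T.obj₂.as → IsKFlatFor (modT R) T.obj₃.as → IsKFlatFor (modT R) T.obj₁.as) := by
  obtain ⟨S, σ, ⟨e⟩⟩ := (HomotopyCategory.distinguished_iff_iso_trianglehOfDegreewiseSplit T).1 hT
  have key : ∀ {K L : DRing.Cx R}, ((HomotopyCategory.quotient _ _).obj K ≅ (HomotopyCategory.quotient _ _).obj L) →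
      IsKFlatFor (modT R) K → IsKFlatFor (modT R) L :=
    fun i h => h.of_homotopyEquiv (HomotopyCategory.homotopyEquivOfIso i)
  have hS := fun a q => shortExact_map_of_splitting (T := modT R) (fun n => ⟨σ n⟩) a q
  let e₁ := Pretriangulated.Triangle.π₁.mapIso e
  let e₂ := Pretriangulated.Triangle.π₂.mapIso e
  let e₃ := Pretriangulated.Triangle.π₃.mapIso e
  exact ⟨fun h₁ h₂ => key e₃.symm ((key e₁ h₁).ext₃ hS (key e₂ h₂)),
    fun h₁ h₃ => key e₂.symm ((key e₁ h₁).ext₂ hS (key e₃ h₃)),
    fun h₂ h₃ => key e₁.symm ((key e₂ h₂).ext₁ hS (key e₃ h₃))⟩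

end Groth.Agent.DCat
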