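import Groth.Agent.DCat.PullPush
import Groth.Agent.S6906
import Mathlib.CategoryTheory.Adjunction.Unique

/-! Composition of derived pullbacks and pushforwards. -/

set_option autoImplicit false
set_option backward.isDefEq.respectTransparency false
set_option backward.defeqAttrib.useBackward true
set_option linter.style.haveILetI false

universe u

open CategoryTheory CategoryTheory.Limits AlgebraicGeometry Groth.Agent.ModStalk HomologicalComplex

attribute [local instance] HasDerivedCategory.standard

namespace Groth.Agent.DCat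

variable {X Y Z : Scheme.{u}} (f : X ⟶ Y) (g : Y ⟶ Z)

/-- Pullback preserves K-flat complexes. -/
lemma kflatObj_pullback (K : HomotopyCategory Z.Modules (ComplexShape.up ℤ)) (hK : kflatObj Z K) :
    kflatObj Y (((Scheme.Modules.pullback g).mapHomotopyCategory (ComplexShape.up ℤ)).obj K) := by
  refine (isKFlatFor_iff_stalks _).2 fun x => ?_
  have h' := (isKFlat_iff _).1 (Groth.Agent.S6906.result _ _ (g.stalkMap x).hom _
    ((isKFlat_iff _).2 ((isKFlatFor_iff_stalks K.as).1 hK (g.base x))))
  exact h'.of_iso (Hom.isoOfComponents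
    (fun n => ((pullbackStalkIso g x).app (K.as.X n)).symm)
    (fun i j _ => ((pullbackStalkIso g x).inv.naturality (K.as.d i j)).symm))

/-- Composition of pullbacks on homotopy categories. -/
noncomputable def pullHotComp :
    (Scheme.Modules.pullback g).mapHomotopyCategory (ComplexShape.up ℤ) ⋙
        (Scheme.Modules.pullback f).mapHomotopyCategory (ComplexShape.up ℤ) ≅
      (Scheme.Modules.pullback (f ≫ g)).mapHomotopyCategory (ComplexShape.up ℤ) :=
  NatIso.ofComponents (fun K => (HomotopyCategory.quotient X.Modules (ComplexShape.up ℤ)).mapIso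
    (Hom.isoOfComponents (fun n => (Scheme.Modules.pullbackComp f g).app (K.as.X n))
      (fun i j _ => ((Scheme.Modules.pullbackComp f g).hom.naturality (K.as.d i j)).symm)))
    fun {K L} u => by
      obtain ⟨K⟩ := K
      obtain ⟨L⟩ := L
      obtain ⟨u, rfl⟩ := (HomotopyCategory.quotient Z.Modules (ComplexShape.up ℤ)).map_surjective u
      change (HomotopyCategory.quotient X.Modules (ComplexShape.up ℤ)).map _ ≫ _ =
        _ ≫ (HomotopyCategory.quotient X.Modules (ComplexShape.up ℤ)).map _
      refine ((HomotopyCategory.quotient X.Modules (ComplexShape.up ℤ)).map_comp _ _).symm.trans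
        ((congrArg (HomotopyCategory.quotient X.Modules (ComplexShape.up ℤ)).map ?_).trans
          ((HomotopyCategory.quotient X.Modules (ComplexShape.up ℤ)).map_comp _ _))
      ext n : 1
      exact (Scheme.Modules.pullbackComp f g).hom.naturality (u.f n)

/-- Composition of derived pullbacks. -/
theorem nonempty_LpullComp [DCoh.HasLpull f] [DCoh.HasLpull g] [DCoh.HasLpull (f ≫ g)] :
    Nonempty (DCoh.Lpull g ⋙ DCoh.Lpull f ≅ DCoh.Lpull (f ≫ g)) := by
  let W := fun S : Scheme.{u} => HomotopyCategory.quasiIso S.Modules (ComplexShape.up ℤ)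
  let αf := (DCoh.pullKh f).totalLeftDerivedCounit DerivedCategory.Qh (W Y)
  let αg := (DCoh.pullKh g).totalLeftDerivedCounit DerivedCategory.Qh (W Z)
  let α := (DCoh.pullKh (f ≫ g)).totalLeftDerivedCounit DerivedCategory.Qh (W Z)
  let β : DerivedCategory.Qh ⋙ (DCoh.Lpull g ⋙ DCoh.Lpull f) ⟶ DCoh.pullKh (f ≫ g) :=
    (Functor.associator _ _ _).inv ≫ Functor.whiskerRight αg (DCoh.Lpull f) ≫
      (Functor.associator _ _ _).hom ≫
      Functor.whiskerLeft ((Scheme.Modules.pullback g).mapHomotopyCategory (ComplexShape.up ℤ)) αf ≫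
      (Functor.associator _ _ _).inv ≫ Functor.whiskerRight (pullHotComp f g).hom DerivedCategory.Qh
  haveI : (DCoh.Lpull g ⋙ DCoh.Lpull f).IsLeftDerivedFunctor β (W Z) :=
    isLeftDerived_of_isIso exists_kflat_hot (isIso_pullKh_of_kflat (f ≫ g)) β fun K hK => by
      haveI := isIso_counit_of_mem exists_kflat_hot (isIso_pullKh_of_kflat g) αg hK
      haveI := isIso_counit_of_mem exists_kflat_hot (isIso_pullKh_of_kflat f) αf (kflatObj_pullback g K hK)
      haveI : IsIso ((Functor.whiskerRight αg (DCoh.Lpull f)).app K) :=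
        Functor.map_isIso (DCoh.Lpull f) (αg.app K)
      haveI : IsIso ((Functor.whiskerLeft ((Scheme.Modules.pullback g).mapHomotopyCategory (ComplexShape.up ℤ)) αf).app K) := ‹_›
      haveI : IsIso ((Functor.whiskerRight (pullHotComp f g).hom DerivedCategory.Qh).app K) :=
        Functor.map_isIso DerivedCategory.Qh ((pullHotComp f g).hom.app K)
      simp only [β, NatTrans.comp_app]
      infer_instance
  exact ⟨Functor.leftDerivedUnique _ _ β α (W Z)⟩

/-- Composition of derived pushforwards. -/
theorem nonempty_RpushComp [DCoh.HasRpush f] [DCoh.HasRpush g] [DCoh.HasRpush (f ≫ g)] :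
    Nonempty (DCoh.Rpush f ⋙ DCoh.Rpush g ≅ DCoh.Rpush (f ≫ g)) := by
  haveI := hasLpull f
  haveI := hasLpull g
  haveI := hasLpull (f ≫ g)
  obtain ⟨a₁⟩ := nonempty_pullPushAdj f
  obtain ⟨a₂⟩ := nonempty_pullPushAdj g
  obtain ⟨a⟩ := nonempty_pullPushAdj (f ≫ g)
  obtain ⟨e⟩ := nonempty_LpullComp f g
  exact ⟨((a₂.comp a₁).ofNatIsoLeft e).rightAdjointUniq a⟩

end Groth.Agent.DCat
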