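import Groth.Agent.DCat.Derived
import Mathlib.CategoryTheory.Functor.Derived.Adjunction
import Mathlib.Algebra.Homology.HomotopyCategory

/-! Derived adjunctions from deformations. -/

set_option autoImplicit false
set_option backward.isDefEq.respectTransparency false
set_option backward.defeqAttrib.useBackward true
set_option linter.style.haveILetI false

universe v₁ v₂ v₃ v₄ u₁ u₂ u₃ u₄

open CategoryTheory CategoryTheory.Limits

namespace Groth.Agent.DCat

section Homotopy

variable {A : Type u₁} [Category.{v₁} A] [Preadditive A] {B : Type u₂} [Category.{v₂} B] [Preadditive B]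
  {G : A ⥤ B} {F : B ⥤ A} [G.Additive] [F.Additive] {ι : Type*} (c : ComplexShape ι)

/-- The adjunction on homotopy categories. -/
noncomputable def adjHot (adj : G ⊣ F) : G.mapHomotopyCategory c ⊣ F.mapHomotopyCategory c where
  unit :=
    { app := fun K => (HomotopyCategory.quotient A c).map
        { f := fun n => adj.unit.app (K.as.X n), comm' := fun i j _ => (adj.unit.naturality (K.as.d i j)).symm }
      naturality := fun K L g => by
        obtain ⟨K⟩ := K
        obtain ⟨L⟩ := L
        obtain ⟨g, rfl⟩ := (HomotopyCategory.quotient A c).map_surjective g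
        change (HomotopyCategory.quotient A c).map g ≫ _ = _ ≫ (HomotopyCategory.quotient A c).map
          ((F.mapHomologicalComplex c).map ((G.mapHomologicalComplex c).map g))
        erw [← Functor.map_comp, ← Functor.map_comp]
        congr 1
        ext n
        exact adj.unit.naturality (g.f n) }
  counit :=
    { app := fun K => (HomotopyCategory.quotient B c).map
        { f := fun n => adj.counit.app (K.as.X n), comm' := fun i j _ => (adj.counit.naturality (K.as.d i j)).symm }
      naturality := fun K L g => by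
        obtain ⟨K⟩ := K
        obtain ⟨L⟩ := L
        obtain ⟨g, rfl⟩ := (HomotopyCategory.quotient B c).map_surjective g
        change (HomotopyCategory.quotient B c).map
          ((G.mapHomologicalComplex c).map ((F.mapHomologicalComplex c).map g)) ≫ _ =
            _ ≫ (HomotopyCategory.quotient B c).map g
        erw [← Functor.map_comp, ← Functor.map_comp]
        congr 1
        ext n
        exact adj.counit.naturality (g.f n) }
  left_triangle_components K := by
    change (HomotopyCategory.quotient B c).map ((G.mapHomologicalComplex c).map _) ≫ _ = _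
    erw [← Functor.map_comp, ← (HomotopyCategory.quotient B c).map_id]
    congr 1
    ext n
    exact adj.left_triangle_components (K.as.X n)
  right_triangle_components K := by
    change _ ≫ (HomotopyCategory.quotient A c).map ((F.mapHomologicalComplex c).map _) = _
    dsimp only
    refine ((HomotopyCategory.quotient A c).map_comp _ _).symm.trans
      ((congrArg (HomotopyCategory.quotient A c).map ?_).trans ((HomotopyCategory.quotient A c).map_id _))
    ext n
    exact adj.right_triangle_components (K.as.X n)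

end Homotopy

section Derived

variable {C₁ : Type u₁} {C₂ : Type u₂} {D₁ : Type u₃} {D₂ : Type u₄} [Category.{v₁} C₁]
  [Category.{v₂} C₂] [Category.{v₃} D₁] [Category.{v₄} D₂]
  {G : C₁ ⥤ C₂} {F : C₂ ⥤ C₁} (adj : G ⊣ F)
  (L₁ : C₁ ⥤ D₁) (L₂ : C₂ ⥤ D₂) (W₁ : MorphismProperty C₁) (W₂ : MorphismProperty C₂)
  [L₁.IsLocalization W₁] [L₂.IsLocalization W₂]
  [W₁.HasRightCalculusOfFractions] [W₂.HasLeftCalculusOfFractions]
  {P₁ : ObjectProperty C₁} {P₂ : ObjectProperty C₂}
  (h₁ : ∀ X : C₁, ∃ (X' : C₁) (s : X' ⟶ X), P₁ X' ∧ W₁ s)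
  (hG : ∀ ⦃X Y : C₁⦄ (s : X ⟶ Y), P₁ X → P₁ Y → W₁ s → IsIso ((G ⋙ L₂).map s))
  (h₂ : ∀ X : C₂, ∃ (X' : C₂) (s : X ⟶ X'), P₂ X' ∧ W₂ s)
  (hF : ∀ ⦃X Y : C₂⦄ (s : X ⟶ Y), P₂ X → P₂ Y → W₂ s → IsIso ((F ⋙ L₁).map s))
  [(G ⋙ L₂).HasLeftDerivedFunctor W₁] [(F ⋙ L₁).HasRightDerivedFunctor W₂]

include adj h₁ hG h₂ hF in
/-- Total derived functors of adjoint functors are adjoint, given deformations. -/
theorem nonempty_derivedAdj :
    Nonempty ((G ⋙ L₂).totalLeftDerived L₁ W₁ ⊣ (F ⋙ L₁).totalRightDerived L₂ W₂) := by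
  let α := (G ⋙ L₂).totalLeftDerivedCounit L₁ W₁
  let β := (F ⋙ L₁).totalRightDerivedUnit L₂ W₂
  have hG' : ∀ ⦃X Y : C₁⦄ (s : X ⟶ Y), P₁ X → P₁ Y → W₁ s →
      IsIso (((G ⋙ L₂) ⋙ (F ⋙ L₁).totalRightDerived L₂ W₂).map s) := fun X Y s hX hY hs => by
    haveI := hG s hX hY hs
    exact Functor.map_isIso _ ((G ⋙ L₂).map s)
  have hF' : ∀ ⦃X Y : C₂⦄ (s : X ⟶ Y), P₂ X → P₂ Y → W₂ s →
      IsIso (((F ⋙ L₁) ⋙ (G ⋙ L₂).totalLeftDerived L₁ W₁).map s) := fun X Y s hX hY hs => by
    haveI := hF s hX hY hs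
    exact Functor.map_isIso _ ((F ⋙ L₁).map s)
  haveI : (((G ⋙ L₂).totalLeftDerived L₁ W₁) ⋙ (F ⋙ L₁).totalRightDerived L₂ W₂).IsLeftDerivedFunctor
      ((Functor.associator _ _ _).inv ≫ Functor.whiskerRight α _) W₁ :=
    isLeftDerived_of_isIso h₁ hG' _ fun X hX => by
      haveI := isIso_counit_of_mem h₁ hG α hX
      dsimp
      infer_instance
  haveI : (((F ⋙ L₁).totalRightDerived L₂ W₂) ⋙ (G ⋙ L₂).totalLeftDerived L₁ W₁).IsRightDerivedFunctor
      (Functor.whiskerRight β _ ≫ (Functor.associator _ _ _).hom) W₂ :=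
    isRightDerived_of_isIso h₂ hF' _ fun X hX => by
      haveI := isIso_unit_of_mem h₂ hF β hX
      dsimp
      infer_instance
  exact ⟨adj.derived W₁ W₂ α β⟩

end Derived

end Groth.Agent.DCat
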