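import Mathlib.Algebra.Homology.HomotopyCategory.KInjective
import Mathlib.Algebra.Homology.HomologicalComplexLimits
import Mathlib.Algebra.Homology.HomotopyCategory.MappingCone
import Mathlib.CategoryTheory.Limits.Shapes.Products

/-! Products and coproducts in homotopy categories. -/

set_option autoImplicit false
set_option backward.isDefEq.respectTransparency false
set_option backward.defeqAttrib.useBackward true

universe t v u

open CategoryTheory CategoryTheory.Limits

namespace Groth.Agent.DCat

variable {A : Type u} [Category.{v} A] [Abelian A] {T : Type t}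

/-- A map into a product is null-homotopic as soon as its components are. -/
lemma nonempty_homotopy_zero_fan {I : T → CochainComplex A ℤ} {c : Fan I} (hc : IsLimit c)
    {K : CochainComplex A ℤ} (f : K ⟶ c.pt) (h : ∀ t, Nonempty (Homotopy (f ≫ c.proj t) 0)) :
    Nonempty (Homotopy f 0) := by
  let ψ : CochainComplex.mappingCone (𝟙 K) ⟶ c.pt := Fan.IsLimit.lift hc fun t =>
    HomologicalComplex.homotopyCofiber.desc (𝟙 K) (f ≫ c.proj t) ((Homotopy.ofEq (Category.id_comp _)).trans (h t).some)
  have hψ : CochainComplex.mappingCone.inr (𝟙 K) ≫ ψ = f := Fan.IsLimit.hom_ext hc _ _ fun t => by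
    rw [Category.assoc, Fan.IsLimit.fac]
    exact HomologicalComplex.homotopyCofiber.inr_desc _ _ _
  exact ⟨((Homotopy.ofEq (by rw [Category.id_comp]; exact hψ.symm :
      f = (𝟙 K ≫ CochainComplex.mappingCone.inr (𝟙 K)) ≫ ψ))).trans
    (((HomologicalComplex.homotopyCofiber.inrCompHomotopy (𝟙 K) (fun j => ⟨j - 1, by simp⟩)).compRight ψ).trans
      (Homotopy.ofEq zero_comp))⟩

lemma isKInjective_pi {I : T → CochainComplex A ℤ} {c : Fan I} (hc : IsLimit c)
    (h : ∀ t, (I t).IsKInjective) : CochainComplex.IsKInjective c.pt where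
  nonempty_homotopy_zero {K} f hK := nonempty_homotopy_zero_fan hc f fun t =>
    (h t).nonempty_homotopy_zero _ hK

lemma quotient_map_eq_zero_iff {K L : CochainComplex A ℤ} (f : K ⟶ L) :
    (HomotopyCategory.quotient A (ComplexShape.up ℤ)).map f = 0 ↔ Nonempty (Homotopy f 0) := by
  refine ⟨fun h => ⟨HomotopyCategory.homotopyOfEq _ _ (by simpa using h)⟩, fun ⟨h⟩ => ?_⟩
  simpa using HomotopyCategory.eq_of_homotopy _ _ h

/-- The quotient functor to the homotopy category preserves products. -/
noncomputable def isLimitFanQuotient {I : T → CochainComplex A ℤ} {c : Fan I} (hc : IsLimit c) :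
    IsLimit (Fan.mk ((HomotopyCategory.quotient A (ComplexShape.up ℤ)).obj c.pt)
      (fun t => (HomotopyCategory.quotient A (ComplexShape.up ℤ)).map (c.proj t))) :=
  Fan.IsLimit.mk _
    (fun s => (HomotopyCategory.quotient A (ComplexShape.up ℤ)).map
      (Fan.IsLimit.lift hc fun t => (HomotopyCategory.quotient A (ComplexShape.up ℤ)).preimage
        (X := s.pt.as) (Y := I t) (s.proj t)))
    (fun s t => by
      dsimp
      rw [← Functor.map_comp, Fan.IsLimit.fac, Functor.map_preimage])
    (fun s m hm => by
      obtain ⟨m', rfl⟩ := (HomotopyCategory.quotient A (ComplexShape.up ℤ)).map_surjective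
        (X := s.pt.as) (Y := c.pt) m
      rw [← sub_eq_zero, ← Functor.map_sub, quotient_map_eq_zero_iff]
      refine nonempty_homotopy_zero_fan hc _ fun t => ?_
      rw [← quotient_map_eq_zero_iff, Preadditive.sub_comp, Functor.map_sub, sub_eq_zero,
        Fan.IsLimit.fac, Functor.map_preimage, Functor.map_comp]
      exact hm t)

instance hasProductsOfShape_homotopyCategory [HasLimitsOfShape (Discrete T) A] :
    HasLimitsOfShape (Discrete T) (HomotopyCategory A (ComplexShape.up ℤ)) where
  has_limit F :=
    haveI : HasProduct (fun t => F.obj ⟨t⟩) :=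
      HasLimit.mk ⟨_, isLimitFanQuotient (limit.isLimit
        (Discrete.functor fun t => (F.obj ⟨t⟩).as))⟩
    hasLimit_of_iso (Discrete.natIso (fun ⟨t⟩ => Iso.refl _) : Discrete.functor (fun t => F.obj ⟨t⟩) ≅ F)

variable [HasColimitsOfShape (Discrete T) A]

/-- A map out of a coproduct is null-homotopic as soon as its components are. -/
lemma nonempty_homotopy_zero_cofan {K : T → CochainComplex A ℤ} {c : Cofan K} (hc : IsColimit c)
    {L : CochainComplex A ℤ} (f : c.pt ⟶ L) (h : ∀ t, Nonempty (Homotopy (c.inj t ≫ f) 0)) :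
    Nonempty (Homotopy f 0) := by
  let hc' := fun i => isColimitCofanMkObjOfIsColimit (HomologicalComplex.eval A (ComplexShape.up ℤ) i)
    K (fun t => c.inj t) (IsColimit.ofIsoColimit hc (Cocone.ext (Iso.refl _) (fun ⟨t⟩ => by simp [Cofan.inj])))
  refine ⟨
    { hom := fun i j => Cofan.IsColimit.desc (hc' i) fun t => (h t).some.hom i j
      zero := fun i j hij => Cofan.IsColimit.hom_ext (hc' i) _ _ fun t => by
        rw [Cofan.IsColimit.fac, comp_zero, (h t).some.zero i j hij]
      comm := fun i => Cofan.IsColimit.hom_ext (hc' i) _ _ fun t => ?_ }⟩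
  have := (h t).some.comm i
  rw [dNext_eq _ (show (ComplexShape.up ℤ).Rel i (i + 1) by simp),
    prevD_eq _ (show (ComplexShape.up ℤ).Rel (i - 1) i by simp), HomologicalComplex.zero_f,
    add_zero, HomologicalComplex.comp_f] at this
  rw [dNext_eq _ (show (ComplexShape.up ℤ).Rel i (i + 1) by simp),
    prevD_eq _ (show (ComplexShape.up ℤ).Rel (i - 1) i by simp), HomologicalComplex.zero_f,
    add_zero]
  have e : ∀ i j, (c.inj t).f i ≫ Cofan.IsColimit.desc (hc' i) (fun t => (h t).some.hom i j) =
      (h t).some.hom i j := fun i j => Cofan.IsColimit.fac (hc' i) _ t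
  change (c.inj t).f i ≫ f.f i = (c.inj t).f i ≫ _
  rw [this, Preadditive.comp_add, HomologicalComplex.Hom.comm_assoc]
  congr 1
  · rw [e]
  · rw [← Category.assoc, e]

/-- The quotient functor to the homotopy category preserves coproducts. -/
noncomputable def isColimitCofanQuotient {K : T → CochainComplex A ℤ} {c : Cofan K} (hc : IsColimit c) :
    IsColimit (Cofan.mk ((HomotopyCategory.quotient A (ComplexShape.up ℤ)).obj c.pt)
      (fun t => (HomotopyCategory.quotient A (ComplexShape.up ℤ)).map (c.inj t))) :=
  Cofan.IsColimit.mk _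
    (fun s => (HomotopyCategory.quotient A (ComplexShape.up ℤ)).map
      (Cofan.IsColimit.desc hc fun t => (HomotopyCategory.quotient A (ComplexShape.up ℤ)).preimage
        (X := K t) (Y := s.pt.as) (s.inj t)))
    (fun s t => by
      dsimp
      rw [← Functor.map_comp, Cofan.IsColimit.fac, Functor.map_preimage])
    (fun s m hm => by
      obtain ⟨m', rfl⟩ := (HomotopyCategory.quotient A (ComplexShape.up ℤ)).map_surjective
        (X := c.pt) (Y := s.pt.as) m
      rw [← sub_eq_zero, ← Functor.map_sub, quotient_map_eq_zero_iff]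
      refine nonempty_homotopy_zero_cofan hc _ fun t => ?_
      rw [← quotient_map_eq_zero_iff, Preadditive.comp_sub, Functor.map_sub, sub_eq_zero,
        Cofan.IsColimit.fac, Functor.map_preimage, Functor.map_comp]
      exact hm t)

instance hasCoproductsOfShape_homotopyCategory :
    HasColimitsOfShape (Discrete T) (HomotopyCategory A (ComplexShape.up ℤ)) where
  has_colimit F :=
    haveI : HasCoproduct (fun t => F.obj ⟨t⟩) :=
      HasColimit.mk ⟨_, isColimitCofanQuotient (colimit.isColimit
        (Discrete.functor fun t => (F.obj ⟨t⟩).as))⟩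
    hasColimit_of_iso (Discrete.natIso (fun ⟨t⟩ => Iso.refl _) : F ≅ Discrete.functor (fun t => F.obj ⟨t⟩))

end Groth.Agent.DCat
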