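import Mathlib.Algebra.Homology.HomotopyCategory.KInjective
import Mathlib.Algebra.Homology.HomotopyCategory.DegreewiseSplit
import Mathlib.Algebra.Homology.HomotopyCategory.Acyclic
import Mathlib.Algebra.Homology.HomologicalComplexAbelian
import Mathlib.Algebra.Homology.HomologySequenceLemmas
import Mathlib.Algebra.Homology.Double
import Mathlib.Algebra.Homology.SingleHomology
import Mathlib.CategoryTheory.Preadditive.Injective.Basic
import Mathlib.CategoryTheory.LiftingProperties.Basic

/-! K-injective complexes with injective terms via lifting properties. -/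

set_option autoImplicit false
set_option backward.isDefEq.respectTransparency false
set_option backward.defeqAttrib.useBackward true

universe v u

open CategoryTheory CategoryTheory.Limits HomologicalComplex CochainComplex
  CochainComplex.HomComplex

namespace Groth.Agent.DCat

variable {A : Type u} [Category.{v} A] [Abelian A]

lemma acyclic_shift {K : CochainComplex A ℤ} (h : K.Acyclic) (n : ℤ) :
    ((CategoryTheory.shiftFunctor (CochainComplex A ℤ) n).obj K).Acyclic := by
  rw [← HomotopyCategory.quotient_obj_mem_subcategoryAcyclic_iff_acyclic] at h ⊢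
  exact (HomotopyCategory.subcategoryAcyclic A).prop_of_iso
    (((HomotopyCategory.quotient A (ComplexShape.up ℤ)).commShiftIso n).app K).symm
    (ObjectProperty.le_shift _ n _ h)

lemma rel_succ' (n : ℤ) : (ComplexShape.up ℤ).Rel n (n + 1) := by simp

/-- The disk is acyclic. -/
lemma acyclic_double_id (X : A) (n : ℤ) :
    (HomologicalComplex.double (𝟙 X) (rel_succ' n)).Acyclic := by
  intro k
  rw [(HomologicalComplex.double (𝟙 X) (rel_succ' n)).exactAt_iff' (k - 1) k (k + 1) (by simp) (by simp),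
    ShortComplex.exact_iff_kernel_ι_comp_cokernel_π_zero]
  dsimp
  by_cases h₀ : k = n
  · subst h₀
    have : IsIso ((HomologicalComplex.double (𝟙 X) (rel_succ' k)).d k (k + 1)) := by
      rw [double_d _ _ (by omega)]
      infer_instance
    rw [(IsZero.eq_of_src (isZero_kernel_of_mono _) (kernel.ι _) 0), zero_comp]
  · by_cases h₁ : k = n + 1
    · subst h₁
      have : Epi ((HomologicalComplex.double (𝟙 X) (rel_succ' n)).d (n + 1 - 1) (n + 1)) := by
        have e : n + 1 - 1 = n := by omega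
        rw [e, double_d _ _ (by omega)]
        infer_instance
      rw [cokernel.π_of_epi, comp_zero]
    · rw [(isZero_double_X _ _ k h₀ h₁).eq_of_tgt (kernel.ι _) 0, zero_comp]


/-- Maps to a disk are maps to its top degree. -/
lemma exists_toDisk {K : CochainComplex A ℤ} (J : A) (n : ℤ) (φ : K.X (n + 1) ⟶ J) :
    ∃ ψ : K ⟶ HomologicalComplex.double (𝟙 J) (rel_succ' n),
      ψ.f (n + 1) ≫ (doubleXIso₁ (𝟙 J) (rel_succ' n) (by omega)).hom = φ := by
  classical
  refine ⟨
    { f := fun k =>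
        if hk₀ : k = n then
          (K.XIsoOfEq hk₀).hom ≫ K.d n (n + 1) ≫ φ ≫ (doubleXIso₀ (𝟙 J) (rel_succ' n)).inv ≫
            ((HomologicalComplex.double (𝟙 J) (rel_succ' n)).XIsoOfEq hk₀).inv
        else if hk₁ : k = n + 1 then
          (K.XIsoOfEq hk₁).hom ≫ φ ≫ (doubleXIso₁ (𝟙 J) (rel_succ' n) (by omega)).inv ≫
            ((HomologicalComplex.double (𝟙 J) (rel_succ' n)).XIsoOfEq hk₁).inv
        else 0
      comm' := ?_ }, by simp⟩
  intro i j hij
  simp only [ComplexShape.up_Rel] at hij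
  subst hij
  by_cases h₀ : i = n
  · subst h₀
    simp [double_d _ (rel_succ' i) (show i ≠ i + 1 by omega)]
  · rw [double_d_eq_zero₀ _ _ _ _ h₀, comp_zero]
    by_cases h₁ : i + 1 = n
    · subst h₁
      simp
    · rw [dif_neg h₁, dif_neg (by omega), comp_zero]

lemma toDisk_ext {K : CochainComplex A ℤ} {J : A} {n : ℤ}
    {ψ ψ' : K ⟶ HomologicalComplex.double (𝟙 J) (rel_succ' n)}
    (h : ψ.f (n + 1) ≫ (doubleXIso₁ (𝟙 J) (rel_succ' n) (by omega)).hom =
      ψ'.f (n + 1) ≫ (doubleXIso₁ (𝟙 J) (rel_succ' n) (by omega)).hom) : ψ = ψ' := by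
  rw [cancel_mono] at h
  have hiso : IsIso ((HomologicalComplex.double (𝟙 J) (rel_succ' n)).d n (n + 1)) := by
    rw [double_d _ _ (by omega)]
    infer_instance
  apply to_double_hom_ext ?_ h
  rw [← cancel_mono ((HomologicalComplex.double (𝟙 J) (rel_succ' n)).d n (n + 1)), Hom.comm, Hom.comm, h]

/-- The projection of a disk onto its bottom degree. -/
noncomputable def projection (J : A) (m : ℤ) :
    HomologicalComplex.double (𝟙 J) (rel_succ' m) ⟶ (single A (ComplexShape.up ℤ) m).obj J :=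
  mkHomToSingle (doubleXIso₀ (𝟙 J) (rel_succ' m)).hom
    (fun i hi => by rw [double_d_eq_zero₁ _ _ _ _ (by omega), zero_comp])

/-- A lift through the projection is a null homotopy of the map to the single complex. -/
lemma d_comp_toDisk_projection {K : CochainComplex A ℤ} (J : A) (m : ℤ)
    (l : K ⟶ HomologicalComplex.double (𝟙 J) (rel_succ' m))
    (b : K ⟶ (single A (ComplexShape.up ℤ) m).obj J) (hb : l ≫ projection J m = b)
    (φ : K.X m ⟶ J) (hφ : b.f m = φ ≫ (singleObjXSelf (ComplexShape.up ℤ) m J).inv) :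
    K.d m (m + 1) ≫ l.f (m + 1) ≫ (doubleXIso₁ (𝟙 J) (rel_succ' m) (by omega)).hom = φ := by
  subst hb
  rw [comp_f, show (projection J m).f m = (doubleXIso₀ (𝟙 J) (rel_succ' m)).hom ≫
    (singleObjXSelf (ComplexShape.up ℤ) m J).inv from mkHomToSingle_f _ _, ← Category.assoc,
    cancel_mono] at hφ
  rw [← hφ, ← Hom.comm_assoc, double_d _ _ (by omega)]
  simp

/-- The map of disks. -/
noncomputable def doubleMap {X Y : A} (f : X ⟶ Y) (n : ℤ) :
    HomologicalComplex.double (𝟙 X) (rel_succ' n) ⟶ HomologicalComplex.double (𝟙 Y) (rel_succ' n) :=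
  mkHomFromDouble _ (by omega) (f ≫ (doubleXIso₀ (𝟙 Y) (rel_succ' n)).inv)
    (f ≫ (doubleXIso₁ (𝟙 Y) (rel_succ' n) (by omega)).inv)
    (by simp [double_d _ (rel_succ' n) (show n ≠ n + 1 by omega)])
    (fun k _ => by rw [double_d_eq_zero₀ _ _ _ _ (by omega), comp_zero])

instance {X Y : A} (f : X ⟶ Y) [Mono f] (n : ℤ) : Mono (doubleMap f n) := by
  apply +allowSynthFailures mono_of_mono_f
  intro k
  by_cases h₀ : k = n
  · subst h₀
    dsimp [doubleMap]
    rw [mkHomFromDouble_f₀]
    infer_instance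
  · by_cases h₁ : k = n + 1
    · subst h₁
      dsimp [doubleMap]
      rw [mkHomFromDouble_f₁]
      infer_instance
    · exact ⟨fun g h _ => (isZero_double_X _ _ k h₀ h₁).eq_of_tgt g h⟩

/-- Extension along monomorphisms with acyclic cokernel characterises K-injective complexes with
injective terms. -/
theorem lifting_of_isKInjective (I : CochainComplex A ℤ) [I.IsKInjective] (hI : ∀ n, Injective (I.X n))
    {S : ShortComplex (CochainComplex A ℤ)} (hS : S.ShortExact) (hC : S.X₃.Acyclic) (φ : S.X₁ ⟶ I) :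
    ∃ ψ : S.X₂ ⟶ I, S.f ≫ ψ = φ := by
  have := hS.mono_f
  have := hS.epi_g
  let ψ₀ : ∀ p, S.X₂.X p ⟶ I.X p := fun p =>
    haveI := hI p
    Injective.factorThru (φ.f p) (S.f.f p)
  have hψ₀ : ∀ p, S.f.f p ≫ ψ₀ p = φ.f p := fun p =>
    haveI := hI p
    Injective.comp_factorThru _ _
  have hex : ∀ p, (S.map (HomologicalComplex.eval A (ComplexShape.up ℤ) p)).Exact := fun p =>
    hS.exact.map _
  have hepi : ∀ p, Epi ((S.map (HomologicalComplex.eval A (ComplexShape.up ℤ) p)).g) := fun p =>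
    inferInstanceAs (Epi (S.g.f p))
  have hdesc : ∀ (p q : ℤ), ∀ hpq : p + 1 = q, ∃ z : S.X₃.X p ⟶ I.X q,
      S.g.f p ≫ z = (δ 0 1 (Cochain.ofHoms ψ₀)).v p q hpq := by
    intro p q hpq
    have h : (S.map (HomologicalComplex.eval A (ComplexShape.up ℤ) p)).f ≫
        (δ 0 1 (Cochain.ofHoms ψ₀)).v p q hpq = 0 := by
      dsimp
      rw [δ_zero_cochain_v, Cochain.ofHoms_v, Cochain.ofHoms_v, Preadditive.comp_sub,
        reassoc_of% hψ₀ p, Hom.comm_assoc, hψ₀ q, ← Hom.comm, sub_self]
    exact ⟨(hex p).desc _ h, (hex p).g_desc _ h⟩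
  choose z hz using hdesc
  let zc : Cochain S.X₃ I 1 := Cochain.mk fun p q hpq => z p q hpq
  have hzc : (Cochain.ofHom S.g).comp zc (zero_add 1) = δ 0 1 (Cochain.ofHoms ψ₀) := by
    ext p q hpq
    simp [zc, hz]
  have hδz : δ 1 2 zc = 0 := by
    ext p q hpq
    rw [← cancel_epi (S.g.f p)]
    have := congrArg (fun c => c.v p q hpq) (congrArg (δ 1 2) hzc)
    simpa [δ_δ] using this
  obtain ⟨α, hα⟩ := IsKInjective.eq_δ_of_cocycle (Cocycle.mk zc 2 rfl hδz) hC 0 (by simp)
  let ψc : Cocycle S.X₂ I 0 := Cocycle.mk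
    (Cochain.ofHoms ψ₀ - (Cochain.ofHom S.g).comp α (zero_add 0)) 1 rfl (by
      rw [δ_sub, δ_ofHom_comp, hα]
      simp [hzc])
  refine ⟨Cocycle.homOf ψc, ?_⟩
  ext p
  have : S.f.f p ≫ S.g.f p = 0 := by rw [← comp_f, S.zero, zero_f]
  simp [ψc, Preadditive.comp_sub, hψ₀, reassoc_of% this]

/-- Conversely, the lifting property implies injective terms. -/
theorem injective_of_lifting (I : CochainComplex A ℤ)
    (h : ∀ (S : ShortComplex (CochainComplex A ℤ)), S.ShortExact → S.X₃.Acyclic →
      ∀ φ : S.X₁ ⟶ I, ∃ ψ : S.X₂ ⟶ I, S.f ≫ ψ = φ) (n : ℤ) : Injective (I.X n) := by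
  constructor
  intro X Y g f _
  let S := ShortComplex.mk (doubleMap f n) (cokernel.π (doubleMap f n)) (cokernel.condition _)
  have hS : S.ShortExact := { exact := ShortComplex.exact_cokernel _ }
  have hC : S.X₃.Acyclic := hS.acyclic_X₃ ⟨fun k => by
    rw [quasiIsoAt_iff_exactAt _ _ (acyclic_double_id X n k)]
    exact acyclic_double_id Y n k⟩
  obtain ⟨ψ, hψ⟩ := h S hS hC (mkHomFromDouble _ (by omega) g (g ≫ I.d n (n + 1)) (by simp)
    (by simp))
  refine ⟨(doubleXIso₀ (𝟙 Y) (rel_succ' n)).inv ≫ ψ.f n, ?_⟩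
  have := congr_hom hψ n
  dsimp [S] at this
  rw [show (doubleMap f n).f n = (doubleXIso₀ (𝟙 X) (rel_succ' n)).hom ≫ f ≫
      (doubleXIso₀ (𝟙 Y) (rel_succ' n)).inv from mkHomFromDouble_f₀ _ _ _ _ _ _,
    mkHomFromDouble_f₀, Category.assoc, Category.assoc, cancel_epi] at this
  exact this

/-- Conversely, the lifting property implies K-injectivity. -/
theorem isKInjective_of_lifting (I : CochainComplex A ℤ)
    (h : ∀ (S : ShortComplex (CochainComplex A ℤ)), S.ShortExact → S.X₃.Acyclic →
      ∀ φ : S.X₁ ⟶ I, ∃ ψ : S.X₂ ⟶ I, S.f ≫ ψ = φ) : I.IsKInjective := by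
  constructor
  intro K f hK
  have hS : (mappingCone.triangleRotateShortComplex f).ShortExact :=
    shortExact_of_degreewise_shortExact _ fun n =>
      (mappingCone.triangleRotateShortComplexSplitting f n).shortExact
  obtain ⟨ψ, hψ⟩ := h _ hS (acyclic_shift hK 1) (𝟙 I)
  have hψ' : mappingCone.inr f ≫ ψ = 𝟙 I := hψ
  exact ⟨(Homotopy.ofEq (show f = (f ≫ mappingCone.inr f) ≫ ψ by
      rw [Category.assoc, hψ', Category.comp_id])).trans
    (((homotopyCofiber.inrCompHomotopy f (fun j => ⟨j - 1, by simp⟩)).compRight ψ).trans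
      (Homotopy.ofEq zero_comp))⟩

/-- A short exact sequence with acyclic cokernel begins with a quasi-isomorphism. -/
lemma _root_.CategoryTheory.ShortComplex.ShortExact.quasiIso_f_of_acyclic
    {S : ShortComplex (CochainComplex A ℤ)} (hS : S.ShortExact) (h₃ : S.X₃.Acyclic) :
    QuasiIso S.f where
  quasiIsoAt n := by
    rw [quasiIsoAt_iff_isIso_homologyMap]
    have hz : ∀ k, IsZero (S.X₃.homology k) := fun k =>
      (HomologicalComplex.exactAt_iff_isZero_homology _ _).1 (h₃ k)
    have e₂ := (hS.homology_exact₂ n).epi_f ((hz n).eq_of_tgt _ _)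
    have e₁ := (hS.homology_exact₁ (n - 1) n (by simp)).mono_g ((hz _).eq_of_src _ _)
    exact isIso_of_mono_of_epi _

/-- Extension against monomorphisms with acyclic cokernel also lifts through projections of disks. -/
lemma lift_projection {J : A} [Injective J] (m : ℤ) {X Y : CochainComplex A ℤ} (f : X ⟶ Y) [Mono f]
    (hf : (cokernel f).Acyclic) : HasLiftingProperty f (projection J m) := by
  refine ⟨fun {a b} sq => ?_⟩
  let α := a.f (m + 1) ≫ (doubleXIso₁ (𝟙 J) (rel_succ' m) (by omega)).hom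
  let φ := b.f m ≫ (singleObjXSelf (ComplexShape.up ℤ) m J).hom
  let ψ₀ := Injective.factorThru α (f.f (m + 1))
  let C := cokernel f
  let π := cokernel.π f
  have hex : ((ShortComplex.mk f π (cokernel.condition f)).map
      (HomologicalComplex.eval A (ComplexShape.up ℤ) m)).Exact :=
    (ShortComplex.exact_cokernel f).map _
  haveI : Epi ((ShortComplex.mk f π (cokernel.condition f)).map
      (HomologicalComplex.eval A (ComplexShape.up ℤ) m)).g := inferInstanceAs (Epi (π.f m))
  have hdiff : f.f m ≫ (φ - Y.d m (m + 1) ≫ ψ₀) = 0 := by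
    have h := congr_hom sq.w m
    rw [comp_f, comp_f, show (projection J m).f m = (doubleXIso₀ (𝟙 J) (rel_succ' m)).hom ≫
      (singleObjXSelf (ComplexShape.up ℤ) m J).inv from mkHomToSingle_f _ _] at h
    have h₂ : a.f m ≫ (doubleXIso₀ (𝟙 J) (rel_succ' m)).hom = X.d m (m + 1) ≫ α := by
      simp [α, ← Hom.comm_assoc, double_d _ (rel_succ' m) (show m ≠ m + 1 by omega)]
    rw [Preadditive.comp_sub, Hom.comm_assoc, Injective.comp_factorThru, ← h₂, sub_eq_zero]
    simp only [φ, ← reassoc_of% h, Iso.inv_hom_id, Category.comp_id]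
  let g : C.X m ⟶ J := hex.desc _ hdiff
  have hg : π.f m ≫ g = φ - Y.d m (m + 1) ≫ ψ₀ := hex.g_desc _ hdiff
  have hg0 : C.d (m - 1) m ≫ g = 0 := by
    rw [← cancel_epi (π.f (m - 1)), comp_zero, Hom.comm_assoc, hg, Preadditive.comp_sub,
      d_comp_d_assoc, zero_comp, sub_zero]
    dsimp [φ]
    rw [← Hom.comm_assoc]
    simp
  have hC := ((C.exactAt_iff' (m - 1) m (m + 1) (by simp) (by simp)).1 (hf m))
  let η := hC.descToInjective g hg0
  have hη : C.d m (m + 1) ≫ η = g := hC.comp_descToInjective g hg0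
  obtain ⟨l, hl⟩ := exists_toDisk J m (ψ₀ + π.f (m + 1) ≫ η)
  refine ⟨⟨{ l := l, fac_left := toDisk_ext ?_, fac_right := to_single_hom_ext ?_ }⟩⟩
  · rw [comp_f, Category.assoc, hl, Preadditive.comp_add, Injective.comp_factorThru,
      ← comp_f_assoc, cokernel.condition, zero_f, zero_comp, add_zero]
  · have e := d_comp_toDisk_projection J m l _ rfl ((l ≫ projection J m).f m ≫
      (singleObjXSelf (ComplexShape.up ℤ) m J).hom) (by simp)
    rw [hl, Preadditive.comp_add, ← Hom.comm_assoc, hη, hg, add_sub_cancel] at e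
    rw [← cancel_mono (singleObjXSelf (ComplexShape.up ℤ) m J).hom]
    exact e.symm

end Groth.Agent.DCat
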