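import Groth.Agent.DCat.KInjLift
import Groth.Agent.DCat.LiftCriterion
import Mathlib.CategoryTheory.Abelian.GrothendieckCategory.EnoughInjectives
import Mathlib.CategoryTheory.SmallObject.Basic

/-! K-injective resolutions in Grothendieck abelian categories. -/

set_option autoImplicit false
set_option backward.isDefEq.respectTransparency false
set_option backward.defeqAttrib.useBackward true
set_option linter.style.haveILetI false

universe v u

open CategoryTheory CategoryTheory.Limits HomologicalComplex MorphismProperty ZeroObject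

namespace Groth.Agent.DCat

variable {A : Type u} [Category.{v} A] [Abelian A] [IsGrothendieckAbelian.{v} A]

lemma smallMonos_le_monomorphisms (T : CochainComplex A ℤ) :
    smallMonos T ≤ monomorphisms (CochainComplex A ℤ) := by
  rintro _ _ _ ⟨i⟩
  exact inferInstanceAs (Mono _)

instance isSmall_smallMonos (T : CochainComplex A ℤ) : MorphismProperty.IsSmall.{v} (smallMonos T) := by
  dsimp [smallMonos]
  infer_instance

instance hasSmallObjectArgument_smallMonos (T : CochainComplex A ℤ) :
    HasSmallObjectArgument.{v} (smallMonos T) := by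
  obtain ⟨κ, hκ', hκ⟩ := HasCardinalLT.exists_regular_cardinal.{v}
    (Shrink.{v} (Σ i : SIdx T, Subobject (i.2.1 : CochainComplex A ℤ)))
  have : Fact κ.IsRegular := ⟨hκ'⟩
  have : Nonempty κ.ord.ToType := by simpa using hκ'.ne_zero
  have := WellFoundedLT.toOrderBot κ.ord.ToType
  refine ⟨κ, inferInstance, inferInstance,
    { preservesColimit {A' B' X Y} i hi f hf := ?_ }⟩
  let hf' : (monomorphisms (CochainComplex A ℤ)).TransfiniteCompositionOfShape κ.ord.ToType f :=
    { toTransfiniteCompositionOfShape := hf.toTransfiniteCompositionOfShape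
      map_mem j hj := by
        have := (hf.attachCells j hj).pushouts_coproducts
        simp only [ofHoms_homFamily] at this
        refine (?_ : _ ≤ monomorphisms (CochainComplex A ℤ)) _ this
        simp only [pushouts_le_iff, coproducts_le_iff]
        exact smallMonos_le_monomorphisms T }
  have (j j' : κ.ord.ToType) (φ : j ⟶ j') : Mono (hf'.F.map φ) := hf'.mem_map φ
  apply IsGrothendieckAbelian.preservesColimit_coyoneda_obj_of_mono (Y := hf'.F) (κ := κ)
  obtain ⟨s⟩ := hi
  exact hκ.of_injective (fun Z => equivShrink _ ⟨s, Z⟩) fun a b h =>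
    eq_of_heq (Sigma.mk.inj ((equivShrink _).injective h)).2

omit [IsGrothendieckAbelian.{v} A] in
lemma injective_jointly_mono [EnoughInjectives A] {X Y : A} {f : X ⟶ Y}
    (h : ∀ (J : A) [Injective J] (χ : Y ⟶ J), f ≫ χ = 0) : f = 0 := by
  rw [← cancel_mono (Injective.ι Y), zero_comp]
  exact h _ _

lemma rlp_projection (T : CochainComplex A ℤ) (J : A) [Injective J] (m : ℤ) :
    (smallMonos T).rlp (projection J m) := by
  rintro _ _ _ ⟨s⟩
  exact lift_projection m _ s.2.2

/-- Every complex maps by a degreewise mono quasi-isomorphism to a K-injective complex with injective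
terms. -/
theorem exists_kInj_res (M : CochainComplex A ℤ) :
    ∃ (I : CochainComplex A ℤ) (f : M ⟶ I), I.IsKInjective ∧ QuasiIso f ∧ (∀ n, Mono (f.f n)) ∧
      ∀ n, Injective (I.X n) := by
  obtain ⟨T, hT⟩ := exists_small_test (isSeparator_separator A)
    (isSeparator_separator (CochainComplex A ℤ))
  let F := MorphismProperty.factorizationData (smallMonos T).rlp.llp (smallMonos T).rlp
    (0 : M ⟶ (0 : CochainComplex A ℤ))
  let I := F.Z
  have hlift : ∀ (S : ShortComplex (CochainComplex A ℤ)), S.ShortExact → S.X₃.Acyclic →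
      ∀ φ : S.X₁ ⟶ I, ∃ ψ : S.X₂ ⟶ I, S.f ≫ ψ = φ := by
    intro S hS hC φ
    have := hS.mono_f
    have hc : (cokernel S.f).Acyclic := acyclic_of_iso
      (hS.gIsCokernel.coconePointUniqueUpToIso (colimit.isColimit _)) hC
    have := hT F.p F.hp S.f hc
    have sq : CommSq φ S.f F.p (0 : S.X₂ ⟶ (0 : CochainComplex A ℤ)) :=
      ⟨(isZero_zero _).eq_of_tgt _ _⟩
    exact ⟨sq.lift, sq.fac_left⟩
  haveI hK : I.IsKInjective := isKInjective_of_lifting I hlift
  have hInj : ∀ n, Injective (I.X n) := injective_of_lifting I hlift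
  have hmono : ∀ n, Mono (F.i.f n) := by
    intro n
    let J := Injective.under (M.X n)
    let n' := n - 1
    have hn : n' + 1 = n := by omega
    clear_value n'
    subst hn
    let D := HomologicalComplex.double (𝟙 J) (rel_succ' n')
    have hD : (smallMonos T).rlp (0 : D ⟶ (0 : CochainComplex A ℤ)) := by
      rintro _ _ _ ⟨s⟩
      refine ⟨fun {a b} _ => ?_⟩
      let a₁ := a.f (n' + 1) ≫ (doubleXIso₁ (𝟙 J) (rel_succ' n') (by omega)).hom
      obtain ⟨ψ, hψ⟩ := exists_toDisk J n' (Injective.factorThru a₁ (s.2.1.arrow.f (n' + 1)))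
      refine ⟨⟨{ l := ψ, fac_left := ?_, fac_right := (isZero_zero _).eq_of_tgt _ _ }⟩⟩
      apply toDisk_ext
      rw [comp_f, Category.assoc, hψ, Injective.comp_factorThru]
    obtain ⟨g, hg⟩ := exists_toDisk J n' (Injective.ι (M.X (n' + 1)))
    haveI := F.hi (0 : D ⟶ (0 : CochainComplex A ℤ)) hD
    have sq : CommSq g F.i (0 : D ⟶ (0 : CochainComplex A ℤ)) (0 : F.Z ⟶ (0 : CochainComplex A ℤ)) :=
      ⟨(isZero_zero _).eq_of_tgt _ _⟩
    have e : F.i.f (n' + 1) ≫ (sq.lift.f (n' + 1) ≫ (doubleXIso₁ (𝟙 J) (rel_succ' n') (by omega)).hom) =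
        Injective.ι (M.X (n' + 1)) := by
      rw [← comp_f_assoc, sq.fac_left, hg]
    exact mono_of_mono_fac e
  haveI : Mono F.i := mono_of_mono_f _ hmono
  refine ⟨I, F.i, hK, ?_, hmono, hInj⟩
  let S := ShortComplex.mk F.i (cokernel.π F.i) (cokernel.condition _)
  have hS : S.ShortExact := { exact := ShortComplex.exact_cokernel _ }
  have hC : S.X₃.Acyclic := by
    intro m
    refine exactAt_of_kernel_cokernel _ (n := m - 1) (l := m + 1) (by omega) rfl ?_
    let C := S.X₃
    refine injective_jointly_mono ?_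
    intro J _ χ
    rw [Category.assoc]
    let u : C.X m ⟶ J := cokernel.π (C.d (m - 1) m) ≫ χ
    have hu : C.d (m - 1) m ≫ u = 0 := by simp [u]
    have hrel : ∀ i, (ComplexShape.up ℤ).Rel i m → S.X₂.d i m ≫ S.g.f m ≫ u = 0 := by
      intro i hi
      obtain rfl : i = m - 1 := by simp at hi; omega
      rw [← Hom.comm_assoc, hu, comp_zero]
    haveI := F.hi _ (rlp_projection T J m)
    let b : S.X₂ ⟶ (single A (ComplexShape.up ℤ) m).obj J := mkHomToSingle (S.g.f m ≫ u) hrel
    have sq : CommSq (0 : M ⟶ _) F.i (projection J m) b := ⟨by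
      rw [zero_comp]
      apply to_single_hom_ext
      rw [comp_f, zero_f, mkHomToSingle_f]
      change 0 = S.f.f m ≫ (S.g.f m ≫ u) ≫ _
      rw [Category.assoc, ← comp_f_assoc, S.zero, zero_f, zero_comp]⟩
    let ψ := sq.lift.f (m + 1) ≫ (doubleXIso₁ (𝟙 J) (rel_succ' m) (by omega)).hom
    have hψ : S.f.f (m + 1) ≫ ψ = 0 := by
      change F.i.f (m + 1) ≫ _ = 0
      rw [← comp_f_assoc, sq.fac_left, zero_f, zero_comp]
    have hex : (S.map (HomologicalComplex.eval A (ComplexShape.up ℤ) (m + 1))).Exact := hS.exact.map _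
    haveI : Epi (S.map (HomologicalComplex.eval A (ComplexShape.up ℤ) (m + 1))).g :=
      inferInstanceAs (Epi (S.g.f (m + 1)))
    have hkey : C.d m (m + 1) ≫ hex.desc ψ hψ = u := by
      rw [← cancel_epi (S.g.f m), Hom.comm_assoc]
      erw [hex.g_desc ψ hψ]
      exact d_comp_toDisk_projection J m sq.lift b sq.fac_right (S.g.f m ≫ u)
        (mkHomToSingle_f (S.g.f m ≫ u) hrel)
    change kernel.ι (C.d m (m + 1)) ≫ cokernel.π (C.d (m - 1) m) ≫ χ = 0
    change kernel.ι (C.d m (m + 1)) ≫ u = 0
    rw [← hkey, kernel.condition_assoc, zero_comp]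
  exact (hS.quasiIso_f_of_acyclic hC)

end Groth.Agent.DCat
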