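import Groth.Agent.DCat.RFTri
import Groth.Agent.DCat.KHomLimits
import Groth.Agent.DCat.KInjRes
import Mathlib.CategoryTheory.Monad.Limits

/-! Products and coproducts in derived categories with enough K-injective complexes. -/

set_option autoImplicit false
set_option backward.isDefEq.respectTransparency false
set_option backward.defeqAttrib.useBackward true

universe t w v u

open CategoryTheory CategoryTheory.Limits

namespace Groth.Agent.DCat

variable {A : Type u} [Category.{v} A] [Abelian A]

lemma enoughKInj_of_isGrothendieckAbelian [IsGrothendieckAbelian.{v} A] : EnoughKInj A := fun K => by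
  obtain ⟨I, f, h, hf, -, -⟩ := exists_kInj_res K
  exact ⟨I, f, h, hf⟩

variable [HasDerivedCategory.{w} A] (h : EnoughKInj A)

include h

/-- `Qh` is reflective-localizing. -/
noncomputable def reflectiveRho : Reflective (rho h) where
  L := DerivedCategory.Qh
  adj := rhoAdj h

theorem hasProductsOfShape_derived (T : Type t) [HasLimitsOfShape (Discrete T) A] :
    HasLimitsOfShape (Discrete T) (DerivedCategory A) :=
  letI := reflectiveRho h
  hasLimitsOfShape_of_reflective (rho h)

theorem hasCoproductsOfShape_derived (T : Type t) [HasColimitsOfShape (Discrete T) A] :
    HasColimitsOfShape (Discrete T) (DerivedCategory A) :=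
  letI := reflectiveRho h
  hasColimitsOfShape_of_reflective (rho h)

end Groth.Agent.DCat
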