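import Mathlib.CategoryTheory.Functor.Derived.PointwiseLeftDerived
import Mathlib.CategoryTheory.Functor.Derived.PointwiseRightDerived
import Mathlib.CategoryTheory.Localization.CalculusOfFractions
import Mathlib.CategoryTheory.ObjectProperty.Basic

/-! Existence of derived functors from an adapted class of objects. -/

set_option autoImplicit false
set_option backward.isDefEq.respectTransparency false
set_option backward.defeqAttrib.useBackward true

universe v v' v'' u u' u''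

open CategoryTheory CategoryTheory.Limits

namespace Groth.Agent.DCat

variable {C : Type u} [Category.{v} C] {D : Type u'} [Category.{v'} D]
  {H : Type u''} [Category.{v''} H] {W : MorphismProperty C} {P : ObjectProperty C}
  {F : C ⥤ H} {L : C ⥤ D} [L.IsLocalization W]

section Left

variable [W.HasRightCalculusOfFractions]

/-- A common refinement of two roofs by an object of `P`. -/
lemma exists_refine_left (hP : ∀ X : C, ∃ (X' : C) (s : X' ⟶ X), P X' ∧ W s) {X Y P₁ P₂ : C}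
    (u : L.obj X ⟶ L.obj Y) (s₁ : P₁ ⟶ X) (g₁ : P₁ ⟶ Y) (s₂ : P₂ ⟶ X) (g₂ : P₂ ⟶ Y)
    (hs₁ : W s₁) (hs₂ : W s₂) (h₁ : L.map s₁ ≫ u = L.map g₁) (h₂ : L.map s₂ ≫ u = L.map g₂) :
    ∃ (Z : C) (a : Z ⟶ P₁) (b : Z ⟶ P₂), P Z ∧ W (a ≫ s₁) ∧ a ≫ s₁ = b ≫ s₂ ∧
      a ≫ g₁ = b ≫ g₂ := by
  obtain ⟨ψ, hψ⟩ := (MorphismProperty.LeftFraction.mk s₁ s₂ hs₂).exists_rightFraction
  dsimp at hψ
  obtain ⟨M, t₀, -, ht₀⟩ := hP ψ.X'
  have e : L.map ((t₀ ≫ ψ.s) ≫ g₁) = L.map ((t₀ ≫ ψ.f) ≫ g₂) := by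
    rw [L.map_comp, L.map_comp (t₀ ≫ ψ.f), ← h₁, ← h₂, ← L.map_comp_assoc, ← L.map_comp_assoc,
      Category.assoc, Category.assoc, hψ]
  obtain ⟨N, r, hr, hr'⟩ := (MorphismProperty.map_eq_iff_precomp L W _ _).1 e
  obtain ⟨Z, q, hZ, hq⟩ := hP N
  refine ⟨Z, q ≫ r ≫ t₀ ≫ ψ.s, q ≫ r ≫ t₀ ≫ ψ.f, hZ, ?_, by simp [hψ], ?_⟩
  · simpa using W.comp_mem _ _ hq (W.comp_mem _ _ hr (W.comp_mem _ _ ht₀
      (W.comp_mem _ _ ψ.hs hs₁)))
  · simp only [Category.assoc] at hr' ⊢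
    rw [hr']

variable (hP : ∀ X : C, ∃ (X' : C) (s : X' ⟶ X), P X' ∧ W s)
  (hF : ∀ ⦃X Y : C⦄ (s : X ⟶ Y), P X → P Y → W s → IsIso (F.map s))

include hP hF

omit [L.IsLocalization W] [W.HasRightCalculusOfFractions] in
lemma roof_value_eq_aux {X Y P₁ P₂ : C} (hX : P X) (hP₁ : P P₁) (hP₂ : P P₂)
    {s₁ : P₁ ⟶ X} {g₁ : P₁ ⟶ Y} {s₂ : P₂ ⟶ X} {g₂ : P₂ ⟶ Y} (hs₁ : W s₁) (hs₂ : W s₂)
    {Z : C} (a : Z ⟶ P₁) (b : Z ⟶ P₂) (hZ : P Z) (ha : W (a ≫ s₁)) (h : a ≫ s₁ = b ≫ s₂)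
    (h' : a ≫ g₁ = b ≫ g₂) :
    (haveI := hF s₁ hP₁ hX hs₁; inv (F.map s₁) ≫ F.map g₁) =
      (haveI := hF s₂ hP₂ hX hs₂; inv (F.map s₂) ≫ F.map g₂) := by
  have := hF s₁ hP₁ hX hs₁
  have := hF s₂ hP₂ hX hs₂
  have := hF _ hZ hX ha
  rw [← cancel_epi (F.map (a ≫ s₁))]
  conv_rhs => rw [h]
  rw [F.map_comp, F.map_comp, Category.assoc, Category.assoc, IsIso.hom_inv_id_assoc,
    IsIso.hom_inv_id_assoc, ← F.map_comp, ← F.map_comp, h']

/-- The pointwise derived functor exists at an object of `P`, with invertible projection. -/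
theorem exists_limit_left {X : C} (hX : P X) :
    ∃ (c : Cone (StructuredArrow.proj (L.obj X) L ⋙ F)) (_ : IsLimit c),
      IsIso (c.π.app (StructuredArrow.mk (𝟙 (L.obj X)))) := by
  have hr : ∀ j : StructuredArrow (L.obj X) L, ∃ (P₁ : C) (s : P₁ ⟶ X) (g : P₁ ⟶ j.right),
      P P₁ ∧ W s ∧ L.map s ≫ j.hom = L.map g := by
    intro j
    obtain ⟨φ, hφ⟩ := Localization.exists_rightFraction L W j.hom
    obtain ⟨P₁, t, hP₁, ht⟩ := hP φ.X'
    refine ⟨P₁, t ≫ φ.s, t ≫ φ.f, hP₁, W.comp_mem _ _ ht φ.hs, ?_⟩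
    rw [hφ, L.map_comp, L.map_comp, Category.assoc]
    erw [φ.map_s_comp_map]
  choose P₁ s g hP₁ hs hsg using hr
  let π : ∀ (j : StructuredArrow (L.obj X) L), F.obj X ⟶ F.obj j.right := fun j =>
    haveI := hF (s j) (hP₁ j) hX (hs j); inv (F.map (s j)) ≫ F.map (g j)
  have key : ∀ (j : StructuredArrow (L.obj X) L) (P₂ : C) (s₂ : P₂ ⟶ X) (g₂ : P₂ ⟶ j.right)
      (hP₂ : P P₂) (hs₂ : W s₂), L.map s₂ ≫ j.hom = L.map g₂ →
      π j = haveI := hF s₂ hP₂ hX hs₂; inv (F.map s₂) ≫ F.map g₂ := by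
    intro j P₂ s₂ g₂ hP₂ hs₂ h₂
    obtain ⟨Z, a, b, hZ, ha, h, h'⟩ :=
      exists_refine_left hP j.hom (s j) (g j) s₂ g₂ (hs j) hs₂ (hsg j) h₂
    exact roof_value_eq_aux hP hF hX (hP₁ j) hP₂ (hs j) hs₂ a b hZ ha h h'
  have hid : π (StructuredArrow.mk (𝟙 (L.obj X))) = 𝟙 _ := by
    refine (key _ X (𝟙 X) (𝟙 X) hX (W.id_mem _) (by simp)).trans ?_
    simp
  let c : Cone (StructuredArrow.proj (L.obj X) L ⋙ F) :=
    { pt := F.obj X
      π :=
        { app := π
          naturality := fun j j' f => by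
            dsimp
            rw [Category.id_comp, key j' (P₁ j) (s j) (g j ≫ f.right) (hP₁ j) (hs j) (by
              rw [L.map_comp, ← StructuredArrow.w f, reassoc_of% hsg j])]
            simp [π] } }
  refine ⟨c, ⟨fun t => t.π.app (StructuredArrow.mk (𝟙 (L.obj X))), fun t j => ?_, fun t m hm => ?_⟩,
    ⟨𝟙 _, by simp [c, hid], by simp [c, hid]⟩⟩
  · have : IsIso (L.map (s j)) := Localization.inverts L W _ (hs j)
    have := hF (s j) (hP₁ j) hX (hs j)
    let j₀ := StructuredArrow.mk (S := L.obj X) (T := L) (inv (L.map (s j)))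
    have e₁ := t.w (StructuredArrow.homMk (s j) (by simp [j₀]) : j₀ ⟶ StructuredArrow.mk (𝟙 (L.obj X)))
    have e₂ := t.w (StructuredArrow.homMk (g j) (by simp [j₀, ← hsg j]) : j₀ ⟶ j)
    dsimp [j₀] at e₁ e₂
    dsimp [c, π]
    rw [← e₁, ← e₂]
    simp
  · have := hm (StructuredArrow.mk (𝟙 (L.obj X)))
    dsimp [c] at this
    rw [hid] at this
    exact (Category.comp_id m).symm.trans this

theorem hasPointwiseLeftDerived : F.HasPointwiseLeftDerivedFunctor W := by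
  intro X
  obtain ⟨X', s, hX', hs⟩ := hP X
  rw [← F.hasPointwiseLeftDerivedFunctorAt_iff_of_mem W s hs,
    F.hasPointwiseLeftDerivedFunctorAt_iff W.Q W]
  obtain ⟨c, hc, -⟩ := exists_limit_left (L := W.Q) hP hF hX'
  exact ⟨c, hc⟩

/-- The derived functor exists. -/
theorem hasLeftDerived : F.HasLeftDerivedFunctor W := by
  have := hasPointwiseLeftDerived hP hF
  infer_instance

/-- Objects of `P` compute the derived functor. -/
theorem isIso_counit_of_mem {LF : D ⥤ H} (α : L ⋙ LF ⟶ F) [LF.IsLeftDerivedFunctor α W] {X : C}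
    (hX : P X) : IsIso (α.app X) := by
  have := hasPointwiseLeftDerived hP hF
  obtain ⟨c, hc, hi⟩ := exists_limit_left (L := L) hP hF hX
  have h' := Functor.isPointwiseRightKanExtensionOfHasPointwiseLeftDerivedFunctor LF α W (L.obj X)
  have e : ((Functor.RightExtension.mk LF α).coneAt (L.obj X)).π.app (StructuredArrow.mk (𝟙 _)) =
      α.app X := by simp [Functor.RightExtension.coneAt]
  rw [← e, ← hc.fac ((Functor.RightExtension.mk LF α).coneAt (L.obj X)) (StructuredArrow.mk (𝟙 _))]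
  have : IsIso (hc.lift ((Functor.RightExtension.mk LF α).coneAt (L.obj X))) :=
    (IsLimit.conePointUniqueUpToIso h' hc).isIso_hom
  infer_instance

/-- Recognition of the derived functor. -/
theorem isLeftDerived_of_isIso {G : D ⥤ H} (β : L ⋙ G ⟶ F) (h : ∀ ⦃X⦄, P X → IsIso (β.app X)) :
    G.IsLeftDerivedFunctor β W := by
  have := hasLeftDerived hP hF
  let α := F.totalLeftDerivedCounit L W
  let φ := (F.totalLeftDerived L W).leftDerivedLift α W G β
  have hφ : ∀ X, P X → IsIso (φ.app (L.obj X)) := by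
    intro X hX
    have := isIso_counit_of_mem hP hF α hX
    have := h hX
    have e := (F.totalLeftDerived L W).leftDerived_fac_app α W G β X
    have : IsIso (φ.app (L.obj X) ≫ α.app X) := by rw [e]; infer_instance
    exact IsIso.of_isIso_comp_right (φ.app (L.obj X)) (α.app X)
  have : IsIso φ := by
    rw [NatTrans.isIso_iff_isIso_app]
    intro Y
    have := Localization.essSurj L W
    obtain ⟨X', s, hX', hs⟩ := hP (L.objPreimage Y)
    have : IsIso (L.map s) := Localization.inverts L W _ hs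
    exact (NatTrans.isIso_app_iff_of_iso φ (asIso (L.map s) ≪≫ L.objObjPreimageIso Y)).1 (hφ _ hX')
  rw [Functor.isLeftDerivedFunctor_iff_of_iso (F.totalLeftDerived L W) G β α W (asIso φ)
    ((F.totalLeftDerived L W).leftDerived_fac α W G β)]
  infer_instance

end Left

section Right

variable [W.HasLeftCalculusOfFractions]

/-- A common refinement of two coroofs by an object of `P`. -/
lemma exists_refine_right (hP : ∀ X : C, ∃ (X' : C) (s : X ⟶ X'), P X' ∧ W s) {X Y P₁ P₂ : C}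
    (u : L.obj Y ⟶ L.obj X) (s₁ : X ⟶ P₁) (g₁ : Y ⟶ P₁) (s₂ : X ⟶ P₂) (g₂ : Y ⟶ P₂)
    (hs₁ : W s₁) (hs₂ : W s₂) (h₁ : u ≫ L.map s₁ = L.map g₁) (h₂ : u ≫ L.map s₂ = L.map g₂) :
    ∃ (Z : C) (a : P₁ ⟶ Z) (b : P₂ ⟶ Z), P Z ∧ W (s₁ ≫ a) ∧ s₁ ≫ a = s₂ ≫ b ∧
      g₁ ≫ a = g₂ ≫ b := by
  obtain ⟨ψ, hψ⟩ := (MorphismProperty.RightFraction.mk s₂ hs₂ s₁).exists_leftFraction
  dsimp at hψ
  obtain ⟨M, t₀, -, ht₀⟩ := hP ψ.Y'
  have e : L.map (g₁ ≫ ψ.s ≫ t₀) = L.map (g₂ ≫ ψ.f ≫ t₀) := by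
    simp only [L.map_comp, ← h₁, ← h₂, Category.assoc]
    rw [← L.map_comp_assoc, hψ, L.map_comp_assoc]
  obtain ⟨N, r, hr, hr'⟩ := (MorphismProperty.map_eq_iff_postcomp L W _ _).1 e
  obtain ⟨Z, q, hZ, hq⟩ := hP N
  refine ⟨Z, ψ.s ≫ t₀ ≫ r ≫ q, ψ.f ≫ t₀ ≫ r ≫ q, hZ, ?_, ?_, ?_⟩
  · exact W.comp_mem _ _ hs₁ (W.comp_mem _ _ ψ.hs (W.comp_mem _ _ ht₀ (W.comp_mem _ _ hr hq)))
  · rw [reassoc_of% hψ]
  · simp only [Category.assoc] at hr' ⊢
    rw [reassoc_of% hr']

variable (hP : ∀ X : C, ∃ (X' : C) (s : X ⟶ X'), P X' ∧ W s)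
  (hF : ∀ ⦃X Y : C⦄ (s : X ⟶ Y), P X → P Y → W s → IsIso (F.map s))

include hP hF

/-- The pointwise derived functor exists at an object of `P`, with invertible injection. -/
theorem exists_colimit_right {X : C} (hX : P X) :
    ∃ (c : Cocone (CostructuredArrow.proj L (L.obj X) ⋙ F)) (_ : IsColimit c),
      IsIso (c.ι.app (CostructuredArrow.mk (𝟙 (L.obj X)))) := by
  have hr : ∀ j : CostructuredArrow L (L.obj X), ∃ (P₁ : C) (s : X ⟶ P₁) (g : j.left ⟶ P₁),
      P P₁ ∧ W s ∧ j.hom ≫ L.map s = L.map g := by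
    intro j
    obtain ⟨φ, hφ⟩ := Localization.exists_leftFraction L W j.hom
    obtain ⟨P₁, t, hP₁, ht⟩ := hP φ.Y'
    refine ⟨P₁, φ.s ≫ t, φ.f ≫ t, hP₁, W.comp_mem _ _ φ.hs ht, ?_⟩
    rw [hφ, L.map_comp, L.map_comp, ← Category.assoc]
    erw [φ.map_comp_map_s]
  choose P₁ s g hP₁ hs hsg using hr
  let π : ∀ (j : CostructuredArrow L (L.obj X)), F.obj j.left ⟶ F.obj X := fun j =>
    haveI := hF (s j) hX (hP₁ j) (hs j); F.map (g j) ≫ inv (F.map (s j))
  have key : ∀ (j : CostructuredArrow L (L.obj X)) (P₂ : C) (s₂ : X ⟶ P₂) (g₂ : j.left ⟶ P₂)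
      (hP₂ : P P₂) (hs₂ : W s₂), j.hom ≫ L.map s₂ = L.map g₂ →
      π j = haveI := hF s₂ hX hP₂ hs₂; F.map g₂ ≫ inv (F.map s₂) := by
    intro j P₂ s₂ g₂ hP₂ hs₂ h₂
    obtain ⟨Z, a, b, hZ, ha, h, h'⟩ :=
      exists_refine_right hP j.hom (s j) (g j) s₂ g₂ (hs j) hs₂ (hsg j) h₂
    have := hF (s j) hX (hP₁ j) (hs j)
    have := hF s₂ hX hP₂ hs₂
    have := hF _ hX hZ ha
    dsimp [π]
    rw [← cancel_mono (F.map (s j ≫ a))]
    conv_rhs => rw [h]
    rw [F.map_comp, F.map_comp, Category.assoc, Category.assoc, IsIso.inv_hom_id_assoc,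
      IsIso.inv_hom_id_assoc, ← F.map_comp, ← F.map_comp, h']
  have hid : π (CostructuredArrow.mk (𝟙 (L.obj X))) = 𝟙 _ := by
    refine (key _ X (𝟙 X) (𝟙 X) hX (W.id_mem _) (by simp)).trans ?_
    simp
  let c : Cocone (CostructuredArrow.proj L (L.obj X) ⋙ F) :=
    { pt := F.obj X
      ι :=
        { app := π
          naturality := fun j j' f => by
            dsimp
            rw [Category.comp_id, key j (P₁ j') (s j') (f.left ≫ g j') (hP₁ j') (hs j') (by
              rw [L.map_comp, ← CostructuredArrow.w f, Category.assoc, hsg j'])]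
            simp [π] } }
  refine ⟨c, ⟨fun t => t.ι.app (CostructuredArrow.mk (𝟙 (L.obj X))), fun t j => ?_, fun t m hm => ?_⟩,
    ⟨𝟙 _, by simp [c, hid], by simp [c, hid]⟩⟩
  · have : IsIso (L.map (s j)) := Localization.inverts L W _ (hs j)
    have := hF (s j) hX (hP₁ j) (hs j)
    let j₀ := CostructuredArrow.mk (S := L) (T := L.obj X) (inv (L.map (s j)))
    have e₁ := t.w (CostructuredArrow.homMk (s j) (by simp [j₀]) :
      CostructuredArrow.mk (𝟙 (L.obj X)) ⟶ j₀)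
    have e₂ := t.w (CostructuredArrow.homMk (g j) (by simp [j₀, ← hsg j]) : j ⟶ j₀)
    dsimp [j₀] at e₁ e₂
    dsimp [c, π]
    rw [← e₁, ← e₂]
    simp
  · have := hm (CostructuredArrow.mk (𝟙 (L.obj X)))
    dsimp [c] at this
    rw [hid] at this
    exact (Category.id_comp m).symm.trans this

theorem hasPointwiseRightDerived : F.HasPointwiseRightDerivedFunctor W := by
  intro X
  obtain ⟨X', s, hX', hs⟩ := hP X
  rw [F.hasPointwiseRightDerivedFunctorAt_iff_of_mem W s hs,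
    F.hasPointwiseRightDerivedFunctorAt_iff W.Q W]
  obtain ⟨c, hc, -⟩ := exists_colimit_right (L := W.Q) hP hF hX'
  exact ⟨c, hc⟩

/-- The derived functor exists. -/
theorem hasRightDerived : F.HasRightDerivedFunctor W := by
  have := hasPointwiseRightDerived hP hF
  exact Functor.hasRightDerivedFunctor_of_hasPointwiseRightDerivedFunctor F W

/-- Objects of `P` compute the derived functor. -/
theorem isIso_unit_of_mem {RF : D ⥤ H} (α : F ⟶ L ⋙ RF) [RF.IsRightDerivedFunctor α W] {X : C}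
    (hX : P X) : IsIso (α.app X) := by
  have := hasPointwiseRightDerived hP hF
  obtain ⟨c, hc, hi⟩ := exists_colimit_right (L := L) hP hF hX
  have h' := Functor.isPointwiseLeftKanExtensionOfHasPointwiseRightDerivedFunctor RF α W (L.obj X)
  have e : ((Functor.LeftExtension.mk RF α).coconeAt (L.obj X)).ι.app (CostructuredArrow.mk (𝟙 _)) =
      α.app X := by simp [Functor.LeftExtension.coconeAt]
  rw [← e, ← hc.fac ((Functor.LeftExtension.mk RF α).coconeAt (L.obj X)) (CostructuredArrow.mk (𝟙 _))]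
  have : IsIso (hc.desc ((Functor.LeftExtension.mk RF α).coconeAt (L.obj X))) :=
    (IsColimit.coconePointUniqueUpToIso hc h').isIso_hom
  infer_instance

/-- Recognition of the derived functor. -/
theorem isRightDerived_of_isIso {G : D ⥤ H} (β : F ⟶ L ⋙ G) (h : ∀ ⦃X⦄, P X → IsIso (β.app X)) :
    G.IsRightDerivedFunctor β W := by
  have := hasRightDerived hP hF
  let α := F.totalRightDerivedUnit L W
  let φ := (F.totalRightDerived L W).rightDerivedDesc α W G β
  have hφ : ∀ X, P X → IsIso (φ.app (L.obj X)) := by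
    intro X hX
    have := isIso_unit_of_mem hP hF α hX
    have := h hX
    have e := (F.totalRightDerived L W).rightDerived_fac_app α W G β X
    have : IsIso (α.app X ≫ φ.app (L.obj X)) := by rw [e]; infer_instance
    exact IsIso.of_isIso_comp_left (α.app X) (φ.app (L.obj X))
  have : IsIso φ := by
    rw [NatTrans.isIso_iff_isIso_app]
    intro Y
    have := Localization.essSurj L W
    obtain ⟨X', s, hX', hs⟩ := hP (L.objPreimage Y)
    have : IsIso (L.map s) := Localization.inverts L W _ hs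
    exact (NatTrans.isIso_app_iff_of_iso φ ((asIso (L.map s)).symm ≪≫ L.objObjPreimageIso Y)).1 (hφ _ hX')
  rw [← Functor.isRightDerivedFunctor_iff_of_iso α β W (asIso φ)
    ((F.totalRightDerived L W).rightDerived_fac α W G β)]
  infer_instance

end Right

end Groth.Agent.DCat
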