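import Groth.Agent.DCat.TotKFlat
import Groth.Agent.DCat.SplitQis

/-! K-flat complexes and quasi-isomorphisms. -/

set_option autoImplicit false
set_option backward.isDefEq.respectTransparency false
set_option backward.defeqAttrib.useBackward true
set_option linter.style.haveILetI false

universe v₁ v₂ v₃ u₁ u₂ u₃

open CategoryTheory CategoryTheory.Limits HomologicalComplex

namespace Groth.Agent.DCat

variable {A : Type u₁} [Category.{v₁} A] [Abelian A] {B : Type u₂} [Category.{v₂} B] [Abelian B]
  {C : Type u₃} [Category.{v₃} C] [Abelian C]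
  (T : A ⥤ B ⥤ C) [T.Additive] [∀ a, (T.obj a).Additive]
  [∀ (K₁ : CochainComplex A ℤ) (K₂ : CochainComplex B ℤ), CochainComplex.HasMapBifunctor K₁ K₂ T]

/-- Tensoring a degreewise split sequence on the left. -/
theorem shortExact_tot₁_of_split (S : ShortComplex (CochainComplex A ℤ))
    (hS : ∀ n, Nonempty ((S.map (eval A (ComplexShape.up ℤ) n)).Splitting)) (K : CochainComplex B ℤ) :
    (S.map (T.map₂CochainComplex.flip.obj K)).ShortExact := by
  let σ := fun n => (hS n).some
  refine shortExact_of_degreewise_shortExact _ fun n => ShortComplex.Splitting.shortExact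
    { r := mapBifunctorDesc fun p q h =>
        (T.map (σ p).r).app (K.X q) ≫ ιMapBifunctor S.X₁ K T (ComplexShape.up ℤ) p q n h
      s := mapBifunctorDesc fun p q h =>
        (T.map (σ p).s).app (K.X q) ≫ ιMapBifunctor S.X₂ K T (ComplexShape.up ℤ) p q n h
      f_r := mapBifunctor.hom_ext fun p q h => ?_
      s_g := mapBifunctor.hom_ext fun p q h => ?_
      id := mapBifunctor.hom_ext fun p q h => ?_ }
  · dsimp
    rw [ι_mapBifunctorMap_assoc]
    have := (σ p).f_r
    dsimp at this
    simp [← NatTrans.comp_app_assoc, ← Functor.map_comp, this]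
  · dsimp
    rw [ι_mapBifunctorDesc_assoc, Category.assoc, ι_mapBifunctorMap]
    have := (σ p).s_g
    dsimp at this
    simp [← NatTrans.comp_app_assoc, ← Functor.map_comp, this]
  · dsimp
    have := (σ p).id
    dsimp at this
    simp [ι_mapBifunctorMap_assoc, ← NatTrans.comp_app_assoc, ← Functor.map_comp, ← Preadditive.add_comp,
      ← NatTrans.app_add, ← Functor.map_add, this]

variable {T}

/-- Tensoring with a K-flat complex preserves quasi-isomorphisms. -/
theorem IsKFlatFor.quasiIso_map {K : CochainComplex B ℤ} (hK : IsKFlatFor T K)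
    {M M' : CochainComplex A ℤ} (f : M ⟶ M') [QuasiIso f] : QuasiIso (totMap₁ T f K) :=
  quasiIso_map_of_kills (T.map₂CochainComplex.flip.obj K)
    (fun _ _ h => ⟨mapBifunctorMapHomotopy₁ h (𝟙 K) T (ComplexShape.up ℤ)⟩)
    (fun S hS => shortExact_tot₁_of_split T S hS K) f (fun _ _ _ _ hQ => hK _ hQ)

/-- Tensoring a quasi-isomorphism of K-flat complexes, given K-flat resolutions on the other side. -/
theorem IsKFlatFor.quasiIso_map₂ [HasCountableCoproducts C] [CountableAB4 C]
    (hex : ∀ (M : CochainComplex A ℤ), ∃ (M' : CochainComplex A ℤ) (g : M' ⟶ M),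
      QuasiIso g ∧ ∀ Q : CochainComplex B ℤ, Q.Acyclic → (tot T M' Q).Acyclic)
    {P Q : CochainComplex B ℤ} (hP : IsKFlatFor T P) (hQ : IsKFlatFor T Q) (α : P ⟶ Q) [QuasiIso α]
    (M : CochainComplex A ℤ) : QuasiIso (totMap₂ T M α) := by
  refine quasiIso_map_of_kills (T.map₂CochainComplex.obj M)
    (fun _ _ h => ⟨mapBifunctorMapHomotopy₂ (𝟙 M) h T (ComplexShape.up ℤ)⟩)
    (fun S hS => shortExact_map_tot (fun a q => shortExact_map_of_splitting hS a q) M) α ?_
  intro S e h₁ hS hac
  have h₃ : IsKFlatFor T S.X₃ := (h₁ ▸ hP : IsKFlatFor T S.X₁).ext₃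
    (fun a q => shortExact_map_of_splitting hS a q) (hQ.of_homotopyEquiv e.symm)
  obtain ⟨M', g, hg, hM'⟩ := hex M
  haveI := h₃.quasiIso_map g
  intro n
  exact (quasiIsoAt_iff_exactAt (totMap₁ T g S.X₃) n (hM' S.X₃ hac n)).1 inferInstance

end Groth.Agent.DCat
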