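import Groth.Agent.DCat.Cells

/-! Zero-differential complexes as colimits of finite ones. -/

set_option autoImplicit false
set_option backward.isDefEq.respectTransparency false
set_option backward.defeqAttrib.useBackward true
set_option linter.style.haveILetI false

universe v u

open CategoryTheory CategoryTheory.Limits HomologicalComplex

namespace Groth.Agent.DCat

variable {B : Type u} [Category.{v} B]

/-- An eventually constant sequence has its eventual value as colimit. -/
noncomputable def isColimitOfEventuallyIso {F : ℕ ⥤ B} (c : Cocone F) (N : ℕ)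
    (h : ∀ k, N ≤ k → IsIso (c.ι.app k)) : IsColimit c :=
  haveI := h N le_rfl
  { desc := fun s => inv (c.ι.app N) ≫ s.ι.app N
    fac := fun s k => by
      obtain ⟨m, hk, hN⟩ : ∃ m, k ≤ m ∧ N ≤ m := ⟨max k N, le_max_left _ _, le_max_right _ _⟩
      rw [← c.w (homOfLE hk), ← s.w (homOfLE hk), Category.assoc]
      congr 1
      haveI := h m hN
      haveI : IsIso (F.map (homOfLE hN) ≫ c.ι.app m) := by rw [c.w (homOfLE hN)]; infer_instance
      haveI : IsIso (F.map (homOfLE hN)) := IsIso.of_isIso_comp_right _ (c.ι.app m)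
      rw [← cancel_epi (F.map (homOfLE hN)), reassoc_of% c.w (homOfLE hN), IsIso.hom_inv_id_assoc, s.w (homOfLE hN)]
    uniq := fun s m hm => by rw [← hm N, IsIso.inv_hom_id_assoc] }

variable [Abelian B] (X : ℤ → B)

/-- A window of a family. -/
noncomputable def winX (k : ℕ) (n : ℤ) : B := if n.natAbs ≤ k then X n else kernel (𝟙 (X n))

/-- The inclusion of a window. -/
noncomputable def winι (k : ℕ) (n : ℤ) : winX X k n ⟶ X n :=
  if h : n.natAbs ≤ k then eqToHom (if_pos h) else eqToHom (if_neg h) ≫ kernel.ι _

lemma isIso_winι {k : ℕ} {n : ℤ} (h : n.natAbs ≤ k) : IsIso (winι X k n) := by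
  rw [winι, dif_pos h]; infer_instance

lemma isZero_winX {k : ℕ} {n : ℤ} (h : ¬ n.natAbs ≤ k) : IsZero (winX X k n) := by
  rw [winX, if_neg h]; exact isZero_kernel_of_mono (𝟙 (X n))

/-- Transition of windows. -/
noncomputable def winMap (k : ℕ) (n : ℤ) : winX X k n ⟶ winX X (k + 1) n :=
  if h : n.natAbs ≤ k + 1 then haveI := isIso_winι X h; winι X k n ≫ inv (winι X (k + 1) n) else 0

lemma winMap_ι (k : ℕ) (n : ℤ) : winMap X k n ≫ winι X (k + 1) n = winι X k n := by
  by_cases h : n.natAbs ≤ k + 1
  · have := isIso_winι X h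
    simp [winMap, dif_pos h]
  · exact (isZero_winX X (show ¬ n.natAbs ≤ k by omega)).eq_of_src _ _

/-- The system of windows. -/
noncomputable def winSeq : ℕ ⥤ CochainComplex B ℤ :=
  Functor.ofSequence (X := fun k => zeroD (winX X k)) fun k =>
    { f := winMap X k, comm' := fun _ _ _ => by simp }

/-- The cocone of windows. -/
noncomputable def winCocone : Cocone (winSeq X) where
  pt := zeroD X
  ι := NatTrans.ofSequence (fun k => { f := winι X k, comm' := fun _ _ _ => by dsimp [winSeq]; simp }) fun k => by
    dsimp [winSeq]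
    ext n
    rw [Functor.ofSequence_map_homOfLE_succ]
    simp [winMap_ι]

/-- The windows converge. -/
noncomputable def isColimitWinEval (n : ℤ) :
    IsColimit ((HomologicalComplex.eval B (ComplexShape.up ℤ) n).mapCocone (winCocone X)) :=
  isColimitOfEventuallyIso _ n.natAbs fun _ hk => isIso_winι X hk

end Groth.Agent.DCat
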