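import Groth.Agent.DCat.KFlatModule
import Groth.Agent.DCat.KFlatQis
import Groth.Agent.DCat.ZeroD
import Mathlib.Algebra.Category.ModuleCat.EpiMono

/-! K-flat resolutions of complexes of modules. -/

set_option autoImplicit false
set_option backward.isDefEq.respectTransparency false
set_option backward.defeqAttrib.useBackward true
set_option linter.style.haveILetI false

universe u

open CategoryTheory CategoryTheory.Limits MonoidalCategory HomologicalComplex

namespace Groth.Agent.DCat

variable {R : Type u} [CommRing R]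

lemma flat_of_splitting (S : ShortComplex (ModuleCat.{u} R)) (σ : S.Splitting)
    (h₁ : Module.Flat R S.X₁) (h₃ : Module.Flat R S.X₃) : Module.Flat R S.X₂ := by
  rw [Module.Flat.iff_lTensor_preserves_injective_linearMap]
  intro N N' _ _ _ _ f hf
  rw [injective_iff_map_eq_zero]
  intro x hx
  have key : ∀ {Y : ModuleCat.{u} R}, Module.Flat R Y → ∀ p : S.X₂ ⟶ Y, p.hom.rTensor N x = 0 :=
    fun {Y} hY p => by
      haveI := hY
      apply Module.Flat.lTensor_preserves_injective_linearMap (M := (Y : Type u)) f hf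
      rw [map_zero, ← LinearMap.comp_apply, LinearMap.lTensor_comp_rTensor, ← LinearMap.rTensor_comp_lTensor,
        LinearMap.comp_apply, hx, map_zero]
  have hid : (S.f.hom.comp σ.r.hom + σ.s.hom.comp S.g.hom : S.X₂ →ₗ[R] S.X₂) = LinearMap.id := by
    have := congrArg ModuleCat.Hom.hom σ.id
    simpa using this
  have := congrArg (fun p : S.X₂ →ₗ[R] S.X₂ => p.rTensor N x) hid
  simpa [LinearMap.rTensor_comp, LinearMap.rTensor_add, key h₁ σ.r, key h₃ S.g] using this.symm

lemma flat_of_isColimit {F : ℕ ⥤ ModuleCat.{u} R} {c : Cocone F} (hc : IsColimit c)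
    (h : ∀ j, Module.Flat R (F.obj j)) : Module.Flat R c.pt := by
  rw [Module.Flat.iff_rTensor_preserves_injective_linearMap]
  intro N N' _ _ _ _ f hf
  let φ : ModuleCat.of R N ⟶ ModuleCat.of R N' := ModuleCat.ofHom f
  haveI : ∀ a, PreservesColimit F ((modT R).obj a) := fun a =>
    inferInstanceAs (PreservesColimit F (tensorLeft a))
  let Ψ : F ⋙ (modT R).obj (ModuleCat.of R N) ⟶ F ⋙ (modT R).obj (ModuleCat.of R N') :=
    Functor.whiskerLeft F ((modT R).map φ)
  haveI : ∀ j, Mono (Ψ.app j) := fun j => by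
    haveI := h j
    rw [ModuleCat.mono_iff_injective]
    exact Module.Flat.rTensor_preserves_injective_linearMap f hf
  haveI : Mono Ψ := NatTrans.mono_of_mono_app _
  have := colim.map_mono' Ψ (isColimitOfPreserves ((modT R).obj (ModuleCat.of R N)) hc)
    (isColimitOfPreserves ((modT R).obj (ModuleCat.of R N')) hc) (((modT R).map φ).app c.pt)
    (fun j => ((modT R).map φ).naturality (c.ι.app j))
  exact (ModuleCat.mono_iff_injective _).1 this

lemma exists_flat_cover_module (X : ModuleCat.{u} R) :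
    ∃ (U : ModuleCat.{u} R) (p : U ⟶ X), Epi p ∧ Module.Flat R U :=
  ⟨ModuleCat.of R ((X : Type u) →₀ R), ModuleCat.ofHom (Finsupp.linearCombination R id),
    (ModuleCat.epi_iff_surjective _).2 fun y => ⟨Finsupp.single y 1,
      (Finsupp.linearCombination_single R 1 y).trans (one_smul R y)⟩, Module.Flat.finsupp (X : Type u)⟩

/-- Zero-differential complexes of flat modules are K-flat. -/
theorem isKFlatFor_zeroD (X : ℤ → ModuleCat.{u} R) (h : ∀ n, Module.Flat R (X n)) :
    IsKFlatFor (modT R) (zeroD X) := by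
  haveI : ∀ a, PreservesColimitsOfShape ℕ ((modT R).obj a) := fun a =>
    inferInstanceAs (PreservesColimitsOfShape ℕ (tensorLeft a))
  refine IsKFlatFor.colimit (c := winCocone X)
    (fun a q => isColimitOfPreserves ((modT R).obj a) (isColimitWinEval X q)) fun k => ?_
  refine isKFlatFor_of_bounded (-(k : ℤ)) (2 * k + 1) _ (fun n hn => isZero_winX X (by omega))
    (fun n hn => isZero_winX X (by omega)) fun n => ?_
  by_cases hn : n.natAbs ≤ k
  · haveI := isIso_winι X hn
    haveI := h n
    haveI : Module.Flat R ((winX X k n : ModuleCat.{u} R) : Type u) := Module.Flat.of_linearEquiv (asIso (winι X k n)).toLinearEquiv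
    exact Or.inr ⟨preservesFiniteLimits_flip_of_flat (winX X k n), inferInstance⟩
  · exact Or.inl (isZero_winX X hn)

/-- K-flat resolutions relative to a map. -/
theorem exists_kflat_res {K L : DRing.Cx R} (a : K ⟶ L) (hK : IsKFlatFor (modT R) K) :
    ∃ (N : DRing.Cx R) (b : K ⟶ N) (c : N ⟶ L), IsKFlatFor (modT R) N ∧ QuasiIso c ∧
      (∀ n, Epi (c.f n)) ∧ b ≫ c = a ∧ (DRing.TermwiseFlat K → DRing.TermwiseFlat N) :=
  exists_cell_res (IsKFlatFor (modT R)) (fun X : ModuleCat.{u} R => Module.Flat R X)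
    exists_flat_cover_module isKFlatFor_zeroD (fun _ n h => h.shift n)
    (fun S hS h₁ h₃ => h₁.ext₂ (fun a q => shortExact_map_of_splitting hS a q) h₃)
    (fun S σ => flat_of_splitting S σ)
    (fun _ _ hc h => IsKFlatFor.colimit (fun a q =>
      haveI : PreservesColimitsOfShape ℕ ((modT R).obj a) := inferInstanceAs (PreservesColimitsOfShape ℕ (tensorLeft a))
      isColimitOfPreserves ((modT R).obj a)
        (isColimitOfPreserves (HomologicalComplex.eval _ (ComplexShape.up ℤ) q) hc)) h)
    (fun _ _ hc h => flat_of_isColimit hc h) a hK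

/-- K-flat resolutions. -/
theorem exists_kflat (L : DRing.Cx R) :
    ∃ (N : DRing.Cx R) (c : N ⟶ L), IsKFlatFor (modT R) N ∧ DRing.TermwiseFlat N ∧ QuasiIso c ∧
      ∀ n, Epi (c.f n) := by
  have hz : IsZero (zeroD fun _ : ℤ => ModuleCat.of R PUnit.{u + 1}) := by
    rw [IsZero.iff_id_eq_zero]
    ext n : 1
    exact (show IsZero (ModuleCat.of R PUnit.{u + 1}) from ModuleCat.isZero_of_subsingleton _).eq_of_src _ _
  obtain ⟨N, b, c, hN, hc, he, -, hQ⟩ := exists_kflat_res (0 : zeroD (fun _ => ModuleCat.of R PUnit.{u + 1}) ⟶ L)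
    (isKFlatFor_of_isZero hz)
  exact ⟨N, c, hN, hQ fun _ => inferInstanceAs (Module.Flat R PUnit.{u + 1}), hc, he⟩

/-- Tensoring a quasi-isomorphism of K-flat complexes. -/
theorem quasiIso_tot_of_kflat {P Q : DRing.Cx R} (hP : IsKFlatFor (modT R) P) (hQ : IsKFlatFor (modT R) Q)
    (α : P ⟶ Q) [QuasiIso α] (M : DRing.Cx R) : QuasiIso (totMap₂ (modT R) M α) :=
  IsKFlatFor.quasiIso_map₂ (fun M => by
    obtain ⟨M', g, hM', -, hg, -⟩ := exists_kflat M
    exact ⟨M', g, hg, fun Q hQ => acyclic_of_iso' (totSymm Q M') (hM' Q hQ)⟩) hP hQ α M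

end Groth.Agent.DCat
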