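import Groth.Prelude.Def_DCoh4
import Groth.Prelude.Def_KFlatSite
import Groth.Agent.ModStalk.SkyStalk
import Groth.Agent.ModStalk.Tensor
import Groth.Agent.ModStalk.Pullback
import Groth.Agent.ModStalk.FlatCover
import Groth.Agent.DCat.KFlatRes
import Groth.Agent.DCat.ModulesGrothendieck

/-! K-flat complexes of O_X-modules. -/

set_option autoImplicit false
set_option backward.isDefEq.respectTransparency false
set_option backward.defeqAttrib.useBackward true
set_option linter.style.haveILetI false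

universe u

open CategoryTheory CategoryTheory.Limits AlgebraicGeometry MonoidalCategory HomologicalComplex
open Groth.Agent.ModStalk

namespace Groth.Agent.DCat

variable {X : Scheme.{u}}

/-- The tensor bifunctor on O_X-modules. -/
noncomputable abbrev shT (X : Scheme.{u}) : X.Modules ⥤ X.Modules ⥤ X.Modules := DCoh.tensorBi (X := X)

/-- `DCoh.IsKFlat` is K-flatness for `shT`. -/
lemma isKFlat_iff_sheaf (E : CochainComplex X.Modules ℤ) : DCoh.IsKFlat E ↔ IsKFlatFor (shT X) E := by
  refine ⟨fun h M hM n => ?_, fun h L hL i => ?_⟩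
  · rw [exactAt_iff_isZero_homology]
    exact h M (fun i => (exactAt_iff_isZero_homology _ _).1 (hM i)) n
  · exact (exactAt_iff_isZero_homology _ _).1
      (h L (fun j => (exactAt_iff_isZero_homology _ _).2 (hL j)) i)

/-- `DRing.IsKFlat` is K-flatness for `modT`. -/
lemma isKFlat_iff_module {A : Type u} [CommRing A] (K : DRing.Cx A) :
    DRing.IsKFlat A K ↔ IsKFlatFor (modT A) K :=
  isKFlat_iff K

section Stalk

variable (x : X)

lemma stalkTensor_nat₁ {a a' : X.Modules} (f : a ⟶ a') (b : X.Modules) :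
    (DerSch.stalkFunctor X x).map (((shT X).map f).app b) ≫ (stalkTensorIso x a' b).hom =
      (stalkTensorIso x a b).hom ≫
        ((modT (X.presheaf.stalk x)).map ((DerSch.stalkFunctor X x).map f)).app ((DerSch.stalkFunctor X x).obj b) := by
  simpa using stalkTensorIso_natural (x := x) f (𝟙 b)

lemma stalkTensor_nat₂ (a : X.Modules) {b b' : X.Modules} (g : b ⟶ b') :
    (DerSch.stalkFunctor X x).map (((shT X).obj a).map g) ≫ (stalkTensorIso x a b').hom =
      (stalkTensorIso x a b).hom ≫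
        ((modT (X.presheaf.stalk x)).obj ((DerSch.stalkFunctor X x).obj a)).map ((DerSch.stalkFunctor X x).map g) := by
  simpa using stalkTensorIso_natural (x := x) (𝟙 a) g

/-- The stalk of a total tensor complex. -/
noncomputable def stalkTotIso (M K : CochainComplex X.Modules ℤ) :
    (stalkK x).obj (tot (shT X) M K) ≅ tot (modT (X.presheaf.stalk x)) ((stalkK x).obj M) ((stalkK x).obj K) :=
  mapTotIso (shT X) (modT (X.presheaf.stalk x)) (DerSch.stalkFunctor X x) (DerSch.stalkFunctor X x)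
    (DerSch.stalkFunctor X x) (stalkTensorIso x) (stalkTensor_nat₁ x) (stalkTensor_nat₂ x) M K

lemma stalkTotIso_natural {M M' K K' : CochainComplex X.Modules ℤ} (f : M ⟶ M') (g : K ⟶ K') :
    (stalkK x).map (mapBifunctorMap f g (shT X) (ComplexShape.up ℤ)) ≫ (stalkTotIso x M' K').hom =
      (stalkTotIso x M K).hom ≫ mapBifunctorMap ((stalkK x).map f) ((stalkK x).map g)
        (modT (X.presheaf.stalk x)) (ComplexShape.up ℤ) :=
  mapTotHom_natural (stalkTensor_nat₁ x) (stalkTensor_nat₂ x) f g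

end Stalk

/-- K-flatness is stalkwise. -/
theorem isKFlatFor_iff_stalks (K : CochainComplex X.Modules ℤ) :
    IsKFlatFor (shT X) K ↔ ∀ x, IsKFlatFor (modT (X.presheaf.stalk x)) ((stalkK x).obj K) := by
  refine ⟨fun h x M hM => ?_, fun h M hM => ?_⟩
  · let M' := ((sky x).mapHomologicalComplex (ComplexShape.up ℤ)).obj M
    have hM' : M'.Acyclic := fun n => (hM n).map (sky x)
    have h' := (acyclic_iff_stalks _).1 (h M' hM') x
    let e : (stalkK x).obj M' ≅ M :=
      Hom.isoOfComponents (fun n => (skyStalkIso x).app (M.X n))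
        (fun i j _ => ((skyStalkIso x).hom.naturality (M.d i j)).symm)
    exact acyclic_of_iso'
      (stalkTotIso x M' K ≪≫ ((modT (X.presheaf.stalk x)).map₂CochainComplex.flip.obj _).mapIso e) h'
  · rw [acyclic_iff_stalks]
    intro x
    exact acyclic_of_iso' (stalkTotIso x M K).symm (h x _ ((acyclic_iff_stalks M).1 hM x))

/-- Bounded above complexes of stalkwise flat modules are K-flat. -/
theorem isKFlatFor_sheaf_of_flat (K : CochainComplex X.Modules ℤ) (b : ℤ) (hb : ∀ n, b < n → IsZero (K.X n))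
    (h : ∀ n, FlatMod.IsFlat (K.X n)) : IsKFlatFor (shT X) K :=
  (isKFlatFor_iff_stalks K).2 fun x => isKFlatFor_of_flat _ b
    (fun n hn => (DerSch.stalkFunctor X x).map_isZero (hb n hn)) (fun n => h n x)

/-- Two out of three. -/
theorem isKFlatFor_sheaf_two_of_three (S : ShortComplex (CochainComplex X.Modules ℤ))
    (hS : S.ShortExact) (h3 : ∀ n, FlatMod.IsFlat (S.X₃.X n)) :
    (IsKFlatFor (shT X) S.X₁ → IsKFlatFor (shT X) S.X₂ → IsKFlatFor (shT X) S.X₃) ∧
    (IsKFlatFor (shT X) S.X₁ → IsKFlatFor (shT X) S.X₃ → IsKFlatFor (shT X) S.X₂) ∧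
    (IsKFlatFor (shT X) S.X₂ → IsKFlatFor (shT X) S.X₃ → IsKFlatFor (shT X) S.X₁) := by
  simp only [isKFlatFor_iff_stalks]
  have h : ∀ x a q, (((S.map (stalkK x)).map (HomologicalComplex.eval _ (ComplexShape.up ℤ) q)).map
      ((modT (X.presheaf.stalk x)).obj a)).ShortExact := fun x a q =>
    shortExact_eval_tensor (S := S.map (stalkK x)) (shortExact_of_degreewise_shortExact _ fun n =>
      ((hS.map_of_exact (HomologicalComplex.eval _ (ComplexShape.up ℤ) n)).map_of_exact (DerSch.stalkFunctor X x))) (fun n => h3 n x) a q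
  exact ⟨fun h₁ h₂ x => IsKFlatFor.ext₃ (S := S.map (stalkK x)) (h x) (h₁ x) (h₂ x),
    fun h₁ h₃ x => IsKFlatFor.ext₂ (S := S.map (stalkK x)) (h x) (h₁ x) (h₃ x),
    fun h₂ h₃ x => IsKFlatFor.ext₁ (S := S.map (stalkK x)) (h x) (h₂ x) (h₃ x)⟩

/-- Tensoring a quasi-isomorphism of K-flat complexes. -/
theorem quasiIso_tot_sheaf {P Q : CochainComplex X.Modules ℤ} (hP : IsKFlatFor (shT X) P)
    (hQ : IsKFlatFor (shT X) Q) (α : P ⟶ Q) [QuasiIso α] (F : CochainComplex X.Modules ℤ) :
    QuasiIso (totMap₂ (shT X) F α) := by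
  rw [quasiIso_iff_stalks]
  intro x
  haveI := (quasiIso_iff_stalks α).1 inferInstance x
  haveI := quasiIso_tot_of_kflat ((isKFlatFor_iff_stalks P).1 hP x) ((isKFlatFor_iff_stalks Q).1 hQ x)
    ((stalkK x).map α) ((stalkK x).obj F)
  have e := stalkTotIso_natural x (𝟙 F) α
  rw [CategoryTheory.Functor.map_id] at e
  refine (quasiIso_iff_comp_right _ (stalkTotIso x F Q).hom).1 ?_
  rw [e]
  infer_instance

/-- Zero-differential complexes of flat modules are K-flat. -/
theorem isKFlatFor_sheaf_zeroD (U : ℤ → X.Modules) (h : ∀ n, FlatMod.IsFlat (U n)) :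
    IsKFlatFor (shT X) (zeroD U) := by
  rw [isKFlatFor_iff_stalks]
  intro x
  refine IsKFlatFor.of_iso (K := zeroD fun n => (DerSch.stalkFunctor X x).obj (U n))
    (Hom.isoOfComponents (fun n => Iso.refl _) fun i j _ => ?_)
    (isKFlatFor_zeroD (fun n => (DerSch.stalkFunctor X x).obj (U n)) fun n => h n x)
  simp [zeroD]

/-- Sequential colimits of K-flat complexes are K-flat. -/
theorem isKFlatFor_sheaf_colimit {F : ℕ ⥤ CochainComplex X.Modules ℤ} {c : Cocone F} (hc : IsColimit c)
    (h : ∀ j, IsKFlatFor (shT X) (F.obj j)) : IsKFlatFor (shT X) c.pt := by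
  rw [isKFlatFor_iff_stalks]
  intro x
  refine IsKFlatFor.colimit (F := F ⋙ stalkK x) (c := (stalkK x).mapCocone c) (fun a q => ?_)
    fun j => (isKFlatFor_iff_stalks _).1 (h j) x
  haveI : PreservesColimitsOfShape ℕ ((modT (X.presheaf.stalk x)).obj a) :=
    inferInstanceAs (PreservesColimitsOfShape ℕ (tensorLeft a))
  haveI : PreservesColimitsOfShape ℕ (DerSch.stalkFunctor X x) :=
    preservesColimitsOfShape_of_equiv (ULiftHomULiftCategory.equiv.{u, u} ℕ).symm _
  exact isColimitOfPreserves ((modT (X.presheaf.stalk x)).obj a) (isColimitOfPreserves (DerSch.stalkFunctor X x)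
    (isColimitOfPreserves (HomologicalComplex.eval _ (ComplexShape.up ℤ) q) hc))

/-- K-flat resolutions relative to a map. -/
theorem exists_kflat_res_sheaf {K L : CochainComplex X.Modules ℤ} (a : K ⟶ L) (hK : IsKFlatFor (shT X) K) :
    ∃ (N : CochainComplex X.Modules ℤ) (b : K ⟶ N) (c : N ⟶ L), IsKFlatFor (shT X) N ∧ QuasiIso c ∧
      (∀ n, Epi (c.f n)) ∧ b ≫ c = a ∧ ((∀ n, FlatMod.IsFlat (K.X n)) → ∀ n, FlatMod.IsFlat (N.X n)) :=
  exists_cell_res (IsKFlatFor (shT X)) (fun M : X.Modules => FlatMod.IsFlat M)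
    (fun M => by obtain ⟨F, p, h₁, h₂⟩ := exists_flat_cover M; exact ⟨F, p, h₁, h₂⟩)
    isKFlatFor_sheaf_zeroD (fun _ n h => h.shift n)
    (fun _ hS h₁ h₃ => h₁.ext₂ (fun a q => shortExact_map_of_splitting hS a q) h₃)
    (fun S σ h₁ h₃ x => flat_of_splitting _ (σ.map (DerSch.stalkFunctor X x)) (h₁ x) (h₃ x))
    (fun _ _ hc h => isKFlatFor_sheaf_colimit hc h)
    (fun F c hc h x => by
      haveI : PreservesColimitsOfShape ℕ (DerSch.stalkFunctor X x) :=
        preservesColimitsOfShape_of_equiv (ULiftHomULiftCategory.equiv.{u, u} ℕ).symm _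
      exact flat_of_isColimit (isColimitOfPreserves (DerSch.stalkFunctor X x) hc) (fun j => h j x))
    a hK

/-- K-flat resolutions. -/
theorem exists_kflat_sheaf (L : CochainComplex X.Modules ℤ) :
    ∃ (N : CochainComplex X.Modules ℤ) (c : N ⟶ L), IsKFlatFor (shT X) N ∧
      (∀ n, FlatMod.IsFlat (N.X n)) ∧ QuasiIso c ∧ ∀ n, Epi (c.f n) := by
  let Z : X.Modules := kernel (𝟙 (DCoh.shP.obj (CohB1.toPMod (Coh.structureModule X))))
  have hZ : IsZero Z := isZero_kernel_of_mono _
  have hzero : IsZero (zeroD fun _ : ℤ => Z) := by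
    rw [IsZero.iff_id_eq_zero]
    ext n : 1
    exact hZ.eq_of_src _ _
  obtain ⟨N, b, c, hN, hc, he, -, hQ⟩ := exists_kflat_res_sheaf (0 : zeroD (fun _ => Z) ⟶ L)
    (isKFlatFor_of_isZero hzero)
  refine ⟨N, c, hN, hQ fun n x => ?_, hc, he⟩
  haveI := ModuleCat.subsingleton_of_isZero ((DerSch.stalkFunctor X x).map_isZero hZ)
  exact (inferInstance : Module.Flat (X.presheaf.stalk x) ((DerSch.stalkFunctor X x).obj Z))

/-- K-flat resolutions of bounded above complexes, bounded above. -/
theorem exists_kflat_sheaf_le (L : CochainComplex X.Modules ℤ) (b : ℤ) (hb : ∀ n, b < n → IsZero (L.X n)) :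
    ∃ (N : CochainComplex X.Modules ℤ) (c : N ⟶ L), IsKFlatFor (shT X) N ∧
      (∀ n, FlatMod.IsFlat (N.X n)) ∧ QuasiIso c ∧ ∀ n, b < n → IsZero (N.X n) :=
  exists_cell_res_le (IsKFlatFor (shT X)) (fun M : X.Modules => FlatMod.IsFlat M)
    (fun M => by obtain ⟨F, p, h₁, h₂⟩ := exists_flat_cover M; exact ⟨F, p, h₁, h₂⟩)
    isKFlatFor_sheaf_zeroD (fun _ n h => h.shift n)
    (fun _ hS h₁ h₃ => h₁.ext₂ (fun a q => shortExact_map_of_splitting hS a q) h₃)
    (fun S σ h₁ h₃ x => flat_of_splitting _ (σ.map (DerSch.stalkFunctor X x)) (h₁ x) (h₃ x))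
    (fun _ _ hc h => isKFlatFor_sheaf_colimit hc h)
    (fun F c hc h x => by
      haveI : PreservesColimitsOfShape ℕ (DerSch.stalkFunctor X x) :=
        preservesColimitsOfShape_of_equiv (ULiftHomULiftCategory.equiv.{u, u} ℕ).symm _
      exact flat_of_isColimit (isColimitOfPreserves (DerSch.stalkFunctor X x) hc) (fun j => h j x))
    (fun M hM x => by
      haveI := ModuleCat.subsingleton_of_isZero ((DerSch.stalkFunctor X x).map_isZero hM)
      exact (inferInstance : Module.Flat (X.presheaf.stalk x) ((DerSch.stalkFunctor X x).obj M)))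
    L b hb

end Groth.Agent.DCat
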