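import Groth.Prelude.Def_DDual2
import Groth.Agent.DCat.KFlatSheaf
import Groth.Agent.DCat.Derived
import Mathlib.CategoryTheory.Adjunction.Additive
import Mathlib.Algebra.Homology.DerivedCategory.Fractions

/-! Existence of `Lf^*`. -/

set_option autoImplicit false
set_option backward.isDefEq.respectTransparency false
set_option backward.defeqAttrib.useBackward true
set_option linter.style.haveILetI false

universe u

open CategoryTheory CategoryTheory.Limits AlgebraicGeometry MonoidalCategory HomologicalComplex
open Groth.Agent.ModStalk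

attribute [local instance] HasDerivedCategory.standard

namespace Groth.Agent.DCat

/-- Tensoring an acyclic K-flat complex with a module. -/
lemma acyclic_tensorRight_of_kflat {R : Type u} [CommRing R] {Q : DRing.Cx R} (hQ : IsKFlatFor (modT R) Q)
    (hac : Q.Acyclic) (M : ModuleCat.{u} R) :
    (((modT R).flip.obj M).mapHomologicalComplex (ComplexShape.up ℤ) |>.obj Q).Acyclic := by
  obtain ⟨e⟩ := exists_tot_single_iso (T := modT R) Q M
  refine acyclic_of_iso' e.symm ?_
  obtain ⟨M', g, hM', -, hg, -⟩ := exists_kflat ((HomologicalComplex.single _ (ComplexShape.up ℤ) 0).obj M)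
  haveI := hQ.quasiIso_map g
  refine acyclic_of_iso' (totSymm Q _).symm fun n => ?_
  exact (quasiIsoAt_iff_exactAt (totMap₁ (modT R) g Q) n
    (acyclic_of_iso' (totSymm Q M') (hM' Q hac) n)).1 inferInstance

/-- Extension of scalars, restricted back, is tensoring with the ring. -/
noncomputable def restrictExtIsoApp {R R' : Type u} [CommRing R] [CommRing R'] (φ : R →+* R') (N : ModuleCat.{u} R) :
    (tensorLeft ((ModuleCat.restrictScalars φ).obj (ModuleCat.of R' R'))).obj N ≅
      (ModuleCat.extendScalars φ ⋙ ModuleCat.restrictScalars φ).obj N := by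
  refine LinearEquiv.toModuleIso
    (X₁ := (tensorLeft ((ModuleCat.restrictScalars φ).obj (ModuleCat.of R' R'))).obj N)
    (X₂ := (ModuleCat.extendScalars φ ⋙ ModuleCat.restrictScalars φ).obj N)
    { AddEquiv.refl _ with map_smul' := fun r x => ?_ }
  induction x using TensorProduct.induction_on with
  | zero => exact (smul_zero r).trans (smul_zero r).symm
  | tmul a b => rfl
  | add a b ha hb =>
    exact (smul_add r a b).trans ((congrArg₂ (· + ·) ha hb).trans (smul_add r _ _).symm)

/-- The comparison, naturally. -/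
noncomputable def restrictExtIso {R R' : Type u} [CommRing R] [CommRing R'] (φ : R →+* R') :
    tensorLeft ((ModuleCat.restrictScalars φ).obj (ModuleCat.of R' R')) ≅
      ModuleCat.extendScalars φ ⋙ ModuleCat.restrictScalars φ :=
  NatIso.ofComponents (restrictExtIsoApp φ)
    (fun g => ModuleCat.MonoidalCategory.tensor_ext fun _ _ => rfl)

/-- Extension of scalars preserves quasi-isomorphisms of K-flat complexes. -/
lemma quasiIso_extendScalars_of_kflat {R R' : Type u} [CommRing R] [CommRing R'] (φ : R →+* R')
    {P Q : DRing.Cx R} (hP : IsKFlatFor (modT R) P) (hQ : IsKFlatFor (modT R) Q) (α : P ⟶ Q) [QuasiIso α]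
    [(ModuleCat.extendScalars φ).Additive] :
    QuasiIso (((ModuleCat.extendScalars φ).mapHomologicalComplex (ComplexShape.up ℤ)).map α) := by
  refine quasiIso_map_of_kills ((ModuleCat.extendScalars φ).mapHomologicalComplex (ComplexShape.up ℤ))
    (fun _ _ h => ⟨(ModuleCat.extendScalars φ).mapHomotopy h⟩)
    (fun S hS => shortExact_of_degreewise_shortExact _ fun n => (((hS n).some).map (ModuleCat.extendScalars φ)).shortExact)
    α ?_
  intro S e h₁ hS hac
  have h₃ : IsKFlatFor (modT R) S.X₃ := (h₁ ▸ hP : IsKFlatFor (modT R) S.X₁).ext₃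
    (fun a q => shortExact_map_of_splitting hS a q) (hQ.of_homotopyEquiv e.symm)
  have h := acyclic_tensorRight_of_kflat h₃ hac ((ModuleCat.restrictScalars φ).obj (ModuleCat.of R' R'))
  intro n
  rw [HomologicalComplex.exactAt_iff]
  refine (ShortComplex.exact_map_iff_of_faithful _ (ModuleCat.restrictScalars φ)).1 ?_
  let ε : ((modT R).flip.obj ((ModuleCat.restrictScalars φ).obj (ModuleCat.of R' R'))) ≅
      ModuleCat.extendScalars φ ⋙ ModuleCat.restrictScalars φ :=
    (BraidedCategory.tensorLeftIsoTensorRight _).symm ≪≫ restrictExtIso φ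
  exact ShortComplex.exact_of_iso ((S.X₃.sc n).mapNatIso ε) (h n)

variable {X Y : Scheme.{u}} (f : X ⟶ Y)

/-- Pullback preserves quasi-isomorphisms of K-flat complexes. -/
lemma quasiIso_pullback_of_kflat {P Q : CochainComplex Y.Modules ℤ} (hP : IsKFlatFor (shT Y) P)
    (hQ : IsKFlatFor (shT Y) Q) (α : P ⟶ Q) [QuasiIso α] :
    QuasiIso (((Scheme.Modules.pullback f).mapHomologicalComplex (ComplexShape.up ℤ)).map α) := by
  rw [quasiIso_iff_stalks]
  intro x
  haveI : (ModuleCat.extendScalars (f.stalkMap x).hom).Additive :=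
    (ModuleCat.extendRestrictScalarsAdj (f.stalkMap x).hom).left_adjoint_additive
  haveI := (quasiIso_iff_stalks α).1 inferInstance (f.base x)
  haveI := quasiIso_extendScalars_of_kflat (f.stalkMap x).hom ((isKFlatFor_iff_stalks P).1 hP (f.base x))
    ((isKFlatFor_iff_stalks Q).1 hQ (f.base x)) ((stalkK (f.base x)).map α)
  let i : ∀ K : CochainComplex Y.Modules ℤ,
      (stalkK x).obj (((Scheme.Modules.pullback f).mapHomologicalComplex (ComplexShape.up ℤ)).obj K) ≅
        ((ModuleCat.extendScalars (f.stalkMap x).hom).mapHomologicalComplex (ComplexShape.up ℤ)).obj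
          ((stalkK (f.base x)).obj K) := fun K =>
    Hom.isoOfComponents (fun n => (pullbackStalkIso f x).app (K.X n))
      (fun a b _ => ((pullbackStalkIso f x).hom.naturality (K.d a b)).symm)
  refine (quasiIso_iff_comp_right _ (i Q).hom).1 ?_
  rw [show (stalkK x).map (((Scheme.Modules.pullback f).mapHomologicalComplex (ComplexShape.up ℤ)).map α) ≫ (i Q).hom
      = (i P).hom ≫ ((ModuleCat.extendScalars (f.stalkMap x).hom).mapHomologicalComplex (ComplexShape.up ℤ)).map
          ((stalkK (f.base x)).map α) from by ext n : 1; exact (pullbackStalkIso f x).hom.naturality (α.f n)]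
  infer_instance

/-- Complexes of the homotopy category which are K-flat. -/
def kflatObj (Y : Scheme.{u}) : ObjectProperty (HomotopyCategory Y.Modules (ComplexShape.up ℤ)) :=
  fun K => IsKFlatFor (shT Y) K.as

lemma exists_kflat_hot (K : HomotopyCategory Y.Modules (ComplexShape.up ℤ)) :
    ∃ (K' : HomotopyCategory Y.Modules (ComplexShape.up ℤ)) (s : K' ⟶ K), kflatObj Y K' ∧
      HomotopyCategory.quasiIso Y.Modules (ComplexShape.up ℤ) s := by
  obtain ⟨N, c, hN, -, hc, -⟩ := exists_kflat_sheaf K.as
  exact ⟨(HomotopyCategory.quotient _ _).obj N, (HomotopyCategory.quotient _ _).map c, hN,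
    (HomotopyCategory.quotient_map_mem_quasiIso_iff c).2 hc⟩

lemma isIso_pullKh_of_kflat ⦃K L : HomotopyCategory Y.Modules (ComplexShape.up ℤ)⦄ (s : K ⟶ L)
    (hK : kflatObj Y K) (hL : kflatObj Y L) (hs : HomotopyCategory.quasiIso Y.Modules (ComplexShape.up ℤ) s) :
    IsIso ((DCoh.pullKh f).map s) := by
  obtain ⟨K⟩ := K
  obtain ⟨L⟩ := L
  obtain ⟨s, rfl⟩ := (HomotopyCategory.quotient Y.Modules (ComplexShape.up ℤ)).map_surjective s
  haveI : QuasiIso s := (HomotopyCategory.quotient_map_mem_quasiIso_iff s).1 hs
  haveI := quasiIso_pullback_of_kflat f hK hL s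
  exact Localization.inverts DerivedCategory.Qh (HomotopyCategory.quasiIso X.Modules (ComplexShape.up ℤ))
    ((HomotopyCategory.quotient X.Modules (ComplexShape.up ℤ)).map
      (((Scheme.Modules.pullback f).mapHomologicalComplex (ComplexShape.up ℤ)).map s))
    ((HomotopyCategory.quotient_map_mem_quasiIso_iff _).2
      ((HomologicalComplex.mem_quasiIso_iff _).2 ‹_›))

theorem hasLpull : DCoh.HasLpull f :=
  hasLeftDerived (P := kflatObj Y) exists_kflat_hot (isIso_pullKh_of_kflat f)

end Groth.Agent.DCat
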