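import Groth.Agent.DCat.RDUnbounded
import Mathlib.Algebra.Homology.DerivedCategory.HomologySequence
import Mathlib.CategoryTheory.Triangulated.Adjunction
import Mathlib.CategoryTheory.Adjunction.FullyFaithful
import Mathlib.CategoryTheory.Functor.Derived.RightDerived

/-! The K-injective right adjoint of `K(A) ⥤ D(A)` and the resulting model of right derived functors. -/

set_option autoImplicit false
set_option backward.isDefEq.respectTransparency false
set_option backward.defeqAttrib.useBackward true

universe w v v' u u'

open CategoryTheory CategoryTheory.Limits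

namespace Groth.Agent.DCat

variable {A : Type u} [Category.{v} A] [Abelian A] [HasDerivedCategory.{w} A] (h : EnoughKInj A)

include h in
lemma exists_resObj (Y : DerivedCategory A) : ∃ (I : CochainComplex A ℤ) (_ : I.IsKInjective),
    Nonempty (DerivedCategory.Qh.obj ((HomotopyCategory.quotient A (ComplexShape.up ℤ)).obj I) ≅ Y) := by
  obtain ⟨X, s, hX, hs⟩ := kInj_resolution h (DerivedCategory.Qh.objPreimage Y)
  have : IsIso (DerivedCategory.Qh.map s) := Localization.inverts DerivedCategory.Qh
    (HomotopyCategory.quasiIso A (ComplexShape.up ℤ)) s hs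
  exact ⟨X.as, hX, ⟨(asIso (DerivedCategory.Qh.map s)).symm ≪≫ DerivedCategory.Qh.objObjPreimageIso Y⟩⟩

/-- A K-injective representative. -/
noncomputable def resObj (Y : DerivedCategory A) : CochainComplex A ℤ := (exists_resObj h Y).choose

instance resObj_isKInjective (Y : DerivedCategory A) : (resObj h Y).IsKInjective :=
  (exists_resObj h Y).choose_spec.choose

/-- The representative represents. -/
noncomputable def resIso (Y : DerivedCategory A) :
    DerivedCategory.Qh.obj ((HomotopyCategory.quotient A (ComplexShape.up ℤ)).obj (resObj h Y)) ≅ Y :=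
  (exists_resObj h Y).choose_spec.choose_spec.some

/-- The hom bijection. -/
noncomputable def resHomEquiv (X : HomotopyCategory A (ComplexShape.up ℤ)) (Y : DerivedCategory A) :
    (DerivedCategory.Qh.obj X ⟶ Y) ≃
      (X ⟶ (HomotopyCategory.quotient A (ComplexShape.up ℤ)).obj (resObj h Y)) :=
  ((Iso.refl _).homCongr (resIso h Y).symm).trans
    (Equiv.ofBijective _ (CochainComplex.IsKInjective.Qh_map_bijective X (resObj h Y))).symm

lemma resHomEquiv_symm_apply {X : HomotopyCategory A (ComplexShape.up ℤ)} {Y : DerivedCategory A}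
    (g : X ⟶ (HomotopyCategory.quotient A (ComplexShape.up ℤ)).obj (resObj h Y)) :
    (resHomEquiv h X Y).symm g = DerivedCategory.Qh.map g ≫ (resIso h Y).hom := by
  simp [resHomEquiv]

lemma resHomEquiv_natural (X' X : HomotopyCategory A (ComplexShape.up ℤ)) (Y : DerivedCategory A)
    (f : X' ⟶ X) (g : DerivedCategory.Qh.obj X ⟶ Y) :
    resHomEquiv h X' Y (DerivedCategory.Qh.map f ≫ g) = f ≫ resHomEquiv h X Y g := by
  apply (resHomEquiv h X' Y).symm.injective
  rw [Equiv.symm_apply_apply, resHomEquiv_symm_apply, Functor.map_comp, Category.assoc,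
    ← resHomEquiv_symm_apply, Equiv.symm_apply_apply]

/-- The right adjoint of the localization functor. -/
noncomputable def rho : DerivedCategory A ⥤ HomotopyCategory A (ComplexShape.up ℤ) :=
  Adjunction.rightAdjointOfEquiv (resHomEquiv h) (resHomEquiv_natural h)

/-- The adjunction. -/
noncomputable def rhoAdj : DerivedCategory.Qh ⊣ rho h :=
  Adjunction.adjunctionOfEquivRight (resHomEquiv h) (resHomEquiv_natural h)

lemma kInj_rho (Y : DerivedCategory A) : kInj A ((rho h).obj Y) :=
  resObj_isKInjective h Y

instance rhoAdj_counit_app_isIso (Y : DerivedCategory A) : IsIso ((rhoAdj h).counit.app Y) := by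
  have e : (rhoAdj h).counit.app Y = (resHomEquiv h _ Y).symm (𝟙 _) := by
    simp [rhoAdj, Adjunction.adjunctionOfEquivRight, rho]
  rw [e, resHomEquiv_symm_apply, CategoryTheory.Functor.map_id, Category.id_comp]
  infer_instance

instance rhoAdj_counit_isIso : IsIso (rhoAdj h).counit := NatIso.isIso_of_isIso_app _

instance rho_full : (rho h).Full := (rhoAdj h).fullyFaithfulROfIsIsoCounit.full

instance rho_faithful : (rho h).Faithful := (rhoAdj h).fullyFaithfulROfIsIsoCounit.faithful

lemma isIso_rhoAdj_unit {X : HomotopyCategory A (ComplexShape.up ℤ)} (hX : kInj A X) :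
    IsIso ((rhoAdj h).unit.app X) := by
  refine kInj_isIso _ hX (kInj_rho h _) ?_
  rw [← DerivedCategory.isIso_Qh_map_iff]
  have e := (rhoAdj h).left_triangle_components X
  have : IsIso (DerivedCategory.Qh.map ((rhoAdj h).unit.app X) ≫
      (rhoAdj h).counit.app (DerivedCategory.Qh.obj X)) := by
    rw [e]
    exact ⟨⟨𝟙 _, Category.comp_id _, Category.comp_id _⟩⟩
  exact IsIso.of_isIso_comp_right _ ((rhoAdj h).counit.app (DerivedCategory.Qh.obj X))

noncomputable instance rho_commShift : (rho h).CommShift ℤ := (rhoAdj h).rightAdjointCommShift ℤ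

instance rhoAdj_commShift : (rhoAdj h).CommShift ℤ := (rhoAdj h).commShift_of_leftAdjoint ℤ

instance rho_isTriangulated : (rho h).IsTriangulated := (rhoAdj h).isTriangulated_rightAdjoint

section

variable {H : Type u'} [Category.{v'} H] (F : HomotopyCategory A (ComplexShape.up ℤ) ⥤ H)

/-- The unit of the model of the right derived functor. -/
noncomputable def rfUnit : F ⟶ DerivedCategory.Qh ⋙ (rho h ⋙ F) :=
  { app := fun X => F.map ((rhoAdj h).unit.app X)
    naturality := fun X Y f => by
      dsimp
      rw [← F.map_comp, ← F.map_comp]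
      exact congrArg F.map ((rhoAdj h).unit.naturality f) }

instance rf_isRightDerived :
    (rho h ⋙ F).IsRightDerivedFunctor (rfUnit h F) (HomotopyCategory.quasiIso A (ComplexShape.up ℤ)) :=
  isRightDerived_of_isIso (kInj_resolution h) (kInj_isIso_map F) _ fun X hX => by
    have := isIso_rhoAdj_unit h hX
    dsimp [rfUnit]
    infer_instance

variable [F.HasRightDerivedFunctor (HomotopyCategory.quasiIso A (ComplexShape.up ℤ))]

/-- Comparison of the model with the chosen total right derived functor. -/
noncomputable def rfIso :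
    F.totalRightDerived DerivedCategory.Qh (HomotopyCategory.quasiIso A (ComplexShape.up ℤ)) ≅ rho h ⋙ F :=
  Functor.rightDerivedUnique _ _
    (F.totalRightDerivedUnit DerivedCategory.Qh (HomotopyCategory.quasiIso A (ComplexShape.up ℤ)))
    (rfUnit h F) (HomotopyCategory.quasiIso A (ComplexShape.up ℤ))

end

end Groth.Agent.DCat
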