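import Groth.Prelude.Def_DCoh2
import Groth.Agent.DCat.LPull
import Groth.Agent.DCat.DerivedAdj
import Groth.Agent.DCat.RFTri
import Groth.Agent.DCat.DerivedLimits
import Mathlib.CategoryTheory.Limits.Preserves.Shapes.Products

/-! `Lf^* ⊣ Rf_*`. -/

set_option autoImplicit false
set_option backward.isDefEq.respectTransparency false
set_option backward.defeqAttrib.useBackward true
set_option linter.style.haveILetI false

universe u

open CategoryTheory CategoryTheory.Limits AlgebraicGeometry CategoryTheory.Pretriangulated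

attribute [local instance] HasDerivedCategory.standard

namespace Groth.Agent.DCat

variable {X Y : Scheme.{u}} (f : X ⟶ Y)

lemma modules_enoughKInj (X : Scheme.{u}) : EnoughKInj X.Modules :=
  enoughKInj_of_isGrothendieckAbelian

theorem hasRpush : DCoh.HasRpush f :=
  hasRightDerivedFunctor_of_enoughKInj (modules_enoughKInj X) _

/-- `Lf^* ⊣ Rf_*`. -/
theorem nonempty_pullPushAdj [DCoh.HasLpull f] [DCoh.HasRpush f] :
    Nonempty (DCoh.Lpull f ⊣ DCoh.Rpush f) :=
  nonempty_derivedAdj (adjHot (ComplexShape.up ℤ) (Scheme.Modules.pullbackPushforwardAdjunction f))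
    DerivedCategory.Qh DerivedCategory.Qh _ _
    exists_kflat_hot (isIso_pullKh_of_kflat f)
    (kInj_resolution (modules_enoughKInj X)) (kInj_isIso_map _)

instance isRightAdjoint_Rpush [DCoh.HasRpush f] : (DCoh.Rpush f).IsRightAdjoint := by
  haveI := hasLpull f
  exact (nonempty_pullPushAdj f).some.isRightAdjoint

/-- A right derived functor of a triangulated functor on the homotopy category is triangulated. -/
theorem exists_commShift_rf {A : Type (u + 1)} [Category.{u} A] [Abelian A] (h : EnoughKInj A)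
    {H : Type (u + 1)} [Category.{u + 1} H] [Preadditive H] [HasZeroObject H] [HasShift H ℤ]
    [∀ n : ℤ, (shiftFunctor H n).Additive] [Pretriangulated H]
    (F : HomotopyCategory A (ComplexShape.up ℤ) ⥤ H) [F.CommShift ℤ] [F.IsTriangulated]
    [F.HasRightDerivedFunctor (HomotopyCategory.quasiIso A (ComplexShape.up ℤ))] :
    ∃ (_ : (F.totalRightDerived DerivedCategory.Qh (HomotopyCategory.quasiIso A (ComplexShape.up ℤ))).CommShift ℤ),
      (F.totalRightDerived DerivedCategory.Qh (HomotopyCategory.quasiIso A (ComplexShape.up ℤ))).IsTriangulated := by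
  let i := (rfIso h F).symm
  letI := Functor.CommShift.ofIso i ℤ
  haveI : NatTrans.CommShift i.hom ℤ := Functor.CommShift.ofIso_compatibility i ℤ
  exact ⟨inferInstance, Functor.isTriangulated_of_iso i⟩

/-- The commutation of `Rf_*` with shifts. -/
theorem exists_commShift_Rpush [DCoh.HasRpush f] :
    ∃ (_ : (DCoh.Rpush f).CommShift ℤ), (DCoh.Rpush f).IsTriangulated :=
  exists_commShift_rf (modules_enoughKInj X) (DCoh.pushKh f)

/-- `Rf_*` commutes with derived limits. -/
theorem isRlim_Rpush [DCoh.HasRpush f] (K : ℕ → DCoh.D X) (t : ∀ n, K (n + 1) ⟶ K n) [HasProduct K]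
    [HasProduct fun n => (DCoh.Rpush f).obj (K n)] (L : DCoh.D X) (hL : DCoh.IsRlim K t L) :
    DCoh.IsRlim (fun n => (DCoh.Rpush f).obj (K n)) (fun n => (DCoh.Rpush f).map (t n)) ((DCoh.Rpush f).obj L) := by
  obtain ⟨_, _⟩ := exists_commShift_Rpush f
  obtain ⟨a, c, hT⟩ := hL
  let R := DCoh.Rpush f
  haveI : PreservesLimit (Discrete.functor K) R :=
    (Adjunction.ofIsRightAdjoint R).rightAdjoint_preservesLimits.preservesLimitsOfShape.preservesLimit
  let e := PreservesProduct.iso R K
  refine ⟨R.map a ≫ e.hom, e.inv ≫ R.map c ≫ (R.commShiftIso (1 : ℤ)).hom.app L, ?_⟩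
  refine isomorphic_distinguished _ (R.map_distinguished _ hT) _
    (Triangle.isoMk _ _ (Iso.refl _) e.symm e.symm (by simp) ?_ (by simp))
  dsimp
  refine (Iso.comp_inv_eq e).2 ?_
  rw [Category.assoc, Iso.eq_inv_comp]
  refine Pi.hom_ext _ _ fun n => ?_
  simp [e, R, PreservesProduct.iso_hom]

end Groth.Agent.DCat
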