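import Groth.Prelude.Def_DDual2
import Groth.Agent.DCat.PullPush
import Groth.Agent.DCat.PullComp
import Groth.Agent.Props12.FinLocFree
import Groth.Agent.AmpleLib.Relative
import Groth.Agent.Coherent.QcohOps
import Mathlib.CategoryTheory.Triangulated.Adjunction
import Mathlib.CategoryTheory.Shift.Adjunction

/-! Perfect and pseudo-coherent objects under derived pullback. -/

set_option autoImplicit false
set_option backward.isDefEq.respectTransparency false
set_option backward.defeqAttrib.useBackward true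
set_option linter.style.haveILetI false

universe u

open CategoryTheory CategoryTheory.Limits AlgebraicGeometry HomologicalComplex CategoryTheory.Pretriangulated
open Groth.Agent.ModStalk

attribute [local instance] HasDerivedCategory.standard

namespace Groth.Agent.DCat.PullPerf

variable {X Y : Scheme.{u}} (f : X ⟶ Y)

lemma isQCoh_of_finLocFree {M : X.Modules} (h : FlatMod.IsFinLocFree M) : Coh.IsQCoh M := by
  choose U n hU e using h
  exact Coherent.isQCoh_of_openImmersion_cover M (fun x ↦ (U x).ι)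
    (fun x ↦ ⟨x, by rw [Scheme.Opens.opensRange_ι]; exact hU x⟩) fun x ↦ by
    have := Coherent.isQCoh_freeMod (X := (U x : Scheme.{u})) (I := ULift.{u} (Fin (n x)))
    exact Coherent.isQCoh_of_iso ((e x).some ≪≫ (Props12.freeModIso _ (n x)).symm).symm

lemma isFlat_of_finLocFree {M : X.Modules} (h : FlatMod.IsFinLocFree M) : FlatMod.IsFlat M :=
  haveI := isQCoh_of_finLocFree h
  Props12.isFlat_of_isFinLocFree M h

/-- Pullback followed by restriction. -/
noncomputable def pullRestrict (V : Y.Opens) :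
    Scheme.Modules.pullback f ⋙ Scheme.Modules.restrictFunctor (f ⁻¹ᵁ V).ι ≅
      Scheme.Modules.restrictFunctor V.ι ⋙ Scheme.Modules.pullback (f ∣_ V) :=
  Functor.isoWhiskerLeft _ (Scheme.Modules.restrictFunctorIsoPullback _) ≪≫
    Scheme.Modules.pullbackComp (f ⁻¹ᵁ V).ι f ≪≫
    Scheme.Modules.pullbackCongr (morphismRestrict_ι f V).symm ≪≫
    (Scheme.Modules.pullbackComp (f ∣_ V) V.ι).symm ≪≫
    Functor.isoWhiskerRight (Scheme.Modules.restrictFunctorIsoPullback _).symm _

lemma isFinLocFree_pullback {M : Y.Modules} (h : FlatMod.IsFinLocFree M) :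
    FlatMod.IsFinLocFree ((Scheme.Modules.pullback f).obj M) := by
  intro x
  obtain ⟨V, n, hV, ⟨e⟩⟩ := h (f.base x)
  haveI := (Scheme.Modules.pullbackPushforwardAdjunction (f ∣_ V)).leftAdjoint_preservesColimits
  obtain ⟨e₁⟩ := AmpleLib.exists_pullStructureIso (f ∣_ V)
  exact ⟨f ⁻¹ᵁ V, n, hV, ⟨(pullRestrict f V).app M ≪≫ (Scheme.Modules.pullback (f ∣_ V)).mapIso e ≪≫
    PreservesCoproduct.iso (Scheme.Modules.pullback (f ∣_ V)) _ ≪≫ Sigma.mapIso fun _ => e₁⟩⟩

instance preservesMonomorphisms_restrict {U : Scheme.{u}} (j : U ⟶ X) [IsOpenImmersion j] :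
    (Scheme.Modules.restrictFunctor j).PreservesMonomorphisms where
  preserves {M N} g _ := by
    refine (Scheme.Modules.toPresheaf U).mono_of_mono_map ?_
    refine (NatTrans.mono_iff_mono_app _).2 fun W => ?_
    exact (AddCommGrpCat.mono_iff_injective _).2 (app_injective_of_mono g (j ''ᵁ W.unop))

instance preservesFiniteColimits_restrict {U : Scheme.{u}} (j : U ⟶ X) [IsOpenImmersion j] :
    PreservesFiniteColimits (Scheme.Modules.restrictFunctor j) :=
  haveI := (Scheme.Modules.restrictAdjunction j).leftAdjoint_preservesColimits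
  inferInstance

instance preservesFiniteLimits_restrict {U : Scheme.{u}} (j : U ⟶ X) [IsOpenImmersion j] :
    PreservesFiniteLimits (Scheme.Modules.restrictFunctor j) := by
  have e := (Functor.preservesFiniteLimits_tfae (Scheme.Modules.restrictFunctor j)).out 0 3
  refine e.1 fun S hS => ⟨?_, ?_⟩
  · have e' := (Functor.preservesFiniteColimits_tfae (Scheme.Modules.restrictFunctor j)).out 3 0
    exact (e'.1 inferInstance S hS).1
  · haveI := hS.mono_f
    infer_instance

/-- Restriction of representatives is well defined in the derived category. -/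
noncomputable def restrictIso (V : X.Opens) {F G : CochainComplex X.Modules ℤ}
    (e : DCoh.toD X F ≅ DCoh.toD X G) :
    DerivedCategory.Q.obj ((DCoh.restrictCx V).obj F) ≅ DerivedCategory.Q.obj ((DCoh.restrictCx V).obj G) :=
  ((Scheme.Modules.restrictFunctor V.ι).mapDerivedCategoryFactors.app F).symm ≪≫
    (Scheme.Modules.restrictFunctor V.ι).mapDerivedCategory.mapIso e ≪≫
    (Scheme.Modules.restrictFunctor V.ι).mapDerivedCategoryFactors.app G

lemma isKFlatFor_restrict (V : Y.Opens) {N : CochainComplex Y.Modules ℤ} (hN : IsKFlatFor (shT Y) N) :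
    IsKFlatFor (shT (V : Scheme.{u})) ((DCoh.restrictCx V).obj N) := by
  have h := kflatObj_pullback V.ι ((HomotopyCategory.quotient _ _).obj N) hN
  exact IsKFlatFor.of_iso (Hom.isoOfComponents
    (fun n => ((Scheme.Modules.restrictFunctorIsoPullback V.ι).app (N.X n)).symm)
    (fun i j _ => ((Scheme.Modules.restrictFunctorIsoPullback V.ι).inv.naturality (N.d i j)).symm) :
    ((Scheme.Modules.pullback V.ι).mapHomologicalComplex (ComplexShape.up ℤ)).obj N ≅ (DCoh.restrictCx V).obj N) h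

lemma isKFlatFor_of_strictlyPerfect {P : CochainComplex Y.Modules ℤ} (hP : DCoh.IsStrictlyPerfect P) :
    IsKFlatFor (shT Y) P := by
  obtain ⟨⟨a, b, hab⟩, hf⟩ := hP
  exact isKFlatFor_sheaf_of_flat P b (fun n hn => hab n (Or.inr hn)) fun n => isFlat_of_finLocFree (hf n)

lemma strictlyPerfect_pullback {P : CochainComplex Y.Modules ℤ} (hP : DCoh.IsStrictlyPerfect P) :
    DCoh.IsStrictlyPerfect (((Scheme.Modules.pullback f).mapHomologicalComplex (ComplexShape.up ℤ)).obj P) := by
  obtain ⟨⟨a, b, hab⟩, hf⟩ := hP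
  exact ⟨⟨a, b, fun i hi => (Scheme.Modules.pullback f).map_isZero (hab i hi)⟩,
    fun i => isFinLocFree_pullback f (hf i)⟩

/-- The derived pullback of a K-flat complex. -/
noncomputable def lpullIso [DCoh.HasLpull f] {N : CochainComplex Y.Modules ℤ} (hN : IsKFlatFor (shT Y) N) :
    (DCoh.Lpull f).obj (DerivedCategory.Q.obj N) ≅
      DerivedCategory.Q.obj (((Scheme.Modules.pullback f).mapHomologicalComplex (ComplexShape.up ℤ)).obj N) :=
  haveI := isIso_counit_of_mem exists_kflat_hot (isIso_pullKh_of_kflat f)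
    ((DCoh.pullKh f).totalLeftDerivedCounit DerivedCategory.Qh
      (HomotopyCategory.quasiIso Y.Modules (ComplexShape.up ℤ)))
    (X := (HomotopyCategory.quotient Y.Modules (ComplexShape.up ℤ)).obj N) hN
  (DCoh.Lpull f).mapIso ((DerivedCategory.quotientCompQhIso Y.Modules).app N).symm ≪≫
    asIso (((DCoh.pullKh f).totalLeftDerivedCounit DerivedCategory.Qh
      (HomotopyCategory.quasiIso Y.Modules (ComplexShape.up ℤ))).app
        ((HomotopyCategory.quotient Y.Modules (ComplexShape.up ℤ)).obj N)) ≪≫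
    (DerivedCategory.quotientCompQhIso X.Modules).app
      (((Scheme.Modules.pullback f).mapHomologicalComplex (ComplexShape.up ℤ)).obj N)

lemma exists_kflat_rep (E : DCoh.D Y) :
    ∃ N : CochainComplex Y.Modules ℤ, IsKFlatFor (shT Y) N ∧ Nonempty (DCoh.toD Y N ≅ E) := by
  obtain ⟨N, c, hN, -, hc, -⟩ := exists_kflat_sheaf (DerivedCategory.Q.objPreimage E)
  exact ⟨N, hN, ⟨asIso (DerivedCategory.Q.map c) ≪≫ DerivedCategory.Q.objObjPreimageIso E⟩⟩

/-- Derived pullback preserves `≤ n`. -/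
lemma isLE_Lpull [DCoh.HasLpull f] (C : DCoh.D Y) (n : ℤ) (hC : C.IsLE n) :
    ((DCoh.Lpull f).obj C).IsLE n := by
  haveI := hC
  obtain ⟨K, hK, ⟨e⟩⟩ := DerivedCategory.exists_iso_Q_obj_of_isLE C n
  obtain ⟨N, c, hN, -, hc, hb⟩ := exists_kflat_sheaf_le K n (fun i hi => K.isZero_of_isStrictlyLE n i hi)
  let e' : (DCoh.Lpull f).obj C ≅
      DerivedCategory.Q.obj (((Scheme.Modules.pullback f).mapHomologicalComplex (ComplexShape.up ℤ)).obj N) :=
    (DCoh.Lpull f).mapIso (e ≪≫ (asIso (DerivedCategory.Q.map c)).symm) ≪≫ lpullIso f hN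
  haveI : CochainComplex.IsStrictlyLE
      (((Scheme.Modules.pullback f).mapHomologicalComplex (ComplexShape.up ℤ)).obj N) n :=
    (CochainComplex.isStrictlyLE_iff _ n).2 fun i hi => (Scheme.Modules.pullback f).map_isZero (hb i hi)
  exact DerivedCategory.TStructure.t.isLE_of_iso e'.symm n

/-- The defining condition on maps for pseudo-coherence. -/
def Apx (m : ℤ) {K L : DCoh.D X} (α : K ⟶ L) : Prop :=
  (∀ i : ℤ, m < i → IsIso ((DerivedCategory.homologyFunctor X.Modules i).map α)) ∧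
    Epi ((DerivedCategory.homologyFunctor X.Modules m).map α)

lemma apx_iff_isLE (m : ℤ) (T : Triangle (DCoh.D X)) (hT : T ∈ distinguishedTriangles) :
    Apx m T.mor₁ ↔ T.obj₃.IsLE (m - 1) := by
  rw [DerivedCategory.isLE_iff]
  constructor
  · intro h i hi
    have hz : (DerivedCategory.homologyFunctor X.Modules i).map T.mor₂ = 0 := by
      rcases eq_or_lt_of_le (show m ≤ i by omega) with rfl | hi'
      · exact (DerivedCategory.HomologySequence.epi_homologyMap_mor₁_iff T hT m).1 h.2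
      · exact (DerivedCategory.HomologySequence.epi_homologyMap_mor₁_iff T hT i).1
          (by haveI := h.1 i hi'; infer_instance)
    haveI : Mono ((DerivedCategory.homologyFunctor X.Modules (i + 1)).map T.mor₁) := by
      haveI := h.1 (i + 1) (by omega); infer_instance
    have hd := (DerivedCategory.HomologySequence.mono_homologyMap_mor₁_iff T hT i (i + 1) rfl).1 inferInstance
    exact (DerivedCategory.HomologySequence.exact₃ T hT i (i + 1) rfl).isZero_of_both_zeros hz hd
  · intro h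
    have he : ∀ i, m ≤ i → Epi ((DerivedCategory.homologyFunctor X.Modules i).map T.mor₁) := fun i hi =>
      (DerivedCategory.HomologySequence.epi_homologyMap_mor₁_iff T hT i).2 ((h i (by omega)).eq_of_tgt _ _)
    refine ⟨fun i hi => ?_, he m le_rfl⟩
    haveI := he i (by omega)
    haveI : Mono ((DerivedCategory.homologyFunctor X.Modules i).map T.mor₁) :=
      (DerivedCategory.HomologySequence.mono_homologyMap_mor₁_iff T hT (i - 1) i (by omega)).2
        ((h (i - 1) (by omega)).eq_of_src _ _)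
    exact isIso_of_mono_of_epi _

lemma apx_of_isIso (m : ℤ) {K L : DCoh.D X} (α : K ⟶ L) [IsIso α] : Apx m α :=
  ⟨fun _ _ => inferInstance, inferInstance⟩

lemma Apx.comp {m : ℤ} {K L M : DCoh.D X} {α : K ⟶ L} {β : L ⟶ M} (hα : Apx m α) (hβ : Apx m β) :
    Apx m (α ≫ β) := by
  refine ⟨fun i hi => ?_, ?_⟩ <;> rw [Functor.map_comp]
  · haveI := hα.1 i hi
    haveI := hβ.1 i hi
    infer_instance
  · haveI := hα.2
    haveI := hβ.2
    infer_instance

/-- `Lf^*` is triangulated. -/
theorem exists_commShift_Lpull [DCoh.HasLpull f] :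
    ∃ (_ : (DCoh.Lpull f).CommShift ℤ), (DCoh.Lpull f).IsTriangulated := by
  haveI := hasRpush f
  obtain ⟨_, _⟩ := exists_commShift_Rpush f
  obtain ⟨adj⟩ := nonempty_pullPushAdj f
  letI := adj.leftAdjointCommShift ℤ
  haveI := adj.commShift_of_rightAdjoint ℤ
  exact ⟨inferInstance, adj.isTriangulated_leftAdjoint⟩

lemma apx_Lpull [DCoh.HasLpull f] {m : ℤ} {K L : DCoh.D Y} {α : K ⟶ L} (h : Apx m α) :
    Apx m ((DCoh.Lpull f).map α) := by
  obtain ⟨_, _⟩ := exists_commShift_Lpull f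
  obtain ⟨C, v, w, hT⟩ := distinguished_cocone_triangle α
  have hC : C.IsLE (m - 1) := (apx_iff_isLE m _ hT).1 h
  exact (apx_iff_isLE m _ ((DCoh.Lpull f).map_distinguished _ hT)).2 (isLE_Lpull f C (m - 1) hC)

/-- The comparison of representatives used in both theorems. -/
lemma exists_local [DCoh.HasLpull f] (V : Y.Opens) (E : DCoh.D Y) {N : CochainComplex Y.Modules ℤ}
    (hN : IsKFlatFor (shT Y) N) (e : DCoh.toD Y N ≅ E) (F : CochainComplex X.Modules ℤ)
    (eF : DCoh.toD X F ≅ (DCoh.Lpull f).obj E) [DCoh.HasLpull (f ∣_ V)] :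
    Nonempty ((DCoh.Lpull (f ∣_ V)).obj (DerivedCategory.Q.obj ((DCoh.restrictCx V).obj N)) ≅
      DerivedCategory.Q.obj ((DCoh.restrictCx (f ⁻¹ᵁ V)).obj F)) := by
  refine ⟨lpullIso _ (isKFlatFor_restrict V hN) ≪≫ DerivedCategory.Q.mapIso
    (Hom.isoOfComponents (fun n => ((pullRestrict f V).app (N.X n)).symm)
      (fun i j _ => ((pullRestrict f V).inv.naturality (N.d i j)).symm) :
      ((Scheme.Modules.pullback (f ∣_ V)).mapHomologicalComplex (ComplexShape.up ℤ)).obj ((DCoh.restrictCx V).obj N) ≅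
        (DCoh.restrictCx (f ⁻¹ᵁ V)).obj (((Scheme.Modules.pullback f).mapHomologicalComplex (ComplexShape.up ℤ)).obj N)) ≪≫
    restrictIso (f ⁻¹ᵁ V) ((lpullIso f hN).symm ≪≫ (DCoh.Lpull f).mapIso e ≪≫ eF.symm)⟩

theorem isPseudoCoherentD_Lpull [DCoh.HasLpull f] (m : ℤ) (E : DCoh.D Y)
    (hE : DCoh.IsPseudoCoherentD m E) : DCoh.IsPseudoCoherentD m ((DCoh.Lpull f).obj E) := by
  intro x
  obtain ⟨V, hV, hVE⟩ := hE (f.base x)
  obtain ⟨N, hN, ⟨e⟩⟩ := exists_kflat_rep E
  obtain ⟨P, α, hP, hα⟩ := hVE N ⟨e⟩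
  haveI := hasLpull (f ∣_ V)
  refine ⟨f ⁻¹ᵁ V, hV, fun F ⟨eF⟩ => ?_⟩
  obtain ⟨i₂⟩ := exists_local f V E hN e F eF
  let i₁ := lpullIso (f ∣_ V) (isKFlatFor_of_strictlyPerfect hP)
  obtain ⟨h₁, h₂⟩ := (apx_of_isIso m i₁.inv).comp
    ((apx_Lpull (f ∣_ V) (α := α) (m := m) hα).comp (apx_of_isIso m i₂.hom))
  exact ⟨_, _, strictlyPerfect_pullback _ hP, h₁, h₂⟩

theorem isPerfect_Lpull [DCoh.HasLpull f] (E : DCoh.D Y) (hE : DCoh.IsPerfect E) :
    DCoh.IsPerfect ((DCoh.Lpull f).obj E) := by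
  intro x
  obtain ⟨V, hV, hVE⟩ := hE (f.base x)
  obtain ⟨N, hN, ⟨e⟩⟩ := exists_kflat_rep E
  obtain ⟨P, hP, ⟨α⟩⟩ := hVE N ⟨e⟩
  haveI := hasLpull (f ∣_ V)
  refine ⟨f ⁻¹ᵁ V, hV, fun F ⟨eF⟩ => ?_⟩
  obtain ⟨i₂⟩ := exists_local f V E hN e F eF
  exact ⟨_, strictlyPerfect_pullback _ hP, ⟨i₂.symm ≪≫ (DCoh.Lpull (f ∣_ V)).mapIso α ≪≫
    lpullIso (f ∣_ V) (isKFlatFor_of_strictlyPerfect hP)⟩⟩

end Groth.Agent.DCat.PullPerf
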