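import Groth.Agent.DCat.PullTensor
import Groth.Agent.DCat.TensorAssoc
import Groth.Agent.Coherent.RpushComp

/-!
# The projection formula for modules along a closed immersion

`f_* M ⊗ N ≅ f_* (M ⊗ f^* N)`, naturally in both variables.
-/

set_option autoImplicit false
set_option backward.isDefEq.respectTransparency false
set_option backward.defeqAttrib.useBackward true
set_option linter.style.haveILetI false

universe u

open CategoryTheory CategoryTheory.Limits AlgebraicGeometry Opposite TopologicalSpace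
open Groth.Agent.ModStalk Groth.Agent.Coherent Groth.Agent.PicLib Groth.Agent.AmpleLib
open scoped TensorProduct

namespace Groth.Agent.DCat.ClosedPush

variable {X Y : Scheme.{u}} (f : X ⟶ Y)

section Algebra

variable {R S : Type u} [CommRing R] [CommRing S] (φ : R →+* S)

theorem extend_unit_surjective (hφ : Function.Surjective φ) (A : ModuleCat.{u} R) :
    Function.Surjective ((ModuleCat.extendRestrictScalarsAdj φ).unit.app A) := by
  letI := φ.toAlgebra
  intro t
  induction t using TensorProduct.induction_on with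
  | zero => exact ⟨0, map_zero _⟩
  | tmul s a =>
    obtain ⟨r, rfl⟩ := hφ s
    refine ⟨r • a, ?_⟩
    show (1 : S) ⊗ₜ[R] (r • a) = φ r ⊗ₜ[R] a
    rw [← TensorProduct.smul_tmul, Algebra.smul_def, mul_one]
    rfl
  | add t t' h h' =>
    obtain ⟨a, rfl⟩ := h
    obtain ⟨a', rfl⟩ := h'
    exact ⟨a + a', map_add _ _ _⟩

theorem extend_unit_injective (hφ : Function.Surjective φ) (A : ModuleCat.{u} R)
    (hA : ∀ r : R, φ r = 0 → ∀ a : A, r • a = 0) :
    Function.Injective ((ModuleCat.extendRestrictScalarsAdj φ).unit.app A) := by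
  letI := φ.toAlgebra
  have key : ∀ r r' : R, φ r = φ r' → ∀ a : A, r • a = r' • a := fun r r' h a => by
    have := hA (r - r') (by rw [map_sub, h, sub_self]) a
    rwa [sub_smul, sub_eq_zero] at this
  choose σ hσ using hφ
  let L : S →ₗ[R] A →ₗ[R] A := LinearMap.mk₂ R (fun s a => σ s • a)
    (fun s s' a => by
      show σ (s + s') • a = σ s • a + σ s' • a
      rw [← add_smul]; exact key _ _ (by rw [map_add, hσ, hσ, hσ]) a)
    (fun r s a => by
      show σ (r • s) • a = r • σ s • a
      rw [smul_smul]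
      exact key _ _ (by rw [map_mul, hσ, hσ, Algebra.smul_def]; rfl) a)
    (fun s a a' => smul_add _ _ _) (fun r s a => smul_comm _ _ _)
  intro a a' h
  have h' := congrArg (TensorProduct.lift L) (show (1 : S) ⊗ₜ[R] a = (1 : S) ⊗ₜ[R] a' from h)
  simp only [TensorProduct.lift.tmul] at h'
  change σ 1 • a = σ 1 • a' at h'
  rwa [key _ 1 (by rw [hσ, map_one]) a, key _ 1 (by rw [hσ, map_one]) a', one_smul, one_smul] at h'

end Algebra

variable [IsClosedImmersion f]

theorem exists_preimage (W : X.Opens) : ∃ W' : Y.Opens, f ⁻¹ᵁ W' = W := by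
  obtain ⟨U', hU', e⟩ := f.isClosedEmbedding.isInducing.isOpen_iff.1 W.2
  exact ⟨⟨U', hU'⟩, Opens.ext e⟩

theorem bijective_stalk_counit (M : X.Modules) (x : X) :
    Function.Bijective ((DerSch.stalkFunctor X x).map
      ((Scheme.Modules.pullbackPushforwardAdjunction f).counit.app M)) := by
  let N := (Scheme.Modules.pushforward f).obj M
  have hval : ∀ (U : Y.Opens) (hx : f.base x ∈ U) (s : Γ(N, U)),
      (DerSch.stalkFunctor X x).map ((Scheme.Modules.pullbackPushforwardAdjunction f).counit.app M)
        (germP x (DCoh.toP.obj ((Scheme.Modules.pullback f).obj N)) (f ⁻¹ᵁ U) hx (pullSec f s)) =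
      germP x (DCoh.toP.obj M) (f ⁻¹ᵁ U) hx (show Γ(M, f ⁻¹ᵁ U) from s) := fun U hx s => by
    refine (PullTensor.stalkMap_germP _ x _ hx _).trans (congrArg _ ?_)
    exact ConcreteCategory.congr_hom (congrArg (fun φ => φ.app U)
      ((Scheme.Modules.pullbackPushforwardAdjunction f).right_triangle_components M)) s
  have hgen : ∀ e : (DerSch.stalkFunctor X x).obj ((Scheme.Modules.pullback f).obj N),
      ∃ (U : Y.Opens) (hx : f.base x ∈ U) (s : Γ(N, U)),
        e = germP x (DCoh.toP.obj ((Scheme.Modules.pullback f).obj N)) (f ⁻¹ᵁ U) hx (pullSec f s) := fun e => by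
    obtain ⟨a, ha⟩ := extend_unit_surjective (f.stalkMap x).hom (f.stalkMap_surjective x) _
      ((pullbackStalkIso f x).hom.app N e)
    obtain ⟨U, hU, s, rfl⟩ := exists_germP_eq (DCoh.toP.obj N) a
    refine ⟨U, hU, s, (ConcreteCategory.bijective_of_isIso ((pullbackStalkIso f x).hom.app N)).1 ?_⟩
    exact ha.symm.trans (PullTensor.pullbackStalk_germ f x N U hU s).symm
  refine ⟨(injective_iff_map_eq_zero _).2 fun e he => ?_, fun m => ?_⟩
  · obtain ⟨U, hx, s, rfl⟩ := hgen e
    rw [hval] at he
    obtain ⟨W, hxW, i, i', hW⟩ := (germP_eq_iff (x := x) (DCoh.toP.obj M) (U := f ⁻¹ᵁ U) (V := f ⁻¹ᵁ U) hx hx _ 0)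
      (he.trans (germP_zero (DCoh.toP.obj M) _ hx).symm)
    obtain ⟨W', rfl⟩ := exists_preimage f W
    have hx' : f.base x ∈ U ⊓ W' := ⟨hx, hxW⟩
    have hzero : resM N (inf_le_left : U ⊓ W' ≤ U) s = 0 := by
      have hW0 : resM M i.le (show Γ(M, f ⁻¹ᵁ U) from s) = 0 := hW.trans (map_zero _)
      have := congrArg (resM M (show f ⁻¹ᵁ (U ⊓ W') ≤ f ⁻¹ᵁ W' from fun z hz => hz.2)) hW0
      rw [resM_resM, map_zero] at this
      exact this
    refine (germP_res (DCoh.toP.obj ((Scheme.Modules.pullback f).obj N))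
      (homOfLE (show f ⁻¹ᵁ (U ⊓ W') ≤ f ⁻¹ᵁ U from fun z hz => hz.1)) hx' (pullSec f s)).symm.trans ?_
    have hp : resM ((Scheme.Modules.pullback f).obj N)
        (show f ⁻¹ᵁ (U ⊓ W') ≤ f ⁻¹ᵁ U from fun z hz => hz.1) (pullSec f s) = 0 := by
      refine (resM_pullSec f (inf_le_left : U ⊓ W' ≤ U) s).trans ?_
      rw [hzero]
      exact map_zero _
    exact (congrArg _ hp).trans (germP_zero _ _ _)
  · obtain ⟨V, hxV, m', rfl⟩ := exists_germP_eq (DCoh.toP.obj M) m
    obtain ⟨U, rfl⟩ := exists_preimage f V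
    exact ⟨_, hval U hxV m'⟩

instance isIso_counit (M : X.Modules) :
    IsIso ((Scheme.Modules.pullbackPushforwardAdjunction f).counit.app M) :=
  isIso_of_stalks _ fun x => (ConcreteCategory.isIso_iff_bijective _).2 (bijective_stalk_counit f M x)

theorem subsingleton_stalk_push (M : X.Modules) (y : Y) (hy : y ∉ Set.range f.base) :
    Subsingleton ((DerSch.stalkFunctor Y y).obj ((Scheme.Modules.pushforward f).obj M)) := by
  refine subsingleton_of_forall_eq 0 fun t => ?_
  obtain ⟨U, hU, s, rfl⟩ := exists_germP_eq (DCoh.toP.obj ((Scheme.Modules.pushforward f).obj M)) t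
  let V : Y.Opens := ⟨(Set.range f.base)ᶜ, f.isClosedEmbedding.isClosed_range.isOpen_compl⟩
  have hV : f ⁻¹ᵁ (U ⊓ V) = ⊥ := eq_bot_iff.2 fun z hz => absurd ⟨z, rfl⟩ hz.2
  haveI : Subsingleton Γ(M, f ⁻¹ᵁ (U ⊓ V)) := by
    rw [hV]
    exact AddCommGrpCat.subsingleton_of_isZero
      (IsZero.of_iso (isZero_zero _) ((IsZero.iso (TopCat.Sheaf.isTerminalOfEmpty
        (⟨M.presheaf, M.isSheaf⟩ : TopCat.Sheaf Ab X)).isZero (isZero_zero _))))
  refine (germP_res _ (homOfLE (inf_le_left : U ⊓ V ≤ U)) (show y ∈ U ⊓ V from ⟨hU, hy⟩) s).symm.trans ?_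
  exact (congrArg _ (Subsingleton.elim (α := Γ(M, f ⁻¹ᵁ (U ⊓ V))) _ 0)).trans (germP_zero _ _ _)

theorem smul_stalk_push (M : X.Modules) (x : X) (r : Y.presheaf.stalk (f.base x))
    (hr : f.stalkMap x r = 0)
    (t : (DerSch.stalkFunctor Y (f.base x)).obj ((Scheme.Modules.pushforward f).obj M)) : r • t = 0 := by
  let P := DCoh.toP.obj ((Scheme.Modules.pushforward f).obj M)
  obtain ⟨U, hU, s, rfl⟩ := exists_germP_eq P t
  obtain ⟨V, hV, r', rfl⟩ := Y.presheaf.exists_germ_eq r
  erw [Scheme.Hom.germ_stalkMap_apply] at hr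
  rw [← map_zero (X.presheaf.germ (f ⁻¹ᵁ V) x hV).hom] at hr
  obtain ⟨W, hxW, i, i', hW⟩ := TopCat.Presheaf.germ_eq X.presheaf x hV hV _ _ hr
  rw [map_zero] at hW
  obtain ⟨W', rfl⟩ := exists_preimage f W
  let T := U ⊓ V ⊓ W'
  have hT : f.base x ∈ T := ⟨⟨hU, hV⟩, hxW⟩
  let a : T ⟶ U := homOfLE (inf_le_left.trans inf_le_left)
  let b : T ⟶ V := homOfLE (inf_le_left.trans inf_le_right)
  rw [← germP_res P a hT s, ← Y.presheaf.germ_res_apply b _ hT r', ← germP_smul]
  have h0 : f.app T (Y.presheaf.map b.op r') = 0 := by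
    have h1 := congrArg (X.presheaf.map (homOfLE (show f ⁻¹ᵁ T ≤ f ⁻¹ᵁ W' from fun z hz => hz.2)).op) hW
    rw [map_zero, ← CommRingCat.comp_apply, ← Functor.map_comp] at h1
    exact (ConcreteCategory.congr_hom (f.naturality b.op) r').trans h1
  let w : Γ(M, f ⁻¹ᵁ T) := P.map a.op s
  refine (congrArg _ (show f.app T (Y.presheaf.map b.op r') • w = 0 by rw [h0, zero_smul])).trans ?_
  exact germP_zero _ _ _

theorem smul_stalk_tensor_push (M : X.Modules) (N : Y.Modules) (x : X)
    (r : Y.presheaf.stalk (f.base x)) (hr : f.stalkMap x r = 0)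
    (t : (DerSch.stalkFunctor Y (f.base x)).obj
      (((shT Y).obj ((Scheme.Modules.pushforward f).obj M)).obj N)) : r • t = 0 := by
  let e := stalkTensorIso (f.base x) ((Scheme.Modules.pushforward f).obj M) N
  apply (ConcreteCategory.bijective_of_isIso e.hom).1
  rw [map_smul, map_zero]
  generalize e.hom t = w
  induction w using TensorProduct.induction_on with
  | zero => exact smul_zero _
  | tmul a b => rw [TensorProduct.smul_tmul', smul_stalk_push f M x r hr a, TensorProduct.zero_tmul]
  | add a b ha hb => rw [smul_add, ha, hb, add_zero]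

/-- A map of modules supported on the closed subscheme is invertible once its pullback is. -/
theorem isIso_of_pullback {A B : Y.Modules} (φ : A ⟶ B)
    [IsIso ((Scheme.Modules.pullback f).map φ)]
    (hA : ∀ y, y ∉ Set.range f.base → Subsingleton ((DerSch.stalkFunctor Y y).obj A))
    (hB : ∀ y, y ∉ Set.range f.base → Subsingleton ((DerSch.stalkFunctor Y y).obj B))
    (hA' : ∀ (x : X) (r : Y.presheaf.stalk (f.base x)), f.stalkMap x r = 0 →
      ∀ t : (DerSch.stalkFunctor Y (f.base x)).obj A, r • t = 0)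
    (hB' : ∀ (x : X) (r : Y.presheaf.stalk (f.base x)), f.stalkMap x r = 0 →
      ∀ t : (DerSch.stalkFunctor Y (f.base x)).obj B, r • t = 0) : IsIso φ := by
  refine isIso_of_stalks _ fun y => (ConcreteCategory.isIso_iff_bijective _).2 ?_
  by_cases hy : y ∈ Set.range f.base
  · obtain ⟨x, rfl⟩ := hy
    let g := f.stalkMap x
    let S := DerSch.stalkFunctor Y (f.base x)
    haveI : IsIso ((Scheme.Modules.pullback f ⋙ DerSch.stalkFunctor X x).map φ) :=
      Functor.map_isIso (DerSch.stalkFunctor X x) _
    haveI : IsIso ((ModuleCat.extendScalars g.hom).map (S.map φ)) :=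
      (NatIso.isIso_map_iff (pullbackStalkIso f x) φ).1 ‹_›
    have hext := ConcreteCategory.bijective_of_isIso ((ModuleCat.extendScalars g.hom).map (S.map φ))
    let η := (ModuleCat.extendRestrictScalarsAdj g.hom).unit
    have hnat : ∀ a, η.app (S.obj B) (S.map φ a) =
        (ModuleCat.extendScalars g.hom).map (S.map φ) (η.app (S.obj A) a) := fun a =>
      ConcreteCategory.congr_hom (η.naturality (S.map φ)) a
    have hinjA := extend_unit_injective g.hom (f.stalkMap_surjective x) _ (hA' x)
    have hinjB := extend_unit_injective g.hom (f.stalkMap_surjective x) _ (hB' x)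
    refine ⟨fun a a' h => hinjA (hext.1 ?_), fun b => ?_⟩
    · rw [← hnat, ← hnat]
      exact congrArg _ h
    · obtain ⟨t, ht⟩ := hext.2 (η.app (S.obj B) b)
      obtain ⟨a, rfl⟩ := extend_unit_surjective g.hom (f.stalkMap_surjective x) (S.obj A) t
      exact ⟨a, hinjB ((hnat a).trans ht)⟩
  · haveI := hA y hy
    haveI := hB y hy
    exact ⟨fun a a' _ => Subsingleton.elim a a', fun b => ⟨0, Subsingleton.elim _ b⟩⟩

/-- The pullback of `f_* M ⊗ N` is `M ⊗ f^* N`. -/
noncomputable def beta (M : X.Modules) (N : Y.Modules) :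
    (Scheme.Modules.pullback f).obj (((shT Y).obj ((Scheme.Modules.pushforward f).obj M)).obj N) ⟶
      ((shT X).obj M).obj ((Scheme.Modules.pullback f).obj N) :=
  (PullTensor.pullTensorIso f _ N).hom ≫
    ((shT X).map ((Scheme.Modules.pullbackPushforwardAdjunction f).counit.app M)).app _

/-- The projection map. -/
noncomputable def projMap (M : X.Modules) (N : Y.Modules) :
    ((shT Y).obj ((Scheme.Modules.pushforward f).obj M)).obj N ⟶
      (Scheme.Modules.pushforward f).obj (((shT X).obj M).obj ((Scheme.Modules.pullback f).obj N)) :=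
  (Scheme.Modules.pullbackPushforwardAdjunction f).homEquiv _ _ (beta f M N)

instance isIso_projMap (M : X.Modules) (N : Y.Modules) : IsIso (projMap f M N) := by
  have e : (Scheme.Modules.pullback f).map (projMap f M N) ≫
      (Scheme.Modules.pullbackPushforwardAdjunction f).counit.app _ = beta f M N := by
    exact ((Scheme.Modules.pullbackPushforwardAdjunction f).homEquiv_counit _ _ _).symm.trans (Equiv.symm_apply_apply _ _)
  haveI : IsIso (beta f M N) := by unfold beta; infer_instance
  haveI : IsIso ((Scheme.Modules.pullback f).map (projMap f M N)) := IsIso.of_isIso_fac_right e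
  refine isIso_of_pullback f _ (fun y hy => ?_) (fun y hy => subsingleton_stalk_push f _ y hy)
    (fun x => smul_stalk_tensor_push f M N x) fun x => smul_stalk_push f _ x
  haveI := subsingleton_stalk_push f M y hy
  refine subsingleton_of_forall_eq 0 fun t => ?_
  apply (ConcreteCategory.bijective_of_isIso
    (stalkTensorIso y ((Scheme.Modules.pushforward f).obj M) N).hom).1
  rw [map_zero]
  generalize (stalkTensorIso y ((Scheme.Modules.pushforward f).obj M) N).hom t = w
  induction w using TensorProduct.induction_on with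
  | zero => rfl
  | tmul a b => rw [Subsingleton.elim a 0, TensorProduct.zero_tmul]
  | add a b ha hb => rw [ha, hb, add_zero]

theorem projMap_nat₁ {M M' : X.Modules} (φ : M ⟶ M') (N : Y.Modules) :
    ((shT Y).map ((Scheme.Modules.pushforward f).map φ)).app N ≫ projMap f M' N =
      projMap f M N ≫ (Scheme.Modules.pushforward f).map
        (((shT X).map φ).app ((Scheme.Modules.pullback f).obj N)) := by
  unfold projMap
  rw [← Adjunction.homEquiv_naturality_left, ← Adjunction.homEquiv_naturality_right]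
  refine congrArg _ ?_
  simp only [beta, PullTensor.pullTensorIso, asIso_hom]
  rw [← Category.assoc, PullTensor.pullTensorHom_nat₁, Category.assoc, Category.assoc,
    ← NatTrans.comp_app, ← NatTrans.comp_app, ← Functor.map_comp, ← Functor.map_comp]
  have := (Scheme.Modules.pullbackPushforwardAdjunction f).counit.naturality φ
  rw [show (Scheme.Modules.pullback f).map ((Scheme.Modules.pushforward f).map φ) ≫
    (Scheme.Modules.pullbackPushforwardAdjunction f).counit.app M' =
      (Scheme.Modules.pullbackPushforwardAdjunction f).counit.app M ≫ φ from this]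

theorem projMap_nat₂ (M : X.Modules) {N N' : Y.Modules} (ψ : N ⟶ N') :
    ((shT Y).obj ((Scheme.Modules.pushforward f).obj M)).map ψ ≫ projMap f M N' =
      projMap f M N ≫ (Scheme.Modules.pushforward f).map
        (((shT X).obj M).map ((Scheme.Modules.pullback f).map ψ)) := by
  unfold projMap
  rw [← Adjunction.homEquiv_naturality_left, ← Adjunction.homEquiv_naturality_right]
  refine congrArg _ ?_
  simp only [beta, PullTensor.pullTensorIso, asIso_hom]
  rw [← Category.assoc, PullTensor.pullTensorHom_nat₂, Category.assoc, Category.assoc,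
    NatTrans.naturality]
  rfl

end Groth.Agent.DCat.ClosedPush
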