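import Groth.Agent.DCat.SuppOpen
import Groth.Agent.DCat.PullPerf
import Groth.Agent.DCat.PerfTensor

/-! Perfectness and pseudo-coherence as local conditions on `D(O_X)`. -/

set_option autoImplicit false
set_option backward.isDefEq.respectTransparency false
set_option backward.defeqAttrib.useBackward true
set_option linter.style.haveILetI false

universe u

open CategoryTheory CategoryTheory.Limits AlgebraicGeometry Opposite TopologicalSpace
open CategoryTheory.Pretriangulated HomologicalComplex Groth.Agent.DCat.PullPerf Groth.Agent.DCat.PerfTensor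
open scoped ZeroObject

attribute [local instance] HasDerivedCategory.standard

namespace Groth.Agent.DCat.PerfLocal

variable {X W W' : Scheme.{u}}

/-- Restriction on derived categories along an open immersion. -/
noncomputable abbrev rd (k : W ⟶ X) [IsOpenImmersion k] : DCoh.D X ⥤ DCoh.D W :=
  (Scheme.Modules.restrictFunctor k).mapDerivedCategory

/-- `K` is perfect on `W`. -/
def PerfAt (k : W ⟶ X) [IsOpenImmersion k] (K : DCoh.D X) : Prop :=
  ∃ E : CochainComplex W.Modules ℤ, DCoh.IsStrictlyPerfect E ∧ Nonempty ((rd k).obj K ≅ DerivedCategory.Q.obj E)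

/-- `K` is `m`-pseudo-coherent on `W`. -/
def PscAt (m : ℤ) (k : W ⟶ X) [IsOpenImmersion k] (K : DCoh.D X) : Prop :=
  ∃ (E : CochainComplex W.Modules ℤ) (α : DerivedCategory.Q.obj E ⟶ (rd k).obj K),
    DCoh.IsStrictlyPerfect E ∧ Apx m α

lemma strictlyPerfect_restrict (h : W ⟶ X) [IsOpenImmersion h] {E : CochainComplex X.Modules ℤ}
    (hE : DCoh.IsStrictlyPerfect E) :
    DCoh.IsStrictlyPerfect (((Scheme.Modules.restrictFunctor h).mapHomologicalComplex (ComplexShape.up ℤ)).obj E) := by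
  obtain ⟨⟨a, b, hab⟩, hf⟩ := hE
  exact ⟨⟨a, b, fun i hi => (Scheme.Modules.restrictFunctor h).map_isZero (hab i hi)⟩, fun i =>
    isFinLocFree_of_iso ((Scheme.Modules.restrictFunctorIsoPullback h).app (E.X i)).symm
      (PullPerf.isFinLocFree_pullback h (hf i))⟩

lemma rd_comp (h : W' ⟶ W) [IsOpenImmersion h] (k : W ⟶ X) [IsOpenImmersion k] (K : DCoh.D X) :
    Nonempty ((rd (h ≫ k)).obj K ≅ (rd h).obj ((rd k).obj K)) := by
  let F := DerivedCategory.Q.objPreimage K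
  let e := DerivedCategory.Q.objObjPreimageIso K
  exact ⟨(rd (h ≫ k)).mapIso e.symm ≪≫ (Scheme.Modules.restrictFunctor (h ≫ k)).mapDerivedCategoryFactors.app F ≪≫
    DerivedCategory.Q.mapIso
      (Hom.isoOfComponents (fun n => (Scheme.Modules.restrictFunctorComp h k).app (F.X n))
        (fun i j _ => ((Scheme.Modules.restrictFunctorComp h k).hom.naturality (F.d i j)).symm) :
        ((Scheme.Modules.restrictFunctor (h ≫ k)).mapHomologicalComplex (ComplexShape.up ℤ)).obj F ≅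
          ((Scheme.Modules.restrictFunctor h).mapHomologicalComplex (ComplexShape.up ℤ)).obj
            (((Scheme.Modules.restrictFunctor k).mapHomologicalComplex (ComplexShape.up ℤ)).obj F)) ≪≫
    ((Scheme.Modules.restrictFunctor h).mapDerivedCategoryFactors.app _).symm ≪≫
    (rd h).mapIso (((Scheme.Modules.restrictFunctor k).mapDerivedCategoryFactors.app F).symm ≪≫ (rd k).mapIso e)⟩

lemma isLE_rd (h : W ⟶ X) [IsOpenImmersion h] (C : DCoh.D X) (n : ℤ) (hC : C.IsLE n) :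
    ((rd h).obj C).IsLE n := by
  rw [DerivedCategory.isLE_iff] at hC ⊢
  intro i hi
  exact IsZero.of_iso ((Scheme.Modules.restrictFunctor h).map_isZero (hC i hi)) (SuppOpen.hdMapIso _ C i)

lemma apx_rd (h : W ⟶ X) [IsOpenImmersion h] {m : ℤ} {K L : DCoh.D X} {α : K ⟶ L} (ha : Apx m α) :
    Apx m ((rd h).map α) := by
  obtain ⟨C, g, δ, hT⟩ := distinguished_cocone_triangle α
  exact (apx_iff_isLE m _ ((rd h).map_distinguished _ hT)).2 (isLE_rd h C (m - 1) ((apx_iff_isLE m _ hT).1 ha))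

lemma PerfAt.of_iso {k : W ⟶ X} [IsOpenImmersion k] {K L : DCoh.D X} (e : K ≅ L) (h : PerfAt k K) : PerfAt k L := by
  obtain ⟨E, hE, ⟨a⟩⟩ := h
  exact ⟨E, hE, ⟨(rd k).mapIso e.symm ≪≫ a⟩⟩

lemma PerfAt.comp {k : W ⟶ X} [IsOpenImmersion k] {K : DCoh.D X} (hk : PerfAt k K)
    (h : W' ⟶ W) [IsOpenImmersion h] : PerfAt (h ≫ k) K := by
  obtain ⟨E, hE, ⟨a⟩⟩ := hk
  obtain ⟨c⟩ := rd_comp h k K
  exact ⟨_, strictlyPerfect_restrict h hE,
    ⟨c ≪≫ (rd h).mapIso a ≪≫ (Scheme.Modules.restrictFunctor h).mapDerivedCategoryFactors.app E⟩⟩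

lemma PscAt.comp {m : ℤ} {k : W ⟶ X} [IsOpenImmersion k] {K : DCoh.D X} (hk : PscAt m k K)
    (h : W' ⟶ W) [IsOpenImmersion h] : PscAt m (h ≫ k) K := by
  obtain ⟨E, α, hE, ha⟩ := hk
  obtain ⟨c⟩ := rd_comp h k K
  exact ⟨_, ((Scheme.Modules.restrictFunctor h).mapDerivedCategoryFactors.app E).inv ≫ (rd h).map α ≫ c.inv,
    strictlyPerfect_restrict h hE, (apx_of_isIso m _).comp ((apx_rd h ha).comp (apx_of_isIso m _))⟩

lemma PscAt.of_iso {m : ℤ} {k : W ⟶ X} [IsOpenImmersion k] {K L : DCoh.D X} (e : K ≅ L) (h : PscAt m k K) :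
    PscAt m k L := by
  obtain ⟨E, α, hE, ha⟩ := h
  exact ⟨E, α ≫ (rd k).map e.hom, hE, ha.comp (apx_of_isIso m _)⟩

lemma PerfAt.congr {k k' : W ⟶ X} [IsOpenImmersion k] [IsOpenImmersion k'] (e : k = k') {K : DCoh.D X}
    (h : PerfAt k K) : PerfAt k' K := by
  subst e
  exact h

lemma PscAt.congr {m : ℤ} {k k' : W ⟶ X} [IsOpenImmersion k] [IsOpenImmersion k'] (e : k = k') {K : DCoh.D X}
    (h : PscAt m k K) : PscAt m k' K := by
  subst e
  exact h

theorem isPerfect_iff (K : DCoh.D X) : DCoh.IsPerfect K ↔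
    ∀ x : X, ∃ (W : Scheme.{u}) (k : W ⟶ X) (_ : IsOpenImmersion k), x ∈ k.opensRange ∧ PerfAt k K := by
  constructor
  · intro h x
    obtain ⟨V, hV, hK⟩ := h x
    obtain ⟨E, hE, ⟨a⟩⟩ := hK _ ⟨DerivedCategory.Q.objObjPreimageIso K⟩
    exact ⟨V, V.ι, inferInstance, by simpa using hV, E, hE, ⟨(rd V.ι).mapIso (DerivedCategory.Q.objObjPreimageIso K).symm ≪≫
      (Scheme.Modules.restrictFunctor V.ι).mapDerivedCategoryFactors.app _ ≪≫ a⟩⟩
  · intro h x
    obtain ⟨W, k, hk, hx, hP⟩ := h x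
    obtain ⟨E, hE, ⟨a⟩⟩ := (hP.comp k.isoOpensRange.inv).congr k.isoOpensRange_inv_comp
    exact ⟨k.opensRange, hx, fun F ⟨eF⟩ => ⟨E, hE,
      ⟨((Scheme.Modules.restrictFunctor _).mapDerivedCategoryFactors.app F).symm ≪≫ (rd _).mapIso eF ≪≫ a⟩⟩⟩

theorem isPseudoCoherentD_iff (m : ℤ) (K : DCoh.D X) : DCoh.IsPseudoCoherentD m K ↔
    ∀ x : X, ∃ (W : Scheme.{u}) (k : W ⟶ X) (_ : IsOpenImmersion k), x ∈ k.opensRange ∧ PscAt m k K := by
  constructor
  · intro h x
    obtain ⟨V, hV, hK⟩ := h x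
    obtain ⟨E, α, hE, h₁, h₂⟩ := hK _ ⟨DerivedCategory.Q.objObjPreimageIso K⟩
    exact ⟨V, V.ι, inferInstance, by simpa using hV, E,
      α ≫ ((Scheme.Modules.restrictFunctor V.ι).mapDerivedCategoryFactors.app _).inv ≫
        (rd V.ι).map (DerivedCategory.Q.objObjPreimageIso K).hom,
      hE, Apx.comp (show Apx m α from ⟨h₁, h₂⟩) (apx_of_isIso m _)⟩
  · intro h x
    obtain ⟨W, k, hk, hx, hP⟩ := h x
    obtain ⟨E, α, hE, ha⟩ := (hP.comp k.isoOpensRange.inv).congr k.isoOpensRange_inv_comp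
    refine ⟨k.opensRange, hx, fun F ⟨eF⟩ => ?_⟩
    obtain ⟨h₁, h₂⟩ := ha.comp (apx_of_isIso m
      ((rd k.opensRange.ι).map eF.inv ≫ ((Scheme.Modules.restrictFunctor k.opensRange.ι).mapDerivedCategoryFactors.app F).hom))
    exact ⟨E, _, hE, h₁, h₂⟩

lemma perfAt_of_isZero {k : W ⟶ X} [IsOpenImmersion k] {K : DCoh.D X} (h : IsZero ((rd k).obj K)) : PerfAt k K := by
  have z : IsZero (DerivedCategory.Q.obj (0 : CochainComplex W.Modules ℤ)) :=
    DerivedCategory.Q.map_isZero (isZero_zero _)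
  have hz : ∀ i : ℤ, IsZero ((0 : CochainComplex W.Modules ℤ).X i) := fun i =>
    (HomologicalComplex.eval _ _ i).map_isZero (isZero_zero _)
  exact ⟨0, ⟨⟨0, 0, fun i _ => hz i⟩, fun i => isFinLocFree_of_isZero (hz i)⟩, ⟨h.iso z⟩⟩

/-- Perfectness on a smaller open is inherited. -/
lemma perfAt_of_range_le {k : W ⟶ X} [IsOpenImmersion k] {K : DCoh.D X} (hk : PerfAt k K)
    (k' : W' ⟶ X) [IsOpenImmersion k'] (h : Set.range k' ⊆ Set.range k) : PerfAt k' K := by
  haveI : IsOpenImmersion (IsOpenImmersion.lift k k' h) :=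
    haveI : IsOpenImmersion (IsOpenImmersion.lift k k' h ≫ k) := by rwa [IsOpenImmersion.lift_fac]
    IsOpenImmersion.of_comp _ k
  exact (hk.comp (IsOpenImmersion.lift k k' h)).congr (IsOpenImmersion.lift_fac k k' h)

lemma pscAt_of_range_le {m : ℤ} {k : W ⟶ X} [IsOpenImmersion k] {K : DCoh.D X} (hk : PscAt m k K)
    (k' : W' ⟶ X) [IsOpenImmersion k'] (h : Set.range k' ⊆ Set.range k) : PscAt m k' K := by
  haveI : IsOpenImmersion (IsOpenImmersion.lift k k' h) :=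
    haveI : IsOpenImmersion (IsOpenImmersion.lift k k' h ≫ k) := by rwa [IsOpenImmersion.lift_fac]
    IsOpenImmersion.of_comp _ k
  exact (hk.comp (IsOpenImmersion.lift k k' h)).congr (IsOpenImmersion.lift_fac k k' h)

theorem isPerfect_of_rd {j : W ⟶ X} [IsOpenImmersion j] (K : DCoh.D X) (hK : DCoh.IsPerfect ((rd j).obj K))
    (x : X) (hx : x ∈ j.opensRange) :
    ∃ (U : Scheme.{u}) (k : U ⟶ X) (_ : IsOpenImmersion k), x ∈ k.opensRange ∧ PerfAt k K := by
  obtain ⟨w, rfl⟩ := hx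
  obtain ⟨U, k, hk, hw, E, hE, ⟨a⟩⟩ := (isPerfect_iff _).1 hK w
  obtain ⟨c⟩ := rd_comp k j K
  obtain ⟨v, hv⟩ := hw
  refine ⟨U, k ≫ j, inferInstance, ⟨v, ?_⟩, E, hE, ⟨c ≪≫ a⟩⟩
  simp [hv]

/-- `(Rj_* E)|_U ≅ E`. -/
theorem nonempty_rd_rpush (j : W ⟶ X) [IsOpenImmersion j] [DCoh.HasRpush j] (E : DCoh.D W) :
    Nonempty ((rd j).obj ((DCoh.Rpush j).obj E) ≅ E) := by
  obtain ⟨I, hI, -, ⟨e⟩⟩ := MV.exists_rep E
  exact ⟨(rd j).mapIso (MV.rfIsoAt (Scheme.Modules.pushforward j) e).symm ≪≫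
    (Scheme.Modules.restrictFunctor j).mapDerivedCategoryFactors.app _ ≪≫
    DerivedCategory.Q.mapIso
      (Hom.isoOfComponents (fun n => (Scheme.Modules.restrictFunctorAdjCounitIso j).app (I.X n))
        (fun a b _ => ((Scheme.Modules.restrictFunctorAdjCounitIso j).hom.naturality (I.d a b)).symm) :
        ((Scheme.Modules.restrictFunctor j).mapHomologicalComplex (ComplexShape.up ℤ)).obj
          (((Scheme.Modules.pushforward j).mapHomologicalComplex (ComplexShape.up ℤ)).obj I) ≅ I) ≪≫ e⟩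

/-- Direct image of a perfect object supported on a subset closed in the ambient scheme. -/
theorem isPerfect_rpush_of_supported (U : X.Opens) [DCoh.HasRpush U.ι] (E : DCoh.D (U : Scheme.{u}))
    (hE : DCoh.IsPerfect E) (T : Set X) (hT : IsClosed T) (hTU : T ⊆ (U : Set X))
    (h : ∀ i : ℤ, ∀ y : (U : Scheme.{u}), y ∈ CohB1.support (DCoh.HD E i) → U.ι.base y ∈ T) :
    DCoh.IsPerfect ((DCoh.Rpush U.ι).obj E) := by
  refine (isPerfect_iff _).2 fun x => ?_
  by_cases hx : x ∈ U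
  · obtain ⟨e⟩ := nonempty_rd_rpush U.ι E
    refine isPerfect_of_rd (j := U.ι) _ ((isPerfect_iff _).2 fun y => ?_) x (by simpa using hx)
    obtain ⟨W, k, hk, hy, hP⟩ := (isPerfect_iff _).1 hE y
    exact ⟨W, k, hk, hy, hP.of_iso e.symm⟩
  · let V : X.Opens := ⟨Tᶜ, hT.isOpen_compl⟩
    haveI := PullPerf.preservesFiniteLimits_restrict V.ι
    haveI := PullPerf.preservesFiniteLimits_restrict (U.ι ⁻¹ᵁ V).ι
    haveI := hasRpush (U.ι ∣_ V)
    haveI : (DCoh.Rpush (U.ι ∣_ V)).PreservesZeroMorphisms := by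
      haveI : (DCoh.Rpush (U.ι ∣_ V)).IsRightAdjoint := isRightAdjoint_Rpush (U.ι ∣_ V)
      infer_instance
    exact ⟨V, V.ι, inferInstance, (by rw [Scheme.Opens.opensRange_ι]; exact fun hxT => hx (hTU hxT)), perfAt_of_isZero
      (((DCoh.Rpush (U.ι ∣_ V)).map_isZero (SuppOpen.isZero_restrictD (U.ι ⁻¹ᵁ V) E
        fun i y hy hs => hy (h i y hs))).of_iso ((OpenDerived.rpushRestrictIso U.ι V).app E))⟩

end Groth.Agent.DCat.PerfLocal
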