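import Groth.Agent.DCat.KFlatModule
import Groth.Prelude.Def_DDual2
import Groth.Agent.DCat.TotMap
import Mathlib.Algebra.Category.ModuleCat.ChangeOfRings
import Mathlib.LinearAlgebra.TensorProduct.Tower

/-! Extension of scalars preserves K-flat complexes. -/

set_option autoImplicit false
set_option backward.isDefEq.respectTransparency false
set_option backward.defeqAttrib.useBackward true
set_option linter.style.haveILetI false

universe u

open CategoryTheory CategoryTheory.Limits MonoidalCategory HomologicalComplex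

namespace Groth.Agent.DCat

variable {R A : Type u} [CommRing R] [CommRing A] (φ : R →+* A)


/-- `Y ⊗_A (A ⊗_R X)`, as a bifunctor. -/
noncomputable abbrev modExt : ModuleCat.{u} A ⥤ ModuleCat.{u} R ⥤ ModuleCat.{u} A :=
  modT A ⋙ (Functor.whiskeringLeft _ _ _).obj (ModuleCat.extendScalars.{u, u, u} φ)

instance additive_modExt_obj (Y : ModuleCat.{u} A) : ((modExt φ).obj Y).Additive :=
  inferInstanceAs (ModuleCat.extendScalars.{u, u, u} φ ⋙ (modT A).obj Y).Additive

instance additive_modExt : (modExt φ).Additive where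
  map_add {Y Y' f g} := by
    ext X : 2
    exact congr_app ((modT A).map_add (f := f) (g := g)) _

/-- `Y ⊗_A (A ⊗_R X) ≅ Y ⊗_R X`. -/
noncomputable def extCancelIso (Y : ModuleCat.{u} A) (X : ModuleCat.{u} R) :
    (ModuleCat.restrictScalars.{u} φ).obj (((modExt φ).obj Y).obj X) ≅ ((modT R).obj ((ModuleCat.restrictScalars.{u} φ).obj Y)).obj X :=
  letI := φ.toAlgebra
  letI := Module.compHom Y φ
  haveI : IsScalarTower R A Y := ⟨fun r a y => by
    show (φ r * a) • y = φ r • a • y
    rw [mul_smul]⟩
  LinearEquiv.toModuleIso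
    (X₁ := (ModuleCat.restrictScalars.{u} φ).obj (((modExt φ).obj Y).obj X)) (X₂ := ((modT R).obj ((ModuleCat.restrictScalars.{u} φ).obj Y)).obj X)
    { (TensorProduct.AlgebraTensorModule.cancelBaseChange R A A Y X).toAddEquiv with
      map_smul' := fun r x => by
        show (TensorProduct.AlgebraTensorModule.cancelBaseChange R A A Y X) (φ r • x) = _
        rw [map_smul]
        exact algebraMap_smul A r _ }

open TensorProduct in
lemma extCancelIso_tmul (Y : ModuleCat.{u} A) (X : ModuleCat.{u} R) (y : Y) (a : A) (x : X) :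
    letI := φ.toAlgebra
    (extCancelIso φ Y X).hom (y ⊗ₜ[A] (a ⊗ₜ[R] x)) = ((a • y : Y) ⊗ₜ[R] x : (ModuleCat.restrictScalars.{u} φ).obj Y ⊗[R] X) := by
  letI := φ.toAlgebra
  rfl

lemma extCancelIso_natural₁ {Y Y' : ModuleCat.{u} A} (g : Y ⟶ Y') (X : ModuleCat.{u} R) :
    (ModuleCat.restrictScalars.{u} φ).map (((modExt φ).map g).app X) ≫ (extCancelIso φ Y' X).hom =
      (extCancelIso φ Y X).hom ≫ ((modT R).map ((ModuleCat.restrictScalars.{u} φ).map g)).app X := by
  letI := φ.toAlgebra
  refine ModuleCat.hom_ext (LinearMap.ext fun (z : (((modExt φ).obj Y).obj X : ModuleCat.{u} A)) => ?_)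
  induction z using TensorProduct.induction_on with
  | zero => exact (map_zero _).trans (map_zero _).symm
  | tmul y w =>
    induction w using TensorProduct.induction_on with
    | zero => rw [TensorProduct.tmul_zero]; exact (map_zero _).trans (map_zero _).symm
    | tmul a x =>
      exact congrArg (fun w : (ModuleCat.restrictScalars.{u} φ).obj Y' => TensorProduct.tmul R w x)
        (map_smul g.hom a y).symm
    | add u v hu hv => rw [TensorProduct.tmul_add]; exact (map_add _ _ _).trans ((congrArg₂ (· + ·) hu hv).trans (map_add _ _ _).symm)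
  | add u v hu hv => exact (map_add _ _ _).trans ((congrArg₂ (· + ·) hu hv).trans (map_add _ _ _).symm)

lemma extCancelIso_natural₂ (Y : ModuleCat.{u} A) {X X' : ModuleCat.{u} R} (g : X ⟶ X') :
    (ModuleCat.restrictScalars.{u} φ).map (((modExt φ).obj Y).map g) ≫ (extCancelIso φ Y X').hom =
      (extCancelIso φ Y X).hom ≫ ((modT R).obj ((ModuleCat.restrictScalars.{u} φ).obj Y)).map g := by
  letI := φ.toAlgebra
  refine ModuleCat.hom_ext (LinearMap.ext fun (z : (((modExt φ).obj Y).obj X : ModuleCat.{u} A)) => ?_)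
  induction z using TensorProduct.induction_on with
  | zero => exact (map_zero _).trans (map_zero _).symm
  | tmul y w =>
    induction w using TensorProduct.induction_on with
    | zero => rw [TensorProduct.tmul_zero]; exact (map_zero _).trans (map_zero _).symm
    | tmul a x => rfl
    | add u v hu hv => rw [TensorProduct.tmul_add]; exact (map_add _ _ _).trans ((congrArg₂ (· + ·) hu hv).trans (map_add _ _ _).symm)
  | add u v hu hv => exact (map_add _ _ _).trans ((congrArg₂ (· + ·) hu hv).trans (map_add _ _ _).symm)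

/-- `tot (N ⊗_A ext P)` restricted is `tot (res N ⊗_R P)`. -/
noncomputable def totExtIso (N : CochainComplex (ModuleCat.{u} A) ℤ) (P : CochainComplex (ModuleCat.{u} R) ℤ) :
    ((ModuleCat.restrictScalars.{u} φ).mapHomologicalComplex (ComplexShape.up ℤ)).obj
        (tot (modT A) N (((ModuleCat.extendScalars.{u, u, u} φ).mapHomologicalComplex (ComplexShape.up ℤ)).obj P)) ≅
      tot (modT R) (((ModuleCat.restrictScalars.{u} φ).mapHomologicalComplex (ComplexShape.up ℤ)).obj N) P :=
  ((ModuleCat.restrictScalars.{u} φ).mapHomologicalComplex (ComplexShape.up ℤ)).mapIso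
    (mapTotIso (modExt φ) (modT A) (𝟭 _) (ModuleCat.extendScalars.{u, u, u} φ) (𝟭 _) (fun _ _ => Iso.refl _)
      (fun _ _ => (Category.comp_id _).trans (Category.id_comp _).symm)
      (fun _ _ _ _ => (Category.comp_id _).trans (Category.id_comp _).symm) N P).symm ≪≫
  mapTotIso (modExt φ) (modT R) (ModuleCat.restrictScalars.{u} φ) (𝟭 _) (ModuleCat.restrictScalars.{u} φ) (extCancelIso φ)
    (fun g b => extCancelIso_natural₁ φ g b) (fun a _ _ g => extCancelIso_natural₂ φ a g) N P

/-- Extension of scalars preserves K-flatness. -/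
theorem isKFlatFor_ext {P : CochainComplex (ModuleCat.{u} R) ℤ} (hP : IsKFlatFor (modT R) P) :
    IsKFlatFor (modT A) (((ModuleCat.extendScalars.{u, u, u} φ).mapHomologicalComplex (ComplexShape.up ℤ)).obj P) := fun M hM n => by
  rw [exactAt_iff]
  refine (ShortComplex.exact_map_iff_of_faithful _ (ModuleCat.restrictScalars.{u} φ)).1 ?_
  have h := (hP (((ModuleCat.restrictScalars.{u} φ).mapHomologicalComplex (ComplexShape.up ℤ)).obj M)
    (fun k => (hM k).map (ModuleCat.restrictScalars.{u} φ)) n).of_iso (totExtIso φ M P).symm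
  rwa [exactAt_iff] at h

/-- `(A ⊗_R X) ⊗_A N ≅ X ⊗_R N`. -/
noncomputable def tensorExtIso (N : ModuleCat.{u} A) :
    (ModuleCat.extendScalars.{u, u, u} φ) ⋙ tensorRight N ⋙ (ModuleCat.restrictScalars.{u} φ) ≅ tensorRight ((ModuleCat.restrictScalars.{u} φ).obj N) :=
  NatIso.ofComponents (fun X => (ModuleCat.restrictScalars.{u} φ).mapIso (β_ ((ModuleCat.extendScalars.{u, u, u} φ).obj X) N) ≪≫ extCancelIso φ N X ≪≫
      β_ ((ModuleCat.restrictScalars.{u} φ).obj N) X) (fun {X X'} g => by
    show (ModuleCat.restrictScalars.{u} φ).map ((ModuleCat.extendScalars.{u, u, u} φ).map g ▷ N) ≫ (ModuleCat.restrictScalars.{u} φ).map (β_ ((ModuleCat.extendScalars.{u, u, u} φ).obj X') N).hom ≫ (extCancelIso φ N X').hom ≫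
        (β_ ((ModuleCat.restrictScalars.{u} φ).obj N) X').hom =
      ((ModuleCat.restrictScalars.{u} φ).map (β_ ((ModuleCat.extendScalars.{u, u, u} φ).obj X) N).hom ≫ (extCancelIso φ N X).hom ≫ (β_ ((ModuleCat.restrictScalars.{u} φ).obj N) X).hom) ≫
        g ▷ (ModuleCat.restrictScalars.{u} φ).obj N
    have h : (ModuleCat.restrictScalars.{u} φ).map (N ◁ (ModuleCat.extendScalars.{u, u, u} φ).map g) ≫
        (extCancelIso φ N X').hom = (extCancelIso φ N X).hom ≫ (ModuleCat.restrictScalars.{u} φ).obj N ◁ g :=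
      extCancelIso_natural₂ φ N g
    rw [← Functor.map_comp_assoc, BraidedCategory.braiding_naturality_left, Functor.map_comp_assoc,
      reassoc_of% h]
    simp only [Category.assoc]
    congr 2
    exact BraidedCategory.braiding_naturality_right ((ModuleCat.restrictScalars.{u} φ).obj N) g)

/-- Exactness of `ext P ⊗ N` over `A` is exactness of `P ⊗ N` over `R`. -/
theorem exactAt_tensor_ext_iff (P : CochainComplex (ModuleCat.{u} R) ℤ) (N : ModuleCat.{u} A) (i : ℤ) :
    (((tensorRight N).mapHomologicalComplex (ComplexShape.up ℤ)).obj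
      (((ModuleCat.extendScalars.{u, u, u} φ).mapHomologicalComplex (ComplexShape.up ℤ)).obj P)).ExactAt i ↔
      (((tensorRight ((ModuleCat.restrictScalars.{u} φ).obj N)).mapHomologicalComplex (ComplexShape.up ℤ)).obj P).ExactAt i := by
  rw [exactAt_iff, exactAt_iff]
  refine (ShortComplex.exact_map_iff_of_faithful _ (ModuleCat.restrictScalars.{u} φ)).symm.trans ?_
  exact ShortComplex.exact_iff_of_iso ((HomologicalComplex.shortComplexFunctor _ _ i).mapIso
    ((NatIso.mapHomologicalComplex (tensorExtIso φ N) (ComplexShape.up ℤ)).app P))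

end Groth.Agent.DCat
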