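import Groth.Agent.DCat.FlatPull
import Groth.Prelude.Def_DCoh3
import Groth.Agent.DCat.PullPush
import Mathlib.AlgebraicGeometry.Restrict

/-! Derived functors and restriction to opens. -/

set_option autoImplicit false
set_option backward.isDefEq.respectTransparency false
set_option backward.defeqAttrib.useBackward true
set_option linter.style.haveILetI false

universe w v u

open CategoryTheory CategoryTheory.Limits AlgebraicGeometry Opposite TopologicalSpace

attribute [local instance] HasDerivedCategory.standard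

namespace Groth.Agent.DCat.OpenDerived

section

variable {A : Type (u + 1)} [Category.{u} A] [Abelian A] {B : Type (u + 1)} [Category.{u} B] [Abelian B]
  {G : A ⥤ B} {F : B ⥤ A} [G.Additive] [F.Additive]
  [PreservesFiniteLimits G] [PreservesFiniteColimits G] [PreservesFiniteLimits F] [PreservesFiniteColimits F]

/-- An adjunction of exact functors, on derived categories. -/
noncomputable def adjD (adj : G ⊣ F) : G.mapDerivedCategory ⊣ F.mapDerivedCategory :=
  letI : CatCommSq (G.mapHomologicalComplex (ComplexShape.up ℤ)) DerivedCategory.Q DerivedCategory.Q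
      G.mapDerivedCategory := ⟨G.mapDerivedCategoryFactors.symm⟩
  letI : CatCommSq (F.mapHomologicalComplex (ComplexShape.up ℤ)) DerivedCategory.Q DerivedCategory.Q
      F.mapDerivedCategory := ⟨F.mapDerivedCategoryFactors.symm⟩
  (adjCx (ComplexShape.up ℤ) adj).localization
    DerivedCategory.Q (HomologicalComplex.quasiIso _ _) DerivedCategory.Q (HomologicalComplex.quasiIso _ _) _ _

/-- The K-injective right adjoint commutes with an exact right adjoint of an exact functor. -/
noncomputable def rhoMapIso (adj : G ⊣ F) (hA : EnoughKInj A) (hB : EnoughKInj B) :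
    F.mapDerivedCategory ⋙ rho hA ≅ rho hB ⋙ F.mapHomotopyCategory (ComplexShape.up ℤ) :=
  ((rhoAdj hA).comp (adjD adj)).rightAdjointUniq
    (((adjHot (ComplexShape.up ℤ) adj).comp (rhoAdj hB)).ofNatIsoLeft G.mapDerivedCategoryFactorsh.symm)

end

/-- A right derived functor, evaluated at a K-injective complex. -/
noncomputable def rfQIso {A : Type (u + 1)} [Category.{u} A] [Abelian A] (h : EnoughKInj A)
    {H : Type*} [Category H] (F : HomotopyCategory A (ComplexShape.up ℤ) ⥤ H)
    [F.HasRightDerivedFunctor (HomotopyCategory.quasiIso A (ComplexShape.up ℤ))]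
    (J : CochainComplex A ℤ) [hJ : J.IsKInjective] :
    (F.totalRightDerived DerivedCategory.Qh (HomotopyCategory.quasiIso A (ComplexShape.up ℤ))).obj
      (DerivedCategory.Q.obj J) ≅ F.obj ((HomotopyCategory.quotient A (ComplexShape.up ℤ)).obj J) :=
  haveI := isIso_rhoAdj_unit h (X := (HomotopyCategory.quotient A (ComplexShape.up ℤ)).obj J) hJ
  Functor.mapIso _ ((DerivedCategory.quotientCompQhIso A).app J).symm ≪≫ (rfIso h F).app _ ≪≫
    (F.mapIso (asIso ((rhoAdj h).unit.app ((HomotopyCategory.quotient A (ComplexShape.up ℤ)).obj J)))).symm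

variable {X Y : Scheme.{u}}

lemma isKInjective_restrict {U : Scheme.{u}} (j : U ⟶ X) [IsOpenImmersion j] (I : CochainComplex X.Modules ℤ)
    [I.IsKInjective] :
    CochainComplex.IsKInjective
      (((Scheme.Modules.restrictFunctor j).mapHomologicalComplex (ComplexShape.up ℤ)).obj I) :=
  FlatPull.isKInjective_map_of_adj (JShriek.shriekAdj j) I

/-- Direct image commutes with restriction to opens. -/
noncomputable def pushRestrict (f : X ⟶ Y) (V : Y.Opens) :
    Scheme.Modules.pushforward f ⋙ Scheme.Modules.restrictFunctor V.ι ≅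
      Scheme.Modules.restrictFunctor (f ⁻¹ᵁ V).ι ⋙ Scheme.Modules.pushforward (f ∣_ V) :=
  SheafOfModules.pushforwardComp _ _ ≪≫
    SheafOfModules.pushforwardNatIso _ (NatIso.ofComponents fun W ↦ eqToIso (image_morphismRestrict_preimage f V W)) ≪≫
    SheafOfModules.pushforwardCongr (by
      ext W : 3
      dsimp
      simp [Scheme.Opens.ι_appIso, Scheme.Hom.toRingCatSheafHom, ← Functor.map_comp]
      refine congrArg _ ((Category.id_comp _).trans (Eq.trans ?_ (Category.comp_id _).symm))
      refine Eq.trans ?_ (morphismRestrict_app f V W.unop).symm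
      exact congrArg (fun t => f.c.app _ ≫ t) (congrArg X.presheaf.map (Subsingleton.elim _ _))) ≪≫
    (SheafOfModules.pushforwardComp _ _).symm

/-- `(Rf_* E)|_V ≅ Rg_*(E|_U)`. -/
noncomputable def rpushRestrictIso (f : X ⟶ Y) (V : Y.Opens) [DCoh.HasRpush f] [DCoh.HasRpush (f ∣_ V)]
    [PreservesFiniteLimits (Scheme.Modules.restrictFunctor V.ι)]
    [PreservesFiniteLimits (Scheme.Modules.restrictFunctor (f ⁻¹ᵁ V).ι)] :
    DCoh.Rpush f ⋙ DCoh.restrictD V.ι ≅ DCoh.restrictD (f ⁻¹ᵁ V).ι ⋙ DCoh.Rpush (f ∣_ V) :=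
  let U := f ⁻¹ᵁ V
  let e : DCoh.pushKh f ⋙ DCoh.restrictD V.ι ≅
      (Scheme.Modules.restrictFunctor U.ι).mapHomotopyCategory (ComplexShape.up ℤ) ⋙ DCoh.pushKh (f ∣_ V) :=
    Functor.associator _ _ _ ≪≫
      Functor.isoWhiskerLeft _ (Scheme.Modules.restrictFunctor V.ι).mapDerivedCategoryFactorsh ≪≫
      (Functor.associator _ _ _).symm ≪≫
      Functor.isoWhiskerRight
        (Functor.mapHomotopyCategoryCompIso (pushRestrict f V) (ComplexShape.up ℤ) ≪≫
          (Functor.mapHomotopyCategoryCompIso (Iso.refl _) (ComplexShape.up ℤ)).symm) DerivedCategory.Qh ≪≫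
      Functor.associator _ _ _
  Functor.isoWhiskerRight (rfIso (modules_enoughKInj X) (DCoh.pushKh f)) _ ≪≫
    Functor.associator _ _ _ ≪≫
    Functor.isoWhiskerLeft _ e ≪≫ (Functor.associator _ _ _).symm ≪≫
    Functor.isoWhiskerRight (rhoMapIso (JShriek.shriekAdj U.ι) (modules_enoughKInj (U : Scheme.{u}))
      (modules_enoughKInj X)).symm _ ≪≫
    Functor.associator _ _ _ ≪≫
    Functor.isoWhiskerLeft _ (rfIso (modules_enoughKInj (U : Scheme.{u})) (DCoh.pushKh (f ∣_ V))).symm

end Groth.Agent.DCat.OpenDerived
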