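import Groth.Agent.DCat.Derived
import Mathlib.Algebra.Homology.DerivedCategory.KInjective
import Mathlib.Algebra.Homology.HomotopyCategory.Acyclic
import Mathlib.CategoryTheory.Functor.Derived.RightDerived

/-! Unbounded right derived functors from enough K-injective complexes. -/

set_option autoImplicit false
set_option backward.isDefEq.respectTransparency false
set_option backward.defeqAttrib.useBackward true

universe w v v' u u'

open CategoryTheory CategoryTheory.Limits

namespace Groth.Agent.DCat

variable {A : Type u} [Category.{v} A] [Abelian A]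

instance quasiIso_hasLeftCalculusOfFractions :
    (HomotopyCategory.quasiIso A (ComplexShape.up ℤ)).HasLeftCalculusOfFractions := by
  rw [HomotopyCategory.quasiIso_eq_trW_subcategoryAcyclic]
  infer_instance

instance quasiIso_hasRightCalculusOfFractions :
    (HomotopyCategory.quasiIso A (ComplexShape.up ℤ)).HasRightCalculusOfFractions := by
  rw [HomotopyCategory.quasiIso_eq_trW_subcategoryAcyclic]
  infer_instance

/-- The objects of `K(A)` given by K-injective complexes. -/
def kInj (A : Type u) [Category.{v} A] [Abelian A] :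
    ObjectProperty (HomotopyCategory A (ComplexShape.up ℤ)) :=
  fun X => CochainComplex.IsKInjective X.as

/-- Enough K-injective complexes. -/
def EnoughKInj (A : Type u) [Category.{v} A] [Abelian A] : Prop :=
  ∀ K : CochainComplex A ℤ, ∃ (I : CochainComplex A ℤ) (f : K ⟶ I), I.IsKInjective ∧ QuasiIso f

lemma kInj_resolution (h : EnoughKInj A) (X : HomotopyCategory A (ComplexShape.up ℤ)) :
    ∃ (X' : HomotopyCategory A (ComplexShape.up ℤ)) (s : X ⟶ X'),
      kInj A X' ∧ HomotopyCategory.quasiIso A (ComplexShape.up ℤ) s := by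
  obtain ⟨I, f, hI, hf⟩ := h X.as
  exact ⟨(HomotopyCategory.quotient A (ComplexShape.up ℤ)).obj I,
    (HomotopyCategory.quotient A (ComplexShape.up ℤ)).map f, hI,
    (HomotopyCategory.quotient_map_mem_quasiIso_iff f).2 hf⟩

lemma kInj_isIso ⦃X Y : HomotopyCategory A (ComplexShape.up ℤ)⦄ (s : X ⟶ Y) (hX : kInj A X)
    (hY : kInj A Y) (hs : HomotopyCategory.quasiIso A (ComplexShape.up ℤ) s) : IsIso s := by
  obtain ⟨f, rfl⟩ := (HomotopyCategory.quotient A (ComplexShape.up ℤ)).map_surjective
    (X := X.as) (Y := Y.as) s
  rw [HomotopyCategory.quotient_map_mem_quasiIso_iff] at hs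
  haveI : CochainComplex.IsKInjective X.as := hX
  haveI : CochainComplex.IsKInjective Y.as := hY
  have := (CochainComplex.IsKInjective.quasiIso_iff f).1 hs
  rw [← HomotopyCategory.inverseImage_quotient_isomorphisms] at this
  exact this

lemma kInj_isIso_map {H : Type u'} [Category.{v'} H]
    (F : HomotopyCategory A (ComplexShape.up ℤ) ⥤ H) ⦃X Y : HomotopyCategory A (ComplexShape.up ℤ)⦄
    (s : X ⟶ Y) (hX : kInj A X) (hY : kInj A Y)
    (hs : HomotopyCategory.quasiIso A (ComplexShape.up ℤ) s) : IsIso (F.map s) := by
  have := kInj_isIso s hX hY hs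
  infer_instance

section

variable [HasDerivedCategory.{w} A] (h : EnoughKInj A) {H : Type u'} [Category.{v'} H]
  (F : HomotopyCategory A (ComplexShape.up ℤ) ⥤ H)

include h

omit [HasDerivedCategory.{w} A] in
theorem hasRightDerivedFunctor_of_enoughKInj :
    F.HasRightDerivedFunctor (HomotopyCategory.quasiIso A (ComplexShape.up ℤ)) :=
  hasRightDerived (kInj_resolution h) (kInj_isIso_map F)

theorem isIso_unit_of_kInj [F.HasRightDerivedFunctor (HomotopyCategory.quasiIso A (ComplexShape.up ℤ))]
    (I : CochainComplex A ℤ) (hI : I.IsKInjective) :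
    IsIso ((F.totalRightDerivedUnit DerivedCategory.Qh (HomotopyCategory.quasiIso A (ComplexShape.up ℤ))).app
      ((HomotopyCategory.quotient A (ComplexShape.up ℤ)).obj I)) :=
  isIso_unit_of_mem (kInj_resolution h) (kInj_isIso_map F) _ hI

end

end Groth.Agent.DCat
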