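import Groth.Agent.EtCmp.RDeg
import Groth.Agent.DCat.RDUnbounded
import Groth.Agent.DCat.Derived
import Mathlib.Algebra.Homology.Factorizations.CM5b
import Mathlib.Algebra.Homology.HomotopyCategory.MappingCocone
import Mathlib.Algebra.Homology.HomologySequenceLemmas

/-!
# Acyclic objects compute the unbounded derived functor in finite cohomological dimension
-/

set_option autoImplicit false
set_option backward.isDefEq.respectTransparency false
set_option backward.defeqAttrib.useBackward true
set_option linter.style.haveILetI false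
set_option synthInstance.maxHeartbeats 100000

universe w w' v v' u u'

open CategoryTheory CategoryTheory.Limits CategoryTheory.Pretriangulated HomologicalComplex

open scoped ZeroObject

namespace Groth.Agent.DCat.Acyclic

theorem enoughInjectives {A : Type u} [Category.{v} A] [Abelian A] [HasInjectiveResolutions A] :
    EnoughInjectives A where
  presentation X := ⟨{ J := (injectiveResolution X).cocomplex.X 0, f := (injectiveResolution X).ι.f 0 }⟩

variable {A : Type u} [Category.{v} A] [Abelian A] [HasInjectiveResolutions A]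
  {B : Type u'} [Category.{v'} B] [Abelian B] (F : A ⥤ B) [F.Additive]

/-- `F`-acyclic objects. -/
def Acy (X : A) : Prop := ∀ i : ℕ, 0 < i → IsZero ((F.rightDerived i).obj X)

variable {F}

instance additive_rightDerived (i : ℕ) : (F.rightDerived i).Additive where
  map_add {X Y f g} := by
    let P := injectiveResolution X
    let Q := injectiveResolution Y
    have hf : P.ι ≫ InjectiveResolution.desc f Q P = (CochainComplex.single₀ A).map f ≫ Q.ι :=
      InjectiveResolution.desc_commutes _ _ _
    have hg : P.ι ≫ InjectiveResolution.desc g Q P = (CochainComplex.single₀ A).map g ≫ Q.ι :=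
      InjectiveResolution.desc_commutes _ _ _
    rw [F.rightDerived_map_eq i f _ hf, F.rightDerived_map_eq i g _ hg,
      F.rightDerived_map_eq i (f + g) (InjectiveResolution.desc f Q P + InjectiveResolution.desc g Q P)
        (by rw [Preadditive.comp_add, hf, hg, Functor.map_add, Preadditive.add_comp]),
      Functor.map_add, Preadditive.add_comp, Preadditive.comp_add]

theorem Acy.of_iso {X Y : A} (h : Acy F X) (e : X ≅ Y) : Acy F Y := fun i hi =>
  (h i hi).of_iso ((F.rightDerived i).mapIso e.symm)

theorem acy_biprod {X Y : A} (hX : Acy F X) (hY : Acy F Y) : Acy F (X ⊞ Y) := fun i hi => by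
  haveI := preservesBinaryBiproducts_of_preservesBiproducts (F.rightDerived i)
  exact ((biprod_isZero_iff _ _).2 ⟨hX i hi, hY i hi⟩).of_iso ((F.rightDerived i).mapBiprod X Y)

theorem acy_of_retract {X Y : A} (r : Retract X Y) (hY : Acy F Y) : Acy F X := fun i hi =>
  IsZero.of_mono ((F.rightDerived i).map r.i) (hY i hi)

theorem acy_injective (X : A) [Injective X] : Acy F X := fun i hi => by
  obtain ⟨k, rfl⟩ := Nat.exists_eq_succ_of_ne_zero hi.ne'
  exact Functor.isZero_rightDerived_obj_injective_succ F k X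

variable [EnoughInjectives A]
variable [PreservesFiniteLimits F]

omit [PreservesFiniteLimits F] in
/-- `R^i` of a quotient. -/
theorem isZero_rightDerived_X₃ {S : ShortComplex A} (hS : S.ShortExact) (i : ℕ)
    (h₂ : IsZero ((F.rightDerived i).obj S.X₂)) (h₁ : IsZero ((F.rightDerived (i + 1)).obj S.X₁)) :
    IsZero ((F.rightDerived i).obj S.X₃) := by
  let _ := HasDerivedCategory.standard A
  let _ := HasDerivedCategory.standard B
  obtain ⟨e₁⟩ := SpecSeq.nonempty_rdSingle_iso F S.X₁ (i + 1)
  obtain ⟨e₂⟩ := SpecSeq.nonempty_rdSingle_iso F S.X₂ i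
  obtain ⟨e₃⟩ := SpecSeq.nonempty_rdSingle_iso F S.X₃ i
  obtain ⟨δ, hT⟩ := SpecSeq.exists_plus_singleTriangle hS
  exact (((SpecSeq.rdH F).homologySequence_exact₃ _ hT (i : ℤ) ((i + 1 : ℕ) : ℤ) (by push_cast; ring)).isZero_X₂
    ((h₂.of_iso e₂).eq_of_src _ _) ((h₁.of_iso e₁).eq_of_tgt _ _)).of_iso e₃.symm

omit [PreservesFiniteLimits F] in
theorem acy_X₃ {S : ShortComplex A} (hS : S.ShortExact) (h₁ : Acy F S.X₁) (h₂ : Acy F S.X₂) : Acy F S.X₃ :=
  fun i hi => isZero_rightDerived_X₃ hS i (h₂ i hi) (h₁ (i + 1) (by omega))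

variable (F) in
/-- Vanishing of `RⁿF` propagates upwards. -/
theorem isZero_rightDerived_of_le (n : ℕ) (hn : ∀ X : A, IsZero ((F.rightDerived n).obj X)) (q : ℕ) (hq : n ≤ q)
    (X : A) : IsZero ((F.rightDerived q).obj X) := by
  rcases Nat.eq_zero_or_pos n with rfl | h0
  · have hz : ∀ Y : A, IsZero (F.obj Y) := fun Y =>
      IsZero.of_mono (F.map (Injective.ι Y))
        ((hn (Injective.under Y)).of_iso ((asIso F.toRightDerivedZero).app _))
    let R := injectiveResolution X
    refine IsZero.of_iso ?_ (R.isoRightDerivedObj F q)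
    exact ExactAt.isZero_homology ((exactAt_iff _ _).2 (ShortComplex.exact_of_isZero_X₂ _ (hz _)))
  · obtain ⟨k, rfl⟩ := Nat.exists_eq_add_of_le hq
    induction k generalizing X with
    | zero => exact hn X
    | succ k ih =>
      let S : ShortComplex A := ShortComplex.mk (Injective.ι X) (cokernel.π _) (cokernel.condition _)
      have hS : S.ShortExact := { exact := ShortComplex.exact_cokernel _ }
      exact EtCmp.isZero_rightDerived_succ F hS (n + k) (acy_injective (Injective.under X)) (by omega)
        (ih _ (Nat.le_add_right _ _))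

/-- `F` keeps exact an exact complex whose cocycles have no `R¹F`. -/
theorem acyclic_map_of_cycles (K : CochainComplex A ℤ) (hK : K.Acyclic)
    (h : ∀ i, IsZero ((F.rightDerived 1).obj (K.cycles i))) :
    ((F.mapHomologicalComplex (ComplexShape.up ℤ)).obj K).Acyclic := by
  intro j
  rw [exactAt_iff' _ (j - 1) j (j + 1) (by simp) (by simp),
    ShortComplex.exact_iff_exact_up_to_refinements]
  intro T x hx
  dsimp at x hx
  let S := ShortComplex.mk (K.iCycles j) (K.toCycles j (j + 1)) (by
    rw [← cancel_mono (K.iCycles (j + 1)), Category.assoc, toCycles_i, iCycles_d, zero_comp])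
  have hS : S.ShortExact := SpecSeq.shortExact_cycles K j (j + 1) rfl (hK _)
  have := hS.mono_f
  have hS' : (S.map F).Exact ∧ Mono (S.map F).f :=
    (ShortComplex.exact_and_mono_f_iff_f_is_kernel _).2 ⟨KernelFork.mapIsLimit _ hS.fIsKernel F⟩
  have := hS'.2
  have hx' : x ≫ F.map S.g = 0 := by
    rw [← cancel_mono (F.map (K.iCycles (j + 1))), Category.assoc, ← F.map_comp, zero_comp]
    simpa [S] using hx
  obtain ⟨y, hy⟩ : ∃ y, y ≫ F.map S.f = x := ⟨hS'.1.lift x hx', hS'.1.lift_f x hx'⟩
  have : Epi (F.map (K.toCycles (j - 1) j)) :=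
    SpecSeq.epi_map_of_isZero_rightDerived_one (SpecSeq.shortExact_cycles K (j - 1) j (by lia) (hK _)) (h (j - 1))
  obtain ⟨T', π, _, z, hz⟩ := surjective_up_to_refinements_of_epi (F.map (K.toCycles (j - 1) j)) y
  refine ⟨T', π, inferInstance, z, ?_⟩
  dsimp
  rw [← K.toCycles_i (j - 1) j, F.map_comp, ← Category.assoc z, ← hz, Category.assoc, hy]

omit [PreservesFiniteLimits F] in
theorem isZero_rightDerived_cycles_of_bounded (n : ℕ) (hn : ∀ X : A, ∀ q, n ≤ q → IsZero ((F.rightDerived q).obj X))
    (K : CochainComplex A ℤ) (hK : K.Acyclic) (hX : ∀ m, Acy F (K.X m)) (j : ℕ) :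
    ∀ (m : ℤ) (i : ℕ), 0 < i → n ≤ i + j → IsZero ((F.rightDerived i).obj (K.cycles m)) := by
  induction j with
  | zero => exact fun m i _ h => hn _ i (by omega)
  | succ j ih =>
    intro m i hi h
    exact isZero_rightDerived_X₃ (SpecSeq.shortExact_cycles K (m - 1) m (by omega) (hK _)) i (hX _ i hi)
      (ih (m - 1) (i + 1) (by omega) (by omega))

/-- In finite cohomological dimension `F` keeps exact any exact complex of acyclic objects. -/
theorem acyclic_map (n : ℕ) (hn : ∀ X : A, IsZero ((F.rightDerived n).obj X)) (K : CochainComplex A ℤ)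
    (hK : K.Acyclic) (hX : ∀ m, Acy F (K.X m)) : ((F.mapHomologicalComplex (ComplexShape.up ℤ)).obj K).Acyclic :=
  acyclic_map_of_cycles K hK fun m => isZero_rightDerived_cycles_of_bounded n
    (fun X q hq => isZero_rightDerived_of_le F n hn q hq X) K hK hX n m 1 one_pos (by omega)

omit [EnoughInjectives A] [HasInjectiveResolutions A] in
theorem acyclic_mappingCone_id (K : CochainComplex A ℤ) : (CochainComplex.mappingCone (𝟙 K)).Acyclic := fun j => by
  rw [exactAt_iff_isZero_homology, IsZero.iff_id_eq_zero, ← homologyMap_id]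
  exact ((CochainComplex.mappingCone.liftHomotopy _ _ _ (CochainComplex.mappingCone.snd _) 0 (by simp) (by simp) :
    Homotopy (𝟙 (CochainComplex.mappingCone (𝟙 K))) 0).homologyMap_eq j).trans (homologyMap_zero _ _ _)

omit [EnoughInjectives A] [HasInjectiveResolutions A] in
theorem acyclic_mappingCocone_id (K : CochainComplex A ℤ) : (CochainComplex.mappingCocone (𝟙 K)).Acyclic := fun j => by
  rw [exactAt_iff_isZero_homology]
  exact (((exactAt_iff_isZero_homology _ _).1 (acyclic_mappingCone_id K (-1 + j)))).of_iso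
    (((homologyFunctor A (ComplexShape.up ℤ) 0).shiftIso (-1) j (-1 + j) rfl).app _)

omit [EnoughInjectives A] [PreservesFiniteLimits F] in
theorem acy_mappingCone_X {K L : CochainComplex A ℤ} (φ : K ⟶ L) (hK : ∀ m, Acy F (K.X m)) (hL : ∀ m, Acy F (L.X m))
    (m : ℤ) : Acy F ((CochainComplex.mappingCone φ).X m) :=
  (acy_biprod (hK _) (hL _)).of_iso (homotopyCofiber.XIsoBiprod φ m (m + 1) rfl).symm

omit [EnoughInjectives A] [HasInjectiveResolutions A] in
/-- Five lemma for the first terms. -/
theorem quasiIso_τ₁ {S₁ S₂ : ShortComplex (CochainComplex A ℤ)} (φ : S₁ ⟶ S₂) (hS₁ : S₁.ShortExact)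
    (hS₂ : S₂.ShortExact) (h₂ : QuasiIso φ.τ₂) (h₃ : QuasiIso φ.τ₃) : QuasiIso φ.τ₁ := by
  rw [quasiIso_iff]
  intro j
  rw [quasiIsoAt_iff_isIso_homologyMap]
  have hij : (ComplexShape.up ℤ).Rel (j - 1) j := by simp
  let f := ComposableArrows.δ₀Functor.map (HomologySequence.mapComposableArrows₅ φ hS₁ hS₂ (j - 1) j hij)
  haveI : Epi (f.app 0) := (inferInstance : Epi (homologyMap φ.τ₂ (j - 1)))
  haveI : IsIso (f.app 1) := (inferInstance : IsIso (homologyMap φ.τ₃ (j - 1)))
  haveI : IsIso (f.app 3) := (inferInstance : IsIso (homologyMap φ.τ₂ j))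
  haveI : Mono (f.app 4) := (inferInstance : Mono (homologyMap φ.τ₃ j))
  exact Abelian.isIso_of_epi_of_isIso_of_isIso_of_mono
    (HomologySequence.composableArrows₅_exact hS₁ (j - 1) j hij).δ₀
    (HomologySequence.composableArrows₅_exact hS₂ (j - 1) j hij).δ₀ f ‹_› ‹_› ‹_› ‹_›

omit [PreservesFiniteLimits F] in
/-- Every complex has a quasi-isomorphism to a complex of acyclic objects, in finite cohomological dimension. -/
theorem exists_model (k : ℕ) : ∀ K : CochainComplex A ℤ,
    (∀ (m : ℤ) (i : ℕ), k < i → IsZero ((F.rightDerived i).obj (K.X m))) →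
    ∃ (J : CochainComplex A ℤ) (s : K ⟶ J), (∀ m, Acy F (J.X m)) ∧ QuasiIso s := by
  induction k with
  | zero => exact fun K hK => ⟨K, 𝟙 K, fun m i hi => hK m i hi, inferInstance⟩
  | succ k ih =>
    intro K hK
    let D := CochainComplex.mappingCone (𝟙 (CochainComplex.cm5b.I K)) ⊞ (0 : CochainComplex A ℤ)
    let ι : K ⟶ D := CochainComplex.cm5b.i 0
    have hD : ∀ m, Acy F (D.X m) := fun m => by
      haveI : Injective (((0 : CochainComplex A ℤ)).X m) :=
        ((HomologicalComplex.eval A (ComplexShape.up ℤ) m).map_isZero (isZero_zero _)).injective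
      exact (acy_biprod (acy_injective ((CochainComplex.mappingCone (𝟙 (CochainComplex.cm5b.I K))).X m))
        (acy_injective ((0 : CochainComplex A ℤ).X m))).of_iso
        ((HomologicalComplex.eval A (ComplexShape.up ℤ) m).mapBiprod (CochainComplex.mappingCone (𝟙 (CochainComplex.cm5b.I K))) 0).symm
    let S : ShortComplex (CochainComplex A ℤ) := ShortComplex.mk ι (cokernel.π ι) (cokernel.condition ι)
    haveI : Mono ι := inferInstanceAs (Mono (CochainComplex.cm5b.i (0 : K ⟶ 0)))
    have hS : S.ShortExact := { exact := ShortComplex.exact_cokernel ι }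
    obtain ⟨J₁, j, hJ₁, hj⟩ := ih (cokernel ι) fun m i hi =>
      isZero_rightDerived_X₃ (hS.map_of_exact (HomologicalComplex.eval A (ComplexShape.up ℤ) m)) i
        (hD m i (by omega)) (hK m (i + 1) (by omega))
    let P := CochainComplex.mappingCocone (𝟙 J₁)
    let g : D ⊞ P ⟶ J₁ := biprod.desc (cokernel.π ι ≫ j) (CochainComplex.mappingCocone.fst _)
    have hsec : ∀ m, ∃ σ : J₁.X m ⟶ (D ⊞ P).X m, σ ≫ g.f m = 𝟙 _ := fun m =>
      ⟨(CochainComplex.mappingCocone.inl (𝟙 J₁)).v m m (add_zero m) ≫ (biprod.inr : P ⟶ D ⊞ P).f m, by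
        rw [Category.assoc, ← HomologicalComplex.comp_f, biprod.inr_desc]
        exact CochainComplex.mappingCocone.inl_v_fst_f _ m⟩
    haveI : Epi g := HomologicalComplex.epi_of_epi_f g fun m => by
      obtain ⟨σ, hσ⟩ := hsec m
      exact (SplitEpi.mk σ hσ).epi
    let T : ShortComplex (CochainComplex A ℤ) := ShortComplex.mk (kernel.ι g) g (kernel.condition g)
    have hT : T.ShortExact := { exact := ShortComplex.exact_kernel g }
    let φ : S ⟶ T :=
      { τ₁ := kernel.lift g (ι ≫ biprod.inl) (by
          rw [Category.assoc, biprod.inl_desc, ← Category.assoc, cokernel.condition, zero_comp])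
        τ₂ := biprod.inl
        τ₃ := j
        comm₁₂ := kernel.lift_ι _ _ _
        comm₂₃ := biprod.inl_desc _ _ }
    refine ⟨kernel g, φ.τ₁, fun m => ?_, quasiIso_τ₁ φ hS hT ?_ hj⟩
    · have hTm := hT.map_of_exact (HomologicalComplex.eval A (ComplexShape.up ℤ) m)
      obtain ⟨σ, hσ⟩ := hsec m
      haveI := hTm.mono_f
      let sp := ShortComplex.Splitting.ofExactOfSection _ hTm.exact σ hσ inferInstance
      refine acy_of_retract ⟨(kernel.ι g).f m, sp.r, sp.f_r⟩ ?_
      refine (acy_biprod (hD m) ?_).of_iso ((HomologicalComplex.eval A (ComplexShape.up ℤ) m).mapBiprod D P).symm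
      exact acy_mappingCone_X (𝟙 J₁) hJ₁ hJ₁ _
    · show QuasiIso (biprod.inl : D ⟶ D ⊞ P)
      rw [quasiIso_iff]
      intro i
      rw [quasiIsoAt_iff_isIso_homologyMap]
      let H := homologyFunctor A (ComplexShape.up ℤ) i
      haveI := preservesBinaryBiproducts_of_preservesBiproducts H
      have hz : IsZero (H.obj P) := (exactAt_iff_isZero_homology _ _).1 (acyclic_mappingCocone_id J₁ i)
      refine ⟨H.map (biprod.fst : D ⊞ P ⟶ D), ?_, ?_⟩
      · exact (H.map_comp _ _).symm.trans ((congrArg H.map biprod.inl_fst).trans (H.map_id _))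
      · have e := congrArg H.map (biprod.total (X := D) (Y := P))
        rw [H.map_add, H.map_comp, H.map_comp, H.map_id, hz.eq_of_tgt (H.map biprod.snd) 0, zero_comp, add_zero] at e
        exact e

variable [HasDerivedCategory.{w} A] [HasDerivedCategory.{w'} B]

omit [EnoughInjectives A] [HasInjectiveResolutions A] in
theorem isIso_Q_map_of_cone {X Y : CochainComplex A ℤ} (f : X ⟶ Y)
    (h : (CochainComplex.mappingCone f).Acyclic) : IsIso (DerivedCategory.Q.map f) := by
  have hT : DerivedCategory.Q.mapTriangle.obj (CochainComplex.mappingCone.triangle f) ∈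
      distTriang (DerivedCategory A) := DerivedCategory.mem_distTriang_iff _ |>.2 ⟨_, _, f, ⟨Iso.refl _⟩⟩
  refine (Triangle.isZero₃_iff_isIso₁ _ hT).1 ?_
  show IsZero (DerivedCategory.Q.obj (CochainComplex.mappingCone f))
  haveI : QuasiIso (0 : CochainComplex.mappingCone f ⟶ 0) := (quasiIso_iff _).2 fun i => by
    rw [quasiIsoAt_iff_isIso_homologyMap]
    exact ⟨0, ((exactAt_iff_isZero_homology _ _).1 (h i)).eq_of_src _ _,
      ((homologyFunctor A (ComplexShape.up ℤ) i).map_isZero (isZero_zero _)).eq_of_src _ _⟩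
  exact ((DerivedCategory.Q).map_isZero (isZero_zero _)).of_iso (asIso (DerivedCategory.Q.map 0))

omit [EnoughInjectives A] [HasInjectiveResolutions A] in
theorem acyclic_cone_of_isIso {X Y : CochainComplex A ℤ} (f : X ⟶ Y) [IsIso (DerivedCategory.Q.map f)] :
    (CochainComplex.mappingCone f).Acyclic := fun j => by
  have hT : DerivedCategory.Q.mapTriangle.obj (CochainComplex.mappingCone.triangle f) ∈
      distTriang (DerivedCategory A) := DerivedCategory.mem_distTriang_iff _ |>.2 ⟨_, _, f, ⟨Iso.refl _⟩⟩
  have hz : IsZero (DerivedCategory.Q.obj (CochainComplex.mappingCone f)) :=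
    (Triangle.isZero₃_iff_isIso₁ _ hT).2 (‹_› : IsIso (DerivedCategory.Q.map f))
  rw [exactAt_iff_isZero_homology]
  exact ((DerivedCategory.homologyFunctor A j).map_isZero hz).of_iso
    ((DerivedCategory.homologyFunctorFactors A j).app _).symm

omit [HasInjectiveResolutions A] [EnoughInjectives A] [PreservesFiniteLimits F] in
/-- `F` inverts quasi-isomorphisms within a class where it preserves exactness. -/
theorem isIso_Q_map_map {X Y : CochainComplex A ℤ} (f : X ⟶ Y) [QuasiIso f]
    (h : (CochainComplex.mappingCone f).Acyclic →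
      ((F.mapHomologicalComplex (ComplexShape.up ℤ)).obj (CochainComplex.mappingCone f)).Acyclic) :
    IsIso (DerivedCategory.Q.map ((F.mapHomologicalComplex (ComplexShape.up ℤ)).map f)) := by
  refine isIso_Q_map_of_cone _ fun j => ExactAt.of_iso (h (acyclic_cone_of_isIso f) j) ?_
  exact CochainComplex.mappingCone.mapHomologicalComplexIso f F

omit [HasInjectiveResolutions A] [EnoughInjectives A] [PreservesFiniteLimits F] in
theorem isIso_Qh_map_map {X Y : HomotopyCategory A (ComplexShape.up ℤ)} (s : X ⟶ Y)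
    (hs : HomotopyCategory.quasiIso A (ComplexShape.up ℤ) s)
    (h : ∀ f : X.as ⟶ Y.as, (CochainComplex.mappingCone f).Acyclic →
      ((F.mapHomologicalComplex (ComplexShape.up ℤ)).obj (CochainComplex.mappingCone f)).Acyclic) :
    IsIso ((F.mapHomotopyCategory (ComplexShape.up ℤ) ⋙ DerivedCategory.Qh).map s) := by
  obtain ⟨f, rfl⟩ := (HomotopyCategory.quotient A (ComplexShape.up ℤ)).map_surjective (X := X.as) (Y := Y.as) s
  rw [HomotopyCategory.quotient_map_mem_quasiIso_iff] at hs
  haveI : QuasiIso f := hs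
  haveI := isIso_Q_map_map (F := F) f (h f)
  exact (NatIso.isIso_map_iff (DerivedCategory.quotientCompQhIso B)
    ((F.mapHomologicalComplex (ComplexShape.up ℤ)).map f)).2 inferInstance

/-- In finite cohomological dimension complexes of acyclic objects compute `RF`. -/
theorem isIso_unit (n : ℕ) (hn : ∀ X : A, IsZero ((F.rightDerived n).obj X))
    [(F.mapHomotopyCategory (ComplexShape.up ℤ) ⋙ DerivedCategory.Qh).HasRightDerivedFunctor
      (HomotopyCategory.quasiIso A (ComplexShape.up ℤ))]
    (K : CochainComplex A ℤ) (hK : ∀ m, Acy F (K.X m)) :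
    IsIso (((F.mapHomotopyCategory (ComplexShape.up ℤ) ⋙ DerivedCategory.Qh).totalRightDerivedUnit DerivedCategory.Qh
      (HomotopyCategory.quasiIso A (ComplexShape.up ℤ))).app ((HomotopyCategory.quotient A (ComplexShape.up ℤ)).obj K)) := by
  let P : ObjectProperty (HomotopyCategory A (ComplexShape.up ℤ)) := fun X => ∀ m, Acy F (X.as.X m)
  refine isIso_unit_of_mem (W := HomotopyCategory.quasiIso A (ComplexShape.up ℤ)) (P := P) (L := DerivedCategory.Qh) (fun X => ?_) (fun {X Y} s hX hY hs => ?_)
    ((F.mapHomotopyCategory (ComplexShape.up ℤ) ⋙ DerivedCategory.Qh).totalRightDerivedUnit DerivedCategory.Qh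
      (HomotopyCategory.quasiIso A (ComplexShape.up ℤ))) hK
  · obtain ⟨J, s, hJ, hs⟩ := exists_model (F := F) n X.as fun m i hi => isZero_rightDerived_of_le F n hn i hi.le _
    exact ⟨(HomotopyCategory.quotient A _).obj J, (HomotopyCategory.quotient A _).map s, hJ,
      (HomotopyCategory.quotient_map_mem_quasiIso_iff s).2 hs⟩
  · exact isIso_Qh_map_map s hs fun f hf => acyclic_map n hn _ hf (acy_mappingCone_X f hX hY)

omit [HasDerivedCategory.{w} A] [HasDerivedCategory.{w'} B] in
/-- `F` keeps exact a bounded below exact complex of acyclic objects. -/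
theorem acyclic_map_boundedBelow (K : CochainComplex A ℤ) (n : ℤ) [K.IsStrictlyGE n] (hK : K.Acyclic)
    (hX : ∀ m, Acy F (K.X m)) : ((F.mapHomologicalComplex (ComplexShape.up ℤ)).obj K).Acyclic := by
  refine acyclic_map_of_cycles K hK fun i => ?_
  suffices h : ∀ (k : ℕ) (m : ℤ), m ≤ n - 1 + k → Acy F (K.cycles m) from
    h (i - n + 1).toNat i (by omega) 1 one_pos
  intro k
  induction k with
  | zero =>
    intro m hm p _
    exact (F.rightDerived p).map_isZero
      (IsZero.of_mono (K.iCycles m) (CochainComplex.isZero_of_isStrictlyGE K n m (by omega)))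
  | succ k ih =>
    intro m hm
    exact acy_X₃ (SpecSeq.shortExact_cycles K (m - 1) m (by omega) (hK _)) (ih (m - 1) (by push_cast at hm; omega)) (hX _)

/-- Leray's acyclicity lemma. -/
theorem isIso_unit_plus (K : CochainComplex.Plus A) (hK : ∀ m, Acy F (K.obj.X m)) :
    IsIso (F.rightDerivedFunctorPlusUnit.app ((HomotopyCategory.Plus.quotient A).obj K)) := by
  haveI : (HomotopyCategory.Plus.quasiIso A).HasLeftCalculusOfFractions := by
    rw [HomotopyCategory.Plus.quasiIso_eq_subcategoryAcyclic_trW]
    infer_instance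
  let P : ObjectProperty (HomotopyCategory.Plus A) := fun X => ∀ m, Acy F (X.obj.as.X m)
  refine isIso_unit_of_mem (W := HomotopyCategory.Plus.quasiIso A) (P := P) (L := DerivedCategory.Plus.Qh)
    (fun X => ?_) (fun {X Y} s hX hY hs => ?_) F.rightDerivedFunctorPlusUnit hK
  · obtain ⟨n, hn⟩ := (HomotopyCategory.plus_quotient_obj_iff X.obj.as).1 X.property
    haveI := hn
    obtain ⟨L, i, hq, hL, hn'⟩ := CochainComplex.Plus.modelCategoryQuillen.exists_quasiIso_injective X.obj.as n
    exact ⟨⟨(HomotopyCategory.quotient A _).obj L, (HomotopyCategory.plus_quotient_obj_iff L).2 ⟨n, inferInstance⟩⟩,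
      ObjectProperty.homMk ((HomotopyCategory.quotient A _).map i), fun m => (haveI := hL m; acy_injective (L.X m)),
      (HomotopyCategory.quotient_map_mem_quasiIso_iff i).2 hq⟩
  · obtain ⟨a, ha⟩ := (HomotopyCategory.plus_quotient_obj_iff X.obj.as).1 X.property
    obtain ⟨b, hb⟩ := (HomotopyCategory.plus_quotient_obj_iff Y.obj.as).1 Y.property
    haveI := ha
    haveI := hb
    have h : IsIso ((F.mapHomotopyCategory (ComplexShape.up ℤ) ⋙ DerivedCategory.Qh).map s.hom) :=
      isIso_Qh_map_map s.hom hs fun f hf => by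
        haveI : (CochainComplex.mappingCone f).IsStrictlyGE (min (a - 1) b) := by
          rw [CochainComplex.isStrictlyGE_iff]
          intro i hi
          rw [CochainComplex.mappingCone.isZero_X_iff]
          exact ⟨CochainComplex.isZero_of_isStrictlyGE _ a _ (by omega),
            CochainComplex.isZero_of_isStrictlyGE _ b _ (by omega)⟩
        exact acyclic_map_boundedBelow _ (min (a - 1) b) hf (acy_mappingCone_X f hX hY)
    haveI : IsIso (DerivedCategory.Plus.ι.map ((F.mapHomotopyCategoryPlus ⋙ DerivedCategory.Plus.Qh).map s)) := h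
    exact isIso_of_reflects_iso _ (DerivedCategory.Plus.ι (C := B))

end Groth.Agent.DCat.Acyclic
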