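import Groth.Agent.DCat.Derived
import Mathlib.CategoryTheory.Functor.KanExtension.Basic

/-! Derived functors and precomposition with a quotient functor. -/

set_option autoImplicit false
set_option backward.isDefEq.respectTransparency false
set_option backward.defeqAttrib.useBackward true
set_option linter.style.haveILetI false

universe v₀ v v' v'' u₀ u u' u''

open CategoryTheory CategoryTheory.Limits

namespace Groth.Agent.DCat

variable {C₀ : Type u₀} [Category.{v₀} C₀] {C : Type u} [Category.{v} C] {D : Type u'} [Category.{v'} D]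
  {H : Type u''} [Category.{v''} H] (q : C₀ ⥤ C) [((Functor.whiskeringLeft C₀ C H).obj q).Full]
  [((Functor.whiskeringLeft C₀ C H).obj q).Faithful]
  {L : C ⥤ D} {F : C ⥤ H} {L₀ : C₀ ⥤ D} (eL : q ⋙ L ≅ L₀) {F₀ : C₀ ⥤ H} (eF : q ⋙ F ≅ F₀)
  (W₀ : MorphismProperty C₀) [L₀.IsLocalization W₀] {W : MorphismProperty C} [L.IsLocalization W]

/-- A derived functor on `C` gives a derived functor on `C₀`. -/
theorem isLeftDerived_precomp {LF : D ⥤ H} (α : L ⋙ LF ⟶ F) [LF.IsLeftDerivedFunctor α W] :
    LF.IsLeftDerivedFunctor
      (Functor.whiskerRight eL.inv LF ≫ (Functor.associator _ _ _).hom ≫ Functor.whiskerLeft q α ≫ eF.hom) W₀ := by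
  haveI : LF.IsRightKanExtension α := Functor.IsLeftDerivedFunctor.isRightKanExtension LF α W
  refine ⟨⟨⟨Limits.IsTerminal.ofUniqueHom (fun G => ?_) (fun G m => ?_)⟩⟩⟩
  · exact CostructuredArrow.homMk (LF.liftOfIsRightKanExtension α G.left
      (((Functor.whiskeringLeft C₀ C H).obj q).preimage ((Functor.associator q L G.left).inv ≫
        Functor.whiskerRight eL.hom G.left ≫ G.hom ≫ eF.inv))) (by
      ext X
      have h₁ := Functor.liftOfIsRightKanExtension_fac_app LF α G.left
        (((Functor.whiskeringLeft C₀ C H).obj q).preimage ((Functor.associator q L G.left).inv ≫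
          Functor.whiskerRight eL.hom G.left ≫ G.hom ≫ eF.inv)) (q.obj X)
      have h₂ := congrArg (fun t => NatTrans.app t X) (((Functor.whiskeringLeft C₀ C H).obj q).map_preimage
        ((Functor.associator q L G.left).inv ≫ Functor.whiskerRight eL.hom G.left ≫ G.hom ≫ eF.inv))
      dsimp at h₁ h₂ ⊢
      simp only [Category.id_comp] at h₂ ⊢
      rw [← NatTrans.naturality_assoc, reassoc_of% h₁, h₂]
      simp [← G.left.map_comp_assoc])
  · apply CostructuredArrow.hom_ext
    apply LF.hom_ext_of_isRightKanExtension α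
    refine Eq.trans ?_ (LF.liftOfIsRightKanExtension_fac α G.left _).symm
    refine ((Functor.whiskeringLeft C₀ C H).obj q).map_injective ?_
    rw [Functor.map_preimage]
    ext X
    have := congrArg (fun t => NatTrans.app t X) (CostructuredArrow.w m)
    dsimp at this ⊢
    simp only [Category.id_comp] at this ⊢
    rw [← this, ← NatTrans.naturality_assoc]
    simp [← LF.map_comp_assoc]

include eL eF in
/-- Existence of the derived functor on `C₀`. -/
theorem hasLeftDerived_precomp [F.HasLeftDerivedFunctor W] : F₀.HasLeftDerivedFunctor W₀ :=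
  haveI := isLeftDerived_precomp q eL eF W₀ (W := W) (F.totalLeftDerivedCounit L W)
  Functor.HasLeftDerivedFunctor.mk' (L := L₀) (W := W₀) _
    (Functor.whiskerRight eL.inv (F.totalLeftDerived L W) ≫ (Functor.associator _ _ _).hom ≫
      Functor.whiskerLeft q (F.totalLeftDerivedCounit L W) ≫ eF.hom)

end Groth.Agent.DCat
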