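import Groth.Agent.DCat.TorFlat
import Groth.Agent.DCat.KFlatSheaf
import Mathlib.Algebra.Homology.DerivedCategory.TStructure
import Mathlib.Algebra.Homology.Embedding.CochainComplex

/-! `- ⊗^L F` on O_X-modules and tor amplitude. -/

set_option autoImplicit false
set_option backward.isDefEq.respectTransparency false
set_option backward.defeqAttrib.useBackward true
set_option linter.style.haveILetI false

universe u

open CategoryTheory CategoryTheory.Limits AlgebraicGeometry MonoidalCategory HomologicalComplex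
open Groth.Agent.ModStalk

attribute [local instance] HasDerivedCategory.standard

namespace Groth.Agent.DCat

variable {X : Scheme.{u}}

/-- Exactness is stalkwise. -/
lemma exactAt_iff_stalks {K : CochainComplex X.Modules ℤ} {n : ℤ} :
    (∀ x, ((stalkK x).obj K).ExactAt n) ↔ K.ExactAt n := by
  refine ⟨fun h => ?_, fun h x => h.map (DerSch.stalkFunctor X x)⟩
  rw [HomologicalComplex.exactAt_iff_isZero_homology]
  refine isZero_of_stalks fun x => ?_
  exact IsZero.of_iso ((HomologicalComplex.exactAt_iff_isZero_homology _ _).1 (h x))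
    ((K.sc n).mapHomologyIso (DerSch.stalkFunctor X x)).symm

/-- Stalks of `- ⊗ M`. -/
noncomputable def stalkTensorRightModIso (M : X.Modules) (x : X) :
    DCoh.tensorRightMod M ⋙ DerSch.stalkFunctor X x ≅
      DerSch.stalkFunctor X x ⋙ tensorRight ((DerSch.stalkFunctor X x).obj M) :=
  NatIso.ofComponents (fun N => (stalkTensorIso x N M :))
    (fun {N N'} g => by exact stalkTensor_nat₁ x g M)

/-- Stalk complexes of `- ⊗ M`. -/
noncomputable def stalkTensorModCxIso (M : X.Modules) (x : X) (K : CochainComplex X.Modules ℤ) :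
    (stalkK x).obj (((DCoh.tensorRightMod M).mapHomologicalComplex (ComplexShape.up ℤ)).obj K) ≅
      ((tensorRight ((DerSch.stalkFunctor X x).obj M)).mapHomologicalComplex (ComplexShape.up ℤ)).obj ((stalkK x).obj K) :=
  Hom.isoOfComponents (fun n => (stalkTensorRightModIso M x).app (K.X n))
    (fun a b _ => ((stalkTensorRightModIso M x).hom.naturality (K.d a b)).symm)

/-- Tensoring with a module preserves quasi-isomorphisms of K-flat complexes of modules. -/
lemma quasiIso_tensorRight_of_kflat {R : Type u} [CommRing R] (A : ModuleCat.{u} R) {P Q : DRing.Cx R}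
    (hP : IsKFlatFor (modT R) P) (hQ : IsKFlatFor (modT R) Q) (α : P ⟶ Q) [QuasiIso α] :
    QuasiIso (((tensorRight A).mapHomologicalComplex (ComplexShape.up ℤ)).map α) :=
  quasiIso_map_of_kills ((tensorRight A).mapHomologicalComplex (ComplexShape.up ℤ))
    (fun _ _ h => ⟨(tensorRight A).mapHomotopy h⟩)
    (fun S hS => shortExact_of_degreewise_shortExact _ fun n => (((hS n).some).map (tensorRight A)).shortExact) α
    fun S e h₁ hS hac => acyclic_tensorRight_of_kflat
      ((h₁ ▸ hP : IsKFlatFor (modT R) S.X₁).ext₃ (fun a q => shortExact_map_of_splitting hS a q)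
        (hQ.of_homotopyEquiv e.symm)) hac A

lemma isIso_tensorModKh_of_kflat (M : X.Modules) ⦃K L : HomotopyCategory X.Modules (ComplexShape.up ℤ)⦄
    (s : K ⟶ L) (hK : kflatObj X K) (hL : kflatObj X L)
    (hs : HomotopyCategory.quasiIso X.Modules (ComplexShape.up ℤ) s) :
    IsIso ((DCoh.tensorModKh M).map s) := by
  obtain ⟨K⟩ := K
  obtain ⟨L⟩ := L
  obtain ⟨s, rfl⟩ := (HomotopyCategory.quotient X.Modules (ComplexShape.up ℤ)).map_surjective s
  haveI : QuasiIso s := (HomotopyCategory.quotient_map_mem_quasiIso_iff s).1 hs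
  haveI : QuasiIso (((DCoh.tensorRightMod M).mapHomologicalComplex (ComplexShape.up ℤ)).map s) := by
    rw [quasiIso_iff_stalks]
    intro x
    haveI := (quasiIso_iff_stalks s).1 inferInstance x
    haveI := quasiIso_tensorRight_of_kflat ((DerSch.stalkFunctor X x).obj M)
      ((isKFlatFor_iff_stalks K).1 hK x) ((isKFlatFor_iff_stalks L).1 hL x) ((stalkK x).map s)
    refine (quasiIso_iff_comp_right _ (stalkTensorModCxIso M x L).hom).1 ?_
    rw [show (stalkK x).map (((DCoh.tensorRightMod M).mapHomologicalComplex (ComplexShape.up ℤ)).map s) ≫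
        (stalkTensorModCxIso M x L).hom = (stalkTensorModCxIso M x K).hom ≫
          ((tensorRight ((DerSch.stalkFunctor X x).obj M)).mapHomologicalComplex (ComplexShape.up ℤ)).map
            ((stalkK x).map s) from by ext n : 1; exact (stalkTensorRightModIso M x).hom.naturality (s.f n)]
    infer_instance
  exact Localization.inverts DerivedCategory.Qh (HomotopyCategory.quasiIso X.Modules (ComplexShape.up ℤ))
    ((HomotopyCategory.quotient X.Modules (ComplexShape.up ℤ)).map
      (((DCoh.tensorRightMod M).mapHomologicalComplex (ComplexShape.up ℤ)).map s))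
    ((HomotopyCategory.quotient_map_mem_quasiIso_iff _).2 ((HomologicalComplex.mem_quasiIso_iff _).2 ‹_›))

theorem hasLTensorMod (M : X.Modules) : DCoh.HasLTensorMod M :=
  hasLeftDerived (P := kflatObj X) exists_kflat_hot (isIso_tensorModKh_of_kflat M)

/-- `- ⊗^L M` on a K-flat complex. -/
noncomputable def ltensorModIso (M : X.Modules) [DCoh.HasLTensorMod M] {P : CochainComplex X.Modules ℤ}
    (hP : IsKFlatFor (shT X) P) :
    (DCoh.LTensorMod M).obj (DCoh.toD X P) ≅
      DCoh.toD X (((DCoh.tensorRightMod M).mapHomologicalComplex (ComplexShape.up ℤ)).obj P) :=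
  (DCoh.LTensorMod M).mapIso ((DerivedCategory.quotientCompQhIso X.Modules).app P).symm ≪≫
    @asIso _ _ _ _ (((DCoh.tensorModKh M).totalLeftDerivedCounit DerivedCategory.Qh
      (HomotopyCategory.quasiIso X.Modules (ComplexShape.up ℤ))).app
        ((HomotopyCategory.quotient X.Modules (ComplexShape.up ℤ)).obj P))
      (isIso_counit_of_mem exists_kflat_hot (isIso_tensorModKh_of_kflat M) _ hP) ≪≫
    (DerivedCategory.quotientCompQhIso X.Modules).app _

lemma isZero_HD_toD_iff (K : CochainComplex X.Modules ℤ) (i : ℤ) :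
    IsZero (DCoh.HD (DCoh.toD X K) i) ↔ K.ExactAt i := by
  rw [HomologicalComplex.exactAt_iff_isZero_homology]
  exact Iso.isZero_iff ((DerivedCategory.homologyFunctorFactors X.Modules i).app K)

lemma isZero_HD_ltensorMod_iff (M : X.Modules) [DCoh.HasLTensorMod M] {P : CochainComplex X.Modules ℤ}
    (hP : IsKFlatFor (shT X) P) {K : DCoh.D X} (e : DCoh.toD X P ≅ K) (i : ℤ) :
    IsZero (DCoh.HD ((DCoh.LTensorMod M).obj K) i) ↔
      (((DCoh.tensorRightMod M).mapHomologicalComplex (ComplexShape.up ℤ)).obj P).ExactAt i := by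
  rw [← isZero_HD_toD_iff]
  exact Iso.isZero_iff ((DerivedCategory.homologyFunctor X.Modules i).mapIso
    ((DCoh.LTensorMod M).mapIso e.symm ≪≫ ltensorModIso M hP))

/-- Flat amplitude implies tor amplitude. -/
theorem torAmp_of_flatAmp {a b : ℤ} {K : DCoh.D X} (h : DCoh.HasFlatAmplitudeIn a b K) :
    DCoh.HasTorAmplitudeIn a b K := by
  obtain ⟨E, hE, hflat, ⟨e⟩⟩ := h
  intro F _ i hi
  rw [isZero_HD_ltensorMod_iff F (isKFlatFor_sheaf_of_flat E b (fun n hn => hE n (Or.inr hn)) hflat) e]
  rw [HomologicalComplex.exactAt_iff]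
  exact ShortComplex.exact_of_isZero_X₂ _ ((DCoh.tensorRightMod F).map_isZero (hE i hi))

/-- If `- ⊗ F` is exact at degree `i` for all `F`, so are all stalks tensored with all modules. -/
lemma exactAt_stalk_tensor {P : CochainComplex X.Modules ℤ} {i : ℤ}
    (h : ∀ F : X.Modules, (((DCoh.tensorRightMod F).mapHomologicalComplex (ComplexShape.up ℤ)).obj P).ExactAt i)
    (x : X) (A : ModuleCat.{u} (X.presheaf.stalk x)) :
    (((tensorRight A).mapHomologicalComplex (ComplexShape.up ℤ)).obj ((stalkK x).obj P)).ExactAt i := by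
  let ε : tensorRight ((DerSch.stalkFunctor X x).obj ((sky x).obj A)) ≅ tensorRight A :=
    NatIso.ofComponents (fun N => whiskerLeftIso N ((skyStalkIso x).app A))
      (fun g => (MonoidalCategory.whisker_exchange g ((skyStalkIso x).app A).hom).symm)
  have h₀ : ((stalkK x).obj (((DCoh.tensorRightMod ((sky x).obj A)).mapHomologicalComplex
      (ComplexShape.up ℤ)).obj P)).ExactAt i := (h ((sky x).obj A)).map (DerSch.stalkFunctor X x)
  have h' := h₀.of_iso (stalkTensorModCxIso ((sky x).obj A) x P)
  exact h'.of_iso (Hom.isoOfComponents (fun n => ε.app _) (fun a b _ => (ε.hom.naturality _).symm))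

/-- Flatness of a cokernel. -/
theorem isFlat_cokernel_of_exactAt (P : CochainComplex X.Modules ℤ) (hP : ∀ n, FlatMod.IsFlat (P.X n)) (a : ℤ)
    (h : ∀ F : X.Modules, (((DCoh.tensorRightMod F).mapHomologicalComplex (ComplexShape.up ℤ)).obj P).ExactAt (a - 1)) :
    FlatMod.IsFlat (cokernel (P.d (a - 1) a)) := fun x => by
  let σ := DerSch.stalkFunctor X x
  have hS : (ShortComplex.mk (P.d (a - 1) a) (cokernel.π _) (cokernel.condition _)).Exact :=
    ShortComplex.exact_cokernel _
  have hS' := hS.map σ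
  rw [ShortComplex.ShortExact.moduleCat_exact_iff_function_exact] at hS'
  exact flat_cokernel_of_exactAt ((stalkK x).obj P) (fun n => hP n x) a (exactAt_stalk_tensor h x)
    (σ.map (cokernel.π (P.d (a - 1) a)))
    ((ModuleCat.epi_iff_surjective _).1 inferInstance) hS'

lemma isFlat_of_iso {M N : X.Modules} (e : M ≅ N) (h : FlatMod.IsFlat M) : FlatMod.IsFlat N := fun x => by
  haveI : Module.Flat (X.presheaf.stalk x) ((DerSch.stalkFunctor X x).obj M) := h x
  exact Module.Flat.of_linearEquiv ((DerSch.stalkFunctor X x).mapIso e).toLinearEquiv.symm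

lemma isFlat_of_isZero {M : X.Modules} (h : IsZero M) : FlatMod.IsFlat M := fun x => by
  haveI := ModuleCat.subsingleton_of_isZero ((DerSch.stalkFunctor X x).map_isZero h)
  exact (inferInstance : Module.Flat (X.presheaf.stalk x) ((DerSch.stalkFunctor X x).obj M))

/-- Tor amplitude implies flat amplitude. -/
theorem flatAmp_of_torAmp {a b : ℤ} (hab : a ≤ b) {K : DCoh.D X} (h : DCoh.HasTorAmplitudeIn a b K) :
    DCoh.HasFlatAmplitudeIn a b K := by
  obtain ⟨L, ⟨e⟩⟩ : ∃ L, Nonempty (DCoh.toD X L ≅ K) :=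
    ⟨DerivedCategory.Q.objPreimage K, ⟨DerivedCategory.Q.objObjPreimageIso K⟩⟩
  obtain ⟨P₀, c₀, hP₀, hP₀f, hc₀, -⟩ := exists_kflat_sheaf L
  haveI := hc₀
  have hlow : ∀ i, (i < a ∨ b < i) → L.ExactAt i := fun i hi => by
    refine (quasiIsoAt_iff_exactAt c₀ i ?_).1 inferInstance
    rw [← Groth.Agent.DCat.exactAt_iff_stalks]
    intro x
    have h' := exactAt_stalk_tensor (P := P₀) (i := i) (fun F => by
      haveI := hasLTensorMod F
      exact (isZero_HD_ltensorMod_iff F hP₀ (asIso (DerivedCategory.Q.map c₀) ≪≫ e) i).1 (h F i hi)) x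
      (𝟙_ (ModuleCat.{u} (X.presheaf.stalk x)))
    exact h'.of_iso (Hom.isoOfComponents (fun n => ρ_ _) (fun p q _ => (rightUnitor_naturality _).symm))
  haveI : L.IsLE b := by
    rw [CochainComplex.isLE_iff]
    exact fun i hi => hlow i (Or.inr hi)
  obtain ⟨P, c, hP, hPf, hc, hPb⟩ := exists_kflat_sheaf_le (L.truncLE b) b
    (fun n hn => CochainComplex.isZero_of_isStrictlyLE _ b n hn)
  haveI := hc
  have e' : DCoh.toD X P ≅ K :=
    asIso (DerivedCategory.Q.map c) ≪≫ asIso (DerivedCategory.Q.map (L.ιTruncLE b)) ≪≫ e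
  have hcok : FlatMod.IsFlat (cokernel (P.d (a - 1) a)) := isFlat_cokernel_of_exactAt P hPf a fun F => by
    haveI := hasLTensorMod F
    exact (isZero_HD_ltensorMod_iff F hP e' (a - 1)).1 (h F (a - 1) (Or.inl (by omega)))
  haveI : P.IsGE a := by
    rw [CochainComplex.isGE_iff]
    intro i hi
    rw [← isZero_HD_toD_iff]
    refine IsZero.of_iso ?_ ((DerivedCategory.homologyFunctor X.Modules i).mapIso (e' ≪≫ e.symm))
    exact (isZero_HD_toD_iff L i).2 (hlow i (Or.inl hi))
  haveI : P.IsStrictlyLE b := by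
    rw [CochainComplex.isStrictlyLE_iff]
    exact hPb
  refine ⟨P.truncGE a, fun i hi => ?_, fun i => ?_, ⟨(asIso (DerivedCategory.Q.map (P.πTruncGE a))).symm ≪≫ e'⟩⟩
  · obtain hi | hi := hi
    · exact CochainComplex.isZero_of_isStrictlyGE _ a i hi
    · exact (hPb i hi).of_iso (P.truncGEXIso a i (by omega))
  · rcases lt_trichotomy i a with hi | rfl | hi
    · exact isFlat_of_isZero (CochainComplex.isZero_of_isStrictlyGE _ a i hi)
    · refine isFlat_of_iso ?_ hcok
      exact IsColimit.coconePointUniqueUpToIso (colimit.isColimit _)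
        (P.opcyclesIsCokernel (i - 1) i (by simp)) ≪≫ (P.truncGEXIsoOpcycles i).symm
    · exact isFlat_of_iso (P.truncGEXIso a i (by omega)).symm (hPf i)

end Groth.Agent.DCat
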