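import Groth.Prelude.Def_DDual2
import Groth.Prelude.Def_DRing4
import Groth.Agent.DCat.DerivedPrecomp
import Groth.Agent.DCat.TorSheaf
import Groth.Agent.DCat.LPull
import Mathlib.Algebra.Homology.DerivedCategory.TStructure

/-! Derived tensor products and base change for modules over a ring. -/

set_option autoImplicit false
set_option backward.isDefEq.respectTransparency false
set_option backward.defeqAttrib.useBackward true
set_option linter.style.haveILetI false

universe u

open CategoryTheory CategoryTheory.Limits MonoidalCategory HomologicalComplex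

attribute [local instance] HasDerivedCategory.standard

namespace Groth.Agent.DCat

variable {R : Type u} [CommRing R]

/-- K-flat complexes in the homotopy category of modules. -/
def kflatR (R : Type u) [CommRing R] :
    ObjectProperty (HomotopyCategory (ModuleCat.{u} R) (ComplexShape.up ℤ)) :=
  fun K => IsKFlatFor (modT R) K.as

lemma exists_kflatR (K : HomotopyCategory (ModuleCat.{u} R) (ComplexShape.up ℤ)) :
    ∃ (K' : HomotopyCategory (ModuleCat.{u} R) (ComplexShape.up ℤ)) (s : K' ⟶ K), kflatR R K' ∧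
      HomotopyCategory.quasiIso (ModuleCat.{u} R) (ComplexShape.up ℤ) s := by
  obtain ⟨N, c, hN, -, hc, -⟩ := exists_kflat K.as
  exact ⟨(HomotopyCategory.quotient _ _).obj N, (HomotopyCategory.quotient _ _).map c, hN,
    (HomotopyCategory.quotient_map_mem_quasiIso_iff c).2 hc⟩

lemma isIso_tensorKh_of_kflat (A : ModuleCat.{u} R) ⦃K L : HomotopyCategory (ModuleCat.{u} R) (ComplexShape.up ℤ)⦄
    (s : K ⟶ L) (hK : kflatR R K) (hL : kflatR R L)
    (hs : HomotopyCategory.quasiIso (ModuleCat.{u} R) (ComplexShape.up ℤ) s) :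
    IsIso ((DRing.tensorKh R A).map s) := by
  obtain ⟨K⟩ := K
  obtain ⟨L⟩ := L
  obtain ⟨s, rfl⟩ := (HomotopyCategory.quotient _ (ComplexShape.up ℤ)).map_surjective s
  haveI : QuasiIso s := (HomotopyCategory.quotient_map_mem_quasiIso_iff s).1 hs
  haveI := quasiIso_tensorRight_of_kflat A hK hL s
  exact Localization.inverts DerivedCategory.Qh (HomotopyCategory.quasiIso (ModuleCat.{u} R) (ComplexShape.up ℤ))
    ((HomotopyCategory.quotient (ModuleCat.{u} R) (ComplexShape.up ℤ)).map
      (((tensorRight A).mapHomologicalComplex (ComplexShape.up ℤ)).map s))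
    ((HomotopyCategory.quotient_map_mem_quasiIso_iff _).2 ((HomologicalComplex.mem_quasiIso_iff _).2 ‹_›))

theorem hasLTensor (A : ModuleCat.{u} R) : DRing.HasLTensor R A :=
  hasLeftDerived (P := kflatR R) exists_kflatR (isIso_tensorKh_of_kflat A)

/-- `- ⊗^L A` on a K-flat complex. -/
noncomputable def ltensorIso (A : ModuleCat.{u} R) [DRing.HasLTensor R A] {P : DRing.Cx R}
    (hP : IsKFlatFor (modT R) P) :
    (DRing.LTensor R A).obj (DRing.toD P) ≅ DRing.toD (DRing.tensorCx P A) :=
  (DRing.LTensor R A).mapIso ((DerivedCategory.quotientCompQhIso (ModuleCat.{u} R)).app P).symm ≪≫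
    @asIso _ _ _ _ (((DRing.tensorKh R A).totalLeftDerivedCounit DerivedCategory.Qh
      (HomotopyCategory.quasiIso (ModuleCat.{u} R) (ComplexShape.up ℤ))).app
        ((HomotopyCategory.quotient (ModuleCat.{u} R) (ComplexShape.up ℤ)).obj P))
      (isIso_counit_of_mem exists_kflatR (isIso_tensorKh_of_kflat A) _ hP) ≪≫
    (DerivedCategory.quotientCompQhIso (ModuleCat.{u} R)).app _

lemma isZero_homology_toD_iff (K : DRing.Cx R) (i : ℤ) :
    IsZero ((DerivedCategory.homologyFunctor (ModuleCat.{u} R) i).obj (DRing.toD K)) ↔ K.ExactAt i := by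
  rw [HomologicalComplex.exactAt_iff_isZero_homology]
  exact Iso.isZero_iff ((DerivedCategory.homologyFunctorFactors (ModuleCat.{u} R) i).app K)

lemma subsingleton_HD_iff (K : Dual.D R) (i : ℤ) :
    Subsingleton (Dual.HD R K i) ↔ IsZero ((DerivedCategory.homologyFunctor (ModuleCat.{u} R) i).obj K) :=
  ModuleCat.isZero_iff_subsingleton.symm

lemma isZero_ltensor_iff (A : ModuleCat.{u} R) [DRing.HasLTensor R A] {P : DRing.Cx R}
    (hP : IsKFlatFor (modT R) P) {K : Dual.D R} (e : DRing.toD P ≅ K) (i : ℤ) :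
    IsZero ((DerivedCategory.homologyFunctor (ModuleCat.{u} R) i).obj ((DRing.LTensor R A).obj K)) ↔
      (DRing.tensorCx P A).ExactAt i := by
  rw [← isZero_homology_toD_iff]
  exact Iso.isZero_iff ((DerivedCategory.homologyFunctor (ModuleCat.{u} R) i).mapIso
    ((DRing.LTensor R A).mapIso e.symm ≪≫ ltensorIso A hP))

/-- Bounded above flat complexes are K-flat. -/
lemma isKFlatFor_of_vanishesAbove (P : DRing.Cx R) (b : ℤ) (hb : DRing.VanishesAbove P b)
    (h : DRing.TermwiseFlat P) : IsKFlatFor (modT R) P :=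
  isKFlatFor_of_flat P b hb h

lemma exact_tensor_of_flatAmp {P : DRing.Cx R} {a b : ℤ} (hP : DRing.VanishesOutside P a b) (A : ModuleCat.{u} R)
    {i : ℤ} (hi : i < a ∨ b < i) : (DRing.tensorCx P A).ExactAt i := by
  rw [HomologicalComplex.exactAt_iff]
  exact ShortComplex.exact_of_isZero_X₂ _ ((tensorRight A).map_isZero (hP i hi))

/-- Vanishing from flat amplitude. -/
theorem vanish_of_flatAmp {a b : ℤ} {K : Dual.D R} (h : DRing.HasTorAmplitudeIn R a b K)
    (A : ModuleCat.{u} R) [DRing.HasLTensor R A] {i : ℤ} (hi : i < a ∨ b < i) :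
    IsZero ((DerivedCategory.homologyFunctor (ModuleCat.{u} R) i).obj ((DRing.LTensor R A).obj K)) := by
  obtain ⟨P, hPz, hPf, ⟨e⟩⟩ := h
  rw [isZero_ltensor_iff A (isKFlatFor_of_vanishesAbove P b (fun n hn => hPz n (Or.inr hn)) hPf) e]
  exact exact_tensor_of_flatAmp hPz A hi

/-- K-flat flat resolutions bounded above. -/
theorem exists_kflat_le (L : DRing.Cx R) (b : ℤ) (hb : DRing.VanishesAbove L b) :
    ∃ (N : DRing.Cx R) (c : N ⟶ L), IsKFlatFor (modT R) N ∧ DRing.TermwiseFlat N ∧ QuasiIso c ∧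
      DRing.VanishesAbove N b :=
  exists_cell_res_le (IsKFlatFor (modT R)) (fun X : ModuleCat.{u} R => Module.Flat R X)
    exists_flat_cover_module isKFlatFor_zeroD (fun _ n h => h.shift n)
    (fun S hS h₁ h₃ => h₁.ext₂ (fun a q => shortExact_map_of_splitting hS a q) h₃)
    (fun S σ => flat_of_splitting S σ)
    (fun _ _ hc h => IsKFlatFor.colimit (fun a q =>
      haveI : PreservesColimitsOfShape ℕ ((modT R).obj a) := inferInstanceAs (PreservesColimitsOfShape ℕ (tensorLeft a))
      isColimitOfPreserves ((modT R).obj a)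
        (isColimitOfPreserves (HomologicalComplex.eval _ (ComplexShape.up ℤ) q) hc)) h)
    (fun _ _ hc h => flat_of_isColimit hc h)
    (fun _ h => haveI := ModuleCat.subsingleton_of_isZero h; inferInstance) L b hb

/-- Flat cokernel from vanishing. -/
theorem flat_cokernel_of_vanish (P : DRing.Cx R) (hP : IsKFlatFor (modT R) P) (hPf : DRing.TermwiseFlat P) (a : ℤ)
    {K : Dual.D R} (e : DRing.toD P ≅ K) [∀ A : ModuleCat.{u} R, DRing.HasLTensor R A]
    (h : ∀ A : ModuleCat.{u} R,
      IsZero ((DerivedCategory.homologyFunctor (ModuleCat.{u} R) (a - 1)).obj ((DRing.LTensor R A).obj K))) :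
    Module.Flat R (P.X a ⧸ LinearMap.range (P.d (a - 1) a).hom) :=
  flat_cokernel_of_exactAt P hPf a (fun A => (isZero_ltensor_iff A hP e (a - 1)).1 (h A))
    (C := ModuleCat.of R (P.X a ⧸ LinearMap.range (P.d (a - 1) a).hom))
    (ModuleCat.ofHom (LinearMap.range (P.d (a - 1) a).hom).mkQ) (Submodule.mkQ_surjective _)
    (LinearMap.exact_map_mkQ_range (P.d (a - 1) a).hom)

/-- Flat cokernels, categorically. -/
theorem flat_cokernel_cat (P : DRing.Cx R) (hP : IsKFlatFor (modT R) P) (hPf : DRing.TermwiseFlat P) (a : ℤ)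
    {K : Dual.D R} (e : DRing.toD P ≅ K) [∀ A : ModuleCat.{u} R, DRing.HasLTensor R A]
    (h : ∀ A : ModuleCat.{u} R,
      IsZero ((DerivedCategory.homologyFunctor (ModuleCat.{u} R) (a - 1)).obj ((DRing.LTensor R A).obj K))) :
    Module.Flat R (cokernel (P.d (a - 1) a) : ModuleCat.{u} R) :=
  haveI := flat_cokernel_of_vanish P hP hPf a e h
  Module.Flat.of_linearEquiv (ModuleCat.cokernelIsoRangeQuotient (P.d (a - 1) a)).toLinearEquiv

lemma exactAt_of_vanish {K : Dual.D R} [∀ A : ModuleCat.{u} R, DRing.HasLTensor R A] {i : ℤ}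
    (h : IsZero ((DerivedCategory.homologyFunctor (ModuleCat.{u} R) i).obj ((DRing.LTensor R (𝟙_ _)).obj K))) :
    IsZero ((DerivedCategory.homologyFunctor (ModuleCat.{u} R) i).obj K) := by
  obtain ⟨P, c, hP, -, hc, -⟩ := exists_kflat (DerivedCategory.Q.objPreimage K)
  haveI := hc
  have e : DRing.toD P ≅ K := asIso (DerivedCategory.Q.map c) ≪≫ DerivedCategory.Q.objObjPreimageIso K
  refine IsZero.of_iso ?_ ((DerivedCategory.homologyFunctor (ModuleCat.{u} R) i).mapIso e.symm)
  rw [isZero_homology_toD_iff]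
  exact ((isZero_ltensor_iff _ hP e i).1 h).of_iso
    (Hom.isoOfComponents (fun n => ρ_ _) (fun p q _ => (rightUnitor_naturality _).symm))

/-- Bounded above flat representatives. -/
theorem exists_flat_rep {K : Dual.D R} {b : ℤ}
    (h : ∀ i, b < i → IsZero ((DerivedCategory.homologyFunctor (ModuleCat.{u} R) i).obj K)) :
    ∃ P : DRing.Cx R, IsKFlatFor (modT R) P ∧ DRing.TermwiseFlat P ∧ DRing.VanishesAbove P b ∧
      Nonempty (DRing.toD P ≅ K) := by
  let L := DerivedCategory.Q.objPreimage K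
  let e := DerivedCategory.Q.objObjPreimageIso K
  haveI : L.IsLE b := by
    rw [CochainComplex.isLE_iff]
    intro i hi
    rw [← isZero_homology_toD_iff]
    exact (h i hi).of_iso ((DerivedCategory.homologyFunctor (ModuleCat.{u} R) i).mapIso e)
  obtain ⟨P, c, hP, hPf, hc, hPb⟩ := exists_kflat_le (L.truncLE b) b
    (fun n hn => CochainComplex.isZero_of_isStrictlyLE _ b n hn)
  haveI := hc
  exact ⟨P, hP, hPf, hPb, ⟨asIso (DerivedCategory.Q.map c) ≪≫ asIso (DerivedCategory.Q.map (L.ιTruncLE b)) ≪≫ e⟩⟩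

/-- Flat amplitude from vanishing. -/
theorem flatAmp_of_vanish {a b : ℤ} {K : Dual.D R} [∀ A : ModuleCat.{u} R, DRing.HasLTensor R A]
    (h : ∀ (A : ModuleCat.{u} R) (i : ℤ), i < a ∨ b < i →
      IsZero ((DerivedCategory.homologyFunctor (ModuleCat.{u} R) i).obj ((DRing.LTensor R A).obj K))) :
    DRing.HasTorAmplitudeIn R a b K := by
  obtain ⟨P, hP, hPf, hPb, ⟨e⟩⟩ := exists_flat_rep (b := b) (K := K)
    fun i hi => exactAt_of_vanish (h _ i (Or.inr hi))
  haveI : P.IsGE a := by
    rw [CochainComplex.isGE_iff]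
    intro i hi
    rw [← isZero_homology_toD_iff]
    exact (exactAt_of_vanish (h _ i (Or.inl hi))).of_iso
      ((DerivedCategory.homologyFunctor (ModuleCat.{u} R) i).mapIso e)
  haveI : P.IsStrictlyLE b := by
    rw [CochainComplex.isStrictlyLE_iff]
    exact hPb
  refine ⟨P.truncGE a, fun i hi => ?_, fun i => ?_,
    ⟨(asIso (DerivedCategory.Q.map (P.πTruncGE a))).symm ≪≫ e⟩⟩
  · obtain hi | hi := hi
    · exact CochainComplex.isZero_of_isStrictlyGE _ a i hi
    · by_cases hia : i < a
      · exact CochainComplex.isZero_of_isStrictlyGE _ a i hia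
      · exact CochainComplex.isZero_of_isStrictlyLE _ b i hi
  · rcases lt_trichotomy i a with hi | rfl | hi
    · haveI := ModuleCat.subsingleton_of_isZero (CochainComplex.isZero_of_isStrictlyGE (P.truncGE a) a i hi)
      infer_instance
    · have hfl := flat_cokernel_cat P hP hPf i e fun A => h A _ (Or.inl (by omega))
      exact @Module.Flat.of_linearEquiv _ _ _ _ _ _ _ _ hfl (IsColimit.coconePointUniqueUpToIso (colimit.isColimit _)
        (P.opcyclesIsCokernel (i - 1) i (by simp)) ≪≫ (P.truncGEXIsoOpcycles i).symm).toLinearEquiv.symm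
    · haveI := hPf i
      exact Module.Flat.of_linearEquiv (P.truncGEXIso a i (by omega)).toLinearEquiv

lemma isKFlatFor_cone {P Q : DRing.Cx R} (φ : P ⟶ Q) (hP : IsKFlatFor (modT R) P) (hQ : IsKFlatFor (modT R) Q) :
    IsKFlatFor (modT R) (CochainComplex.mappingCone φ) :=
  IsKFlatFor.ext₂ (S := CochainComplex.mappingCone.triangleRotateShortComplex φ)
    (fun a q => shortExact_map_of_splitting
      (fun n => ⟨CochainComplex.mappingCone.triangleRotateShortComplexSplitting φ n⟩) a q) hQ (hP.shift 1)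

open CategoryTheory.Pretriangulated in
/-- The long exact sequence of `- ⊗^L A`. -/
theorem ltensor_vanish {T : Triangle (Dual.D R)} (hT : T ∈ distinguishedTriangles) (A : ModuleCat.{u} R)
    [DRing.HasLTensor R A] :
    let Z := fun (K : Dual.D R) (i : ℤ) =>
      IsZero ((DerivedCategory.homologyFunctor (ModuleCat.{u} R) i).obj ((DRing.LTensor R A).obj K))
    (∀ i, Z T.obj₂ i → Z T.obj₁ (i + 1) → Z T.obj₃ i) ∧
    (∀ i, Z T.obj₁ i → Z T.obj₃ i → Z T.obj₂ i) ∧
    (∀ i, Z T.obj₃ i → Z T.obj₂ (i + 1) → Z T.obj₁ (i + 1)) := by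
  intro Z
  obtain ⟨Q, c, hQ, -, hc, -⟩ := exists_kflat (DerivedCategory.Q.objPreimage T.obj₂)
  haveI := hc
  let eL : DRing.toD Q ≅ T.obj₂ := asIso (DerivedCategory.Q.map c) ≪≫ DerivedCategory.Q.objObjPreimageIso _
  obtain ⟨X', s, hs, g, hg⟩ :=
    DerivedCategory.right_fac ((DerivedCategory.Q.objObjPreimageIso T.obj₁).hom ≫ T.mor₁ ≫ eL.inv)
  haveI := hs
  obtain ⟨P, d, hP, -, hd, -⟩ := exists_kflat X'
  haveI := hd
  let φ := d ≫ g
  let eK : DRing.toD P ≅ T.obj₁ := asIso (DerivedCategory.Q.map d) ≪≫ asIso (DerivedCategory.Q.map s) ≪≫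
    DerivedCategory.Q.objObjPreimageIso _
  have h2 : DerivedCategory.Q.map g ≫ eL.hom =
      DerivedCategory.Q.map s ≫ (DerivedCategory.Q.objObjPreimageIso T.obj₁).hom ≫ T.mor₁ := by
    rw [show (DerivedCategory.Q.objObjPreimageIso T.obj₁).hom ≫ T.mor₁ = (inv (DerivedCategory.Q.map s) ≫
      DerivedCategory.Q.map g) ≫ eL.hom from by rw [← hg, Category.assoc, Category.assoc, eL.inv_hom_id,
        Category.comp_id]]
    simp
  have comm : DerivedCategory.Q.map φ ≫ eL.hom = eK.hom ≫ T.mor₁ := by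
    simp only [φ, eK, Functor.map_comp, Iso.trans_hom, asIso_hom, Category.assoc, h2]
  let e := isoTriangleOfIso₁₂ _ _ (DerivedCategory.mappingCone_triangle_distinguished φ) hT eK eL comm
  have e₃ : DRing.toD (CochainComplex.mappingCone φ) ≅ T.obj₃ := Triangle.π₃.mapIso e
  let G := (tensorRight A).mapHomologicalComplex (ComplexShape.up ℤ)
  let T' := DerivedCategory.Q.mapTriangle.obj (CochainComplex.mappingCone.triangle (G.map φ))
  have hT' : T' ∈ distinguishedTriangles := DerivedCategory.mappingCone_triangle_distinguished _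
  have k : ∀ {N : DRing.Cx R} {K : Dual.D R}, IsKFlatFor (modT R) N → (DRing.toD N ≅ K) → ∀ i, (Z K i ↔
      IsZero ((DerivedCategory.homologyFunctor (ModuleCat.{u} R) i).obj (DRing.toD (G.obj N)))) :=
    fun hN e i => (isZero_ltensor_iff A hN e i).trans (isZero_homology_toD_iff _ i).symm
  have k₁ := k hP eK
  have k₂ := k hQ eL
  have k₃ : ∀ i, Z T.obj₃ i ↔ IsZero ((DerivedCategory.homologyFunctor (ModuleCat.{u} R) i).obj T'.obj₃) := fun i =>
    (k (isKFlatFor_cone φ hP hQ) e₃ i).trans (Iso.isZero_iff ((DerivedCategory.homologyFunctor _ i).mapIso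
      (DerivedCategory.Q.mapIso (CochainComplex.mappingCone.mapHomologicalComplexIso φ (tensorRight A)))))
  refine ⟨fun i h₂ h₁ => ?_, fun i h₁ h₃ => ?_, fun i h₃ h₂ => ?_⟩
  · rw [k₂] at h₂; rw [k₁] at h₁; rw [k₃]
    exact (DerivedCategory.HomologySequence.exact₃ T' hT' i (i + 1) rfl).isZero_X₂
      (h₂.eq_of_src _ _) (h₁.eq_of_tgt _ _)
  · rw [k₁] at h₁; rw [k₃] at h₃; rw [k₂]
    exact (DerivedCategory.HomologySequence.exact₂ T' hT' i).isZero_X₂ (h₁.eq_of_src _ _) (h₃.eq_of_tgt _ _)
  · rw [k₃] at h₃; rw [k₂] at h₂; rw [k₁]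
    exact (DerivedCategory.HomologySequence.exact₁ T' hT' i (i + 1) rfl).isZero_X₂
      (h₃.eq_of_src _ _) (h₂.eq_of_tgt _ _)

variable {A B : Type u} [CommRing A] [CommRing B] (φ : A →+* B)

lemma isIso_baseChangeKh_of_kflat ⦃K L : HomotopyCategory (ModuleCat.{u} A) (ComplexShape.up ℤ)⦄
    (s : K ⟶ L) (hK : kflatR A K) (hL : kflatR A L)
    (hs : HomotopyCategory.quasiIso (ModuleCat.{u} A) (ComplexShape.up ℤ) s) :
    IsIso ((DRing.baseChangeKh φ).map s) := by
  obtain ⟨K⟩ := K
  obtain ⟨L⟩ := L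
  obtain ⟨s, rfl⟩ := (HomotopyCategory.quotient _ (ComplexShape.up ℤ)).map_surjective s
  haveI : QuasiIso s := (HomotopyCategory.quotient_map_mem_quasiIso_iff s).1 hs
  haveI := quasiIso_extendScalars_of_kflat φ hK hL s
  exact Localization.inverts DerivedCategory.Qh (HomotopyCategory.quasiIso (ModuleCat.{u} B) (ComplexShape.up ℤ))
    ((HomotopyCategory.quotient (ModuleCat.{u} B) (ComplexShape.up ℤ)).map
      (((ModuleCat.extendScalars φ).mapHomologicalComplex (ComplexShape.up ℤ)).map s))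
    ((HomotopyCategory.quotient_map_mem_quasiIso_iff _).2 ((HomologicalComplex.mem_quasiIso_iff _).2 ‹_›))

theorem hasLBaseChange : DRing.HasLBaseChange φ :=
  hasLeftDerived (P := kflatR A) exists_kflatR (isIso_baseChangeKh_of_kflat φ)

/-- Derived base change of a K-flat complex. -/
noncomputable def lbaseChangeIso [DRing.HasLBaseChange φ] {P : DRing.Cx A} (hP : IsKFlatFor (modT A) P) :
    (DRing.LBaseChange φ).obj (DRing.toD P) ≅
      DRing.toD (((ModuleCat.extendScalars φ).mapHomologicalComplex (ComplexShape.up ℤ)).obj P) :=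
  (DRing.LBaseChange φ).mapIso ((DerivedCategory.quotientCompQhIso (ModuleCat.{u} A)).app P).symm ≪≫
    @asIso _ _ _ _ (((DRing.baseChangeKh φ).totalLeftDerivedCounit DerivedCategory.Qh
      (HomotopyCategory.quasiIso (ModuleCat.{u} A) (ComplexShape.up ℤ))).app
        ((HomotopyCategory.quotient (ModuleCat.{u} A) (ComplexShape.up ℤ)).obj P))
      (isIso_counit_of_mem exists_kflatR (isIso_baseChangeKh_of_kflat φ) _ hP) ≪≫
    (DerivedCategory.quotientCompQhIso (ModuleCat.{u} B)).app _

/-- Base change of flat amplitude. -/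
theorem flatAmp_lbaseChange [DRing.HasLBaseChange φ] {a b : ℤ} {K : Dual.D A}
    (hK : DRing.HasTorAmplitudeIn A a b K) : DRing.HasTorAmplitudeIn B a b ((DRing.LBaseChange φ).obj K) := by
  obtain ⟨P, hPz, hPf, ⟨e⟩⟩ := hK
  refine ⟨((ModuleCat.extendScalars φ).mapHomologicalComplex (ComplexShape.up ℤ)).obj P,
    fun i hi => (ModuleCat.extendScalars φ).map_isZero (hPz i hi), fun i => ?_, ⟨?_⟩⟩
  · letI := φ.toAlgebra
    haveI := hPf i
    exact Module.Flat.baseChange (R := A) (S := B) (M := P.X i)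
  · exact (lbaseChangeIso φ (isKFlatFor_of_vanishesAbove P b (fun n hn => hPz n (Or.inr hn)) hPf)).symm ≪≫
      (DRing.LBaseChange φ).mapIso e

end Groth.Agent.DCat
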