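import Groth.Agent.DCat.RFTri
import Mathlib.Algebra.Homology.DerivedCategory.TStructure
import Mathlib.Algebra.Homology.Factorizations.CM5a
import Mathlib.CategoryTheory.Adjunction.Additive

/-! Values and cohomological bounds of unbounded right derived functors. -/

set_option autoImplicit false
set_option backward.isDefEq.respectTransparency false
set_option backward.defeqAttrib.useBackward true

universe w w' v v' u u'

open CategoryTheory CategoryTheory.Limits

namespace Groth.Agent.DCat

section

variable {A : Type u} [Category.{v} A] [Abelian A] {B : Type u'} [Category.{v'} B] [Abelian B]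

/-- An additive functor applied termwise with a right adjoint of an exact functor preserves
K-injective complexes. -/
theorem isKInjective_map_of_adj {u : A ⥤ B} {w : B ⥤ A} (adj : w ⊣ u) [u.Additive] [w.Additive]
    [PreservesFiniteLimits w] [PreservesFiniteColimits w] (I : CochainComplex A ℤ) [I.IsKInjective] :
    CochainComplex.IsKInjective ((u.mapHomologicalComplex (ComplexShape.up ℤ)).obj I) where
  nonempty_homotopy_zero {K} f hK := by
    let wc := w.mapHomologicalComplex (ComplexShape.up ℤ)
    let uc := u.mapHomologicalComplex (ComplexShape.up ℤ)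
    have hwK : HomologicalComplex.Acyclic (wc.obj K) := fun n =>
      ((K.exactAt_iff n).1 (hK n)).map w
    let εI : wc.obj (uc.obj I) ⟶ I := { f := fun n => adj.counit.app (I.X n) }
    let ηK : K ⟶ uc.obj (wc.obj K) := { f := fun n => adj.unit.app (K.X n) }
    have e : f = ηK ≫ uc.map (wc.map f ≫ εI) := by
      ext n
      simp [ηK, εI, uc, wc, ← adj.unit_naturality_assoc]
    refine ⟨(Homotopy.ofEq e).trans (((u.mapHomotopy
      (CochainComplex.IsKInjective.homotopyZero (wc.map f ≫ εI) hwK)).compLeft ηK).trans
      (Homotopy.ofEq ?_))⟩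
    rw [Functor.map_zero, comp_zero]

variable [HasDerivedCategory.{w} A] [HasDerivedCategory.{w'} B] (h : EnoughKInj A) (F : A ⥤ B) [F.Additive]

/-- The value of the derived functor at a K-injective complex. -/
noncomputable def rfObjIso {Y : DerivedCategory A} (I : CochainComplex A ℤ) [hI : I.IsKInjective]
    (e : DerivedCategory.Q.obj I ≅ Y) :
    (rho h ⋙ F.mapHomotopyCategory (ComplexShape.up ℤ) ⋙ DerivedCategory.Qh).obj Y ≅
      DerivedCategory.Q.obj ((F.mapHomologicalComplex (ComplexShape.up ℤ)).obj I) :=
  haveI := isIso_rhoAdj_unit h (X := (HomotopyCategory.quotient A (ComplexShape.up ℤ)).obj I) hI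
  let e' : (rho h).obj Y ≅ (HomotopyCategory.quotient A (ComplexShape.up ℤ)).obj I :=
    (rho h).mapIso (e.symm ≪≫ ((DerivedCategory.quotientCompQhIso A).app I).symm) ≪≫
      (asIso ((rhoAdj h).unit.app ((HomotopyCategory.quotient A (ComplexShape.up ℤ)).obj I))).symm
  (F.mapHomotopyCategory (ComplexShape.up ℤ) ⋙ DerivedCategory.Qh).mapIso e' ≪≫
    DerivedCategory.Qh.mapIso ((F.mapHomotopyCategoryFactors (ComplexShape.up ℤ)).app I) ≪≫
      (DerivedCategory.quotientCompQhIso B).app _

/-- Right derived functors preserve lower cohomological bounds. -/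
theorem isGE_rf [EnoughInjectives A] (Y : DerivedCategory A) (n : ℤ) [Y.IsGE n] :
    ((rho h ⋙ F.mapHomotopyCategory (ComplexShape.up ℤ) ⋙ DerivedCategory.Qh).obj Y).IsGE n := by
  obtain ⟨K, _, ⟨e⟩⟩ := Y.exists_iso_Q_obj_of_isGE n
  obtain ⟨L, i, _, hL, _⟩ := CochainComplex.Plus.modelCategoryQuillen.exists_quasiIso_injective K n
  have : L.IsKInjective := CochainComplex.isKInjective_of_injective L n
  have : CochainComplex.IsStrictlyGE ((F.mapHomologicalComplex (ComplexShape.up ℤ)).obj L) n := by
    rw [CochainComplex.isStrictlyGE_iff]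
    exact fun k hk => F.map_isZero (CochainComplex.isZero_of_isStrictlyGE L n k hk)
  exact ⟨_, rfObjIso h F L ((asIso (DerivedCategory.Q.map i)).symm ≪≫ e.symm), inferInstance⟩

end

end Groth.Agent.DCat
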