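import Groth.Agent.DCat.LTensorModule

/-! Derived tensor products with a complex of modules. -/

set_option autoImplicit false
set_option backward.isDefEq.respectTransparency false
set_option backward.defeqAttrib.useBackward true
set_option linter.style.haveILetI false

universe u

open CategoryTheory CategoryTheory.Limits MonoidalCategory HomologicalComplex

attribute [local instance] HasDerivedCategory.standard

namespace Groth.Agent.DCat

variable {R : Type u} [CommRing R] (E : DRing.Cx R)

/-- `- ⊗ E` on the homotopy category. -/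
noncomputable def tensorCxKh : HomotopyCategory (ModuleCat.{u} R) (ComplexShape.up ℤ) ⥤ Dual.D R :=
  CategoryTheory.Quotient.lift _ (DRing.tensorCxQ R E) fun K L f g h => by
    obtain ⟨h⟩ := h
    have hQ := HomotopyCategory.eq_of_homotopy _ _
      (mapBifunctorMapHomotopy₁ h (𝟙 E) (modT R) (ComplexShape.up ℤ))
    have e := congrArg DerivedCategory.Qh.map hQ
    have nf := (DerivedCategory.quotientCompQhIso (ModuleCat.{u} R)).hom.naturality (totMap₁ (modT R) f E)
    have ng := (DerivedCategory.quotientCompQhIso (ModuleCat.{u} R)).hom.naturality (totMap₁ (modT R) g E)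
    refine (cancel_epi ((DerivedCategory.quotientCompQhIso (ModuleCat.{u} R)).hom.app (K ⊗ E))).1 ?_
    exact (nf.symm.trans (congrArg (· ≫ _) e)).trans ng

/-- The defining isomorphism of `tensorCxKh`. -/
noncomputable def tensorCxKhIso :
    HomotopyCategory.quotient (ModuleCat.{u} R) (ComplexShape.up ℤ) ⋙ tensorCxKh E ≅ DRing.tensorCxQ R E :=
  CategoryTheory.Quotient.lift.isLift _ _ _

lemma isIso_tensorCxKh_of_kflat ⦃K L : HomotopyCategory (ModuleCat.{u} R) (ComplexShape.up ℤ)⦄
    (s : K ⟶ L) (hK : kflatR R K) (hL : kflatR R L)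
    (hs : HomotopyCategory.quasiIso (ModuleCat.{u} R) (ComplexShape.up ℤ) s) :
    IsIso ((tensorCxKh E).map s) := by
  obtain ⟨K⟩ := K
  obtain ⟨L⟩ := L
  obtain ⟨s, rfl⟩ := (HomotopyCategory.quotient _ (ComplexShape.up ℤ)).map_surjective s
  haveI : QuasiIso s := (HomotopyCategory.quotient_map_mem_quasiIso_iff s).1 hs
  haveI := quasiIso_tot_of_kflat hK hL s E
  haveI : QuasiIso (totMap₁ (modT R) s E) := by
    refine (quasiIso_iff_comp_right _ (totSymm L E).hom).1 ?_
    rw [show totMap₁ (modT R) s E ≫ (totSymm L E).hom = (totSymm K E).hom ≫ totMap₂ (modT R) E s from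
      totSymm_natural s (𝟙 E)]
    infer_instance
  exact Localization.inverts DerivedCategory.Q (HomologicalComplex.quasiIso (ModuleCat.{u} R) (ComplexShape.up ℤ))
    (totMap₁ (modT R) s E) ((HomologicalComplex.mem_quasiIso_iff _).2 ‹_›)

theorem hasLTensorCx : DRing.HasLTensorCx R E :=
  haveI : (tensorCxKh E).HasLeftDerivedFunctor (HomotopyCategory.quasiIso (ModuleCat.{u} R) (ComplexShape.up ℤ)) :=
    hasLeftDerived (P := kflatR R) exists_kflatR (isIso_tensorCxKh_of_kflat E)
  hasLeftDerived_precomp (HomotopyCategory.quotient _ (ComplexShape.up ℤ))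
    (DerivedCategory.quotientCompQhIso (ModuleCat.{u} R)) (F := tensorCxKh E) (tensorCxKhIso E) _
    (W := HomotopyCategory.quasiIso (ModuleCat.{u} R) (ComplexShape.up ℤ))

/-- The counit of `- ⊗^L E` is invertible on K-flat complexes. -/
theorem isIso_ltensorCx_counit [DRing.HasLTensorCx R E] {P : DRing.Cx R} (hP : IsKFlatFor (modT R) P) :
    IsIso (((DRing.tensorCxQ R E).totalLeftDerivedCounit DerivedCategory.Q
      (HomologicalComplex.quasiIso (ModuleCat.{u} R) (ComplexShape.up ℤ))).app P) := by
  haveI : (tensorCxKh E).HasLeftDerivedFunctor (HomotopyCategory.quasiIso (ModuleCat.{u} R) (ComplexShape.up ℤ)) :=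
    hasLeftDerived (P := kflatR R) exists_kflatR (isIso_tensorCxKh_of_kflat E)
  let α := (tensorCxKh E).totalLeftDerivedCounit DerivedCategory.Qh
    (HomotopyCategory.quasiIso (ModuleCat.{u} R) (ComplexShape.up ℤ))
  let LF := (tensorCxKh E).totalLeftDerived DerivedCategory.Qh
    (HomotopyCategory.quasiIso (ModuleCat.{u} R) (ComplexShape.up ℤ))
  haveI := isIso_counit_of_mem exists_kflatR (isIso_tensorCxKh_of_kflat E) α
    (X := (HomotopyCategory.quotient _ _).obj P) hP
  haveI hLF := isLeftDerived_precomp (HomotopyCategory.quotient _ (ComplexShape.up ℤ))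
    (DerivedCategory.quotientCompQhIso (ModuleCat.{u} R)) (F := tensorCxKh E) (tensorCxKhIso E)
    (HomologicalComplex.quasiIso (ModuleCat.{u} R) (ComplexShape.up ℤ)) (F₀ := DRing.tensorCxQ R E)
    (W := HomotopyCategory.quasiIso (ModuleCat.{u} R) (ComplexShape.up ℤ)) α
  let β := Functor.whiskerRight (DerivedCategory.quotientCompQhIso (ModuleCat.{u} R)).inv LF ≫
    (Functor.associator _ _ _).hom ≫ Functor.whiskerLeft (HomotopyCategory.quotient _ (ComplexShape.up ℤ)) α ≫
      (tensorCxKhIso E).hom
  haveI hβ : IsIso (β.app P) :=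
    @IsIso.comp_isIso _ _ _ _ _ _ _ inferInstance (@IsIso.comp_isIso _ _ _ _ _ _ _ inferInstance
      (@IsIso.comp_isIso _ _ _ _ _ _ _ ‹IsIso (α.app _)› inferInstance))
  haveI : LF.IsLeftDerivedFunctor β (HomologicalComplex.quasiIso (ModuleCat.{u} R) (ComplexShape.up ℤ)) := hLF
  let c := (DRing.tensorCxQ R E).totalLeftDerivedCounit DerivedCategory.Q
    (HomologicalComplex.quasiIso (ModuleCat.{u} R) (ComplexShape.up ℤ))
  haveI : IsIso ((DRing.LTensorCx R E).leftDerivedLift c
      (HomologicalComplex.quasiIso (ModuleCat.{u} R) (ComplexShape.up ℤ)) LF β) :=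
    ((DRing.LTensorCx R E).isLeftDerivedFunctor_iff_isIso_leftDerivedLift c _ LF β).1 ‹_›
  exact IsIso.of_isIso_fac_left ((DRing.LTensorCx R E).leftDerived_fac_app c
    (HomologicalComplex.quasiIso (ModuleCat.{u} R) (ComplexShape.up ℤ)) LF β P)

/-- `- ⊗^L E` of a K-flat complex. -/
noncomputable def ltensorCxIso [DRing.HasLTensorCx R E] {P : DRing.Cx R} (hP : IsKFlatFor (modT R) P) :
    (DRing.LTensorCx R E).obj (DRing.toD P) ≅ DRing.toD (P ⊗ E) :=
  haveI := isIso_ltensorCx_counit E hP
  asIso (((DRing.tensorCxQ R E).totalLeftDerivedCounit DerivedCategory.Q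
    (HomologicalComplex.quasiIso (ModuleCat.{u} R) (ComplexShape.up ℤ))).app P)

end Groth.Agent.DCat
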