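import Groth.Prelude.Def_DTen
import Groth.Agent.DCat.LTensorCx

/-! The derived tensor product as a functor of pairs. -/

set_option autoImplicit false
set_option backward.isDefEq.respectTransparency false
set_option backward.defeqAttrib.useBackward true
set_option linter.style.haveILetI false

universe v₁ v₂ u₁ u₂ u v₀ v v' v'' u₀ u'' u'

open CategoryTheory CategoryTheory.Limits MonoidalCategory HomologicalComplex

attribute [local instance] HasDerivedCategory.standard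

namespace Groth.Agent.DCat

section Prod

variable {C₁ : Type u₁} [Category.{v₁} C₁] {C₂ : Type u₂} [Category.{v₂} C₂]
  (W₁ : MorphismProperty C₁) (W₂ : MorphismProperty C₂)
  [W₁.HasRightCalculusOfFractions] [W₂.HasRightCalculusOfFractions]

/-- Right calculus of fractions on a product. -/
instance hasRightCalculusOfFractions_prod : (W₁.prod W₂).HasRightCalculusOfFractions where
  id_mem X := ⟨W₁.id_mem _, W₂.id_mem _⟩
  comp_mem f g hf hg := ⟨W₁.comp_mem _ _ hf.1 hg.1, W₂.comp_mem _ _ hf.2 hg.2⟩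
  exists_rightFraction X Y φ := by
    obtain ⟨ψ₁, h₁⟩ := (MorphismProperty.LeftFraction.mk φ.f.1 φ.s.1 φ.hs.1).exists_rightFraction
    obtain ⟨ψ₂, h₂⟩ := (MorphismProperty.LeftFraction.mk φ.f.2 φ.s.2 φ.hs.2).exists_rightFraction
    exact ⟨.mk (X' := (ψ₁.X', ψ₂.X')) (Prod.mkHom ψ₁.s ψ₂.s) ⟨ψ₁.hs, ψ₂.hs⟩ (Prod.mkHom ψ₁.f ψ₂.f),
      Prod.ext h₁ h₂⟩
  ext X Y Y' f₁ f₂ s hs h := by
    obtain ⟨X₁, t₁, ht₁, e₁⟩ := MorphismProperty.HasRightCalculusOfFractions.ext f₁.1 f₂.1 s.1 hs.1 (congrArg Prod.fst h)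
    obtain ⟨X₂, t₂, ht₂, e₂⟩ := MorphismProperty.HasRightCalculusOfFractions.ext f₁.2 f₂.2 s.2 hs.2 (congrArg Prod.snd h)
    exact ⟨(X₁, X₂), Prod.mkHom t₁ t₂, ⟨ht₁, ht₂⟩, Prod.ext e₁ e₂⟩

end Prod

section Precomp

variable {C₀ : Type u₀} [Category.{v₀} C₀] {C : Type u₁} [Category.{v} C] {D : Type u'} [Category.{v'} D]
  {H : Type u''} [Category.{v''} H] (q : C₀ ⥤ C) [((Functor.whiskeringLeft C₀ C H).obj q).Full]
  [((Functor.whiskeringLeft C₀ C H).obj q).Faithful]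
  {L : C ⥤ D} {F : C ⥤ H} {L₀ : C₀ ⥤ D} (eL : q ⋙ L ≅ L₀) {F₀ : C₀ ⥤ H} (eF : q ⋙ F ≅ F₀)
  (W₀ : MorphismProperty C₀) [L₀.IsLocalization W₀] {W : MorphismProperty C} [L.IsLocalization W]
  [W.HasRightCalculusOfFractions] {P : ObjectProperty C}
  (hP : ∀ X : C, ∃ (X' : C) (s : X' ⟶ X), P X' ∧ W s)
  (hF : ∀ ⦃X Y : C⦄ (s : X ⟶ Y), P X → P Y → W s → IsIso (F.map s))

include eL eF hP hF

/-- Objects over `P` compute derived functors on `C₀`. -/
theorem isIso_counit_precomp [F₀.HasLeftDerivedFunctor W₀] {X : C₀} (hX : P (q.obj X)) :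
    IsIso ((F₀.totalLeftDerivedCounit L₀ W₀).app X) := by
  haveI : F.HasLeftDerivedFunctor W := hasLeftDerived hP hF
  let α := F.totalLeftDerivedCounit L W
  haveI := isIso_counit_of_mem hP hF α hX
  haveI hLF := isLeftDerived_precomp q eL eF W₀ (W := W) α
  let β := Functor.whiskerRight eL.inv (F.totalLeftDerived L W) ≫ (Functor.associator _ _ _).hom ≫
    Functor.whiskerLeft q α ≫ eF.hom
  haveI hβ : IsIso (β.app X) :=
    @IsIso.comp_isIso _ _ _ _ _ _ _ inferInstance (@IsIso.comp_isIso _ _ _ _ _ _ _ inferInstance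
      (@IsIso.comp_isIso _ _ _ _ _ _ _ ‹IsIso (α.app _)› inferInstance))
  haveI : (F.totalLeftDerived L W).IsLeftDerivedFunctor β W₀ := hLF
  let c := F₀.totalLeftDerivedCounit L₀ W₀
  haveI : IsIso ((F₀.totalLeftDerived L₀ W₀).leftDerivedLift c W₀ (F.totalLeftDerived L W) β) :=
    ((F₀.totalLeftDerived L₀ W₀).isLeftDerivedFunctor_iff_isIso_leftDerivedLift c _ _ β).1 ‹_›
  exact IsIso.of_isIso_fac_left ((F₀.totalLeftDerived L₀ W₀).leftDerived_fac_app c W₀ (F.totalLeftDerived L W) β X)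

end Precomp

variable {A : Type u} [CommRing A]

/-- The homotopy category. -/
abbrev KA (A : Type u) [CommRing A] := HomotopyCategory (ModuleCat.{u} A) (ComplexShape.up ℤ)

/-- The quotient functor on pairs. -/
noncomputable abbrev qq (A : Type u) [CommRing A] : DRing.Cx A × DRing.Cx A ⥤ KA A × KA A :=
  (HomotopyCategory.quotient _ (ComplexShape.up ℤ)).prod (HomotopyCategory.quotient _ (ComplexShape.up ℤ))

/-- Pairs of homotopy equivalences. -/
abbrev heq₂ (A : Type u) [CommRing A] : MorphismProperty (DRing.Cx A × DRing.Cx A) :=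
  (HomologicalComplex.homotopyEquivalences (ModuleCat.{u} A) (ComplexShape.up ℤ)).prod
    (HomologicalComplex.homotopyEquivalences (ModuleCat.{u} A) (ComplexShape.up ℤ))

lemma isIso_Q_whiskerRight_of_heq {K K' : DRing.Cx A} (f : K ⟶ K')
    (hf : HomologicalComplex.homotopyEquivalences (ModuleCat.{u} A) (ComplexShape.up ℤ) f) (L : DRing.Cx A) :
    IsIso (DerivedCategory.Q.map (f ▷ L)) := by
  haveI : IsIso ((HomotopyCategory.quotient _ (ComplexShape.up ℤ)).map f) :=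
    Localization.inverts _ (HomologicalComplex.homotopyEquivalences (ModuleCat.{u} A) (ComplexShape.up ℤ)) f hf
  exact (NatIso.isIso_map_iff (tensorCxKhIso L) f).1
    (inferInstanceAs (IsIso ((tensorCxKh L).map ((HomotopyCategory.quotient _ (ComplexShape.up ℤ)).map f))))

lemma whiskerLeft_braid {K L L' : DRing.Cx A} (g : L ⟶ L') :
    K ◁ g = (DTen.braidCx K L).hom ≫ (g ▷ K) ≫ (DTen.braidCx K L').inv := by
  rw [← Category.assoc, Iso.eq_comp_inv, ← MonoidalCategory.id_tensorHom, ← MonoidalCategory.tensorHom_id,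
    DTen.braidCx_naturality]

lemma isIso_Q_whiskerLeft_of_iso {K L L' : DRing.Cx A} (g : L ⟶ L') (h : IsIso (DerivedCategory.Q.map (g ▷ K))) :
    IsIso (DerivedCategory.Q.map (K ◁ g)) := by
  rw [whiskerLeft_braid, Functor.map_comp, Functor.map_comp]
  infer_instance

lemma tensor₂_inverts : (heq₂ A).IsInvertedBy (DTen.tensor₂ A) := by
  rintro ⟨K, L⟩ ⟨K', L'⟩ ⟨f, g⟩ ⟨hf, hg⟩
  change IsIso (DerivedCategory.Q.map (f ▷ L ≫ K' ◁ g))
  haveI := isIso_Q_whiskerRight_of_heq f hf L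
  haveI := isIso_Q_whiskerLeft_of_iso g (isIso_Q_whiskerRight_of_heq g hg K')
  rw [Functor.map_comp]
  infer_instance

/-- The tensor product on pairs up to homotopy. -/
noncomputable def tensorK₂ (A : Type u) [CommRing A] : KA A × KA A ⥤ Dual.D A :=
  Localization.lift (DTen.tensor₂ A) tensor₂_inverts (qq A)

/-- Its defining isomorphism. -/
noncomputable def tensorK₂Iso (A : Type u) [CommRing A] : qq A ⋙ tensorK₂ A ≅ DTen.tensor₂ A :=
  Localization.fac (DTen.tensor₂ A) tensor₂_inverts (qq A)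

instance full_whiskering_qq {H : Type u''} [Category.{v''} H] :
    ((Functor.whiskeringLeft _ _ H).obj (qq A)).Full :=
  Localization.full_whiskeringLeft (qq A) (heq₂ A) H

instance faithful_whiskering_qq {H : Type u''} [Category.{v''} H] :
    ((Functor.whiskeringLeft _ _ H).obj (qq A)).Faithful :=
  Localization.faithful_whiskeringLeft (qq A) (heq₂ A) H

/-- Pairs of K-flat complexes. -/
def kflat₂ (A : Type u) [CommRing A] : ObjectProperty (KA A × KA A) :=
  fun X => kflatR A X.1 ∧ kflatR A X.2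

/-- Pairs of quasi-isomorphisms. -/
abbrev qisK₂ (A : Type u) [CommRing A] : MorphismProperty (KA A × KA A) :=
  (HomotopyCategory.quasiIso (ModuleCat.{u} A) (ComplexShape.up ℤ)).prod
    (HomotopyCategory.quasiIso (ModuleCat.{u} A) (ComplexShape.up ℤ))

lemma exists_kflat₂ (X : KA A × KA A) : ∃ (X' : KA A × KA A) (s : X' ⟶ X), kflat₂ A X' ∧ qisK₂ A s := by
  obtain ⟨K', s, hK, hs⟩ := exists_kflatR X.1
  obtain ⟨L', t, hL, ht⟩ := exists_kflatR X.2
  exact ⟨(K', L'), Prod.mkHom s t, ⟨hK, hL⟩, hs, ht⟩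

lemma isKFlat_iff' (P : DRing.Cx A) : DRing.IsKFlat A P ↔ IsKFlatFor (modT A) P := isKFlat_iff P

lemma quasiIso_whiskerRight {L : DRing.Cx A} (hL : IsKFlatFor (modT A) L) {K K' : DRing.Cx A} (f : K ⟶ K')
    [QuasiIso f] : QuasiIso (f ▷ L) :=
  hL.quasiIso_map f

lemma isIso_Q_map_of_qis {K K' : DRing.Cx A} (f : K ⟶ K') [QuasiIso f] : IsIso (DerivedCategory.Q.map f) :=
  Localization.inverts DerivedCategory.Q (HomologicalComplex.quasiIso (ModuleCat.{u} A) (ComplexShape.up ℤ)) f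
    ((HomologicalComplex.mem_quasiIso_iff _).2 ‹_›)

lemma isIso_tensorK₂_of_kflat ⦃X Y : KA A × KA A⦄ (s : X ⟶ Y) (hX : kflat₂ A X) (hY : kflat₂ A Y)
    (hs : qisK₂ A s) : IsIso ((tensorK₂ A).map s) := by
  obtain ⟨⟨K⟩, ⟨L⟩⟩ := X
  obtain ⟨⟨K'⟩, ⟨L'⟩⟩ := Y
  obtain ⟨s₁, s₂⟩ := s
  obtain ⟨f, rfl⟩ := (HomotopyCategory.quotient _ (ComplexShape.up ℤ)).map_surjective s₁
  obtain ⟨g, rfl⟩ := (HomotopyCategory.quotient _ (ComplexShape.up ℤ)).map_surjective s₂
  haveI : QuasiIso f := (HomotopyCategory.quotient_map_mem_quasiIso_iff f).1 hs.1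
  haveI : QuasiIso g := (HomotopyCategory.quotient_map_mem_quasiIso_iff g).1 hs.2
  haveI := quasiIso_whiskerRight hX.2 f
  haveI := quasiIso_whiskerRight hY.1 g
  haveI := isIso_Q_map_of_qis (f ▷ L)
  haveI := isIso_Q_whiskerLeft_of_iso g (isIso_Q_map_of_qis (g ▷ K'))
  refine (NatIso.isIso_map_iff (tensorK₂Iso A) (Prod.mkHom f g)).2 ?_
  change IsIso (DerivedCategory.Q.map (f ▷ L ≫ K' ◁ g))
  rw [Functor.map_comp]
  infer_instance

/-- `Qh × Qh`. -/
noncomputable abbrev qhh (A : Type u) [CommRing A] : KA A × KA A ⥤ Dual.D A × Dual.D A :=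
  DerivedCategory.Qh.prod DerivedCategory.Qh

/-- `qq ⋙ (Qh × Qh) ≅ Q × Q`. -/
noncomputable def qqIso (A : Type u) [CommRing A] : qq A ⋙ qhh A ≅ DTen.QQ A :=
  NatIso.ofComponents (fun X => Iso.prod ((DerivedCategory.quotientCompQhIso _).app X.1)
    ((DerivedCategory.quotientCompQhIso _).app X.2))
    (fun f => Prod.ext ((DerivedCategory.quotientCompQhIso _).hom.naturality f.1)
      ((DerivedCategory.quotientCompQhIso _).hom.naturality f.2))

theorem hasLTen (A : Type u) [CommRing A] : DTen.HasLTen A :=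
  haveI : (tensorK₂ A).HasLeftDerivedFunctor (qisK₂ A) := hasLeftDerived exists_kflat₂ isIso_tensorK₂_of_kflat
  hasLeftDerived_precomp (qq A) (qqIso A) (tensorK₂Iso A) _ (W := qisK₂ A)

variable [DTen.HasLTen A]

/-- The counit is invertible on pairs of K-flat complexes. -/
theorem isIso_ε_of_kflat {K L : DRing.Cx A} (hK : IsKFlatFor (modT A) K) (hL : IsKFlatFor (modT A) L) :
    IsIso ((DTen.ε A).app (K, L)) :=
  isIso_counit_precomp (qq A) (qqIso A) (tensorK₂Iso A) (DTen.qis₂ A) (W := qisK₂ A) exists_kflat₂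
    isIso_tensorK₂_of_kflat ⟨hK, hL⟩

lemma isIso_LTen_map {a a' b b' : Dual.D A} (f : a ⟶ a') (g : b ⟶ b') [IsIso f] [IsIso g] :
    IsIso ((DTen.LTen₂ A).map (Prod.mkHom f g)) :=
  haveI : IsIso (Prod.mkHom f g) := (isIso_prod_iff (Dual.D A) (Dual.D A)).2 ⟨‹_›, ‹_›⟩
  inferInstance

/-- The counit is invertible as soon as the second argument is K-flat. -/
theorem isIso_ε_of_right {K L : DRing.Cx A} (hL : IsKFlatFor (modT A) L) : IsIso ((DTen.ε A).app (K, L)) := by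
  obtain ⟨P, c, hP, -, hc, -⟩ := exists_kflat K
  haveI := hc
  haveI := isIso_ε_of_kflat hP hL
  haveI := quasiIso_whiskerRight hL c
  haveI := isIso_Q_map_of_qis (c ▷ L)
  haveI := isIso_Q_map_of_qis c
  haveI : IsIso ((DTen.QQ A ⋙ DTen.LTen₂ A).map ((Prod.mkHom c (𝟙 L)) : (P, L) ⟶ (K, L))) :=
    isIso_LTen_map (DerivedCategory.Q.map c) (DerivedCategory.Q.map (𝟙 L))
  haveI : IsIso ((DTen.tensor₂ A).map ((Prod.mkHom c (𝟙 L)) : (P, L) ⟶ (K, L))) := by
    change IsIso (DerivedCategory.Q.map (c ▷ L ≫ K ◁ 𝟙 L))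
    rw [MonoidalCategory.whiskerLeft_id, Category.comp_id]
    infer_instance
  exact IsIso.of_isIso_fac_left ((DTen.ε A).naturality ((Prod.mkHom c (𝟙 L)) : (P, L) ⟶ (K, L)))

/-- The counit is invertible as soon as the first argument is K-flat. -/
theorem isIso_ε_of_left {K L : DRing.Cx A} (hK : IsKFlatFor (modT A) K) : IsIso ((DTen.ε A).app (K, L)) := by
  obtain ⟨P, c, hP, -, hc, -⟩ := exists_kflat L
  haveI := hc
  haveI := isIso_ε_of_kflat hK hP
  haveI := quasiIso_whiskerRight hK c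
  haveI := isIso_Q_whiskerLeft_of_iso (K := K) c (isIso_Q_map_of_qis (c ▷ K))
  haveI := isIso_Q_map_of_qis c
  haveI : IsIso ((DTen.QQ A ⋙ DTen.LTen₂ A).map ((Prod.mkHom (𝟙 K) c) : (K, P) ⟶ (K, L))) :=
    isIso_LTen_map (DerivedCategory.Q.map (𝟙 K)) (DerivedCategory.Q.map c)
  haveI : IsIso ((DTen.tensor₂ A).map ((Prod.mkHom (𝟙 K) c) : (K, P) ⟶ (K, L))) := by
    change IsIso (DerivedCategory.Q.map (𝟙 K ▷ P ≫ K ◁ c))
    rw [MonoidalCategory.id_whiskerRight, Category.id_comp]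
    infer_instance
  exact IsIso.of_isIso_fac_left ((DTen.ε A).naturality ((Prod.mkHom (𝟙 K) c) : (K, P) ⟶ (K, L)))

theorem kflatComputes : DTen.KFlatComputes A :=
  ⟨fun _ _ h => h.elim (fun h => isIso_ε_of_left ((isKFlat_iff' _).1 h)) fun h => isIso_ε_of_right ((isKFlat_iff' _).1 h)⟩

omit [DTen.HasLTen A] in
/-- Representatives by K-flat complexes. -/
lemma exists_kflat_obj (a : Dual.D A) :
    ∃ P : DRing.Cx A, IsKFlatFor (modT A) P ∧ Nonempty (DerivedCategory.Q.obj P ≅ a) := by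
  obtain ⟨P, c, hP, -, hc, -⟩ := exists_kflat (DerivedCategory.Q.objPreimage a)
  haveI := hc
  haveI := isIso_Q_map_of_qis c
  exact ⟨P, hP, ⟨asIso (DerivedCategory.Q.map c) ≪≫ DerivedCategory.Q.objObjPreimageIso a⟩⟩

/-- The symmetry is invertible. -/
theorem isIso_symm_app' (a b : Dual.D A) : IsIso ((DTen.symm A).app (a, b)) := by
  obtain ⟨K, hK, ⟨e⟩⟩ := exists_kflat_obj a
  obtain ⟨L, hL, ⟨e'⟩⟩ := exists_kflat_obj b
  refine (NatTrans.isIso_app_iff_of_iso (DTen.symm A) (Iso.prod e e')).1 ?_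
  haveI := isIso_ε_of_kflat hK hL
  haveI := isIso_ε_of_kflat hL hK
  haveI : IsIso (DerivedCategory.Q.map (DTen.braidCx L K).hom) := inferInstance
  exact IsIso.of_isIso_fac_right (DTen.symm_fac A K L)

end Groth.Agent.DCat
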