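import Groth.Prelude.Def_DTen2
import Groth.Agent.DCat.DTenCore

/-! The derived triple tensor product. -/

set_option autoImplicit false
set_option backward.isDefEq.respectTransparency false
set_option backward.defeqAttrib.useBackward true
set_option linter.style.haveILetI false

universe v u u''

open CategoryTheory CategoryTheory.Limits MonoidalCategory HomologicalComplex

attribute [local instance] HasDerivedCategory.standard

namespace Groth.Agent.DCat

variable {A : Type u} [CommRing A]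

/-- The tensor product of two K-flat complexes is K-flat. -/
lemma isKFlatFor_tensor {L M : DRing.Cx A} (hL : IsKFlatFor (modT A) L) (hM : IsKFlatFor (modT A) M) :
    IsKFlatFor (modT A) (L ⊗ M) := fun N hN =>
  acyclic_of_iso' (α_ N L M) (hM (N ⊗ L) (hL N hN))

lemma isIso_quotient_whiskerRight {K K' : DRing.Cx A} (f : K ⟶ K')
    (hf : IsIso ((HomotopyCategory.quotient _ (ComplexShape.up ℤ)).map f)) (L : DRing.Cx A) :
    IsIso ((HomotopyCategory.quotient _ (ComplexShape.up ℤ)).map (f ▷ L)) := by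
  let F : KA A ⥤ KA A :=
    CategoryTheory.Quotient.lift _ (tensorRight L ⋙ HomotopyCategory.quotient _ (ComplexShape.up ℤ))
      fun K L' f g h => by
        obtain ⟨h⟩ := h
        exact HomotopyCategory.eq_of_homotopy _ _ (mapBifunctorMapHomotopy₁ h (𝟙 L) (modT A) (ComplexShape.up ℤ))
  exact (NatIso.isIso_map_iff (CategoryTheory.Quotient.lift.isLift _ _ _ :
    HomotopyCategory.quotient _ (ComplexShape.up ℤ) ⋙ F ≅ _) f).1
      (inferInstanceAs (IsIso (F.map ((HomotopyCategory.quotient _ (ComplexShape.up ℤ)).map f))))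

lemma isIso_quotient_whiskerLeft {L L' : DRing.Cx A} (g : L ⟶ L')
    (hg : IsIso ((HomotopyCategory.quotient _ (ComplexShape.up ℤ)).map g)) (K : DRing.Cx A) :
    IsIso ((HomotopyCategory.quotient _ (ComplexShape.up ℤ)).map (K ◁ g)) := by
  haveI := isIso_quotient_whiskerRight g hg K
  rw [whiskerLeft_braid, Functor.map_comp, Functor.map_comp]
  infer_instance

/-- The quotient functor on triples. -/
noncomputable abbrev qqq (A : Type u) [CommRing A] :
    DRing.Cx A × (DRing.Cx A × DRing.Cx A) ⥤ KA A × (KA A × KA A) :=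
  (HomotopyCategory.quotient _ (ComplexShape.up ℤ)).prod (qq A)

/-- The tensor product of pairs, up to homotopy. -/
lemma tensorT_inverts : (heq₂ A).IsInvertedBy (DTen.tensorT A ⋙ HomotopyCategory.quotient _ (ComplexShape.up ℤ)) := by
  rintro ⟨K, L⟩ ⟨K', L'⟩ ⟨f, g⟩ ⟨hf, hg⟩
  haveI := isIso_quotient_whiskerRight f (Localization.inverts _ _ f hf) L
  haveI := isIso_quotient_whiskerLeft g (Localization.inverts _ _ g hg) K'
  change IsIso ((HomotopyCategory.quotient _ (ComplexShape.up ℤ)).map (f ▷ L ≫ K' ◁ g))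
  rw [Functor.map_comp]
  infer_instance

/-- The tensor product on the homotopy category of pairs. -/
noncomputable def tensorKK (A : Type u) [CommRing A] : KA A × KA A ⥤ KA A :=
  Localization.lift (DTen.tensorT A ⋙ HomotopyCategory.quotient _ (ComplexShape.up ℤ)) tensorT_inverts (qq A)

/-- Its defining isomorphism. -/
noncomputable def tensorKKIso (A : Type u) [CommRing A] :
    qq A ⋙ tensorKK A ≅ DTen.tensorT A ⋙ HomotopyCategory.quotient _ (ComplexShape.up ℤ) :=
  Localization.fac _ tensorT_inverts (qq A)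

/-- The triple tensor product up to homotopy. -/
noncomputable def tensorK₃ (A : Type u) [CommRing A] : KA A × (KA A × KA A) ⥤ Dual.D A :=
  (𝟭 (KA A)).prod (tensorKK A) ⋙ tensorK₂ A

/-- The comparison of the inner functors. -/
noncomputable def innerIso (A : Type u) [CommRing A] :
    qqq A ⋙ (𝟭 (KA A)).prod (tensorKK A) ≅ (𝟭 (DRing.Cx A)).prod (DTen.tensorT A) ⋙ qq A :=
  NatIso.ofComponents (fun X => Iso.prod (Iso.refl _) ((tensorKKIso A).app X.2))
    (fun {X Y} f => Prod.ext ((Category.comp_id _).trans (Category.id_comp _).symm)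
      ((tensorKKIso A).hom.naturality f.2))

/-- Its defining isomorphism. -/
noncomputable def tensorK₃Iso (A : Type u) [CommRing A] : qqq A ⋙ tensorK₃ A ≅ DTen.tensor₃ A :=
  (Functor.associator _ _ _).symm ≪≫ Functor.isoWhiskerRight (innerIso A) (tensorK₂ A) ≪≫
    Functor.associator _ _ _ ≪≫ Functor.isoWhiskerLeft _ (tensorK₂Iso A) ≪≫ (Functor.associator _ _ _).symm

/-- Triples of K-flat complexes. -/
def kflat₃ (A : Type u) [CommRing A] : ObjectProperty (KA A × (KA A × KA A)) :=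
  fun X => kflatR A X.1 ∧ kflat₂ A X.2

/-- Triples of quasi-isomorphisms. -/
abbrev qisK₃ (A : Type u) [CommRing A] : MorphismProperty (KA A × (KA A × KA A)) :=
  (HomotopyCategory.quasiIso (ModuleCat.{u} A) (ComplexShape.up ℤ)).prod (qisK₂ A)

lemma exists_kflat₃ (X : KA A × (KA A × KA A)) :
    ∃ (X' : KA A × (KA A × KA A)) (s : X' ⟶ X), kflat₃ A X' ∧ qisK₃ A s := by
  obtain ⟨K', s, hK, hs⟩ := exists_kflatR X.1
  obtain ⟨P, t, hP, ht⟩ := exists_kflat₂ X.2
  exact ⟨(K', P), Prod.mkHom s t, ⟨hK, hP⟩, hs, ht⟩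

lemma isIso_tensorK₃_of_kflat ⦃X Y : KA A × (KA A × KA A)⦄ (s : X ⟶ Y) (hX : kflat₃ A X) (hY : kflat₃ A Y)
    (hs : qisK₃ A s) : IsIso ((tensorK₃ A).map s) := by
  obtain ⟨⟨K⟩, ⟨⟨L⟩, ⟨M⟩⟩⟩ := X
  obtain ⟨⟨K'⟩, ⟨⟨L'⟩, ⟨M'⟩⟩⟩ := Y
  obtain ⟨s₁, s₂, s₃⟩ := s
  obtain ⟨f, rfl⟩ := (HomotopyCategory.quotient _ (ComplexShape.up ℤ)).map_surjective s₁
  obtain ⟨g, rfl⟩ := (HomotopyCategory.quotient _ (ComplexShape.up ℤ)).map_surjective s₂
  obtain ⟨h, rfl⟩ := (HomotopyCategory.quotient _ (ComplexShape.up ℤ)).map_surjective s₃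
  haveI : QuasiIso f := (HomotopyCategory.quotient_map_mem_quasiIso_iff f).1 hs.1
  haveI : QuasiIso g := (HomotopyCategory.quotient_map_mem_quasiIso_iff g).1 hs.2.1
  haveI : QuasiIso h := (HomotopyCategory.quotient_map_mem_quasiIso_iff h).1 hs.2.2
  haveI := quasiIso_whiskerRight hX.2.2 g
  haveI := quasiIso_whiskerRight hY.2.1 h
  haveI : QuasiIso (L' ◁ h) := by
    rw [whiskerLeft_braid]
    infer_instance
  haveI : QuasiIso (g ▷ M ≫ L' ◁ h) := inferInstance
  refine (NatIso.isIso_map_iff (tensorK₃Iso A) (Prod.mkHom f (Prod.mkHom g h))).2 ?_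
  refine (NatIso.isIso_map_iff (tensorK₂Iso A)
    ((Prod.mkHom f (g ▷ M ≫ L' ◁ h)) : (K, L ⊗ M) ⟶ (K', L' ⊗ M'))).1 ?_
  exact isIso_tensorK₂_of_kflat ((qq A).map ((Prod.mkHom f (g ▷ M ≫ L' ◁ h)) : (K, L ⊗ M) ⟶ (K', L' ⊗ M')))
    ⟨hX.1, isKFlatFor_tensor hX.2.1 hX.2.2⟩ ⟨hY.1, isKFlatFor_tensor hY.2.1 hY.2.2⟩
    ⟨(HomotopyCategory.quotient_map_mem_quasiIso_iff f).2 ‹QuasiIso f›,
      (HomotopyCategory.quotient_map_mem_quasiIso_iff _).2 ‹QuasiIso (g ▷ M ≫ L' ◁ h)›⟩

/-- Triples of homotopy equivalences. -/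
abbrev heq₃ (A : Type u) [CommRing A] : MorphismProperty (DRing.Cx A × (DRing.Cx A × DRing.Cx A)) :=
  (HomologicalComplex.homotopyEquivalences (ModuleCat.{u} A) (ComplexShape.up ℤ)).prod (heq₂ A)

instance full_whiskering_qqq {H : Type u''} [Category.{v} H] :
    ((Functor.whiskeringLeft _ _ H).obj (qqq A)).Full :=
  Localization.full_whiskeringLeft (qqq A) (heq₃ A) H

instance faithful_whiskering_qqq {H : Type u''} [Category.{v} H] :
    ((Functor.whiskeringLeft _ _ H).obj (qqq A)).Faithful :=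
  Localization.faithful_whiskeringLeft (qqq A) (heq₃ A) H

/-- `Qh × (Qh × Qh)`. -/
noncomputable abbrev qhhh (A : Type u) [CommRing A] :
    KA A × (KA A × KA A) ⥤ Dual.D A × (Dual.D A × Dual.D A) :=
  DerivedCategory.Qh.prod (qhh A)

/-- `qqq ⋙ (Qh × (Qh × Qh)) ≅ Q × (Q × Q)`. -/
noncomputable def qqqIso (A : Type u) [CommRing A] : qqq A ⋙ qhhh A ≅ DTen.QQQ A :=
  NatIso.ofComponents (fun X => Iso.prod ((DerivedCategory.quotientCompQhIso _).app X.1) ((qqIso A).app X.2))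
    (fun f => Prod.ext ((DerivedCategory.quotientCompQhIso _).hom.naturality f.1) ((qqIso A).hom.naturality f.2))

theorem hasLTen₃ (A : Type u) [CommRing A] : DTen.HasLTen₃ A :=
  haveI : (tensorK₃ A).HasLeftDerivedFunctor (qisK₃ A) := hasLeftDerived exists_kflat₃ isIso_tensorK₃_of_kflat
  hasLeftDerived_precomp (qqq A) (qqqIso A) (tensorK₃Iso A) _ (W := qisK₃ A)

variable [DTen.HasLTen₃ A]

/-- The triple counit on K-flat complexes. -/
theorem isIso_ε₃_of_kflat {K L M : DRing.Cx A} (hK : IsKFlatFor (modT A) K) (hL : IsKFlatFor (modT A) L)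
    (hM : IsKFlatFor (modT A) M) : IsIso ((DTen.ε₃ A).app (K, L, M)) :=
  isIso_counit_precomp (qqq A) (qqqIso A) (tensorK₃Iso A) (DTen.qis₃ A) (W := qisK₃ A) exists_kflat₃
    isIso_tensorK₃_of_kflat ⟨hK, hL, hM⟩

variable [DTen.HasLTen A]

theorem isIso_assoc_legs (a b c : Dual.D A) :
    IsIso ((DTen.assocL A).app (a, (b, c))) ∧ IsIso ((DTen.assocR A).app (a, (b, c))) := by
  obtain ⟨K, hK, ⟨e⟩⟩ := exists_kflat_obj a
  obtain ⟨L, hL, ⟨e'⟩⟩ := exists_kflat_obj b
  obtain ⟨M, hM, ⟨e''⟩⟩ := exists_kflat_obj c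
  haveI := isIso_ε₃_of_kflat hK hL hM
  constructor
  · refine (NatTrans.isIso_app_iff_of_iso (DTen.assocL A) (Iso.prod e (Iso.prod e' e''))).1 ?_
    haveI := isIso_ε_of_kflat hK hL
    haveI := isIso_ε_of_kflat (isKFlatFor_tensor hK hL) hM
    haveI : IsIso ((DTen.βL A).app (K, L, M)) :=
      @IsIso.comp_isIso _ _ _ _ _ _ _ (isIso_LTen_map ((DTen.ε A).app (K, L)) (𝟙 (DerivedCategory.Q.obj M)))
        (@IsIso.comp_isIso _ _ _ _ _ _ _ ‹_› inferInstance)
    exact IsIso.of_isIso_fac_right (DTen.assocL_fac A (K, L, M))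
  · refine (NatTrans.isIso_app_iff_of_iso (DTen.assocR A) (Iso.prod e (Iso.prod e' e''))).1 ?_
    haveI := isIso_ε_of_kflat hL hM
    haveI := isIso_ε_of_kflat hK (isKFlatFor_tensor hL hM)
    haveI : IsIso ((DTen.βR A).app (K, L, M)) :=
      @IsIso.comp_isIso _ _ _ _ _ _ _ (isIso_LTen_map (𝟙 (DerivedCategory.Q.obj K)) ((DTen.ε A).app (L, M))) ‹_›
    exact IsIso.of_isIso_fac_right (DTen.assocR_fac A (K, L, M))

end Groth.Agent.DCat
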