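import Groth.Prelude.Def_DCoh4
import Groth.Agent.DCat.KFlatSheaf
import Groth.Agent.DCat.LTensorCx
import Groth.Agent.DCat.LPull
import Groth.Agent.DCat.DTenTriple

/-! Derived tensor products of O_X-modules with a complex. -/

set_option autoImplicit false
set_option backward.isDefEq.respectTransparency false
set_option backward.defeqAttrib.useBackward true
set_option linter.style.haveILetI false

universe u

open CategoryTheory CategoryTheory.Limits AlgebraicGeometry MonoidalCategory HomologicalComplex
open Groth.Agent.ModStalk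

attribute [local instance] HasDerivedCategory.standard

namespace Groth.Agent.DCat.LTensorSheaf

variable {X : Scheme.{u}}

/-- Tensor products of K-flat complexes are K-flat. -/
theorem isKFlatFor_tot {M N : CochainComplex X.Modules ℤ} (hM : IsKFlatFor (shT X) M)
    (hN : IsKFlatFor (shT X) N) : IsKFlatFor (shT X) (tot (shT X) M N) :=
  (isKFlatFor_iff_stalks _).2 fun x => IsKFlatFor.of_iso (stalkTotIso x M N).symm
    (isKFlatFor_tensor ((isKFlatFor_iff_stalks M).1 hM x) ((isKFlatFor_iff_stalks N).1 hN x))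

/-- Tensoring a quasi-isomorphism of K-flat complexes, other side. -/
theorem quasiIso_tot₁ {P Q : CochainComplex X.Modules ℤ} (hP : IsKFlatFor (shT X) P)
    (hQ : IsKFlatFor (shT X) Q) (α : P ⟶ Q) [QuasiIso α] (E : CochainComplex X.Modules ℤ) :
    QuasiIso (totMap₁ (shT X) α E) := by
  rw [quasiIso_iff_stalks]
  intro x
  haveI := (quasiIso_iff_stalks α).1 inferInstance x
  haveI := quasiIso_tot_of_kflat ((isKFlatFor_iff_stalks P).1 hP x) ((isKFlatFor_iff_stalks Q).1 hQ x)
    ((stalkK x).map α) ((stalkK x).obj E)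
  have e := stalkTotIso_natural x α (𝟙 E)
  rw [CategoryTheory.Functor.map_id] at e
  refine (quasiIso_iff_comp_right _ (stalkTotIso x Q E).hom).1 ?_
  refine (congrArg (fun t => QuasiIso t) e).mpr ?_
  haveI : QuasiIso (mapBifunctorMap ((stalkK x).map α) (𝟙 ((stalkK x).obj E))
      (modT (X.presheaf.stalk x)) (ComplexShape.up ℤ)) := by
    refine (quasiIso_iff_comp_right _ (totSymm _ _).hom).1 ?_
    rw [totSymm_natural]
    infer_instance
  infer_instance

/-- `- ⊗ E` on the homotopy category. -/
noncomputable def tensorKh (E : CochainComplex X.Modules ℤ) :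
    HomotopyCategory X.Modules (ComplexShape.up ℤ) ⥤ DCoh.D X :=
  CategoryTheory.Quotient.lift _ (DCoh.tensorCxQ E) fun K L f g h => by
    obtain ⟨h⟩ := h
    have hQ := HomotopyCategory.eq_of_homotopy _ _
      (mapBifunctorMapHomotopy₁ h (𝟙 E) (shT X) (ComplexShape.up ℤ))
    have e := congrArg DerivedCategory.Qh.map hQ
    have nf := (DerivedCategory.quotientCompQhIso X.Modules).hom.naturality (totMap₁ (shT X) f E)
    have ng := (DerivedCategory.quotientCompQhIso X.Modules).hom.naturality (totMap₁ (shT X) g E)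
    refine (cancel_epi ((DerivedCategory.quotientCompQhIso X.Modules).hom.app (tot (shT X) K E))).1 ?_
    exact (nf.symm.trans (congrArg (· ≫ _) e)).trans ng

/-- The defining isomorphism of `tensorKh`. -/
noncomputable def tensorKhIso (E : CochainComplex X.Modules ℤ) :
    HomotopyCategory.quotient X.Modules (ComplexShape.up ℤ) ⋙ tensorKh E ≅ DCoh.tensorCxQ E :=
  CategoryTheory.Quotient.lift.isLift _ _ _

lemma isIso_tensorKh_of_kflat (E : CochainComplex X.Modules ℤ)
    ⦃K L : HomotopyCategory X.Modules (ComplexShape.up ℤ)⦄ (s : K ⟶ L) (hK : kflatObj X K) (hL : kflatObj X L)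
    (hs : HomotopyCategory.quasiIso X.Modules (ComplexShape.up ℤ) s) : IsIso ((tensorKh E).map s) := by
  obtain ⟨K⟩ := K
  obtain ⟨L⟩ := L
  obtain ⟨s, rfl⟩ := (HomotopyCategory.quotient _ (ComplexShape.up ℤ)).map_surjective s
  haveI : QuasiIso s := (HomotopyCategory.quotient_map_mem_quasiIso_iff s).1 hs
  haveI := quasiIso_tot₁ hK hL s E
  exact Localization.inverts DerivedCategory.Q (HomologicalComplex.quasiIso X.Modules (ComplexShape.up ℤ))
    (totMap₁ (shT X) s E) ((HomologicalComplex.mem_quasiIso_iff _).2 ‹_›)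

theorem hasLTensorCx (E : CochainComplex X.Modules ℤ) : DCoh.HasLTensorCx E :=
  haveI : (tensorKh E).HasLeftDerivedFunctor (HomotopyCategory.quasiIso X.Modules (ComplexShape.up ℤ)) :=
    hasLeftDerived (P := kflatObj X) exists_kflat_hot (isIso_tensorKh_of_kflat E)
  hasLeftDerived_precomp (HomotopyCategory.quotient _ (ComplexShape.up ℤ))
    (DerivedCategory.quotientCompQhIso X.Modules) (F := tensorKh E) (tensorKhIso E) _
    (W := HomotopyCategory.quasiIso X.Modules (ComplexShape.up ℤ))

/-- The counit of `- ⊗^L E`. -/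
noncomputable abbrev counit (E : CochainComplex X.Modules ℤ) [DCoh.HasLTensorCx E] :=
  (DCoh.tensorCxQ E).totalLeftDerivedCounit DerivedCategory.Q
    (HomologicalComplex.quasiIso X.Modules (ComplexShape.up ℤ))

/-- The counit of `- ⊗^L E` is invertible on K-flat complexes. -/
theorem isIso_counit (E : CochainComplex X.Modules ℤ) [DCoh.HasLTensorCx E] {P : CochainComplex X.Modules ℤ}
    (hP : IsKFlatFor (shT X) P) : IsIso ((counit E).app P) := by
  haveI : (tensorKh E).HasLeftDerivedFunctor (HomotopyCategory.quasiIso X.Modules (ComplexShape.up ℤ)) :=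
    hasLeftDerived (P := kflatObj X) exists_kflat_hot (isIso_tensorKh_of_kflat E)
  let α := (tensorKh E).totalLeftDerivedCounit DerivedCategory.Qh
    (HomotopyCategory.quasiIso X.Modules (ComplexShape.up ℤ))
  let LF := (tensorKh E).totalLeftDerived DerivedCategory.Qh
    (HomotopyCategory.quasiIso X.Modules (ComplexShape.up ℤ))
  haveI := isIso_counit_of_mem exists_kflat_hot (isIso_tensorKh_of_kflat E) α
    (X := (HomotopyCategory.quotient _ _).obj P) hP
  haveI hLF := isLeftDerived_precomp (HomotopyCategory.quotient _ (ComplexShape.up ℤ))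
    (DerivedCategory.quotientCompQhIso X.Modules) (F := tensorKh E) (tensorKhIso E)
    (HomologicalComplex.quasiIso X.Modules (ComplexShape.up ℤ)) (F₀ := DCoh.tensorCxQ E)
    (W := HomotopyCategory.quasiIso X.Modules (ComplexShape.up ℤ)) α
  let β := Functor.whiskerRight (DerivedCategory.quotientCompQhIso X.Modules).inv LF ≫
    (Functor.associator _ _ _).hom ≫ Functor.whiskerLeft (HomotopyCategory.quotient _ (ComplexShape.up ℤ)) α ≫
      (tensorKhIso E).hom
  haveI hβ : IsIso (β.app P) :=
    @IsIso.comp_isIso _ _ _ _ _ _ _ inferInstance (@IsIso.comp_isIso _ _ _ _ _ _ _ inferInstance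
      (@IsIso.comp_isIso _ _ _ _ _ _ _ ‹IsIso (α.app _)› inferInstance))
  haveI : LF.IsLeftDerivedFunctor β (HomologicalComplex.quasiIso X.Modules (ComplexShape.up ℤ)) := hLF
  haveI : IsIso ((DCoh.LTensorCx E).leftDerivedLift (counit E)
      (HomologicalComplex.quasiIso X.Modules (ComplexShape.up ℤ)) LF β) :=
    ((DCoh.LTensorCx E).isLeftDerivedFunctor_iff_isIso_leftDerivedLift (counit E) _ LF β).1 ‹_›
  exact IsIso.of_isIso_fac_left ((DCoh.LTensorCx E).leftDerived_fac_app (counit E)
    (HomologicalComplex.quasiIso X.Modules (ComplexShape.up ℤ)) LF β P)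

/-- If `E` is K-flat the counit is invertible everywhere. -/
theorem isIso_counit_of_right {E : CochainComplex X.Modules ℤ} (hE : IsKFlatFor (shT X) E) [DCoh.HasLTensorCx E]
    (P : CochainComplex X.Modules ℤ) : IsIso ((counit E).app P) := by
  obtain ⟨N, c, hN, -, hc, -⟩ := exists_kflat_sheaf P
  haveI := hc
  haveI := hE.quasiIso_map c
  haveI := isIso_counit E hN
  haveI : IsIso ((DCoh.tensorCxQ E).map c) :=
    Localization.inverts DerivedCategory.Q (HomologicalComplex.quasiIso X.Modules (ComplexShape.up ℤ))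
      (totMap₁ (shT X) c E) ((HomologicalComplex.mem_quasiIso_iff _).2 ‹_›)
  haveI : IsIso (DerivedCategory.Q.map c) :=
    Localization.inverts DerivedCategory.Q (HomologicalComplex.quasiIso X.Modules (ComplexShape.up ℤ)) c
      ((HomologicalComplex.mem_quasiIso_iff _).2 ‹_›)
  haveI : IsIso ((DerivedCategory.Q ⋙ DCoh.LTensorCx E).map c) :=
    Functor.map_isIso (DCoh.LTensorCx E) (DerivedCategory.Q.map c)
  exact IsIso.of_isIso_fac_left ((counit E).naturality c)

/-- `- ⊗^L E` of a K-flat complex. -/
noncomputable def ltensorCxIso (E : CochainComplex X.Modules ℤ) [DCoh.HasLTensorCx E]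
    {P : CochainComplex X.Modules ℤ} (hP : IsKFlatFor (shT X) P) :
    (DCoh.LTensorCx E).obj (DerivedCategory.Q.obj P) ≅ DerivedCategory.Q.obj (tot (shT X) P E) :=
  haveI := isIso_counit E hP
  asIso ((counit E).app P)

/-- `- ⊗^L E` for K-flat `E`. -/
noncomputable def ltensorCxIso' {E : CochainComplex X.Modules ℤ} (hE : IsKFlatFor (shT X) E) [DCoh.HasLTensorCx E]
    (P : CochainComplex X.Modules ℤ) :
    (DCoh.LTensorCx E).obj (DerivedCategory.Q.obj P) ≅ DerivedCategory.Q.obj (tot (shT X) P E) :=
  haveI := isIso_counit_of_right hE P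
  asIso ((counit E).app P)

end Groth.Agent.DCat.LTensorSheaf
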