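import Groth.Agent.DCat.PullTensor
import Groth.Agent.DCat.LTensorSheaf
import Groth.Agent.DCat.PullPerf

/-! Pullback of total tensor complexes and derived pullback of derived tensor products. -/

set_option autoImplicit false
set_option backward.isDefEq.respectTransparency false
set_option backward.defeqAttrib.useBackward true
set_option linter.style.haveILetI false

universe u

open CategoryTheory CategoryTheory.Limits AlgebraicGeometry HomologicalComplex
open Groth.Agent.ModStalk

attribute [local instance] HasDerivedCategory.standard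

namespace Groth.Agent.DCat.PullTot

variable {X Y : Scheme.{u}} (f : X ⟶ Y)

instance (n : ℤ) : PreservesColimitsOfShape (Discrete (TotIdx n)) (Scheme.Modules.pullback f) := by
  haveI := (Scheme.Modules.pullbackPushforwardAdjunction f).leftAdjoint_preservesColimits (F := Scheme.Modules.pullback f)
  infer_instance

/-- Pullback commutes with total tensor complexes. -/
noncomputable def pullTotIso (M K : CochainComplex Y.Modules ℤ) :
    ((Scheme.Modules.pullback f).mapHomologicalComplex (ComplexShape.up ℤ)).obj (tot (shT Y) M K) ≅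
      tot (shT X) (((Scheme.Modules.pullback f).mapHomologicalComplex (ComplexShape.up ℤ)).obj M)
        (((Scheme.Modules.pullback f).mapHomologicalComplex (ComplexShape.up ℤ)).obj K) :=
  mapTotIso (shT Y) (shT X) (Scheme.Modules.pullback f) (Scheme.Modules.pullback f) (Scheme.Modules.pullback f)
    (PullTensor.pullTensorIso f) (fun φ N => PullTensor.pullTensorHom_nat₁ f φ N)
    (fun M _ _ ψ => PullTensor.pullTensorHom_nat₂ f M ψ) M K

lemma isKFlatFor_pullback {N : CochainComplex Y.Modules ℤ} (hN : IsKFlatFor (shT Y) N) :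
    IsKFlatFor (shT X) (((Scheme.Modules.pullback f).mapHomologicalComplex (ComplexShape.up ℤ)).obj N) :=
  kflatObj_pullback f ((HomotopyCategory.quotient _ _).obj N) hN

/-- `Lf^*(K ⊗^L L) ≅ Lf^*K ⊗^L f^*L` for K-flat `L`. -/
theorem nonempty_Lpull_LTensor [DCoh.HasLpull f] {L : CochainComplex Y.Modules ℤ} (hL : IsKFlatFor (shT Y) L)
    [DCoh.HasLTensorCx L]
    [DCoh.HasLTensorCx (((Scheme.Modules.pullback f).mapHomologicalComplex (ComplexShape.up ℤ)).obj L)] (K : DCoh.D Y) :
    Nonempty ((DCoh.Lpull f).obj ((DCoh.LTensorCx L).obj K) ≅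
      (DCoh.LTensorCx (((Scheme.Modules.pullback f).mapHomologicalComplex (ComplexShape.up ℤ)).obj L)).obj
        ((DCoh.Lpull f).obj K)) := by
  obtain ⟨N, hN, ⟨e⟩⟩ := PullPerf.exists_kflat_rep K
  exact ⟨(DCoh.Lpull f).mapIso ((DCoh.LTensorCx L).mapIso e.symm ≪≫ LTensorSheaf.ltensorCxIso L hN) ≪≫
    PullPerf.lpullIso f (LTensorSheaf.isKFlatFor_tot hN hL) ≪≫
    DerivedCategory.Q.mapIso (pullTotIso f N L) ≪≫
    (LTensorSheaf.ltensorCxIso _ (isKFlatFor_pullback f hN)).symm ≪≫
    (DCoh.LTensorCx _).mapIso ((PullPerf.lpullIso f hN).symm ≪≫ (DCoh.Lpull f).mapIso e)⟩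

end Groth.Agent.DCat.PullTot
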