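import Groth.Agent.DCat.ClosedPush
import Groth.Agent.DCat.PullTot
import Groth.Agent.DCat.OpenDerived
import Groth.Prelude.Def_DCoh4

/-!
# The derived projection formula along a closed immersion
-/

set_option autoImplicit false
set_option backward.isDefEq.respectTransparency false
set_option backward.defeqAttrib.useBackward true
set_option linter.style.haveILetI false

universe u

open CategoryTheory CategoryTheory.Limits AlgebraicGeometry HomologicalComplex
open Groth.Agent.ModStalk

attribute [local instance] HasDerivedCategory.standard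

namespace Groth.Agent.DCat.ClosedPushD

variable {X Y : Scheme.{u}} (f : X ⟶ Y)

/-- `(M, N) ↦ M ⊗ f^* N`. -/
noncomputable abbrev pullBi : X.Modules ⥤ Y.Modules ⥤ X.Modules :=
  shT X ⋙ (Functor.whiskeringLeft _ _ _).obj (Scheme.Modules.pullback f)

instance (M : X.Modules) : ((pullBi f).obj M).Additive :=
  inferInstanceAs (Scheme.Modules.pullback f ⋙ (shT X).obj M).Additive

variable [IsClosedImmersion f]

instance : IsIso (Scheme.Modules.pullbackPushforwardAdjunction f).counit :=
  NatIso.isIso_of_isIso_app _

theorem eq_zero_of_ι {R : Type u} [CommRing R] {J : Type} {c : Discrete J ⥤ ModuleCat.{u} R}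
    (s : Cocone c) (hs : IsColimit s) (g : s.pt ⟶ s.pt) (h : ∀ j, s.ι.app j ≫ g = 0) : g = 0 :=
  hs.hom_ext fun j => by rw [h j, comp_zero]

instance preservesCoproduct_push {J : Type} :
    PreservesColimitsOfShape (Discrete J) (Scheme.Modules.pushforward f) where
  preservesColimit {K} := ⟨fun {c} hc => ⟨by
    let G := Scheme.Modules.pushforward f
    let φ : colimit (K ⋙ G) ⟶ G.obj c.pt := colimit.desc (K ⋙ G) (G.mapCocone c)
    haveI := (Scheme.Modules.pullbackPushforwardAdjunction f).leftAdjoint_preservesColimits
      (F := Scheme.Modules.pullback f)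
    haveI : IsIso ((Scheme.Modules.pullback f).map φ) := by
      let i : (K ⋙ G) ⋙ Scheme.Modules.pullback f ≅ K :=
        Functor.associator _ _ _ ≪≫ Functor.isoWhiskerLeft K
          (asIso (Scheme.Modules.pullbackPushforwardAdjunction f).counit) ≪≫ K.rightUnitor
      let e : (Scheme.Modules.pullback f).obj (colimit (K ⋙ G)) ≅ c.pt :=
        IsColimit.coconePointsIsoOfNatIso
          (isColimitOfPreserves (Scheme.Modules.pullback f) (colimit.isColimit (K ⋙ G))) hc i
      have he : (Scheme.Modules.pullback f).map φ ≫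
          (Scheme.Modules.pullbackPushforwardAdjunction f).counit.app c.pt = e.hom := by
        refine (isColimitOfPreserves (Scheme.Modules.pullback f)
          (colimit.isColimit (K ⋙ G))).hom_ext fun j => ?_
        have h1 : (Scheme.Modules.pullback f).map (colimit.ι (K ⋙ G) j) ≫
            (Scheme.Modules.pullback f).map φ = (Scheme.Modules.pullback f).map (G.map (c.ι.app j)) := by
          rw [← Functor.map_comp, colimit.ι_desc]
          rfl
        show (Scheme.Modules.pullback f).map (colimit.ι (K ⋙ G) j) ≫ _ ≫ _ =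
          (Scheme.Modules.pullback f).map (colimit.ι (K ⋙ G) j) ≫ e.hom
        rw [reassoc_of% h1]
        refine ((Scheme.Modules.pullbackPushforwardAdjunction f).counit.naturality (c.ι.app j)).trans ?_
        refine Eq.trans ?_ (IsColimit.comp_coconePointsIsoOfNatIso_hom _ hc i j).symm
        simp [i]
      exact IsIso.of_isIso_fac_right he
    haveI : IsIso φ := by
      refine ClosedPush.isIso_of_pullback f φ (fun y hy => ?_)
        (fun y hy => ClosedPush.subsingleton_stalk_push f _ y hy) (fun x r hr t => ?_)
        (fun x => ClosedPush.smul_stalk_push f _ x)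
      · let s := (DerSch.stalkFunctor Y y).mapCocone (colimit.cocone (K ⋙ G))
        have hs : IsColimit s := isColimitOfPreserves _ (colimit.isColimit (K ⋙ G))
        have h0 : 𝟙 s.pt = 0 := eq_zero_of_ι s hs _ fun j => by
          haveI := ClosedPush.subsingleton_stalk_push f (K.obj j) y hy
          haveI : Subsingleton (((K ⋙ G) ⋙ DerSch.stalkFunctor Y y).obj j) := this
          exact ModuleCat.hom_ext (LinearMap.ext fun a => by
            rw [Subsingleton.elim a 0, map_zero, map_zero])
        exact subsingleton_of_forall_eq (α := s.pt) 0 fun a => ConcreteCategory.congr_hom h0 a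
      · let s := (DerSch.stalkFunctor Y (f.base x)).mapCocone (colimit.cocone (K ⋙ G))
        have hs : IsColimit s := isColimitOfPreserves _ (colimit.isColimit (K ⋙ G))
        have h0 : r • 𝟙 s.pt = 0 := eq_zero_of_ι s hs _ fun j =>
          ModuleCat.hom_ext (LinearMap.ext fun a => by
            show r • s.ι.app j a = 0
            rw [← map_smul]
            exact (congrArg _ (ClosedPush.smul_stalk_push f (K.obj j) x r hr a)).trans (map_zero _))
        exact ConcreteCategory.congr_hom h0 t
    exact IsColimit.ofIsoColimit (colimit.isColimit (K ⋙ G))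
      (Cocones.ext (asIso φ) fun j => colimit.ι_desc _ _)⟩⟩

/-- The projection formula on total complexes. -/
noncomputable def totIso (A : CochainComplex X.Modules ℤ) (P : CochainComplex Y.Modules ℤ) :
    ((Scheme.Modules.pushforward f).mapHomologicalComplex (ComplexShape.up ℤ)).obj
        (tot (shT X) A (((Scheme.Modules.pullback f).mapHomologicalComplex (ComplexShape.up ℤ)).obj P)) ≅
      tot (shT Y) (((Scheme.Modules.pushforward f).mapHomologicalComplex (ComplexShape.up ℤ)).obj A) P :=
  ((Scheme.Modules.pushforward f).mapHomologicalComplex (ComplexShape.up ℤ)).mapIso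
      (mapTotIso (pullBi f) (shT X) (𝟭 X.Modules) (Scheme.Modules.pullback f) (𝟭 X.Modules)
        (fun _ _ => Iso.refl _) (fun _ _ => by simp) (fun _ {_ _} _ => by simp) A P).symm ≪≫
    mapTotIso (pullBi f) (shT Y) (Scheme.Modules.pushforward f) (𝟭 Y.Modules)
      (Scheme.Modules.pushforward f) (fun M N => (asIso (ClosedPush.projMap f M N)).symm)
      (fun {M M'} φ N => by
        simp only [Iso.symm_hom, asIso_inv]
        refine (IsIso.comp_inv_eq _).2 ?_
        refine Eq.trans ?_ (Category.assoc _ _ _).symm
        exact (IsIso.eq_inv_comp _).2 (ClosedPush.projMap_nat₁ f φ N).symm)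
      (fun M {N N'} ψ => by
        simp only [Iso.symm_hom, asIso_inv]
        refine (IsIso.comp_inv_eq _).2 ?_
        refine Eq.trans ?_ (Category.assoc _ _ _).symm
        exact (IsIso.eq_inv_comp _).2 (ClosedPush.projMap_nat₂ f M ψ).symm) A P

/-- `Rf_*` along a closed immersion is computed termwise. -/
theorem nonempty_rpushQIso [DCoh.HasRpush f] (A : CochainComplex X.Modules ℤ) :
    Nonempty ((DCoh.Rpush f).obj (DerivedCategory.Q.obj A) ≅
      DerivedCategory.Q.obj (((Scheme.Modules.pushforward f).mapHomologicalComplex (ComplexShape.up ℤ)).obj A)) := by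
  obtain ⟨J, s, hJ, hs⟩ := modules_enoughKInj X A
  haveI := hJ
  haveI := hs
  haveI : PreservesFiniteColimits (Scheme.Modules.pushforward f) :=
    Coherent.preservesFiniteColimits_push f
  haveI : PreservesFiniteLimits (Scheme.Modules.pushforward f) :=
    haveI := (Scheme.Modules.pullbackPushforwardAdjunction f).rightAdjoint_preservesLimits
      (G := Scheme.Modules.pushforward f)
    inferInstance
  haveI : (Scheme.Modules.pushforward f).PreservesHomology := inferInstance
  let fs := ((Scheme.Modules.pushforward f).mapHomologicalComplex (ComplexShape.up ℤ)).map s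
  haveI : QuasiIso fs := inferInstance
  haveI : IsIso (DerivedCategory.Q.map s) :=
    Localization.inverts DerivedCategory.Q (HomologicalComplex.quasiIso X.Modules (ComplexShape.up ℤ)) s
      ((HomologicalComplex.mem_quasiIso_iff _).2 ‹_›)
  haveI : IsIso (DerivedCategory.Q.map fs) :=
    Localization.inverts DerivedCategory.Q (HomologicalComplex.quasiIso Y.Modules (ComplexShape.up ℤ)) fs
      ((HomologicalComplex.mem_quasiIso_iff _).2 ‹_›)
  exact ⟨(DCoh.Rpush f).mapIso (asIso (DerivedCategory.Q.map s)) ≪≫
    OpenDerived.rfQIso (modules_enoughKInj X) (DCoh.pushKh f) J ≪≫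
    (DerivedCategory.quotientCompQhIso Y.Modules).app _ ≪≫ (asIso (DerivedCategory.Q.map fs)).symm⟩

/-- The projection formula `Rf_* E ⊗^L P ≅ Rf_*(E ⊗^L f^* P)`. -/
theorem nonempty_projection [DCoh.HasRpush f] (P : CochainComplex Y.Modules ℤ)
    (hP : IsKFlatFor (shT Y) P) [DCoh.HasLTensorCx P]
    [DCoh.HasLTensorCx (((Scheme.Modules.pullback f).mapHomologicalComplex (ComplexShape.up ℤ)).obj P)]
    (E : DCoh.D X) :
    Nonempty ((DCoh.LTensorCx P).obj ((DCoh.Rpush f).obj E) ≅
      (DCoh.Rpush f).obj ((DCoh.LTensorCx (((Scheme.Modules.pullback f).mapHomologicalComplex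
        (ComplexShape.up ℤ)).obj P)).obj E)) := by
  let A := DerivedCategory.Q.objPreimage E
  let eA : DerivedCategory.Q.obj A ≅ E := DerivedCategory.Q.objObjPreimageIso E
  obtain ⟨e₁⟩ := nonempty_rpushQIso f A
  obtain ⟨e₂⟩ := nonempty_rpushQIso f
    (tot (shT X) A (((Scheme.Modules.pullback f).mapHomologicalComplex (ComplexShape.up ℤ)).obj P))
  exact ⟨(DCoh.LTensorCx P).mapIso ((DCoh.Rpush f).mapIso eA.symm ≪≫ e₁) ≪≫
    LTensorSheaf.ltensorCxIso' hP _ ≪≫
    DerivedCategory.Q.mapIso (totIso f A P).symm ≪≫ e₂.symm ≪≫
    (DCoh.Rpush f).mapIso ((LTensorSheaf.ltensorCxIso' (PullTot.isKFlatFor_pullback f hP) A).symm ≪≫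
      (DCoh.LTensorCx _).mapIso eA)⟩

end Groth.Agent.DCat.ClosedPushD
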