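import Groth.Agent.Props12.TildeFin
import Groth.Agent.DCat.KFlatSheaf
import Groth.Agent.DCat.ExtKFlat

/-! Stalks of tilde modules are extensions of scalars; tilde preserves K-flatness. -/

set_option autoImplicit false
set_option backward.isDefEq.respectTransparency false
set_option backward.defeqAttrib.useBackward true
set_option linter.style.haveILetI false

universe u

open CategoryTheory CategoryTheory.Limits AlgebraicGeometry Opposite TopologicalSpace

namespace Groth.Agent.DCat

variable {R : CommRingCat.{u}} (x : Spec R)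

/-- `R → O_x`. -/
noncomputable def stalkφ : R →+* (Spec R).presheaf.stalk x :=
  ((Spec R).presheaf.germ ⊤ x trivial).hom.comp (algebraMap R Γ(Spec R, ⊤))

/-- `M → (M~)_x`. -/
noncomputable def tildeUnit (M : ModuleCat.{u} R) :
    M ⟶ (ModuleCat.restrictScalars (stalkφ x)).obj ((DerSch.stalkFunctor (Spec R) x).obj (tilde M)) :=
  ModuleCat.ofHom (Y := ((ModuleCat.restrictScalars (stalkφ x)).obj ((DerSch.stalkFunctor (Spec R) x).obj (tilde M)) : Type u))
    { toFun := fun m => (tilde M).presheaf.germ ⊤ x trivial (Props12.topEquiv M m)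
      map_add' := fun a b => by rw [map_add, map_add]
      map_smul' := fun r m => by
        rw [map_smul, ← algebraMap_smul Γ(Spec R, ⊤) r (Props12.topEquiv M m)]
        exact QCohLoc.germ_smul' (M := tilde M) (show x ∈ (⊤ : (Spec R).Opens) from trivial) (algebraMap R Γ(Spec R, ⊤) r) _ }

lemma topEquiv_natural {M N : ModuleCat.{u} R} (f : M ⟶ N) (m : M) :
    (Scheme.Modules.Hom.app (tilde.map f) ⊤).hom (Props12.topEquiv M m) = Props12.topEquiv N (f.hom m) :=
  congr($(tilde.toOpen_map_app f ⊤) m)

/-- The comparison `O_x ⊗_R M → (M~)_x`. -/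
noncomputable def tildeCmp (M : ModuleCat.{u} R) :
    (ModuleCat.extendScalars.{u, u, u} (stalkφ x)).obj M ⟶ (DerSch.stalkFunctor (Spec R) x).obj (tilde M) :=
  ((ModuleCat.extendRestrictScalarsAdj.{u, u, u} (stalkφ x)).homEquiv M _).symm (tildeUnit x M)

lemma tildeUnit_natural {M N : ModuleCat.{u} R} (f : M ⟶ N) :
    tildeUnit x M ≫ (ModuleCat.restrictScalars (stalkφ x)).map
      ((DerSch.stalkFunctor (Spec R) x).map (tilde.map f)) = f ≫ tildeUnit x N := by
  refine ModuleCat.hom_ext (LinearMap.ext fun m => ?_)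
  show Algz.stalkMapAb (tilde.map f) x ((tilde M).presheaf.germ ⊤ x trivial (Props12.topEquiv M m)) =
    (tilde N).presheaf.germ ⊤ x trivial (Props12.topEquiv N (f.hom m))
  rw [← topEquiv_natural f m]
  exact TopCat.Presheaf.stalkFunctor_map_germ_apply _ _ _ _ _

lemma tildeCmp_one_tmul (M : ModuleCat.{u} R) (m : M) :
    (tildeCmp x M).hom (((ModuleCat.extendRestrictScalarsAdj.{u, u, u} (stalkφ x)).unit.app M).hom m) =
      (tilde M).presheaf.germ ⊤ x trivial (Props12.topEquiv M m) := by
  let adj := ModuleCat.extendRestrictScalarsAdj.{u, u, u} (stalkφ x)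
  exact congr($((adj.homEquiv_unit M _ (tildeCmp x M)).symm.trans (Equiv.apply_symm_apply _ _)) m)

theorem isIso_tildeCmp (M : ModuleCat.{u} R) : IsIso (tildeCmp x M) := by
  let U : (Spec R).Opens := ⊤
  have hU : IsAffineOpen U := isAffineOpen_top _
  have hx : x ∈ U := trivial
  let A := Γ(Spec R, U)
  let Ox := (Spec R).presheaf.stalk x
  letI := ((Spec R).presheaf.germ U x hx).hom.toAlgebra
  letI := Module.compHom ((tilde M).presheaf.stalk x) ((Spec R).presheaf.germ U x hx).hom
  haveI : IsScalarTower A Ox ((tilde M).presheaf.stalk x) := IsScalarTower.of_algebraMap_smul fun _ _ => rfl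
  let φ : Γ(tilde M, U) →ₗ[A] (tilde M).presheaf.stalk x :=
    { toFun := (tilde M).presheaf.germ U x hx
      map_add' := map_add _
      map_smul' := QCohLoc.germ_smul' (M := tilde M) hx }
  haveI := Props12.isQCoh_tilde M
  haveI := EGA43.QcohFP.isLocalizedModule_germ (tilde M) hU hx φ fun _ => rfl
  haveI := hU.isLocalization_stalk ⟨x, hx⟩
  have hb := IsLocalizedModule.isBaseChange (hU.primeIdealOf ⟨x, hx⟩).asIdeal.primeCompl Ox φ
  let X := (ModuleCat.extendScalars.{u, u, u} (stalkφ x)).obj M
  let unit := (ModuleCat.extendRestrictScalarsAdj.{u, u, u} (stalkφ x)).unit.app M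
  letI : Module A (X : Type u) := Module.compHom X ((Spec R).presheaf.germ U x hx).hom
  haveI : IsScalarTower A Ox (X : Type u) := IsScalarTower.of_algebraMap_smul fun _ _ => rfl
  let ψ : Γ(tilde M, U) →ₗ[A] (X : Type u) :=
    { toFun := fun γ => unit.hom ((Props12.topEquiv M).symm γ)
      map_add' := fun a b => by rw [map_add, map_add]
      map_smul' := fun c γ => by
        obtain ⟨r, rfl⟩ := (Props12.bijective_algebraMap_top (R := R)).2 c
        rw [algebraMap_smul, map_smul, map_smul]
        rfl }
  let Ψ := hb.lift ψ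
  have h1 : ∀ γ, (tildeCmp x M).hom (Ψ (φ γ)) = φ γ := fun γ => by
    rw [hb.lift_eq]
    refine (tildeCmp_one_tmul x M _).trans ?_
    rw [LinearEquiv.apply_symm_apply]
    rfl
  have h2 : (tildeCmp x M).hom ∘ₗ Ψ = LinearMap.id := hb.algHom_ext _ _ fun γ => h1 γ
  have h3 : ∀ z : X, Ψ ((tildeCmp x M).hom z) = z := by
    intro z
    induction z using TensorProduct.induction_on with
    | zero => exact (congrArg Ψ (map_zero _)).trans (map_zero _)
    | tmul a m =>
      let a' : Ox := a
      let um : (X : Type u) := unit.hom m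
      have e : (a ⊗ₜ m : X) = a' • um := by
        refine (congrArg (fun b : ((ModuleCat.restrictScalars (stalkφ x)).obj (ModuleCat.of Ox Ox)) => (b ⊗ₜ m : X))
          (mul_one a').symm).trans ?_
        rfl
      rw [e, map_smul, map_smul, tildeCmp_one_tmul]
      congr 1
      refine (hb.lift_eq ψ _).trans ?_
      show unit.hom ((Props12.topEquiv M).symm (Props12.topEquiv M m)) = _
      rw [LinearEquiv.symm_apply_apply]
    | add u v hu hv => exact (congrArg Ψ (map_add _ u v)).trans ((map_add _ _ _).trans (congrArg₂ (· + ·) hu hv))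
  rw [ConcreteCategory.isIso_iff_bijective]
  exact ⟨fun u v h => by rw [← h3 u, ← h3 v]; exact congrArg Ψ h,
    fun w => ⟨Ψ w, LinearMap.congr_fun h2 w⟩⟩

/-- Stalks of tilde are base change to the local ring. -/
noncomputable def tildeStalkIso :
    ModuleCat.extendScalars.{u, u, u} (stalkφ x) ≅ tilde.functor R ⋙ DerSch.stalkFunctor (Spec R) x :=
  haveI := isIso_tildeCmp x
  NatIso.ofComponents (fun M => asIso (tildeCmp x M)) fun {M N} f => by
    let adj := ModuleCat.extendRestrictScalarsAdj.{u, u, u} (stalkφ x)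
    show (ModuleCat.extendScalars.{u, u, u} (stalkφ x)).map f ≫ tildeCmp x N =
      tildeCmp x M ≫ (DerSch.stalkFunctor (Spec R) x).map (tilde.map f)
    rw [tildeCmp, tildeCmp, ← adj.homEquiv_naturality_left_symm, ← adj.homEquiv_naturality_right_symm,
      tildeUnit_natural]

/-- Tilde preserves K-flatness. -/
theorem isKFlat_tilde (K : DRing.Cx R) (hK : IsKFlatFor (modT R) K) :
    IsKFlatFor (shT (Spec R)) (((tilde.functor R).mapHomologicalComplex (ComplexShape.up ℤ)).obj K) := by
  rw [isKFlatFor_iff_stalks]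
  intro x
  exact IsKFlatFor.of_iso (((NatIso.mapHomologicalComplex (tildeStalkIso x) (ComplexShape.up ℤ)).app K))
    (isKFlatFor_ext (stalkφ x) hK)

end Groth.Agent.DCat
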