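import Groth.Agent.DCat.ExtKFlat
import Groth.Agent.DCat.LTensorModule
import Mathlib.RingTheory.Nilpotent.Defs

/-! Base change along a nilpotent thickening detects vanishing of derived tensor products. -/

set_option autoImplicit false
set_option backward.isDefEq.respectTransparency false
set_option backward.defeqAttrib.useBackward true
set_option linter.style.haveILetI false

universe u

open CategoryTheory CategoryTheory.Limits MonoidalCategory HomologicalComplex
attribute [local instance] HasDerivedCategory.standard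

namespace Groth.Agent.DCat

variable {R : Type u} [CommRing R]

lemma exactAt_tensor_ext₂ (P : DRing.Cx R) (hPf : DRing.TermwiseFlat P) {S : ShortComplex (ModuleCat.{u} R)}
    (hS : S.ShortExact) (i : ℤ) (h₁ : (DRing.tensorCx P S.X₁).ExactAt i) (h₃ : (DRing.tensorCx P S.X₃).ExactAt i) :
    (DRing.tensorCx P S.X₂).ExactAt i := by
  let f : DRing.tensorCx P S.X₁ ⟶ DRing.tensorCx P S.X₂ :=
    (NatTrans.mapHomologicalComplex ((tensoringRight (ModuleCat.{u} R)).map S.f) _).app P
  let g : DRing.tensorCx P S.X₂ ⟶ DRing.tensorCx P S.X₃ :=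
    (NatTrans.mapHomologicalComplex ((tensoringRight (ModuleCat.{u} R)).map S.g) _).app P
  have w : f ≫ g = 0 := by
    refine HomologicalComplex.hom_ext _ _ fun n => ?_
    show P.X n ◁ S.f ≫ P.X n ◁ S.g = 0
    rw [← MonoidalCategory.whiskerLeft_comp, S.zero]
    exact MonoidalPreadditive.whiskerLeft_zero
  have hT : (ShortComplex.mk f g w).ShortExact := shortExact_of_degreewise_shortExact _ fun n => by
    haveI := hPf n
    haveI := preservesFiniteLimits_flip_of_flat (P.X n)
    haveI : PreservesFiniteLimits (tensorLeft (P.X n)) :=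
      preservesFiniteLimits_of_natIso (BraidedCategory.tensorLeftIsoTensorRight (P.X n)).symm
    exact hS.map_of_exact (tensorLeft (P.X n))
  rw [exactAt_iff_isZero_homology] at h₁ h₃ ⊢
  exact (hT.homology_exact₂ i).isZero_of_both_zeros (h₁.eq_of_src _ _) (h₃.eq_of_tgt _ _)

/-- Exactness against modules killed by `J` gives exactness against modules killed by a power of `J`. -/
theorem exactAt_of_pow_killed (J : Ideal R) (P : DRing.Cx R) (hPf : DRing.TermwiseFlat P) (i : ℤ)
    (h : ∀ N : ModuleCat.{u} R, J • (⊤ : Submodule R N) = ⊥ → (DRing.tensorCx P N).ExactAt i) :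
    ∀ (k : ℕ) (M : ModuleCat.{u} R), J ^ k • (⊤ : Submodule R M) = ⊥ →
      (DRing.tensorCx P M).ExactAt i := by
  intro k
  induction k with
  | zero =>
    intro M hM
    refine h M (le_bot_iff.1 ?_)
    rw [pow_zero, Ideal.one_eq_top, Submodule.top_smul] at hM
    exact hM ▸ le_top
  | succ k ih =>
    intro M hM
    let N : Submodule R M := J • ⊤
    let S : ShortComplex (ModuleCat.{u} R) :=
      ShortComplex.mk (ModuleCat.ofHom N.subtype : ModuleCat.of R N ⟶ M)
        (ModuleCat.ofHom N.mkQ : M ⟶ ModuleCat.of R (M ⧸ N))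
        (ModuleCat.hom_ext (LinearMap.ext fun x => (Submodule.Quotient.mk_eq_zero N).2 x.2))
    have hS : S.ShortExact :=
      { exact := (ShortComplex.moduleCat_exact_iff_range_eq_ker S).2
          (by simp [S])
        mono_f := (ModuleCat.mono_iff_injective _).2 N.injective_subtype
        epi_g := (ModuleCat.epi_iff_surjective _).2 N.mkQ_surjective }
    refine exactAt_tensor_ext₂ P hPf hS i (ih _ (le_bot_iff.1 fun x hx => ?_)) (h _ (le_bot_iff.1 fun x hx => ?_))
    · have h1 := Submodule.mem_map_of_mem (f := N.subtype) hx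
      rw [Submodule.map_smul'', Submodule.map_subtype_top, ← Submodule.mul_smul, ← pow_succ, hM] at h1
      exact Subtype.ext ((Submodule.mem_bot R).1 h1)
    · obtain ⟨x, rfl⟩ := N.mkQ_surjective x
      refine (Submodule.Quotient.mk_eq_zero N).2 ?_
      have h1 : N.mkQ x ∈ (J • ⊤ : Submodule R M).map N.mkQ := by
        rw [Submodule.map_smul'', Submodule.map_top, Submodule.range_mkQ]; exact hx
      rwa [Submodule.mkQ_map_self, Submodule.mem_bot, Submodule.mkQ_apply, Submodule.Quotient.mk_eq_zero] at h1

/-- The cokernel-free test: exactness against modules killed by `J` gives exactness against all. -/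
theorem exactAt_of_killed (J : Ideal R) (hJ : IsNilpotent J) (P : DRing.Cx R) (hPf : DRing.TermwiseFlat P) (i : ℤ)
    (h : ∀ N : ModuleCat.{u} R, J • (⊤ : Submodule R N) = ⊥ → (DRing.tensorCx P N).ExactAt i)
    (M : ModuleCat.{u} R) : (DRing.tensorCx P M).ExactAt i := by
  obtain ⟨n, hn⟩ := hJ
  exact exactAt_of_pow_killed J P hPf i h n M (by rw [hn, Ideal.zero_eq_bot, Submodule.bot_smul])

variable {R' : Type u} [CommRing R'] (φ : R' →+* R)

lemma exists_restrict_of_killed (hφ : Function.Surjective φ) (N : ModuleCat.{u} R')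
    (hN : RingHom.ker φ • (⊤ : Submodule R' N) = ⊥) :
    ∃ M : ModuleCat.{u} R, Nonempty ((ModuleCat.restrictScalars φ).obj M ≅ N) := by
  have ht : ∀ a, φ a = 0 → ∀ x : N, a • x = 0 := fun a ha x => by
    have := Submodule.smul_mem_smul (N := (⊤ : Submodule R' N)) (RingHom.mem_ker.2 ha) (Submodule.mem_top (x := x))
    rwa [hN, Submodule.mem_bot] at this
  choose s hs using hφ
  have key : ∀ (a : R') (r : R), φ a = r → ∀ x : N, s r • x = a • x := fun a r h x => by
    rw [← sub_eq_zero, ← sub_smul]
    exact ht _ (by rw [map_sub, hs, h, sub_self]) x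
  let inst : Module R N :=
    { smul := fun r x => s r • x
      one_smul := fun x => (key 1 1 (map_one φ) x).trans (one_smul R' x)
      mul_smul := fun r t x => (key (s r * s t) (r * t) (by rw [map_mul, hs, hs]) x).trans (mul_smul _ _ _)
      smul_zero := fun r => smul_zero _
      smul_add := fun r x y => smul_add _ _ _
      add_smul := fun r t x => (key (s r + s t) (r + t) (by rw [map_add, hs, hs]) x).trans (add_smul _ _ _)
      zero_smul := fun x => (key 0 0 (map_zero φ) x).trans (zero_smul R' x) }
  exact ⟨@ModuleCat.of R _ N _ inst, ⟨LinearEquiv.toModuleIso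
    (X₁ := (ModuleCat.restrictScalars φ).obj (@ModuleCat.of R _ N _ inst))
    { AddEquiv.refl N with map_smul' := fun a x => key a (φ a) rfl x }⟩⟩

variable [∀ A : ModuleCat.{u} R, DRing.HasLTensor R A] [DRing.HasLBaseChange φ]

/-- `ext P` computes the base change and its tensor products. -/
lemma isZero_ltensor_base_iff {P : DRing.Cx R'} (hP : IsKFlatFor (modT R') P) {K : Dual.D R'}
    (e : DRing.toD P ≅ K) (M : ModuleCat.{u} R) (i : ℤ) :
    IsZero ((DerivedCategory.homologyFunctor (ModuleCat.{u} R) i).obj
      ((DRing.LTensor R M).obj ((DRing.LBaseChange φ).obj K))) ↔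
      (DRing.tensorCx P ((ModuleCat.restrictScalars φ).obj M)).ExactAt i :=
  (isZero_ltensor_iff M (isKFlatFor_ext φ hP)
    ((lbaseChangeIso φ hP).symm ≪≫ (DRing.LBaseChange φ).mapIso e) i).trans (exactAt_tensor_ext_iff φ P M i)

end Groth.Agent.DCat
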