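import Mathlib.Algebra.Homology.DerivedCategory.FullyFaithful
import Mathlib.Algebra.Homology.DerivedCategory.HomologySequence
import Mathlib.Algebra.Homology.DerivedCategory.TStructure
import Mathlib.CategoryTheory.Triangulated.TStructure.TruncLTGE

set_option autoImplicit false
set_option backward.isDefEq.respectTransparency false
set_option backward.defeqAttrib.useBackward true

universe w v u

open CategoryTheory CategoryTheory.Limits CategoryTheory.Pretriangulated DerivedCategory

namespace Groth.Agent.DCat

variable {C : Type u} [Category.{v} C] [Abelian C] [HasDerivedCategory.{w} C]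

local notation "t₀" => DerivedCategory.TStructure.t (C := C)

/-- The truncation `τ_{<b} X ⟶ X` is monic on cohomology. -/
lemma mono_homology_truncLTι (X : DerivedCategory C) (b q : ℤ) :
    Mono ((homologyFunctor C q).map (((t₀).truncLTι b).app X)) := by
  by_cases hq : b ≤ q
  · have : ((t₀).truncLT b |>.obj X).IsLE (b - 1) := (t₀).isLE_truncLT_obj _ _ _ (by omega)
    exact ⟨fun g h _ => (isZero_of_isLE _ (b - 1) q (by omega)).eq_of_tgt g h⟩
  · refine (HomologySequence.mono_homologyMap_mor₁_iff _
      ((t₀).triangleLTGE_distinguished b X) (q - 1) q (by omega)).2 ?_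
    have : ((t₀).truncGE b |>.obj X).IsGE b := inferInstance
    exact (isZero_of_isGE ((t₀).truncGE b |>.obj X) b (q - 1) (by omega)).eq_of_src _ _

/-- The truncation `X ⟶ τ_{≥b} X` is epic on cohomology. -/
lemma epi_homology_truncGEπ (X : DerivedCategory C) (b q : ℤ) :
    Epi ((homologyFunctor C q).map (((t₀).truncGEπ b).app X)) := by
  by_cases hq : q < b
  · have : ((t₀).truncGE b |>.obj X).IsGE b := inferInstance
    exact ⟨fun g h _ => (isZero_of_isGE ((t₀).truncGE b |>.obj X) b q hq).eq_of_src g h⟩
  · refine (HomologySequence.epi_homologyMap_mor₂_iff _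
      ((t₀).triangleLTGE_distinguished b X) q (q + 1) rfl).2 ?_
    have : ((t₀).truncLT b |>.obj X).IsLE (b - 1) := (t₀).isLE_truncLT_obj _ _ _ (by omega)
    exact (isZero_of_isLE ((t₀).truncLT b |>.obj X) (b - 1) (q + 1) (by omega)).eq_of_tgt _ _

/-- A map of objects concentrated in one degree is zero if it is zero on cohomology. -/
lemma eq_zero_of_homology_map_eq_zero {X Y : DerivedCategory C} (f : X ⟶ Y) (b : ℤ)
    [X.IsGE b] [X.IsLE b] [Y.IsGE b] [Y.IsLE b] (h : (homologyFunctor C b).map f = 0) : f = 0 := by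
  obtain ⟨M, ⟨e⟩⟩ := exists_iso_singleFunctor_obj_of_isGE_of_isLE X b
  obtain ⟨N, ⟨e'⟩⟩ := exists_iso_singleFunctor_obj_of_isGE_of_isLE Y b
  obtain ⟨g, hg⟩ := (singleFunctor C b).map_surjective (e.inv ≫ f ≫ e'.hom)
  have h1 := NatIso.naturality_1 (singleFunctorCompHomologyFunctorIso C b) g
  dsimp at h1
  rw [hg] at h1
  simp only [Functor.map_comp, h, zero_comp, comp_zero] at h1
  rw [← cancel_epi e.inv, ← cancel_mono e'.hom, Category.assoc, ← hg, ← h1, Functor.map_zero,
    comp_zero, zero_comp]

/-- A map of objects `≤ b` which is zero on `H^b` lifts to the truncation `τ_{<b}`. -/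
lemma exists_lift_truncLT {X Y : DerivedCategory C} (f : X ⟶ Y) (b : ℤ) [X.IsLE b] [Y.IsLE b]
    (h : (homologyFunctor C b).map f = 0) :
    ∃ g : X ⟶ (t₀).truncLT b |>.obj Y, f = g ≫ ((t₀).truncLTι b).app Y := by
  have h0 : ((t₀).truncGE b).map f = 0 := by
    refine eq_zero_of_homology_map_eq_zero _ b ?_
    have := epi_homology_truncGEπ X b b
    rw [← cancel_epi ((homologyFunctor C b).map (((t₀).truncGEπ b).app X)), ← Functor.map_comp,
      ← ((t₀).truncGEπ b).naturality f, Functor.map_comp, comp_zero]
    dsimp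
    rw [h, zero_comp]
  refine Triangle.coyoneda_exact₂ _ ((t₀).triangleLTGE_distinguished b Y) f ?_
  have := ((t₀).truncGEπ b).naturality f
  dsimp at this
  exact this.trans (by rw [h0, comp_zero])

/-- A chain of `n + 1` maps killing cohomology between objects of amplitude `[a, a+n]` composes to
zero. -/
theorem comp_chain_eq_zero : ∀ (n : ℕ) (a : ℤ) (K : ℕ ⥤ DerivedCategory C),
    (∀ i : ℕ, i ≤ n + 1 → (K.obj i).IsGE a) → (∀ i : ℕ, i ≤ n + 1 → (K.obj i).IsLE (a + n)) →
    (∀ i : ℕ, i ≤ n → ∀ q : ℤ,
      (homologyFunctor C q).map (K.map (homOfLE (Nat.le_succ i))) = 0) →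
    K.map (homOfLE (Nat.zero_le (n + 1))) = 0 := by
  intro n
  induction n with
  | zero =>
    intro a K hGE hLE hz
    have := hGE 0 (by omega)
    have := hGE 1 (by omega)
    have : (K.obj 0).IsLE a := by simpa using hLE 0 (by omega)
    have : (K.obj 1).IsLE a := by simpa using hLE 1 (by omega)
    exact eq_zero_of_homology_map_eq_zero _ a (hz 0 le_rfl a)
  | succ n ih =>
    intro a K hGE hLE hz
    let succF : ℕ ⥤ ℕ := (show Monotone Nat.succ from fun _ _ h => Nat.succ_le_succ h).functor
    let b : ℤ := a + (n + 1 : ℕ)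
    have hK' := ih a (succF ⋙ K ⋙ (t₀).truncLT b) (fun i hi => by
        have := hGE (i + 1) (by omega)
        exact (inferInstance : (((t₀).truncLT b).obj (K.obj (i + 1))).IsGE a))
      (fun i hi => by
        exact (t₀).isLE_truncLT_obj _ _ _ (by omega))
      (fun i hi q => by
        have := mono_homology_truncLTι (K.obj (i + 1 + 1)) b q
        rw [← cancel_mono ((homologyFunctor C q).map (((t₀).truncLTι b).app (K.obj (i + 1 + 1)))),
          zero_comp, ← Functor.map_comp]
        refine (congrArg _ (((t₀).truncLTι b).naturality _)).trans ?_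
        rw [Functor.map_comp]
        refine (congrArg _ (hz (i + 1) (by omega) q)).trans comp_zero)
    have := hLE 0 (by omega)
    have := hLE 1 (by omega)
    obtain ⟨g, hg⟩ := exists_lift_truncLT (K.map (homOfLE (Nat.le_succ 0))) b (hz 0 (by omega) b)
    rw [show homOfLE (Nat.zero_le (n + 1 + 1)) = homOfLE (Nat.le_succ 0) ≫
      succF.map (homOfLE (Nat.zero_le (n + 1))) from rfl, Functor.map_comp, hg, Category.assoc]
    have nat := ((t₀).truncLTι b).naturality (K.map (succF.map (homOfLE (Nat.zero_le (n + 1)))))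
    dsimp at nat hK'
    erw [← nat, hK', zero_comp, comp_zero]

end Groth.Agent.DCat
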