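import Groth.Agent.DCat.PerfLocal
import Groth.Agent.Coherent.FiniteType

/-! Maps out of finite locally free modules lift locally along epimorphisms. -/

set_option autoImplicit false
set_option backward.isDefEq.respectTransparency false
set_option backward.defeqAttrib.useBackward true
set_option linter.style.haveILetI false

universe u

open CategoryTheory CategoryTheory.Limits AlgebraicGeometry Opposite TopologicalSpace
open Groth.Agent.Coherent

namespace Groth.Agent.DCat.LocLift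

variable {X W W' : Scheme.{u}}

/-- `φ` lifts along `f` on `W`. -/
def LiftAt (k : W ⟶ X) [IsOpenImmersion k] {P M N : X.Modules} (φ : P ⟶ N) (f : M ⟶ N) : Prop :=
  ∃ ψ : (Scheme.Modules.restrictFunctor k).obj P ⟶ (Scheme.Modules.restrictFunctor k).obj M,
    ψ ≫ (Scheme.Modules.restrictFunctor k).map f = (Scheme.Modules.restrictFunctor k).map φ

lemma LiftAt.congr {k k' : W ⟶ X} [IsOpenImmersion k] [IsOpenImmersion k'] (e : k = k') {P M N : X.Modules}
    {φ : P ⟶ N} {f : M ⟶ N} (h : LiftAt k φ f) : LiftAt k' φ f := by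
  subst e
  exact h

lemma LiftAt.comp {k : W ⟶ X} [IsOpenImmersion k] {P M N : X.Modules} {φ : P ⟶ N} {f : M ⟶ N}
    (h : LiftAt k φ f) (g : W' ⟶ W) [IsOpenImmersion g] : LiftAt (g ≫ k) φ f := by
  obtain ⟨ψ, hψ⟩ := h
  let e := Scheme.Modules.restrictFunctorComp g k
  refine ⟨e.hom.app P ≫ (Scheme.Modules.restrictFunctor g).map ψ ≫ e.inv.app M, ?_⟩
  rw [Category.assoc, Category.assoc, ← e.inv.naturality, Functor.comp_map, ← Functor.map_comp_assoc, hψ,
    ← Functor.comp_map, e.inv.naturality, Iso.hom_inv_id_app_assoc]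

lemma LiftAt.of_range_le {k : W ⟶ X} [IsOpenImmersion k] {P M N : X.Modules} {φ : P ⟶ N} {f : M ⟶ N}
    (h : LiftAt k φ f) (k' : W' ⟶ X) [IsOpenImmersion k'] (hle : Set.range k' ⊆ Set.range k) : LiftAt k' φ f := by
  haveI : IsOpenImmersion (IsOpenImmersion.lift k k' hle) :=
    haveI : IsOpenImmersion (IsOpenImmersion.lift k k' hle ≫ k) := by rwa [IsOpenImmersion.lift_fac]
    IsOpenImmersion.of_comp _ k
  exact (h.comp (IsOpenImmersion.lift k k' hle)).congr (IsOpenImmersion.lift_fac k k' hle)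

lemma liftAt_of_iso {k : W ⟶ X} [IsOpenImmersion k] {P P' M N : X.Modules} (e : P ≅ P') {φ : P ⟶ N} {f : M ⟶ N}
    (h : LiftAt k (e.inv ≫ φ) f) : LiftAt k φ f := by
  obtain ⟨ψ, hψ⟩ := h
  exact ⟨(Scheme.Modules.restrictFunctor k).map e.hom ≫ ψ, by
    rw [Category.assoc, hψ, ← Functor.map_comp, Iso.hom_inv_id_assoc]⟩

lemma structure_hom_ext {M : X.Modules} (a b : Coh.structureModule X ⟶ M) (h : unitVal a ⊤ = unitVal b ⊤) :
    a = b := by
  refine Scheme.Modules.hom_ext _ _ fun V => ?_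
  ext r
  refine (app_unit a r).trans (Eq.trans ?_ (app_unit b r).symm)
  rw [← resM_unitVal a (le_top : V ≤ ⊤), ← resM_unitVal b (le_top : V ≤ ⊤), h]

theorem exists_liftAt_structure {M N : X.Modules} (φ : Coh.structureModule X ⟶ N) (f : M ⟶ N) [Epi f] (x : X) :
    ∃ V : X.Opens, x ∈ V ∧ LiftAt V.ι φ f := by
  obtain ⟨V, hV, hxV, b, hb⟩ := exists_lift_of_epi f ⊤ (unitVal φ ⊤) x trivial
  have hle : V.ι ''ᵁ ⊤ ≤ V := by simp [Scheme.Opens.ι_image_top]
  let b' : Γ((Scheme.Modules.restrictFunctor V.ι).obj M, ⊤) := (M.restrictAppIso V.ι ⊤).inv (resM M hle b)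
  let u : (Scheme.Modules.restrictFunctor V.ι).obj (Coh.structureModule X) ≅ Coh.structureModule V :=
    Scheme.Modules.restrictUnitIso V.ι
  refine ⟨V, hxV, u.hom ≫ unitDesc _ b', ?_⟩
  rw [Category.assoc, ← Iso.eq_inv_comp]
  refine structure_hom_ext _ _ ?_
  have h1 : unitVal (unitDesc ((Scheme.Modules.restrictFunctor V.ι).obj M) b' ≫
      (Scheme.Modules.restrictFunctor V.ι).map f) ⊤ = ((Scheme.Modules.restrictFunctor V.ι).map f).app ⊤ b' := by
    refine congrArg (((Scheme.Modules.restrictFunctor V.ι).map f).app ⊤) ?_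
    exact (unitVal_unitDesc _ b' ⊤).trans (by simp [resM])
  have h2 : unitVal (u.inv ≫ (Scheme.Modules.restrictFunctor V.ι).map φ) ⊤ =
      (show Γ((Scheme.Modules.restrictFunctor V.ι).obj N, ⊤) from φ.app (V.ι ''ᵁ ⊤) (1 : Γ(X, V.ι ''ᵁ ⊤))) := by
    refine congrArg (φ.app (V.ι ''ᵁ ⊤)) ?_
    exact map_one (V.ι.appIso ⊤).inv.hom
  refine h1.trans (Eq.trans ?_ h2.symm)
  change f.app (V.ι ''ᵁ ⊤) (resM M hle b) = unitVal φ (V.ι ''ᵁ ⊤)
  rw [app_resM, hb, resM_resM, resM_unitVal]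

theorem exists_liftAt_sigma {n : ℕ} {M N : X.Modules} (φ : FlatMod.freeMod X n ⟶ N) (f : M ⟶ N) [Epi f] (x : X) :
    ∃ V : X.Opens, x ∈ V ∧ LiftAt V.ι φ f := by
  choose V hV hL using fun i : Fin n => exists_liftAt_structure (Sigma.ι (fun _ => Coh.structureModule X) i ≫ φ) f x
  let V₀ : X.Opens := Finset.univ.inf V
  have hx : x ∈ V₀ := by
    have h : ∀ s : Finset (Fin n), x ∈ s.inf V := fun s => by
      induction s using Finset.induction with
      | empty => simp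
      | insert a s _ ih => rw [Finset.inf_insert]; exact ⟨hV a, ih⟩
    exact h _
  have hi : ∀ i, LiftAt V₀.ι (Sigma.ι (fun _ => Coh.structureModule X) i ≫ φ) f := fun i =>
    (hL i).of_range_le _ (by
      rw [Scheme.Opens.range_ι, Scheme.Opens.range_ι]
      exact (Finset.inf_le (f := V) (Finset.mem_univ i) : V₀ ≤ V i))
  choose ψ hψ using hi
  let F := Scheme.Modules.restrictFunctor V₀.ι
  let c := isColimitOfPreserves F (coproductIsCoproduct fun _ : Fin n => Coh.structureModule X)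
  refine ⟨V₀, hx, c.desc ⟨_, Discrete.natTrans fun i => ψ i.as⟩, c.hom_ext fun i => ?_⟩
  rw [c.fac_assoc]
  exact (hψ i.as).trans (F.map_comp _ _)

/-- Maps from finite locally free modules lift locally along epimorphisms. -/
theorem exists_liftAt {P M N : X.Modules} (hP : FlatMod.IsFinLocFree P) (φ : P ⟶ N) (f : M ⟶ N) [Epi f] (x : X) :
    ∃ V : X.Opens, x ∈ V ∧ LiftAt V.ι φ f := by
  obtain ⟨U, n, hx, ⟨e⟩⟩ := hP x
  let F := Scheme.Modules.restrictFunctor U.ι
  haveI : Epi (F.map f) := inferInstance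
  obtain ⟨V, hxV, hL⟩ := exists_liftAt_sigma (e.inv ≫ F.map φ) (F.map f) ⟨x, hx⟩
  obtain ⟨ψ, hψ⟩ := liftAt_of_iso e hL
  let r := Scheme.Modules.restrictFunctorComp V.ι U.ι
  have h' : LiftAt (V.ι ≫ U.ι) φ f := by
    refine ⟨r.hom.app P ≫ ψ ≫ r.inv.app M, ?_⟩
    rw [Category.assoc, Category.assoc, ← r.inv.naturality]
    refine Eq.trans ?_ ((Category.assoc _ _ _).symm.trans (congrArg (· ≫ r.inv.app N) (r.hom.naturality φ).symm) |>.trans ?_)
    · exact congrArg (r.hom.app P ≫ ·) ((Category.assoc _ _ _).symm.trans (congrArg (· ≫ r.inv.app N) hψ))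
    · rw [Category.assoc, Iso.hom_inv_id_app, Category.comp_id]
  refine ⟨U.ι ''ᵁ V, ⟨⟨x, hx⟩, hxV, rfl⟩, h'.of_range_le _ ?_⟩
  rw [Scheme.Opens.range_ι]
  rintro _ ⟨y, hy, rfl⟩
  exact ⟨⟨y, hy⟩, rfl⟩

end Groth.Agent.DCat.LocLift
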