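import Mathlib.Algebra.Homology.Embedding.CochainComplex
import Mathlib.Algebra.Homology.Embedding.StupidTrunc
import Mathlib.Algebra.Homology.Embedding.ExtendHomology
import Mathlib.Algebra.Homology.Refinements
import Mathlib.Algebra.Homology.QuasiIso
import Mathlib.CategoryTheory.Abelian.Basic

/-! Resolutions of bounded above complexes by a class of objects with enough quotients. -/

set_option autoImplicit false
set_option backward.isDefEq.respectTransparency false
set_option backward.defeqAttrib.useBackward true

universe v u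

open CategoryTheory CategoryTheory.Limits

namespace Groth.Agent.DCat.LeftRes

variable {A : Type u} [Category.{v} A] [Abelian A]

/-- A partial resolution at level `k` of a chain complex `L`: the term, the map to `L`, and the
cycles of the term. -/
structure Stage (P : A → Prop) (L : ChainComplex A ℕ) (k : ℕ) where
  X : A
  prop : P X
  α : X ⟶ L.X k
  epi : Epi α
  Zc : A
  i : Zc ⟶ X
  lift : ∀ ⦃T : A⦄ (x : T ⟶ L.X k), (∀ j, x ≫ L.d k j = 0) →
    ∃ (T' : A) (π : T' ⟶ T) (_ : Epi π) (z : T' ⟶ Zc), π ≫ x = z ≫ i ≫ α

variable {P : A → Prop} (hP : ∀ X : A, ∃ (Y : A) (π : Y ⟶ X), P Y ∧ Epi π) (L : ChainComplex A ℕ)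

noncomputable def stage₀ : Stage P L 0 where
  X := (hP (L.X 0)).choose
  prop := (hP (L.X 0)).choose_spec.choose_spec.1
  α := (hP (L.X 0)).choose_spec.choose
  epi := (hP (L.X 0)).choose_spec.choose_spec.2
  Zc := (hP (L.X 0)).choose
  i := 𝟙 _
  lift T x _ := by
    haveI := (hP (L.X 0)).choose_spec.choose_spec.2
    obtain ⟨T', π, hπ, z, hz⟩ :=
      surjective_up_to_refinements_of_epi (hP (L.X 0)).choose_spec.choose x
    exact ⟨T', π, hπ, z, by rw [hz, Category.id_comp]⟩

variable {L} {k : ℕ} (S : Stage P L k)

/-- the fibre product to be covered at the next stage -/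
noncomputable abbrev F : A := pullback (S.i ≫ S.α) (L.d (k + 1) k)

noncomputable abbrev cov : A := (hP (F S)).choose
noncomputable abbrev covπ : cov hP S ⟶ F S := (hP (F S)).choose_spec.choose

instance : Epi (covπ hP S) := (hP (F S)).choose_spec.choose_spec.2

lemma exists_mem_F {T : A} (y : T ⟶ L.X (k + 1)) :
    ∃ (T' : A) (π : T' ⟶ T) (_ : Epi π) (p : T' ⟶ cov hP S),
      p ≫ covπ hP S ≫ pullback.snd _ _ = π ≫ y := by
  obtain ⟨T', π, hπ, z, hz⟩ := S.lift (y ≫ L.d (k + 1) k) (fun j => by simp)
  let f : T' ⟶ F S := pullback.lift z (π ≫ y) (by rw [← hz, Category.assoc])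
  obtain ⟨T'', π', hπ', p, hp⟩ := surjective_up_to_refinements_of_epi (covπ hP S) f
  exact ⟨T'', π' ≫ π, inferInstance, p, by
    rw [← reassoc_of% hp, pullback.lift_snd, Category.assoc]⟩

noncomputable def next : Stage P L (k + 1) where
  X := cov hP S
  prop := (hP (F S)).choose_spec.choose_spec.1
  α := covπ hP S ≫ pullback.snd _ _
  epi := by
    rw [epi_iff_surjective_up_to_refinements]
    intro T y
    obtain ⟨T', π, hπ, p, hp⟩ := exists_mem_F hP S y
    exact ⟨T', π, hπ, p, hp.symm⟩
  Zc := kernel (covπ hP S ≫ pullback.fst _ _)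
  i := kernel.ι _
  lift T x hx := by
    let f : T ⟶ F S := pullback.lift 0 x (by rw [zero_comp, hx k])
    obtain ⟨T', π, hπ, p, hp⟩ := surjective_up_to_refinements_of_epi (covπ hP S) f
    refine ⟨T', π, hπ, kernel.lift _ p ?_, ?_⟩
    · rw [← reassoc_of% hp, pullback.lift_fst, comp_zero]
    · rw [kernel.lift_ι_assoc, ← reassoc_of% hp, pullback.lift_snd]

variable (L) in
noncomputable def stages : ∀ k, Stage P L k
  | 0 => stage₀ hP L
  | k + 1 => next hP (stages k)

variable (L) in
noncomputable def dX (k : ℕ) : (stages hP L (k + 1)).X ⟶ (stages hP L k).X :=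
  covπ hP (stages hP L k) ≫ pullback.fst _ _ ≫ (stages hP L k).i

lemma dX_comp (k : ℕ) : dX hP L (k + 1) ≫ dX hP L k = 0 := by
  have h : (stages hP L (k + 1)).i ≫ covπ hP (stages hP L k) ≫
      pullback.fst ((stages hP L k).i ≫ (stages hP L k).α) (L.d (k + 1) k) = 0 :=
    kernel.condition _
  show (covπ hP (stages hP L (k + 1)) ≫ pullback.fst _ _ ≫ (stages hP L (k + 1)).i) ≫
    covπ hP (stages hP L k) ≫ pullback.fst _ _ ≫ (stages hP L k).i = 0
  rw [Category.assoc, Category.assoc, reassoc_of% h, zero_comp, comp_zero, comp_zero]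

variable (L) in
/-- the resolution -/
noncomputable def res : ChainComplex A ℕ :=
  ChainComplex.of (fun k => (stages hP L k).X) (dX hP L) (dX_comp hP (L := L))

lemma res_d (k : ℕ) : (res hP L).d (k + 1) k = dX hP L k := by
  simp [res, ChainComplex.of, ChainComplex.of.d]

variable (L) in
noncomputable def resα : res hP L ⟶ L where
  f k := (stages hP L k).α
  comm' := by
    rintro i j (rfl : j + 1 = i)
    show (stages hP L (j + 1)).α ≫ L.d (j + 1) j = (res hP L).d (j + 1) j ≫ (stages hP L j).α
    rw [res_d]
    show (covπ hP (stages hP L j) ≫ pullback.snd _ _) ≫ _ = (covπ hP (stages hP L j) ≫ pullback.fst _ _ ≫ _) ≫ _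
    simp only [Category.assoc]
    rw [← pullback.condition]

lemma quasiIso_resα : QuasiIso (resα hP L) := by
  refine ⟨fun k => ?_⟩
  rw [quasiIsoAt_iff_isIso_homologyMap]
  have hm : Mono (HomologicalComplex.homologyMap (resα hP L) k) := by
    rw [HomologicalComplex.mono_homologyMap_iff_up_to_refinements _ (k + 1) k
      ((ComplexShape.down ℕ).next k) (by simp) rfl]
    intro T x hx y hy
    -- `x` factors through the cycles of the stage
    obtain ⟨z, hz⟩ : ∃ z, z ≫ (stages hP L k).i = x := by
      cases k with
      | zero => exact ⟨x, Category.comp_id x⟩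
      | succ m =>
        rw [show (ComplexShape.down ℕ).next (m + 1) = m by simp, res_d] at hx
        have hmono : Mono (stages hP L m).i := by
          cases m with
          | zero => exact inferInstanceAs (Mono (𝟙 _))
          | succ m => exact inferInstanceAs (Mono (kernel.ι _))
        refine ⟨kernel.lift _ x ?_, kernel.lift_ι _ _ _⟩
        rw [← cancel_mono (stages hP L m).i, zero_comp, Category.assoc, Category.assoc]
        exact hx
    let f : T ⟶ F (stages hP L k) := pullback.lift z y (by
      rw [← Category.assoc, hz]; exact hy)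
    obtain ⟨T', π, hπ, p, hp⟩ := surjective_up_to_refinements_of_epi (covπ hP (stages hP L k)) f
    refine ⟨T', π, hπ, p, ?_⟩
    rw [res_d, dX, ← reassoc_of% hp, pullback.lift_fst_assoc, hz]
  have he : Epi (HomologicalComplex.homologyMap (resα hP L) k) := by
    rw [HomologicalComplex.epi_homologyMap_iff_up_to_refinements _ (k + 1) k
      ((ComplexShape.down ℕ).next k) (by simp) rfl]
    intro T y hy
    obtain ⟨T', π, hπ, z, hz⟩ := (stages hP L k).lift y (fun j => by
      by_cases hjk : (ComplexShape.down ℕ).Rel k j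
      · rw [← (ComplexShape.down ℕ).next_eq' hjk]; exact hy
      · rw [L.shape k j hjk, comp_zero])
    refine ⟨T', π, hπ, z ≫ (stages hP L k).i, ?_, 0, ?_⟩
    · cases k with
      | zero => exact (congrArg (_ ≫ ·) ((res hP L).shape _ _ (by simp))).trans comp_zero
      | succ m =>
        rw [show (ComplexShape.down ℕ).next (m + 1) = m by simp, res_d, Category.assoc]
        have h : (stages hP L (m + 1)).i ≫ covπ hP (stages hP L m) ≫
            pullback.fst ((stages hP L m).i ≫ (stages hP L m).α) (L.d (m + 1) m) = 0 :=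
          kernel.condition _
        rw [dX, reassoc_of% h, zero_comp, comp_zero]
    · rw [zero_comp, add_zero, Category.assoc]
      exact hz
  exact isIso_of_mono_of_epi _

include hP in
theorem exists_chain_resolution (L : ChainComplex A ℕ) :
    ∃ (R : ChainComplex A ℕ) (α : R ⟶ L), (∀ k, P (R.X k)) ∧ (∀ k, Epi (α.f k)) ∧ QuasiIso α :=
  ⟨res hP L, resα hP L, fun k => (stages hP L k).prop, fun k => (stages hP L k).epi, quasiIso_resα hP⟩

/-- transport a complex along isomorphisms of its terms -/
@[simps]
def transport {c : ComplexShape ℤ} (Q : HomologicalComplex A c) (Y : ℤ → A)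
    (e : ∀ n, Y n ≅ Q.X n) : HomologicalComplex A c where
  X := Y
  d i j := (e i).hom ≫ Q.d i j ≫ (e j).inv
  shape i j h := by rw [Q.shape i j h, zero_comp, comp_zero]
  d_comp_d' i j l _ _ := by simp

/-- the isomorphism to the transported complex -/
def transportIso {c : ComplexShape ℤ} (Q : HomologicalComplex A c) (Y : ℤ → A)
    (e : ∀ n, Y n ≅ Q.X n) : transport Q Y e ≅ Q :=
  HomologicalComplex.Hom.isoOfComponents e (fun i j _ => by simp)

/-- a complex supported by an embedding is the extension of its restriction -/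
noncomputable def extendRestrictionIso {ι ι' : Type*} {c : ComplexShape ι} {c' : ComplexShape ι'}
    (e : c.Embedding c') [e.IsRelIff] (K : HomologicalComplex A c') [K.IsStrictlySupported e] :
    (K.restriction e).extend e ≅ K :=
  haveI := Classical.propDecidable
  HomologicalComplex.Hom.isoOfComponents
    (fun i' => if h : ∃ i, e.f i = i' then K.stupidTruncXIso e h.choose_spec
      else IsZero.iso (K.isZero_stupidTrunc_X e i' (by simpa using h))
        (K.isZero_X_of_isStrictlySupported e i' (by simpa using h)))
    (fun i' j' _ => by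
      by_cases hj : ∃ j, e.f j = j'
      · by_cases hi : ∃ i, e.f i = i'
        · rw [dif_pos hi, dif_pos hj,
            (K.restriction e).extend_d_eq e hi.choose_spec hj.choose_spec,
            K.restriction_d_eq e hi.choose_spec hj.choose_spec]
          simp [HomologicalComplex.stupidTruncXIso, HomologicalComplex.restrictionXIso]
        · exact ((K.restriction e).isZero_extend_X e i' (by simpa using hi)).eq_of_src _ _
      · exact (K.isZero_X_of_isStrictlySupported e j' (by simpa using hj)).eq_of_tgt _ _)

theorem exists_resolution (P : A → Prop) (hP0 : ∃ Z : A, IsZero Z ∧ P Z)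
    (hP : ∀ X : A, ∃ (Y : A) (π : Y ⟶ X), P Y ∧ Epi π) (K : CochainComplex A ℤ) (a : ℤ)
    [K.IsStrictlyLE a] :
    ∃ (Q : CochainComplex A ℤ) (α : Q ⟶ K),
      Q.IsStrictlyLE a ∧ (∀ n, P (Q.X n)) ∧ (∀ n, Epi (α.f n)) ∧ QuasiIso α := by
  classical
  obtain ⟨Z, hZ, hPZ⟩ := hP0
  let e := ComplexShape.embeddingUpIntLE a
  obtain ⟨R, α, hR, hα, hq⟩ := exists_chain_resolution hP (K.restriction e)
  have he : ∀ n, n ≤ a → e.f (a - n).toNat = n := fun n hn => by simp [e]; omega
  let Y : ℤ → A := fun n => if n ≤ a then R.X (a - n).toNat else Z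
  let ε : ∀ n, Y n ≅ (R.extend e).X n := fun n =>
    if hn : n ≤ a then eqToIso (if_pos hn) ≪≫ (R.extendXIso e (he n hn)).symm
    else eqToIso (if_neg hn) ≪≫ IsZero.iso hZ (R.isZero_extend_X e n
      ((ComplexShape.notMem_range_embeddingUpIntLE_iff a n).2 (by omega)))
  haveI : ∀ j, Epi (α.f j) := hα
  let β : R.extend e ⟶ K := HomologicalComplex.extendMap α e ≫ (extendRestrictionIso e K).hom
  haveI : QuasiIso (HomologicalComplex.extendMap α e) :=
    (HomologicalComplex.quasiIso_extendMap_iff _ _).2 hq
  refine ⟨transport (R.extend e) Y ε, (transportIso (R.extend e) Y ε).hom ≫ β,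
    CochainComplex.isStrictlyLE_of_iso (transportIso (R.extend e) Y ε).symm a, fun n => ?_, fun n => ?_,
    inferInstance⟩
  · show P (Y n)
    by_cases hn : n ≤ a
    · simp only [Y, if_pos hn]; exact hR _
    · simp only [Y, if_neg hn]; exact hPZ
  · have : Epi (β.f n) := by
      show Epi ((HomologicalComplex.extendMap α e).f n ≫ (extendRestrictionIso e K).hom.f n)
      by_cases hn : n ≤ a
      · rw [HomologicalComplex.extendMap_f α e (he n hn)]
        infer_instance
      · haveI : Epi ((HomologicalComplex.extendMap α e).f n) := by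
          refine ⟨fun g h _ => IsZero.eq_of_src ?_ g h⟩
          exact (K.restriction e).isZero_extend_X e n
            ((ComplexShape.notMem_range_embeddingUpIntLE_iff a n).2 (by omega))
        infer_instance
    show Epi ((ε n).hom ≫ β.f n)
    infer_instance

end Groth.Agent.DCat.LeftRes
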