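import Mathlib.Algebra.Homology.DerivedCategory.KInjective
import Mathlib.Algebra.Homology.DerivedCategory.KProjective
import Mathlib.Algebra.Homology.DerivedCategory.TStructure
import Mathlib.Algebra.Homology.DerivedCategory.DerivabilityStructureInjectives
import Groth.Agent.DCat.LeftRes

/-! Maps between complexes and objects concentrated in one degree; amplitude tests. -/

set_option autoImplicit false
set_option backward.isDefEq.respectTransparency false
set_option backward.defeqAttrib.useBackward true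

universe w v u

open CategoryTheory CategoryTheory.Limits HomologicalComplex DerivedCategory ZeroObject

namespace Groth.Agent.DCat.Amplitude

variable {C : Type u} [Category.{v} C] [Abelian C] [HasDerivedCategory.{w} C]

local notation "Sx" n:max => CochainComplex.singleFunctor C n

lemma Q_map_eq_zero_of_homotopy {K L : CochainComplex C ℤ} {g : K ⟶ L} (H : Homotopy g 0) :
    Q.map g = 0 := by
  have hq := HomotopyCategory.eq_of_homotopy g 0 H
  rw [Functor.map_zero] at hq
  have ng := (quotientCompQhIso C).hom.naturality g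
  dsimp at ng
  rw [hq, Functor.map_zero, zero_comp] at ng
  exact (cancel_epi ((quotientCompQhIso C).hom.app K)).1 (ng.symm.trans comp_zero.symm)

lemma quotient_map_eq_zero {K L : CochainComplex C ℤ}
    (hb : Function.Bijective (Qh.map : ((HomotopyCategory.quotient C _).obj K ⟶
      (HomotopyCategory.quotient C (ComplexShape.up ℤ)).obj L) → _))
    {g : K ⟶ L} (h : Q.map g = 0) : (HomotopyCategory.quotient _ _).map g = 0 := by
  refine hb.1 ?_
  have ng := (quotientCompQhIso C).hom.naturality g
  dsimp at ng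
  rw [h, comp_zero] at ng
  rw [Functor.map_zero, ← cancel_mono ((quotientCompQhIso C).hom.app L), zero_comp]
  exact ng

lemma exists_Q_map_eq {K L : CochainComplex C ℤ}
    (hb : Function.Bijective (Qh.map : ((HomotopyCategory.quotient C _).obj K ⟶
      (HomotopyCategory.quotient C (ComplexShape.up ℤ)).obj L) → _))
    (φ : Q.obj K ⟶ Q.obj L) : ∃ g : K ⟶ L, Q.map g = φ := by
  obtain ⟨f, hf⟩ := hb.2
    ((quotientCompQhIso C).hom.app K ≫ φ ≫ (quotientCompQhIso C).inv.app L)
  obtain ⟨g, rfl⟩ := (HomotopyCategory.quotient _ _).map_surjective f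
  refine ⟨g, ?_⟩
  have h := (quotientCompQhIso C).hom.naturality g
  dsimp at h hf
  rw [hf, Category.assoc, Category.assoc, Iso.inv_hom_id_app, Category.comp_id] at h
  exact ((cancel_epi ((quotientCompQhIso C).hom.app K)).1 h).symm

/-- Maps from an object in degree `i` to a K-injective complex. -/
theorem from_single_iff (J : CochainComplex C ℤ) [J.IsKInjective] (X : C) (i : ℤ) :
    (∀ φ : Q.obj ((Sx i).obj X) ⟶ Q.obj J, φ = 0) ↔
      ∀ f : X ⟶ J.X i, f ≫ J.d i (i + 1) = 0 → ∃ h : X ⟶ J.X (i - 1), f = h ≫ J.d (i - 1) i := by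
  let P := (single C (ComplexShape.up ℤ) i).obj X
  have hb := fun L => CochainComplex.IsKInjective.Qh_map_bijective (C := C) L J
  constructor
  · intro h f hf
    let g : P ⟶ J := mkHomFromSingle f (fun k hk => by
      obtain rfl : i + 1 = k := by simpa using hk
      exact hf)
    have h0 := quotient_map_eq_zero (hb _) (h (Q.map g))
    let H := HomotopyCategory.homotopyOfEq g 0 (h0.trans (Functor.map_zero _ _ _).symm)
    refine ⟨(singleObjXSelf (ComplexShape.up ℤ) i X).inv ≫ H.hom i (i - 1), ?_⟩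
    have e := H.comm i
    rw [dNext_eq _ (show (ComplexShape.up ℤ).Rel i (i + 1) by simp),
      prevD_eq _ (show (ComplexShape.up ℤ).Rel (i - 1) i by simp),
      show P.d i (i + 1) = 0 by simp [P], zero_comp, zero_add, zero_f, add_zero] at e
    rw [Category.assoc, ← e]
    simp [g]
  · intro h φ
    obtain ⟨g, rfl⟩ := exists_Q_map_eq (hb _) φ
    let f : X ⟶ J.X i := (singleObjXSelf (ComplexShape.up ℤ) i X).inv ≫ g.f i
    obtain ⟨k, hk⟩ := h f (by
      simp only [f, Category.assoc]
      rw [g.comm]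
      simp)
    let hmap : ∀ a b, (ComplexShape.up ℤ).Rel b a → (P.X a ⟶ J.X b) := fun a b _ =>
      if c : a = i ∧ b = i - 1 then (P.XIsoOfEq c.1).hom ≫ (singleObjXSelf (ComplexShape.up ℤ) i X).hom ≫ k ≫
        (J.XIsoOfEq c.2.symm).hom else 0
    refine Q_map_eq_zero_of_homotopy ((Homotopy.ofEq ?_).trans (Homotopy.nullHomotopy' hmap))
    apply from_single_hom_ext
    rw [Homotopy.nullHomotopicMap'_f (show (ComplexShape.up ℤ).Rel (i - 1) i by simp)
      (show (ComplexShape.up ℤ).Rel i (i + 1) by simp),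
      show P.d i (i + 1) = 0 by simp [P], zero_comp, zero_add]
    simp only [hmap, and_self, dite_true, XIsoOfEq_rfl, Iso.refl_hom, Category.id_comp, Category.comp_id,
      Category.assoc]
    rw [← hk]
    simp [f]

/-- Maps from a K-projective complex to an object in degree `i`. -/
theorem to_single_iff (P : CochainComplex C ℤ) [P.IsKProjective] (X : C) (i : ℤ) :
    (∀ φ : Q.obj P ⟶ Q.obj ((Sx i).obj X), φ = 0) ↔
      ∀ f : P.X i ⟶ X, P.d (i - 1) i ≫ f = 0 → ∃ h : P.X (i + 1) ⟶ X, f = P.d i (i + 1) ≫ h := by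
  let T := (single C (ComplexShape.up ℤ) i).obj X
  have hb := CochainComplex.IsKProjective.Qh_map_bijective (C := C) P
    ((HomotopyCategory.quotient C (ComplexShape.up ℤ)).obj T)
  constructor
  · intro h f hf
    let g : P ⟶ T := mkHomToSingle f (fun k hk => by
      obtain rfl : i - 1 = k := by simp at hk; omega
      exact hf)
    have h0 := quotient_map_eq_zero hb (h (Q.map g))
    let H := HomotopyCategory.homotopyOfEq g 0 (h0.trans (Functor.map_zero _ _ _).symm)
    refine ⟨H.hom (i + 1) i ≫ (singleObjXSelf (ComplexShape.up ℤ) i X).hom, ?_⟩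
    have e := H.comm i
    rw [dNext_eq _ (show (ComplexShape.up ℤ).Rel i (i + 1) by simp),
      prevD_eq _ (show (ComplexShape.up ℤ).Rel (i - 1) i by simp),
      show T.d (i - 1) i = 0 by simp [T], comp_zero, add_zero, zero_f, add_zero] at e
    rw [← Category.assoc, ← e]
    simp [g]
  · intro h φ
    obtain ⟨g, rfl⟩ := exists_Q_map_eq hb φ
    let f : P.X i ⟶ X := g.f i ≫ (singleObjXSelf (ComplexShape.up ℤ) i X).hom
    obtain ⟨k, hk⟩ := h f (by
      simp only [f]
      rw [← g.comm_assoc, show T.d (i - 1) i = 0 by simp [T]]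
      simp)
    let hmap : ∀ a b, (ComplexShape.up ℤ).Rel b a → (P.X a ⟶ T.X b) := fun a b _ =>
      if c : a = i + 1 ∧ b = i then (P.XIsoOfEq c.1).hom ≫ k ≫ (singleObjXSelf (ComplexShape.up ℤ) i X).inv ≫
        (T.XIsoOfEq c.2.symm).hom else 0
    refine Q_map_eq_zero_of_homotopy ((Homotopy.ofEq ?_).trans (Homotopy.nullHomotopy' hmap))
    apply to_single_hom_ext
    rw [Homotopy.nullHomotopicMap'_f (show (ComplexShape.up ℤ).Rel (i - 1) i by simp)
      (show (ComplexShape.up ℤ).Rel i (i + 1) by simp),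
      show T.d (i - 1) i = 0 by simp [T], comp_zero, add_zero]
    simp only [hmap, and_self, dite_true, XIsoOfEq_rfl, Iso.refl_hom, Category.id_comp, Category.comp_id,
      Category.assoc]
    rw [← reassoc_of% hk]
    simp [f]

/-- Detecting cohomology by maps to injective objects. -/
theorem isZero_homology_of_forall [EnoughInjectives C] (L : CochainComplex C ℤ) (i : ℤ)
    (h : ∀ E : C, Injective E → ∀ φ : Q.obj L ⟶ Q.obj ((Sx i).obj E), φ = 0) : IsZero (L.homology i) := by
  let E := Injective.under (L.homology i)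
  let T := (single C (ComplexShape.up ℤ) i).obj E
  let f : L.X i ⟶ E := L.pOpcycles i ≫ Injective.factorThru (Injective.ι (L.homology i)) (L.homologyι i)
  let g : L ⟶ T := mkHomToSingle f (fun k _ => by simp [f])
  have h0 : homologyMap g i = 0 := by
    have := homologyFunctorFactors_hom_naturality (C := C) g i
    rw [h E inferInstance (Q.map g), Functor.map_zero, zero_comp] at this
    exact (cancel_epi ((homologyFunctorFactors C i).hom.app L)).1 (this.symm.trans comp_zero.symm)
  have h1 : L.homologyι i ≫ opcyclesMap g i = 0 := by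
    rw [← homologyι_naturality, h0, zero_comp]
  have h2 : opcyclesMap g i ≫ (singleObjOpcyclesSelfIso (ComplexShape.up ℤ) i E).inv =
      Injective.factorThru (Injective.ι (L.homology i)) (L.homologyι i) := by
    rw [← cancel_epi (L.pOpcycles i), p_opcyclesMap_assoc]
    simp [g, f, T]
  have h3 : Injective.ι (L.homology i) = 0 := by
    rw [← Injective.comp_factorThru (Injective.ι (L.homology i)) (L.homologyι i), ← h2, reassoc_of% h1,
      zero_comp]
  rw [IsZero.iff_id_eq_zero, ← cancel_mono (Injective.ι (L.homology i)), h3, comp_zero, comp_zero]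

/-- An injective object in degree `i` receives `Hom(Hⁱ, E)`; in particular nothing if `Hⁱ = 0`. -/
noncomputable def singleQIso (i : ℤ) (X : C) :
    Q.obj ((Sx i).obj X) ≅ (singleFunctor C i).obj X := ((singleFunctorIsoCompQ C i).app X).symm

/-- `X[0]⟦i⟧` is `X` in degree `-i`. -/
noncomputable def shiftSingleIso (i : ℤ) (X : C) :
    ((singleFunctor C 0).obj X)⟦i⟧ ≅ Q.obj ((Sx (-i)).obj X) :=
  ((singleFunctors C).shiftIso i (-i) 0 (by omega)).app X ≪≫ (singleQIso (-i) X).symm

/-- Maps to `X[0]⟦i⟧` vanish iff maps to `X` in degree `-i` vanish. -/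
theorem to_shift_iff {K K' : DerivedCategory C} (e : K' ≅ K) (X : C) (i : ℤ) :
    (∀ φ : K ⟶ ((singleFunctor C 0).obj X)⟦i⟧, φ = 0) ↔ ∀ φ : K' ⟶ Q.obj ((Sx (-i)).obj X), φ = 0 := by
  constructor
  · intro h φ
    rw [← cancel_epi e.inv, ← cancel_mono (shiftSingleIso i X).inv, comp_zero, zero_comp]
    exact h _
  · intro h φ
    rw [← cancel_epi e.hom, ← cancel_mono (shiftSingleIso i X).hom, comp_zero, zero_comp]
    exact h _

/-- Maps from `X[0]` to `K⟦i⟧` vanish iff maps from `X` in degree `i` to `K` vanish. -/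
theorem from_shift_iff {K K' : DerivedCategory C} (e : K ≅ K') (X : C) (i : ℤ) :
    (∀ φ : (singleFunctor C 0).obj X ⟶ K⟦i⟧, φ = 0) ↔ ∀ φ : Q.obj ((Sx i).obj X) ⟶ K', φ = 0 := by
  let a : ((singleFunctor C i).obj X)⟦i⟧ ≅ (singleFunctor C 0).obj X :=
    ((singleFunctors C).shiftIso i 0 i (by omega)).app X
  constructor
  · intro h φ
    apply (shiftFunctor (DerivedCategory C) i).map_injective
    rw [Functor.map_zero, ← cancel_epi ((singleQIso i X).inv⟦i⟧'), ← cancel_epi a.inv,
      ← cancel_mono (e.inv⟦i⟧'), comp_zero, comp_zero, zero_comp]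
    exact h _
  · intro h φ
    obtain ⟨ψ, hψ⟩ := (shiftFunctor (DerivedCategory C) i).map_surjective
      ((singleQIso i X).hom⟦i⟧' ≫ a.hom ≫ φ ≫ e.hom⟦i⟧')
    rw [h ψ, Functor.map_zero] at hψ
    rw [← cancel_epi a.hom, ← cancel_epi ((singleQIso i X).hom⟦i⟧'), ← cancel_mono (e.hom⟦i⟧'),
      comp_zero, comp_zero, zero_comp]
    simpa only [Category.assoc] using hψ.symm

theorem exists_kInjective_rep [EnoughInjectives C] (K : DerivedCategory C) (a : ℤ) [K.IsGE a] :
    ∃ J : CochainComplex C ℤ, J.IsStrictlyGE a ∧ J.IsKInjective ∧ (∀ n, Injective (J.X n)) ∧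
      Nonempty (Q.obj J ≅ K) := by
  obtain ⟨L, _, ⟨e⟩⟩ := K.exists_iso_Q_obj_of_isGE a
  obtain ⟨J, i, _, hJ, hJa⟩ := CochainComplex.Plus.modelCategoryQuillen.exists_quasiIso_injective L a
  exact ⟨J, hJa, CochainComplex.isKInjective_of_injective J a, hJ, ⟨(asIso (Q.map i)).symm ≪≫ e.symm⟩⟩

theorem exists_kProjective_rep [EnoughProjectives C] (K : DerivedCategory C) (b : ℤ) [K.IsLE b] :
    ∃ P : CochainComplex C ℤ, P.IsStrictlyLE b ∧ P.IsKProjective ∧ (∀ n, Projective (P.X n)) ∧
      Nonempty (Q.obj P ≅ K) := by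
  obtain ⟨L, _, ⟨e⟩⟩ := K.exists_iso_Q_obj_of_isLE b
  obtain ⟨P, α, hPb, hP, -, _⟩ := DCat.LeftRes.exists_resolution (fun X : C => Projective X)
    ⟨0, isZero_zero _, (isZero_zero C).projective⟩
    (fun X => ⟨Projective.over X, Projective.π X, inferInstance, inferInstance⟩) L b
  exact ⟨P, hPb, CochainComplex.isKProjective_of_projective P b, hP, ⟨asIso (Q.map α) ≪≫ e.symm⟩⟩


/-- Maps to an injective object in a degree without cohomology vanish. -/
theorem to_injective_eq_zero (L : CochainComplex C ℤ) (i : ℤ) (hL : IsZero (L.homology i)) (E : C)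
    [Injective E] (φ : Q.obj L ⟶ Q.obj ((Sx i).obj E)) : φ = 0 := by
  let T : CochainComplex C ℤ := (single C (ComplexShape.up ℤ) i).obj E
  have hinj : ∀ n, Injective (T.X n) := fun n => by
    by_cases h : n = i
    · subst h
      exact Injective.of_iso (singleObjXSelf (ComplexShape.up ℤ) n E).symm inferInstance
    · exact (isZero_single_obj_X (ComplexShape.up ℤ) i E n h).injective
  have : T.IsStrictlyGE i := (CochainComplex.isStrictlyGE_iff T i).2 fun n hn =>
    isZero_single_obj_X (ComplexShape.up ℤ) i E n (by omega)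
  have : T.IsKInjective := CochainComplex.isKInjective_of_injective T i
  obtain ⟨g, rfl⟩ := exists_Q_map_eq
    (CochainComplex.IsKInjective.Qh_map_bijective ((HomotopyCategory.quotient C _).obj L) T) φ
  have hex := (L.exactAt_iff' (i := i - 1) (j := i) (k := i + 1) (by simp) (by simp)).1
    ((L.exactAt_iff_isZero_homology i).2 hL)
  have hm : Mono (L.sc' (i - 1) i (i + 1)).fromOpcycles := hex.mono_fromOpcycles
  let f : L.X i ⟶ E := g.f i ≫ (singleObjXSelf (ComplexShape.up ℤ) i E).hom
  have hf : L.d (i - 1) i ≫ f = 0 := by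
    simp only [f]
    rw [← g.comm_assoc, show T.d (i - 1) i = 0 by simp [T]]
    simp
  let k : L.X (i + 1) ⟶ E := Injective.factorThru (ShortComplex.descOpcycles (L.sc' (i - 1) i (i + 1)) f hf)
    (L.sc' (i - 1) i (i + 1)).fromOpcycles
  have hk : f = L.d i (i + 1) ≫ k := by
    rw [show L.d i (i + 1) = (L.sc' (i - 1) i (i + 1)).g from rfl, ← ShortComplex.p_fromOpcycles]
    exact ((Category.assoc _ _ _).trans (by rw [Injective.comp_factorThru, ShortComplex.p_descOpcycles])).symm
  let hmap : ∀ a b, (ComplexShape.up ℤ).Rel b a → (L.X a ⟶ T.X b) := fun a b _ =>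
    if c : a = i + 1 ∧ b = i then (L.XIsoOfEq c.1).hom ≫ k ≫ (singleObjXSelf (ComplexShape.up ℤ) i E).inv ≫
      (T.XIsoOfEq c.2.symm).hom else 0
  refine Q_map_eq_zero_of_homotopy ((Homotopy.ofEq ?_).trans (Homotopy.nullHomotopy' hmap))
  apply to_single_hom_ext
  rw [Homotopy.nullHomotopicMap'_f (show (ComplexShape.up ℤ).Rel (i - 1) i by simp)
    (show (ComplexShape.up ℤ).Rel i (i + 1) by simp),
    show T.d (i - 1) i = 0 by simp [T], comp_zero, add_zero]
  simp only [hmap, and_self, dite_true, XIsoOfEq_rfl, Iso.refl_hom, Category.id_comp, Category.assoc]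
  rw [← reassoc_of% hk]
  simp [f]

/-- A projectivity criterion for opcycles. -/
theorem projective_opcycles (P : CochainComplex C ℤ) [P.IsKProjective] (c : ℤ) [Projective (P.X (c + 1))]
    (h : ∀ X : C, ∀ φ : Q.obj P ⟶ Q.obj ((Sx c).obj X), φ = 0) : Projective (P.opcycles (c + 1)) := by
  refine ⟨fun {E X} g e he => ?_⟩
  let k := Projective.factorThru (P.pOpcycles (c + 1) ≫ g) e
  have hk : k ≫ e = P.pOpcycles (c + 1) ≫ g := Projective.factorThru_comp _ _
  let l : P.X c ⟶ kernel e := kernel.lift e (P.d c (c + 1) ≫ k) (by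
    rw [Category.assoc, hk, d_pOpcycles_assoc, zero_comp])
  obtain ⟨m, hm⟩ := (to_single_iff P (kernel e) c).1 (h _) l (by
    rw [← cancel_mono (kernel.ι e), Category.assoc, kernel.lift_ι, d_comp_d_assoc, zero_comp, zero_comp])
  refine ⟨P.descOpcycles (k - m ≫ kernel.ι e) c (by simp) (by
    rw [Preadditive.comp_sub, ← Category.assoc, ← hm, kernel.lift_ι, sub_self]), ?_⟩
  rw [← cancel_epi (P.pOpcycles (c + 1)), p_descOpcycles_assoc, Preadditive.sub_comp, Category.assoc,
    kernel.condition, comp_zero, sub_zero, hk]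

end Groth.Agent.DCat.Amplitude
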