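import Groth.Agent.DCat.DCompletion
import Groth.Agent.DCat.LTensorModule
import Groth.Agent.DCat.Amplitude
import Groth.Agent.S12898
import Mathlib.Algebra.Homology.DerivedCategory.SingleTriangle
import Mathlib.Algebra.Homology.DerivedCategory.Linear
import Mathlib.Algebra.Category.ModuleCat.ChangeOfRings
import Mathlib.Algebra.Homology.ShortComplex.Linear
import Mathlib.Algebra.Category.Grp.EnoughInjectives

/-! Derived Nakayama for derived complete objects. -/

set_option autoImplicit false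
set_option backward.isDefEq.respectTransparency false
set_option backward.defeqAttrib.useBackward true
set_option linter.style.haveILetI false

universe u

open CategoryTheory CategoryTheory.Limits CategoryTheory.Pretriangulated
attribute [local instance] HasDerivedCategory.standard

namespace Groth.Agent.DCat.DC

variable {A : Type u} [CommRing A]

local notation "S₀" => DerivedCategory.singleFunctor (ModuleCat A) 0

/-- No maps from high shifts of `K` to modules killed by the set `J`. -/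
def NoHom (c : ℤ) (J : Set A) (K : Dual.D A) : Prop :=
  ∀ N : ModuleCat.{u} A, (∀ a ∈ J, ∀ x : N, a • x = 0) →
    ∀ k : ℤ, c < k → ∀ φ : K⟦k⟧ ⟶ (S₀).obj N, φ = 0

lemma eq_zero_add {X Y : Dual.D A} {k m : ℤ} (h : ∀ φ : X⟦k + m⟧ ⟶ Y, φ = 0)
    (φ : (X⟦k⟧)⟦m⟧ ⟶ Y) : φ = 0 := by
  rw [← cancel_epi ((shiftFunctorAdd (Dual.D A) k m).hom.app X), comp_zero]
  exact h _

lemma eq_zero_shift_target {X Y : Dual.D A} {k : ℤ} (h : ∀ φ : X⟦k - 1⟧ ⟶ Y, φ = 0)
    (φ : X⟦k⟧ ⟶ Y⟦(1 : ℤ)⟧) : φ = 0 := by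
  let e := (shiftFunctorAdd' (Dual.D A) (k - 1) 1 k (by omega)).app X
  obtain ⟨ψ, hψ⟩ := (shiftFunctor (Dual.D A) (1 : ℤ)).map_surjective (e.inv ≫ φ)
  rw [h ψ, Functor.map_zero] at hψ
  rw [← cancel_epi e.inv, comp_zero, ← hψ]

section

variable {c : ℤ} {J : Set A} {f : A} {K : Dual.D A} (h : NoHom c (insert f J) K) (N : ModuleCat.{u} A)
  (hN : ∀ a ∈ J, ∀ x : N, a • x = 0)

/-- multiplication by `f` on a module -/
abbrev fN : N ⟶ N := f • 𝟙 N

/-- `0 → N[f] → N → fN → 0` -/
noncomputable abbrev scKer : ShortComplex (ModuleCat.{u} A) :=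
  ShortComplex.mk (kernel.ι (fN (f := f) N)) (Abelian.factorThruImage (fN (f := f) N))
    (by rw [← cancel_mono (Abelian.image.ι (fN (f := f) N)), Category.assoc, Abelian.image.fac,
      kernel.condition, zero_comp])

/-- `0 → fN → N → N/fN → 0` -/
noncomputable abbrev scCoker : ShortComplex (ModuleCat.{u} A) :=
  ShortComplex.mk (Abelian.image.ι (fN (f := f) N)) (cokernel.π (fN (f := f) N)) (kernel.condition _)

lemma shortExact_scKer : (scKer (f := f) N).ShortExact where
  exact := ShortComplex.exact_of_f_is_kernel _ (by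
    refine isKernelOfComp (Abelian.image.ι (fN (f := f) N)) (fN (f := f) N) (kernelIsKernel _) ?_ ?_
    · exact Abelian.image.fac _)

lemma shortExact_scCoker : (scCoker (f := f) N).ShortExact where
  exact := ShortComplex.exact_of_f_is_kernel _ (kernelIsKernel _)

include hN in
lemma killed_ker : ∀ a ∈ insert f J, ∀ x : (kernel (fN (f := f) N) : ModuleCat.{u} A), a • x = 0 := by
  intro a ha x
  have hinj := (ModuleCat.mono_iff_injective (kernel.ι (fN (f := f) N))).1 inferInstance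
  refine hinj ?_
  rw [map_smul, map_zero]
  rcases Set.mem_insert_iff.1 ha with rfl | ha
  · exact congr($(kernel.condition (fN (f := a) N)) x)
  · exact hN a ha _

include hN in
lemma killed_coker : ∀ a ∈ insert f J, ∀ x : (cokernel (fN (f := f) N) : ModuleCat.{u} A), a • x = 0 := by
  intro a ha x
  obtain ⟨x, rfl⟩ := (ModuleCat.epi_iff_surjective (cokernel.π (fN (f := f) N))).1 inferInstance x
  rw [← map_smul]
  rcases Set.mem_insert_iff.1 ha with rfl | ha
  · exact congr($(cokernel.condition (fN (f := a) N)) x)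
  · rw [hN a ha, map_zero]

lemma smul_eq_comp {X : Dual.D A} (φ : X ⟶ (S₀).obj N) :
    f • φ = φ ≫ (S₀).map (Abelian.factorThruImage (fN (f := f) N)) ≫
      (S₀).map (Abelian.image.ι (fN (f := f) N)) := by
  rw [← Functor.map_comp, Abelian.image.fac, Functor.map_smul, CategoryTheory.Functor.map_id,
    Linear.comp_smul, Category.comp_id]

include h hN in
lemma smul_injective (k : ℤ) (hk : c < k) (φ : K⟦k⟧ ⟶ (S₀).obj N) (hφ : f • φ = 0) : φ = 0 := by
  set ψ := φ ≫ (S₀).map (Abelian.factorThruImage (fN (f := f) N)) with hψdef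
  have hTc := (shortExact_scCoker (f := f) N).singleTriangle_distinguished
  have hψ : ψ = 0 := by
    refine (shiftFunctor (Dual.D A) (1 : ℤ)).map_injective ?_
    obtain ⟨ν, hν⟩ := Triangle.coyoneda_exact₁ _ hTc (ψ⟦(1 : ℤ)⟧') (by
      show ψ⟦(1 : ℤ)⟧' ≫ ((S₀).map (Abelian.image.ι (fN (f := f) N)))⟦(1 : ℤ)⟧' = 0
      rw [← Functor.map_comp, hψdef, Category.assoc, ← smul_eq_comp, hφ, Functor.map_zero])
    rw [hν, eq_zero_add (h _ (killed_coker N hN) (k + 1) (by omega)) ν, zero_comp, Functor.map_zero]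
  obtain ⟨v, rfl⟩ := Triangle.coyoneda_exact₂ _ (shortExact_scKer (f := f) N).singleTriangle_distinguished φ hψ
  have hv : v = 0 := h _ (killed_ker N hN) k hk v
  rw [hv, zero_comp]

include h hN in
lemma smul_surjective (k : ℤ) (hk : c + 1 < k) (θ : K⟦k⟧ ⟶ (S₀).obj N) :
    ∃ θ' : K⟦k⟧ ⟶ (S₀).obj N, f • θ' = θ := by
  obtain ⟨η, hη⟩ := Triangle.coyoneda_exact₂ _ (shortExact_scCoker (f := f) N).singleTriangle_distinguished θ
    (h _ (killed_coker N hN) k (by omega) _)
  obtain ⟨θ', hθ'⟩ := Triangle.coyoneda_exact₃ _ (shortExact_scKer (f := f) N).singleTriangle_distinguished η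
    (eq_zero_shift_target (h _ (killed_ker N hN) (k - 1) (by omega)) _)
  have e1 : η = θ' ≫ (S₀).map (Abelian.factorThruImage (fN (f := f) N)) := hθ'
  refine ⟨θ', ?_⟩
  rw [smul_eq_comp, reassoc_of% e1.symm]
  exact hη.symm

end

/-- The cone of `f` has no maps to modules killed by `J`. -/
theorem NoHom.cone {c : ℤ} {J : Set A} {f : A} {K C : Dual.D A} {v : K ⟶ C} {w : C ⟶ K⟦(1 : ℤ)⟧}
    (hT : Triangle.mk (f • 𝟙 K) v w ∈ distTriang (Dual.D A)) (h : NoHom c (insert f J) K) :
    NoHom c J C := by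
  intro N hN k hk γ
  obtain ⟨m₂, m₃, hT'⟩ : ∃ (m₂ : K⟦k⟧ ⟶ C⟦k⟧) (m₃ : C⟦k⟧ ⟶ (K⟦k⟧)⟦(1 : ℤ)⟧),
      Triangle.mk (k.negOnePow • (f • 𝟙 (K⟦k⟧))) m₂ m₃ ∈ distTriang (Dual.D A) := by
    have e : (f • 𝟙 K : K ⟶ K)⟦k⟧' = f • 𝟙 (K⟦k⟧) := by
      rw [Functor.map_smul, CategoryTheory.Functor.map_id]
    refine ⟨k.negOnePow • v⟦k⟧', k.negOnePow • (w⟦k⟧' ≫ (shiftFunctorComm (Dual.D A) 1 k).hom.app K), ?_⟩
    rw [← e]
    exact Triangle.shift_distinguished _ hT k
  have hγ₂ : m₂ ≫ γ = 0 := by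
    refine smul_injective h N hN k hk (m₂ ≫ γ) ?_
    have e : (k.negOnePow • (f • 𝟙 (K⟦k⟧))) ≫ m₂ = 0 := comp_distTriang_mor_zero₁₂ _ hT'
    rw [Linear.units_smul_comp, smul_eq_zero_iff_eq, Linear.smul_comp, Category.id_comp] at e
    rw [← Linear.smul_comp, e, zero_comp]
  obtain ⟨ρ, hρ⟩ : ∃ ρ : (K⟦k⟧)⟦(1 : ℤ)⟧ ⟶ (S₀).obj N, γ = m₃ ≫ ρ :=
    Triangle.yoneda_exact₃ _ hT' γ hγ₂
  obtain ⟨ρ', hρ'⟩ : ∃ ρ' : (K⟦k⟧)⟦(1 : ℤ)⟧ ⟶ (S₀).obj N, f • ρ' = ρ := by
    obtain ⟨θ', hθ'⟩ := smul_surjective h N hN (k + 1) (by omega)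
      ((shiftFunctorAdd (Dual.D A) k 1).hom.app K ≫ ρ)
    refine ⟨(shiftFunctorAdd (Dual.D A) k 1).inv.app K ≫ θ', ?_⟩
    rw [← Linear.comp_smul, hθ', Iso.inv_hom_id_app_assoc]
  have e : m₃ ≫ (k.negOnePow • (f • 𝟙 (K⟦k⟧)))⟦(1 : ℤ)⟧' = 0 := comp_distTriang_mor_zero₃₁ _ hT'
  rw [Functor.map_units_smul, Functor.map_smul, CategoryTheory.Functor.map_id, Linear.comp_units_smul,
    smul_eq_zero_iff_eq, Linear.comp_smul, Category.comp_id] at e
  rw [hρ, ← hρ', Linear.comp_smul, ← Linear.smul_comp, e, zero_comp]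

lemma isDerivedComplete_cone {I : Ideal A} {K C : Dual.D A} {g : K ⟶ K} {v : K ⟶ C} {w : C ⟶ K⟦(1 : ℤ)⟧}
    (hT : Triangle.mk g v w ∈ distTriang (Dual.D A)) (hK : DRing.IsDerivedComplete I K) :
    DRing.IsDerivedComplete I C :=
  isDerivedComplete_obj₃ hT hK hK

lemma homologyFunctor_map_smul_id (f : A) (K : Dual.D A) (i : ℤ) :
    (DerivedCategory.homologyFunctor (ModuleCat.{u} A) i).map (f • 𝟙 K) =
      f • 𝟙 ((DerivedCategory.homologyFunctor (ModuleCat.{u} A) i).obj K) := by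
  let L := DerivedCategory.Q.objPreimage K
  let e : DerivedCategory.Q.obj L ≅ K := DerivedCategory.Q.objObjPreimageIso K
  let η := (DerivedCategory.homologyFunctorFactors (ModuleCat.{u} A) i).app L
  have h1 : f • 𝟙 K = e.inv ≫ DerivedCategory.Q.map (f • 𝟙 L) ≫ e.hom := by
    rw [Functor.map_smul, CategoryTheory.Functor.map_id, Linear.smul_comp, Category.id_comp, Linear.comp_smul,
      Iso.inv_hom_id]
  have h2 : (DerivedCategory.homologyFunctor (ModuleCat.{u} A) i).map (DerivedCategory.Q.map (f • 𝟙 L)) =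
      f • 𝟙 _ := by
    rw [← cancel_mono η.hom, Linear.smul_comp, Category.id_comp]
    refine ((DerivedCategory.homologyFunctorFactors (ModuleCat.{u} A) i).hom.naturality (f • 𝟙 L)).trans ?_
    show η.hom ≫ HomologicalComplex.homologyMap (f • 𝟙 L) i = _
    have : HomologicalComplex.homologyMap (f • 𝟙 L) i = f • 𝟙 (L.homology i) := by
      have e0 : (HomologicalComplex.shortComplexFunctor (ModuleCat.{u} A) (ComplexShape.up ℤ) i).map (f • 𝟙 L) =
          f • 𝟙 ((HomologicalComplex.shortComplexFunctor (ModuleCat.{u} A) (ComplexShape.up ℤ) i).obj L) := by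
        ext <;> rfl
      show ShortComplex.homologyMap _ = _
      rw [e0, ShortComplex.homologyMap_smul, ShortComplex.homologyMap_id]
      rfl
    rw [this, Linear.comp_smul]
    exact congrArg (f • ·) (Category.comp_id _)
  rw [h1, Functor.map_comp, Functor.map_comp, h2, Linear.smul_comp, Category.id_comp, Linear.comp_smul,
    ← Functor.map_comp, Iso.inv_hom_id, CategoryTheory.Functor.map_id]

/-- Nakayama: vanishing of cohomology above `c`. -/
theorem subsingleton_hd_of_noHom {I : Ideal A} (c : ℤ) : ∀ (l : List A) (K : Dual.D A),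
    (∀ a ∈ l, a ∈ I) → DRing.IsDerivedComplete I K → NoHom c {a | a ∈ l} K →
    ∀ i : ℤ, c < i → Subsingleton (Dual.HD A K i) := by
  intro l
  induction l with
  | nil =>
    intro K _ _ h i hi
    let L := DerivedCategory.Q.objPreimage K
    let e : DerivedCategory.Q.obj L ≅ K := DerivedCategory.Q.objObjPreimageIso K
    have hz : IsZero (L.homology i) := by
      refine Amplitude.isZero_homology_of_forall L i fun E _ => ?_
      have h' : ∀ φ : K ⟶ ((S₀).obj E)⟦-i⟧, φ = 0 := eq_zero_of_shift (h E (by simp) i hi)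
      have := (Amplitude.to_shift_iff e E (-i)).1 h'
      rwa [neg_neg] at this
    exact ModuleCat.subsingleton_of_isZero (hz.of_iso
      ((DerivedCategory.homologyFunctor (ModuleCat.{u} A) i).mapIso e.symm ≪≫
        (DerivedCategory.homologyFunctorFactors (ModuleCat.{u} A) i).app L))
  | cons f l ih =>
    intro K hl hK h i hi
    obtain ⟨C, v, w, hT⟩ := distinguished_cocone_triangle (f • 𝟙 K)
    have hset : {a | a ∈ f :: l} = insert f {a | a ∈ l} := by ext; simp
    rw [hset] at h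
    have hC := ih C (fun a ha => hl a (List.mem_cons_of_mem _ ha)) (isDerivedComplete_cone hT hK)
      (NoHom.cone hT h) i hi
    have hepi : Epi ((DerivedCategory.homologyFunctor (ModuleCat.{u} A) i).map (f • 𝟙 K)) :=
      (DerivedCategory.HomologySequence.epi_homologyMap_mor₁_iff _ hT i).2
        ((@ModuleCat.isZero_of_subsingleton A _ _ hC).eq_of_tgt _ _)
    rw [homologyFunctor_map_smul_id, ModuleCat.epi_iff_surjective] at hepi
    choose g hg using hepi
    refine subsingleton_of_forall_eq 0 fun x => ?_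
    have := eq_zero ((dcf_iff (f := f)).1 (dcf_of_isDerivedComplete hK (hl f List.mem_cons_self)) i)
      (x := fun m => g^[m] x) fun m => by
        show g^[m] x = f • g^[m + 1] x
        rw [Function.iterate_succ_apply']; exact (hg _).symm
    exact congrFun this 0

/-- A module killed by `I` comes from `A/I`. -/
lemma exists_module_quot {I : Ideal A} (N : ModuleCat.{u} A) (hN : ∀ a ∈ I, ∀ x : N, a • x = 0) :
    ∃ N' : ModuleCat.{u} (A ⧸ I), Nonempty ((ModuleCat.restrictScalars (Ideal.Quotient.mk I)).obj N' ≅ N) := by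
  have ht : Module.IsTorsionBySet A N I := fun x a => hN a.1 a.2 x
  let m := ht.module
  exact ⟨@ModuleCat.of (A ⧸ I) _ N _ m, ⟨(LinearEquiv.toModuleIso
    (X₁ := (ModuleCat.restrictScalars (Ideal.Quotient.mk I)).obj (@ModuleCat.of (A ⧸ I) _ N _ m)) (X₂ := N)
    { AddEquiv.refl N with map_smul' := fun _ _ => rfl })⟩⟩

/-- `A/I` as restricted from itself. -/
noncomputable def quotIso (I : Ideal A) :
    (ModuleCat.restrictScalars (Ideal.Quotient.mk I)).obj (ModuleCat.of (A ⧸ I) (A ⧸ I)) ≅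
      ModuleCat.of A (A ⧸ I) :=
  LinearEquiv.toModuleIso
    (X₁ := (ModuleCat.restrictScalars (Ideal.Quotient.mk I)).obj (ModuleCat.of (A ⧸ I) (A ⧸ I)))
    { AddEquiv.refl (A ⧸ I) with
      map_smul' := fun r x => by
        obtain ⟨x, rfl⟩ := Ideal.Quotient.mk_surjective x
        rfl }

open MonoidalCategory in
theorem noHom_of_ltensor (I : Ideal A) [DRing.HasLTensor A (ModuleCat.of A (A ⧸ I))] (c : ℤ) (K : Dual.D A)
    (h : ∀ i : ℤ, c < i →
      Subsingleton (Dual.HD A ((DRing.LTensor A (ModuleCat.of A (A ⧸ I))).obj K) i)) :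
    NoHom c I K := by
  let φ := Ideal.Quotient.mk I
  haveI := hasLBaseChange φ
  obtain ⟨P, cc, hP, -, hc, -⟩ := exists_kflat (DerivedCategory.Q.objPreimage K)
  haveI := hc
  let e : DRing.toD P ≅ K := asIso (DerivedCategory.Q.map cc) ≪≫ DerivedCategory.Q.objObjPreimageIso K
  have hX : ((DRing.LBaseChange φ).obj K).IsLE c := by
    refine (DerivedCategory.isLE_iff _ c).2 fun i hi => ?_
    refine IsZero.of_iso ?_ ((DerivedCategory.homologyFunctor (ModuleCat.{u} (A ⧸ I)) i).mapIso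
      ((DRing.LBaseChange φ).mapIso e.symm ≪≫ lbaseChangeIso φ hP))
    rw [isZero_homology_toD_iff, HomologicalComplex.exactAt_iff]
    refine (ShortComplex.exact_map_iff_of_faithful _ (ModuleCat.restrictScalars φ)).1 ?_
    have h0 := (isZero_ltensor_iff (ModuleCat.of A (A ⧸ I)) hP e i).1 ((subsingleton_HD_iff _ i).1 (h i hi))
    rw [HomologicalComplex.exactAt_iff] at h0
    let ε : tensorRight (ModuleCat.of A (A ⧸ I)) ≅ ModuleCat.extendScalars φ ⋙ ModuleCat.restrictScalars φ :=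
      (tensoringRight (ModuleCat.{u} A)).mapIso (quotIso I).symm ≪≫
        (BraidedCategory.tensorLeftIsoTensorRight _).symm ≪≫ restrictExtIso φ
    exact (ShortComplex.exact_iff_of_iso ((HomologicalComplex.shortComplexFunctor _ _ i).mapIso
      ((NatIso.mapHomologicalComplex ε (ComplexShape.up ℤ)).app P))).1 h0
  intro N hN k hk ψ
  obtain ⟨N', ⟨eN⟩⟩ := exists_module_quot N hN
  obtain ⟨adj⟩ := S12898.result φ
  have h0 : ∀ χ : K ⟶ ((S₀).obj N)⟦-k⟧, χ = 0 := by
    intro χ
    let r := DRing.restrictD φ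
    let eY : r.obj (((DerivedCategory.singleFunctor (ModuleCat.{u} (A ⧸ I)) 0).obj N')⟦-k⟧) ≅
        ((S₀).obj N)⟦-k⟧ :=
      (r.commShiftIso (-k)).app _ ≪≫ (shiftFunctor (Dual.D A) (-k)).mapIso
        (((ModuleCat.restrictScalars.{u} φ).mapDerivedCategorySingleFunctor 0).app N' ≪≫ (S₀).mapIso eN)
    have hGE : (((DerivedCategory.singleFunctor (ModuleCat.{u} (A ⧸ I)) 0).obj N')⟦-k⟧).IsGE k :=
      (DerivedCategory.TStructure.t (C := ModuleCat.{u} (A ⧸ I))).isGE_shift _ 0 (-k) k (by omega)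
    have hz : (adj.homEquiv K _).symm (χ ≫ eY.inv) = 0 :=
      (DerivedCategory.TStructure.t (C := ModuleCat.{u} (A ⧸ I))).zero_of_isLE_of_isGE _ c k hk hX hGE
    rw [← cancel_mono eY.inv, zero_comp, ← (adj.homEquiv K _).apply_symm_apply (χ ≫ eY.inv), hz,
      Adjunction.homEquiv_unit, Functor.map_zero, comp_zero]
  exact eq_zero_of_shift' h0 ψ

end Groth.Agent.DCat.DC
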