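import Groth.Agent.DCat.HtpyLift
import Mathlib.Algebra.Homology.Embedding.StupidTrunc
import Mathlib.Algebra.Homology.DerivedCategory.ShortExact
import Mathlib.CategoryTheory.Triangulated.Triangulated

/-! Pseudo-coherent and perfect objects of `D(O_X)` in triangles and direct summands. -/

set_option autoImplicit false
set_option backward.isDefEq.respectTransparency false
set_option backward.defeqAttrib.useBackward true
set_option linter.style.haveILetI false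

universe u

open CategoryTheory CategoryTheory.Limits AlgebraicGeometry Opposite TopologicalSpace HomologicalComplex
open CategoryTheory.Pretriangulated
open scoped ZeroObject
open Groth.Agent.DCat.PullPerf Groth.Agent.DCat.PerfLocal

attribute [local instance] HasDerivedCategory.standard

namespace Groth.Agent.DCat.PCTriangle

variable {X W W' : Scheme.{u}}

lemma d_eqToHom (E : CochainComplex X.Modules ℤ) {p p' q q' : ℤ} (hp : p' = p) (hq : q' = q) (h : E.X p' = E.X p)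
    (h' : E.X q' = E.X q) : eqToHom h ≫ E.d p q = E.d p' q' ≫ eqToHom h' := by
  subst hp hq
  simp

lemma apx_mono {m m' : ℤ} {K L : DCoh.D X} {f : K ⟶ L} (h : Apx m f) (hm : m ≤ m') : Apx m' f := by
  refine ⟨fun i hi => h.1 i (by omega), ?_⟩
  rcases hm.lt_or_eq with hm | rfl
  · haveI := h.1 m' hm
    infer_instance
  · exact h.2

/-- The part in degrees `≥ m` of a strictly perfect complex. -/
lemma exists_sigma (E : CochainComplex X.Modules ℤ) (hE : DCoh.IsStrictlyPerfect E) (m : ℤ) :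
    ∃ (P : CochainComplex X.Modules ℤ) (ι : P ⟶ E), DCoh.IsStrictlyPerfect P ∧ (∀ n, n < m → IsZero (P.X n)) ∧
      Apx m (DerivedCategory.Q.map ι) := by
  obtain ⟨⟨a, b, hab⟩, hf⟩ := hE
  let e := ComplexShape.embeddingUpIntGE m
  let P := E.stupidTrunc e
  have hlt : ∀ n, n < m → IsZero (P.X n) := fun n hn => isZero_stupidTrunc_X E e n fun j hj => by
    simp [e, ComplexShape.embeddingUpIntGE] at hj
    omega
  let ι₀ : ∀ n, P.X n ⟶ E.X n := fun n => if h : m ≤ n then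
    (E.stupidTruncXIso e (i := (n - m).toNat) (by simp [e, ComplexShape.embeddingUpIntGE]; omega)).hom else 0
  let ι : P ⟶ E :=
    { f := ι₀
      comm' := fun p q hpq => by
        simp only [ComplexShape.up_Rel] at hpq
        by_cases hp : m ≤ p
        · have hq : m ≤ q := by omega
          simp only [ι₀, dif_pos hp, dif_pos hq, P, HomologicalComplex.stupidTrunc]
          rw [(E.restriction e).extend_d_eq e (i := (p - m).toNat) (j := (q - m).toNat)
            (by simp [e, ComplexShape.embeddingUpIntGE]; omega) (by simp [e, ComplexShape.embeddingUpIntGE]; omega)]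
          simp [stupidTruncXIso]
          exact d_eqToHom E (by simp [e, ComplexShape.embeddingUpIntGE]; omega)
            (by simp [e, ComplexShape.embeddingUpIntGE]; omega) _ _
        · exact (hlt p (by omega)).eq_of_src _ _ }
  have hιiso : ∀ n, m ≤ n → IsIso (ι.f n) := fun n hn => by
    simp only [ι, ι₀, dif_pos hn]
    infer_instance
  haveI : Mono ι := mono_of_mono_f _ fun n => by
    by_cases hn : m ≤ n
    · haveI := hιiso n hn
      infer_instance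
    · exact ⟨fun g g' _ => (hlt n (by omega)).eq_of_tgt g g'⟩
  let S := ShortComplex.mk ι (cokernel.π ι) (cokernel.condition ι)
  have hS : S.ShortExact := { exact := ShortComplex.exact_cokernel _ }
  refine ⟨P, ι, ⟨⟨a, b, fun n hn => ?_⟩, fun n => ?_⟩, hlt, ?_⟩
  · by_cases h : m ≤ n
    · haveI := hιiso n h
      exact (hab n hn).of_iso (asIso (ι.f n))
    · exact hlt n (by omega)
  · by_cases h : m ≤ n
    · haveI := hιiso n h
      exact PerfTensor.isFinLocFree_of_iso (asIso (ι.f n)).symm (hf n)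
    · exact PerfTensor.isFinLocFree_of_isZero (hlt n (by omega))
  · haveI : CochainComplex.IsStrictlyLE (cokernel ι) (m - 1) := (CochainComplex.isStrictlyLE_iff _ _).2 fun n hn => by
      haveI : IsIso ((HomologicalComplex.eval _ (ComplexShape.up ℤ) n).map ι) := hιiso n (by omega)
      exact IsZero.of_iso (isZero_cokernel_of_epi ((HomologicalComplex.eval _ (ComplexShape.up ℤ) n).map ι))
        (PreservesCokernel.iso (HomologicalComplex.eval _ (ComplexShape.up ℤ) n) ι)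
    exact (apx_iff_isLE m _ (DerivedCategory.triangleOfSES_distinguished hS)).2
      ((DerivedCategory.isLE_Q_obj_iff _ _).2 inferInstance)

/-- Maps from strictly perfect complexes in degrees `≥ n` to objects in degrees `< n` vanish locally. -/
theorem exists_map_eq_zero {P : CochainComplex X.Modules ℤ} (hP : DCoh.IsStrictlyPerfect P) (n : ℤ)
    (hPn : ∀ i, i < n → IsZero (P.X i)) {C : DCoh.D X} (hC : C.IsLE (n - 1)) (φ : DerivedCategory.Q.obj P ⟶ C)
    (x : X) : ∃ V : X.Opens, x ∈ V ∧ (rd V.ι).map φ = 0 := by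
  obtain ⟨F', γ, s, hs, hfac⟩ := DerivedCategory.left_fac (φ ≫ (DerivedCategory.Q.objObjPreimageIso C).inv)
  haveI := hs
  have hF : ∀ i, n ≤ i → IsZero (F'.homology i) := fun i hi =>
    ((DerivedCategory.isLE_iff _ _).1 hC i (by omega)).of_iso
      (((DerivedCategory.homologyFunctorFactors X.Modules i).app F').symm ≪≫
        (DerivedCategory.homologyFunctor X.Modules i).mapIso
          ((asIso (DerivedCategory.Q.map s)).symm ≪≫ DerivedCategory.Q.objObjPreimageIso C))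
  obtain ⟨V, hx, ⟨H⟩⟩ := HtpyLift.exists_homotopy_zero hP γ n hPn hF x
  refine ⟨V, hx, ?_⟩
  have h₁ := congrArg DerivedCategory.Qh.map (HomotopyCategory.eq_of_homotopy _ _ H)
  rw [Functor.map_zero, Functor.map_zero] at h₁
  have hQ : DerivedCategory.Q.map ((DCoh.restrictCx V).map γ) = 0 := by
    refine (NatIso.naturality_1 (DerivedCategory.quotientCompQhIso _) ((DCoh.restrictCx V).map γ)).symm.trans ?_
    exact (congrArg (fun t => _ ≫ t ≫ _) h₁).trans (by simp)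
  have hz : (rd V.ι).map (DerivedCategory.Q.map γ) = 0 := by
    rw [← cancel_mono ((Scheme.Modules.restrictFunctor V.ι).mapDerivedCategoryFactors.hom.app F'), zero_comp]
    refine ((Scheme.Modules.restrictFunctor V.ι).mapDerivedCategoryFactors.hom.naturality γ).trans ?_
    exact (congrArg (_ ≫ ·) hQ).trans comp_zero
  have : φ = (DerivedCategory.Q.map γ ≫ inv (DerivedCategory.Q.map s)) ≫ (DerivedCategory.Q.objObjPreimageIso C).hom := by
    rw [← hfac, Category.assoc, Iso.inv_hom_id, Category.comp_id]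
  rw [this, Functor.map_comp, Functor.map_comp, hz, zero_comp, zero_comp]

/-- A scheme-wide approximation. -/
def GPsc (m : ℤ) (K : DCoh.D X) : Prop :=
  ∃ (E : CochainComplex X.Modules ℤ) (α : DerivedCategory.Q.obj E ⟶ K), DCoh.IsStrictlyPerfect E ∧ Apx m α

lemma pscAt_of_gpsc {m : ℤ} {k : W ⟶ X} [IsOpenImmersion k] {K : DCoh.D X} (h : GPsc m ((rd k).obj K)) :
    PscAt m k K := h

lemma gpsc_of_pscAt {m : ℤ} {k : W ⟶ X} [IsOpenImmersion k] {K : DCoh.D X} (h : PscAt m k K) :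
    GPsc m ((rd k).obj K) := h

/-- Approximations on a smaller open. -/
lemma pscAt_trans {m : ℤ} {g : W' ⟶ W} [IsOpenImmersion g] {k : W ⟶ X} [IsOpenImmersion k] {K : DCoh.D X}
    (h : PscAt m g ((rd k).obj K)) : PscAt m (g ≫ k) K := by
  obtain ⟨E, α, hE, ha⟩ := h
  obtain ⟨c⟩ := rd_comp g k K
  exact ⟨E, α ≫ c.inv, hE, ha.comp (apx_of_isIso m _)⟩

lemma perfAt_trans {g : W' ⟶ W} [IsOpenImmersion g] {k : W ⟶ X} [IsOpenImmersion k] {K : DCoh.D X}
    (h : PerfAt g ((rd k).obj K)) : PerfAt (g ≫ k) K := by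
  obtain ⟨E, hE, ⟨a⟩⟩ := h
  obtain ⟨c⟩ := rd_comp g k K
  exact ⟨E, hE, ⟨c ≪≫ a⟩⟩

lemma strictlyPerfect_shift {E : CochainComplex X.Modules ℤ} (hE : DCoh.IsStrictlyPerfect E) (n : ℤ) :
    DCoh.IsStrictlyPerfect (E⟦n⟧) := by
  obtain ⟨⟨a, b, hab⟩, hf⟩ := hE
  exact ⟨⟨a - n, b - n, fun i hi => (hab (i + n) (by omega)).of_iso (E.shiftFunctorObjXIso n i (i + n) rfl)⟩,
    fun i => PerfTensor.isFinLocFree_of_iso (E.shiftFunctorObjXIso n i (i + n) rfl).symm (hf (i + n))⟩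

lemma strictlyPerfect_mappingCone {P Q : CochainComplex X.Modules ℤ} (φ : P ⟶ Q)
    (hP : DCoh.IsStrictlyPerfect P) (hQ : DCoh.IsStrictlyPerfect Q) :
    DCoh.IsStrictlyPerfect (CochainComplex.mappingCone φ) := by
  obtain ⟨⟨a, b, hab⟩, hf⟩ := hP
  obtain ⟨⟨a', b', hab'⟩, hf'⟩ := hQ
  let e : ∀ i : ℤ, (CochainComplex.mappingCone φ).X i ≅ P.X (i + 1) ⊞ Q.X i :=
    fun i => homotopyCofiber.XIsoBiprod φ i (i + 1) (by simp)
  refine ⟨⟨min (a - 1) a', max (b - 1) b', fun i hi => IsZero.of_iso ?_ (e i)⟩, fun i => ?_⟩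
  · rw [biprod_isZero_iff]
    exact ⟨hab (i + 1) (by omega), hab' i (by omega)⟩
  · exact PerfTensor.isFinLocFree_of_iso (e i ≪≫ biprod.isoCoprod _ _).symm
      (show FlatMod.IsFinLocFree (P.X (i + 1) ⨿ Q.X i) from
        PerfTensor.isFinLocFree_of_iso (HasColimit.isoOfNatIso (Discrete.natIso fun j => by
            rcases j with ⟨_ | _⟩ <;> exact Iso.refl _))
          (PerfTensor.isFinLocFree_sigma (fun j : WalkingPair => (pair (P.X (i + 1)) (Q.X i)).obj ⟨j⟩)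
            fun j => by cases j; exacts [hf (i + 1), hf' i]))

/-- The cone step, with a morphism of complexes. -/
theorem gpsc_cone_of_chain {T : Triangle (DCoh.D X)} (hT : T ∈ distinguishedTriangles) {m : ℤ}
    {P Q : CochainComplex X.Modules ℤ} (hP : DCoh.IsStrictlyPerfect P) (hQ : DCoh.IsStrictlyPerfect Q)
    {α : DerivedCategory.Q.obj P ⟶ T.obj₁} (hα : Apx (m + 1) α)
    {β : DerivedCategory.Q.obj Q ⟶ T.obj₂} (hβ : Apx m β) (ψ : P ⟶ Q)
    (hψ : DerivedCategory.Q.map ψ ≫ β = α ≫ T.mor₁) : GPsc m T.obj₃ := by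
  obtain ⟨C₂, g₂, w₂, hT₂⟩ := distinguished_cocone_triangle β
  obtain ⟨N, v, w, hN⟩ := distinguished_cocone_triangle (α ≫ T.mor₁)
  obtain ⟨C₁, g₁, w₁, hT₁⟩ := distinguished_cocone_triangle α
  haveI hC₁ : C₁.IsLE m := by
    have := (apx_iff_isLE (m + 1) _ hT₁).1 hα
    rwa [add_sub_cancel_right] at this
  let O₁ := Triangulated.someOctahedron (rfl : DerivedCategory.Q.map ψ ≫ β = _)
    (DerivedCategory.mappingCone_triangle_distinguished ψ) hT₂
    (show Triangle.mk (DerivedCategory.Q.map ψ ≫ β) v w ∈ distinguishedTriangles from by rw [hψ]; exact hN)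
  let O₂ := Triangulated.someOctahedron (rfl : α ≫ T.mor₁ = _) hT₁ hT hN
  have a₁ : Apx m O₁.m₁ := (apx_iff_isLE m _ O₁.mem).2 ((apx_iff_isLE m _ hT₂).1 hβ)
  have a₂ : Apx m O₂.m₃ := (apx_iff_isLE m _ (rot_of_distTriang _ O₂.mem)).2
    (DerivedCategory.TStructure.t.isLE_shift C₁ m 1 (m - 1) (by omega))
  exact ⟨_, O₁.m₁ ≫ O₂.m₃, strictlyPerfect_mappingCone ψ hP hQ, a₁.comp a₂⟩

/-- The cone step, with a morphism in the derived category. -/
theorem exists_cone_of_map {T : Triangle (DCoh.D X)} (hT : T ∈ distinguishedTriangles) {m : ℤ}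
    {P Q : CochainComplex X.Modules ℤ} (hP : DCoh.IsStrictlyPerfect P) (hQ : DCoh.IsStrictlyPerfect Q)
    {α : DerivedCategory.Q.obj P ⟶ T.obj₁} (hα : Apx (m + 1) α)
    {β : DerivedCategory.Q.obj Q ⟶ T.obj₂} (hβ : Apx m β) (ψ : DerivedCategory.Q.obj P ⟶ DerivedCategory.Q.obj Q)
    (hψ : ψ ≫ β = α ≫ T.mor₁) (x : X) : ∃ V : X.Opens, x ∈ V ∧ PscAt m V.ι T.obj₃ := by
  obtain ⟨V, hx, hV⟩ := HtpyLift.exists_map hP ψ x
  haveI := PullPerf.preservesFiniteLimits_restrict V.ι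
  obtain ⟨ψ', hψ'⟩ := hV
  let R := Scheme.Modules.restrictFunctor V.ι
  refine ⟨V, hx, gpsc_cone_of_chain ((rd V.ι).map_distinguished _ hT)
    (strictlyPerfect_restrict V.ι hP) (strictlyPerfect_restrict V.ι hQ)
    (α := R.mapDerivedCategoryFactors.inv.app P ≫ (rd V.ι).map α) ((apx_of_isIso _ _).comp (apx_rd _ hα))
    (β := R.mapDerivedCategoryFactors.inv.app Q ≫ (rd V.ι).map β) ((apx_of_isIso _ _).comp (apx_rd _ hβ)) ψ' ?_⟩
  have h := congrArg (rd V.ι).map hψ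
  rw [Functor.map_comp, Functor.map_comp, hψ'] at h
  rw [← cancel_epi (R.mapDerivedCategoryFactors.hom.app P)]
  simp only [Category.assoc] at h ⊢
  rw [Iso.hom_inv_id_app_assoc]
  exact h

theorem exists_pscAt_cone {T : Triangle (DCoh.D X)} (hT : T ∈ distinguishedTriangles) {m : ℤ}
    (h₁ : GPsc (m + 1) T.obj₁) (h₂ : GPsc m T.obj₂) (x : X) :
    ∃ (W : Scheme.{u}) (k : W ⟶ X) (_ : IsOpenImmersion k), x ∈ k.opensRange ∧ PscAt m k T.obj₃ := by
  obtain ⟨E, α₀, hE, hα₀⟩ := h₁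
  obtain ⟨Q, β, hQ, hβ⟩ := h₂
  obtain ⟨P, ι, hP, hPn, hι⟩ := exists_sigma E hE (m + 1)
  let α := DerivedCategory.Q.map ι ≫ α₀
  have hα : Apx (m + 1) α := hι.comp hα₀
  obtain ⟨C, g, w, hC⟩ := distinguished_cocone_triangle β
  have hCle : C.IsLE (m + 1 - 1) := by
    haveI : C.IsLE (m - 1) := (apx_iff_isLE m _ hC).1 hβ
    exact DerivedCategory.TStructure.t.isLE_of_le C (m - 1) (m + 1 - 1) (by omega)
  obtain ⟨V, hx, hV⟩ := exists_map_eq_zero hP (m + 1) hPn hCle ((α ≫ T.mor₁) ≫ g) x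
  let R := Scheme.Modules.restrictFunctor V.ι
  rw [Functor.map_comp] at hV
  obtain ⟨ψ, hψ⟩ := Triangle.coyoneda_exact₂ _ ((rd V.ι).map_distinguished _ hC) _ hV
  obtain ⟨V', hx', hP'⟩ := exists_cone_of_map ((rd V.ι).map_distinguished _ hT)
    (strictlyPerfect_restrict V.ι hP) (strictlyPerfect_restrict V.ι hQ)
    (α := R.mapDerivedCategoryFactors.inv.app P ≫ (rd V.ι).map α) ((apx_of_isIso _ _).comp (apx_rd _ hα))
    (β := R.mapDerivedCategoryFactors.inv.app Q ≫ (rd V.ι).map β) ((apx_of_isIso _ _).comp (apx_rd _ hβ))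
    (R.mapDerivedCategoryFactors.inv.app P ≫ ψ ≫ R.mapDerivedCategoryFactors.hom.app Q) (by
      simp only [Category.assoc, Iso.hom_inv_id_app_assoc]
      refine congrArg (R.mapDerivedCategoryFactors.inv.app P ≫ ·) ?_
      exact hψ.symm.trans ((rd V.ι).map_comp _ _)) ⟨x, hx⟩
  exact ⟨V', V'.ι ≫ V.ι, inferInstance, ⟨⟨⟨x, hx⟩, hx'⟩, rfl⟩, pscAt_trans hP'⟩

/-- Pseudo-coherence of the third object. -/
theorem psc_cone {T : Triangle (DCoh.D X)} (hT : T ∈ distinguishedTriangles) {m : ℤ}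
    (h₁ : DCoh.IsPseudoCoherentD (m + 1) T.obj₁) (h₂ : DCoh.IsPseudoCoherentD m T.obj₂) :
    DCoh.IsPseudoCoherentD m T.obj₃ := by
  refine (isPseudoCoherentD_iff m _).2 fun x => ?_
  obtain ⟨W₁, k₁, hk₁, hx₁, hP₁⟩ := (isPseudoCoherentD_iff _ _).1 h₁ x
  obtain ⟨W₂, k₂, hk₂, hx₂, hP₂⟩ := (isPseudoCoherentD_iff _ _).1 h₂ x
  let V := k₁.opensRange ⊓ k₂.opensRange
  have r₁ : Set.range V.ι ⊆ Set.range k₁ := by rw [Scheme.Opens.range_ι]; exact fun y hy => hy.1
  have r₂ : Set.range V.ι ⊆ Set.range k₂ := by rw [Scheme.Opens.range_ι]; exact fun y hy => hy.2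
  obtain ⟨W, k, hk, ⟨w, hw⟩, hP⟩ := exists_pscAt_cone ((rd V.ι).map_distinguished _ hT)
    (pscAt_of_range_le hP₁ V.ι r₁) (pscAt_of_range_le hP₂ V.ι r₂) ⟨x, hx₁, hx₂⟩
  exact ⟨W, k ≫ V.ι, inferInstance, ⟨w, congrArg V.ι.base hw⟩, pscAt_trans hP⟩

theorem psc_iso {m : ℤ} {K L : DCoh.D X} (e : K ≅ L) (h : DCoh.IsPseudoCoherentD m K) :
    DCoh.IsPseudoCoherentD m L :=
  (isPseudoCoherentD_iff m L).2 fun x => by
    obtain ⟨W, k, hk, hx, hP⟩ := (isPseudoCoherentD_iff m K).1 h x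
    exact ⟨W, k, hk, hx, hP.of_iso e⟩

theorem psc_mono {m m' : ℤ} (hm : m ≤ m') {K : DCoh.D X} (h : DCoh.IsPseudoCoherentD m K) :
    DCoh.IsPseudoCoherentD m' K :=
  (isPseudoCoherentD_iff m' K).2 fun x => by
    obtain ⟨W, k, hk, hx, E, α, hE, ha⟩ := (isPseudoCoherentD_iff m K).1 h x
    exact ⟨W, k, hk, hx, E, α, hE, apx_mono ha hm⟩

theorem psc_shift {m : ℤ} {K : DCoh.D X} (h : DCoh.IsPseudoCoherentD m K) (n m' : ℤ) (hm : n + m' = m) :
    DCoh.IsPseudoCoherentD m' (K⟦n⟧) :=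
  (isPseudoCoherentD_iff m' _).2 fun x => by
    obtain ⟨W, k, hk, hx, E, α, hE, ha⟩ := (isPseudoCoherentD_iff m K).1 h x
    obtain ⟨C, g, w, hT⟩ := distinguished_cocone_triangle α
    haveI hC : C.IsLE (m - 1) := (apx_iff_isLE m _ hT).1 ha
    have hT' := Triangle.shift_distinguished _ hT n
    have a' := (apx_iff_isLE m' _ hT').2 (DerivedCategory.TStructure.t.isLE_shift C (m - 1) n (m' - 1) (by omega))
    exact ⟨W, k, hk, hx, E⟦n⟧, ((DerivedCategory.Q.commShiftIso n).hom.app E ≫ _) ≫ ((rd k).commShiftIso n).inv.app K,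
      strictlyPerfect_shift hE n, ((apx_of_isIso m' _).comp a').comp (apx_of_isIso m' _)⟩

theorem psc_shift_iff {m : ℤ} {K : DCoh.D X} (n m' : ℤ) (hm : n + m' = m) :
    DCoh.IsPseudoCoherentD m' (K⟦n⟧) ↔ DCoh.IsPseudoCoherentD m K :=
  ⟨fun h => psc_iso ((shiftFunctorCompIsoId (DCoh.D X) n (-n) (by omega)).app K) (psc_shift h (-n) m (by omega)),
    fun h => psc_shift h n m' hm⟩

theorem psc_ext {T : Triangle (DCoh.D X)} (hT : T ∈ distinguishedTriangles) {m : ℤ}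
    (h₁ : DCoh.IsPseudoCoherentD m T.obj₁) (h₃ : DCoh.IsPseudoCoherentD m T.obj₃) :
    DCoh.IsPseudoCoherentD m T.obj₂ :=
  psc_cone (inv_rot_of_distTriang _ hT) (psc_shift h₃ (-1) (m + 1) (by omega)) h₁

theorem psc_fibre {T : Triangle (DCoh.D X)} (hT : T ∈ distinguishedTriangles) {m : ℤ}
    (h₂ : DCoh.IsPseudoCoherentD (m + 1) T.obj₂) (h₃ : DCoh.IsPseudoCoherentD m T.obj₃) :
    DCoh.IsPseudoCoherentD (m + 1) T.obj₁ :=
  (psc_shift_iff 1 m (by omega)).1 (psc_cone (rot_of_distTriang _ hT) h₂ h₃)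

/-- Perfectness of the third object. -/
theorem exists_perfAt_cone {T : Triangle (DCoh.D X)} (hT : T ∈ distinguishedTriangles)
    {P Q : CochainComplex X.Modules ℤ} (hP : DCoh.IsStrictlyPerfect P) (hQ : DCoh.IsStrictlyPerfect Q)
    (e₁ : T.obj₁ ≅ DerivedCategory.Q.obj P) (e₂ : T.obj₂ ≅ DerivedCategory.Q.obj Q) (x : X) :
    ∃ V : X.Opens, x ∈ V ∧ PerfAt V.ι T.obj₃ := by
  obtain ⟨V, hx, hV⟩ := HtpyLift.exists_map hP (e₁.inv ≫ T.mor₁ ≫ e₂.hom) x
  haveI := PullPerf.preservesFiniteLimits_restrict V.ι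
  obtain ⟨ψ, hψ⟩ := hV
  let R := Scheme.Modules.restrictFunctor V.ι
  refine ⟨V, hx, _, strictlyPerfect_mappingCone ψ (strictlyPerfect_restrict V.ι hP) (strictlyPerfect_restrict V.ι hQ),
    ⟨Triangle.π₃.mapIso (isoTriangleOfIso₁₂ _ _ ((rd V.ι).map_distinguished _ hT)
      (DerivedCategory.mappingCone_triangle_distinguished ψ)
      ((rd V.ι).mapIso e₁ ≪≫ R.mapDerivedCategoryFactors.app P)
      ((rd V.ι).mapIso e₂ ≪≫ R.mapDerivedCategoryFactors.app Q) ?_)⟩⟩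
  have h2 : (rd V.ι).map T.mor₁ ≫ (rd V.ι).map e₂.hom = (rd V.ι).map e₁.hom ≫ (rd V.ι).map (e₁.inv ≫ T.mor₁ ≫ e₂.hom) := by
    rw [← Functor.map_comp, ← Functor.map_comp, Iso.hom_inv_id_assoc]
  rw [hψ] at h2
  change (rd V.ι).map T.mor₁ ≫ (rd V.ι).map e₂.hom ≫ R.mapDerivedCategoryFactors.hom.app Q =
    ((rd V.ι).map e₁.hom ≫ R.mapDerivedCategoryFactors.hom.app P) ≫ DerivedCategory.Q.map ψ
  rw [reassoc_of% h2, Iso.inv_hom_id_app]
  simp [Category.assoc, R]

theorem perfect_cone {T : Triangle (DCoh.D X)} (hT : T ∈ distinguishedTriangles)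
    (h₁ : DCoh.IsPerfect T.obj₁) (h₂ : DCoh.IsPerfect T.obj₂) : DCoh.IsPerfect T.obj₃ := by
  refine (isPerfect_iff _).2 fun x => ?_
  obtain ⟨W₁, k₁, hk₁, hx₁, hP₁⟩ := (isPerfect_iff _).1 h₁ x
  obtain ⟨W₂, k₂, hk₂, hx₂, hP₂⟩ := (isPerfect_iff _).1 h₂ x
  let V := k₁.opensRange ⊓ k₂.opensRange
  obtain ⟨P, hP, ⟨e₁⟩⟩ := perfAt_of_range_le hP₁ V.ι (by rw [Scheme.Opens.range_ι]; exact fun y hy => hy.1)
  obtain ⟨Q, hQ, ⟨e₂⟩⟩ := perfAt_of_range_le hP₂ V.ι (by rw [Scheme.Opens.range_ι]; exact fun y hy => hy.2)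
  obtain ⟨V', hx', hV'⟩ := exists_perfAt_cone ((rd V.ι).map_distinguished _ hT) hP hQ e₁ e₂ ⟨x, hx₁, hx₂⟩
  exact ⟨V', V'.ι ≫ V.ι, inferInstance, ⟨⟨⟨x, hx₁, hx₂⟩, hx'⟩, rfl⟩, perfAt_trans hV'⟩

theorem perfect_iso {K L : DCoh.D X} (e : K ≅ L) (h : DCoh.IsPerfect K) : DCoh.IsPerfect L :=
  (isPerfect_iff L).2 fun x => by
    obtain ⟨W, k, hk, hx, hP⟩ := (isPerfect_iff K).1 h x
    exact ⟨W, k, hk, hx, hP.of_iso e⟩

theorem perfect_shift {K : DCoh.D X} (h : DCoh.IsPerfect K) (n : ℤ) : DCoh.IsPerfect (K⟦n⟧) :=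
  (isPerfect_iff _).2 fun x => by
    obtain ⟨W, k, hk, hx, E, hE, ⟨e⟩⟩ := (isPerfect_iff K).1 h x
    exact ⟨W, k, hk, hx, E⟦n⟧, strictlyPerfect_shift hE n,
      ⟨((rd k).commShiftIso n).app K ≪≫ (shiftFunctor (DCoh.D W) n).mapIso e ≪≫
        ((DerivedCategory.Q.commShiftIso n).app E).symm⟩⟩

theorem perfect_two_out_of_three {T : Triangle (DCoh.D X)} (hT : T ∈ distinguishedTriangles) :
    (DCoh.IsPerfect T.obj₁ → DCoh.IsPerfect T.obj₂ → DCoh.IsPerfect T.obj₃) ∧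
    (DCoh.IsPerfect T.obj₁ → DCoh.IsPerfect T.obj₃ → DCoh.IsPerfect T.obj₂) ∧
    (DCoh.IsPerfect T.obj₂ → DCoh.IsPerfect T.obj₃ → DCoh.IsPerfect T.obj₁) :=
  ⟨perfect_cone hT, fun h₁ h₃ => perfect_cone (inv_rot_of_distTriang _ hT) (perfect_shift h₃ (-1)) h₁,
    fun h₂ h₃ => perfect_iso ((shiftFunctorCompIsoId (DCoh.D X) (1 : ℤ) (-1) (by omega)).app T.obj₁)
      (perfect_shift (perfect_cone (rot_of_distTriang _ hT) h₂ h₃) (-1))⟩

lemma isLE_of_retract {K M : DCoh.D X} (i : K ⟶ M) (p : M ⟶ K) (hip : i ≫ p = 𝟙 K) (n : ℤ) (h : M.IsLE n) :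
    K.IsLE n := by
  rw [DerivedCategory.isLE_iff] at h ⊢
  intro j hj
  rw [IsZero.iff_id_eq_zero, ← CategoryTheory.Functor.map_id, ← hip, Functor.map_comp, (h j hj).eq_of_tgt
    ((DerivedCategory.homologyFunctor X.Modules j).map i) 0, zero_comp]

lemma isLE_Q_of_strictlyPerfect {E : CochainComplex X.Modules ℤ} {a b : ℤ} (h : DCoh.VanishesOutside E a b) :
    (DerivedCategory.Q.obj E).IsLE b := by
  haveI : E.IsStrictlyLE b := (CochainComplex.isStrictlyLE_iff _ _).2 fun i hi => h i (Or.inr hi)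
  exact (DerivedCategory.isLE_Q_obj_iff _ _).2 inferInstance

lemma isLE_of_apx {m n : ℤ} (hmn : m ≤ n) {K L : DCoh.D X} {α : K ⟶ L} (ha : Apx m α) (h : K.IsLE n) :
    L.IsLE n := by
  rw [DerivedCategory.isLE_iff] at h ⊢
  intro j hj
  haveI := ha.1 j (by omega)
  exact (h j hj).of_iso (asIso ((DerivedCategory.homologyFunctor X.Modules j).map α)).symm

theorem psc_of_isLE {m n : ℤ} (hn : n < m) {K : DCoh.D X} (h : K.IsLE n) : GPsc m K := by
  haveI := h
  refine ⟨0, 0, ⟨⟨0, 0, fun i _ => (HomologicalComplex.eval _ _ i).map_isZero (isZero_zero _)⟩,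
    fun i => PerfTensor.isFinLocFree_of_isZero ((HomologicalComplex.eval _ _ i).map_isZero (isZero_zero _))⟩,
    fun i hi => ?_, ?_⟩
  · have h1 := DerivedCategory.isZero_of_isLE K n i (by omega)
    have h2 : IsZero ((DerivedCategory.homologyFunctor X.Modules i).obj
        (DerivedCategory.Q.obj (0 : CochainComplex X.Modules ℤ))) :=
      Functor.map_isZero _ (DerivedCategory.Q.map_isZero (isZero_zero _))
    exact ⟨0, h2.eq_of_src _ _, h1.eq_of_src _ _⟩
  · exact ⟨fun g g' _ => (DerivedCategory.isZero_of_isLE K n m hn).eq_of_src g g'⟩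

lemma rd_id (K : DCoh.D X) : Nonempty ((rd (𝟙 X)).obj K ≅ K) := by
  let F := DerivedCategory.Q.objPreimage K
  let e := DerivedCategory.Q.objObjPreimageIso K
  exact ⟨(rd (𝟙 X)).mapIso e.symm ≪≫ (Scheme.Modules.restrictFunctor (𝟙 X)).mapDerivedCategoryFactors.app F ≪≫
    DerivedCategory.Q.mapIso
      (Hom.isoOfComponents (fun n => Scheme.Modules.restrictFunctorId.app (F.X n))
        (fun i j _ => (Scheme.Modules.restrictFunctorId.hom.naturality (F.d i j)).symm) :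
        ((Scheme.Modules.restrictFunctor (𝟙 X)).mapHomologicalComplex (ComplexShape.up ℤ)).obj F ≅ F) ≪≫ e⟩

theorem psc_of_gpsc {m : ℤ} {K : DCoh.D X} (h : GPsc m K) : DCoh.IsPseudoCoherentD m K := by
  obtain ⟨E, α, hE, ha⟩ := h
  obtain ⟨c⟩ := rd_id K
  exact (isPseudoCoherentD_iff m K).2 fun y => ⟨X, 𝟙 X, inferInstance, ⟨y, rfl⟩, E, α ≫ c.inv, hE,
    ha.comp (apx_of_isIso m _)⟩

/-- The cone of the idempotent onto a summand. -/
lemma nonempty_cone_idem (K L : DCoh.D X) [HasBinaryBiproduct K L] {C : DCoh.D X} {g : K ⊞ L ⟶ C}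
    {w : C ⟶ (K ⊞ L)⟦(1 : ℤ)⟧}
    (hT : Triangle.mk ((biprod.snd : K ⊞ L ⟶ L) ≫ biprod.inr) g w ∈ distinguishedTriangles) :
    Nonempty (C ≅ K ⊞ K⟦(1 : ℤ)⟧) := by
  have h₁ := rot_of_distTriang _ (binaryBiproductTriangle_distinguished K L)
  have h₂ : Triangle.mk (biprod.inr : L ⟶ K ⊞ L) (biprod.fst : K ⊞ L ⟶ K) (0 : K ⟶ L⟦(1 : ℤ)⟧) ∈
      distinguishedTriangles :=
    isomorphic_distinguished _ (binaryBiproductTriangle_distinguished L K) _
      (Triangle.isoMk _ _ (Iso.refl _) (biprod.braiding _ _) (Iso.refl _)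
        (by simp [binaryBiproductTriangle]; apply biprod.hom_ext <;> simp) (by simp [binaryBiproductTriangle]) (by simp [binaryBiproductTriangle]))
  let O := Triangulated.someOctahedron (rfl : (biprod.snd : K ⊞ L ⟶ L) ≫ biprod.inr = _) h₁ h₂ hT
  obtain ⟨e, -⟩ := exists_iso_binaryBiproduct_of_distTriang _ O.mem (by simp [Triangulated.Octahedron.triangle])
  exact ⟨e ≪≫ biprod.braiding _ _⟩

/-- Direct summands of pseudo-coherent objects. -/
theorem psc_summand (m : ℤ) (K L : DCoh.D X) [HasBinaryBiproduct K L] (h : DCoh.IsPseudoCoherentD m (K ⊞ L)) :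
    DCoh.IsPseudoCoherentD m K := by
  refine (isPseudoCoherentD_iff m K).2 fun x => ?_
  obtain ⟨W, k, hk, hx, E, α, hE, ha⟩ := (isPseudoCoherentD_iff m _).1 h x
  obtain ⟨⟨a, b, hab⟩, -⟩ := id hE
  let c : ℤ := max b m
  haveI : ((rd k).obj (K ⊞ L)).IsLE c := isLE_of_apx (le_max_right b m) ha
    (haveI := isLE_Q_of_strictlyPerfect hab; DerivedCategory.TStructure.t.isLE_of_le _ b c (le_max_left b m))
  have hK : ((rd k).obj K).IsLE c := isLE_of_retract ((rd k).map (biprod.inl : K ⟶ K ⊞ L))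
    ((rd k).map biprod.fst) (by rw [← Functor.map_comp, biprod.inl_fst, CategoryTheory.Functor.map_id]) c inferInstance
  let K' := (rd k).obj K
  let L' := (rd k).obj L
  haveI := preservesBinaryBiproducts_of_preservesBiproducts (rd k)
  have hKL : DCoh.IsPseudoCoherentD m (K' ⊞ L') := psc_iso ((rd k).mapBiprod K L) (psc_of_gpsc ⟨E, α, hE, ha⟩)
  suffices ∀ j : ℕ, ∀ n : ℕ, (c + 1 - m).toNat ≤ n + j → DCoh.IsPseudoCoherentD m (K'⟦(n : ℤ)⟧) by
    have h0 := this (c + 1 - m).toNat 0 (by omega)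
    obtain ⟨W', k', hk', hy, hP⟩ := (isPseudoCoherentD_iff m _).1
      (psc_iso ((shiftFunctorZero (DCoh.D W) ℤ).app K') (by simpa using h0)) hx.choose
    exact ⟨W', k' ≫ k, inferInstance, ⟨hy.choose, (congrArg k.base hy.choose_spec).trans hx.choose_spec⟩, pscAt_trans hP⟩
  intro j
  induction j with
  | zero =>
    intro n hn
    haveI := hK
    exact psc_of_gpsc <| psc_of_isLE (show c - n < m by omega) (DerivedCategory.TStructure.t.isLE_shift K' c n (c - n) (by omega))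
  | succ j ih =>
    intro n hn
    have hB : DCoh.IsPseudoCoherentD m (K' ⊞ K'⟦(1 : ℤ)⟧) := by
      let f : K' ⊞ L' ⟶ K' ⊞ L' := biprod.snd ≫ biprod.inr
      obtain ⟨C, g, w, hT⟩ := distinguished_cocone_triangle f
      obtain ⟨e⟩ := nonempty_cone_idem K' L' hT
      exact psc_iso e (psc_cone hT (psc_mono (by omega) hKL) hKL)
    have hB' : DCoh.IsPseudoCoherentD m (K'⟦(n : ℤ)⟧ ⊞ (K'⟦(n : ℤ)⟧)⟦(1 : ℤ)⟧) := by
      haveI := preservesBinaryBiproducts_of_preservesBiproducts (shiftFunctor (DCoh.D W) (n : ℤ))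
      exact psc_iso ((shiftFunctor (DCoh.D W) (n : ℤ)).mapBiprod _ _ ≪≫
        biprod.mapIso (Iso.refl _) (shiftComm K' 1 (n : ℤ)))
        (psc_mono (by omega : m - n ≤ m) (psc_shift hB n (m - n) (by omega)))
    have hn1 : DCoh.IsPseudoCoherentD m ((K'⟦(n : ℤ)⟧)⟦(1 : ℤ)⟧) :=
      psc_iso ((shiftFunctorAdd' (DCoh.D W) (n : ℤ) 1 ((n + 1 : ℕ) : ℤ) (by push_cast; rfl)).app K') (ih (n + 1) (by omega))
    exact psc_cone (binaryBiproductTriangle_distinguished _ _)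
      (psc_mono (by omega : m ≤ m + 1) hn1) (psc_iso (biprod.braiding _ _) hB')

end Groth.Agent.DCat.PCTriangle
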