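import Groth.Agent.DCat.TorSheaf
import Groth.Agent.DCat.LPull

/-! Tor amplitude, triangles and pullback. -/

set_option autoImplicit false
set_option backward.isDefEq.respectTransparency false
set_option backward.defeqAttrib.useBackward true
set_option linter.style.haveILetI false

universe u

open CategoryTheory CategoryTheory.Limits AlgebraicGeometry MonoidalCategory HomologicalComplex
open CategoryTheory.Pretriangulated
open Groth.Agent.ModStalk

attribute [local instance] HasDerivedCategory.standard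

namespace Groth.Agent.DCat

variable {X : Scheme.{u}}

/-- The mapping cone of a map of K-flat complexes is K-flat. -/
lemma isKFlatFor_sheaf_cone {P Q : CochainComplex X.Modules ℤ} (φ : P ⟶ Q)
    (hP : IsKFlatFor (shT X) P) (hQ : IsKFlatFor (shT X) Q) :
    IsKFlatFor (shT X) (CochainComplex.mappingCone φ) :=
  IsKFlatFor.ext₂ (S := CochainComplex.mappingCone.triangleRotateShortComplex φ)
    (fun a q => shortExact_map_of_splitting
      (fun n => ⟨CochainComplex.mappingCone.triangleRotateShortComplexSplitting φ n⟩) a q) hQ (hP.shift 1)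

/-- Lifting a morphism to a map of complexes with K-flat source. -/
lemma exists_kflat_lift {K L : DCoh.D X} (m : K ⟶ L) {Q : CochainComplex X.Modules ℤ} (eL : DCoh.toD X Q ≅ L) :
    ∃ (R : CochainComplex X.Modules ℤ) (φ : R ⟶ Q) (_ : IsKFlatFor (shT X) R) (eK : DCoh.toD X R ≅ K),
      DerivedCategory.Q.map φ ≫ eL.hom = eK.hom ≫ m := by
  obtain ⟨X', s, hs, g, hg⟩ :=
    DerivedCategory.right_fac ((DerivedCategory.Q.objObjPreimageIso K).hom ≫ m ≫ eL.inv)
  haveI := hs
  obtain ⟨R, c, hR, -, hc, -⟩ := exists_kflat_sheaf X'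
  haveI := hc
  refine ⟨R, c ≫ g, hR, asIso (DerivedCategory.Q.map c) ≪≫ asIso (DerivedCategory.Q.map s) ≪≫
    DerivedCategory.Q.objObjPreimageIso K, ?_⟩
  have h2 : DerivedCategory.Q.map g ≫ eL.hom =
      DerivedCategory.Q.map s ≫ (DerivedCategory.Q.objObjPreimageIso K).hom ≫ m := by
    rw [show (DerivedCategory.Q.objObjPreimageIso K).hom ≫ m = (inv (DerivedCategory.Q.map s) ≫
      DerivedCategory.Q.map g) ≫ eL.hom from by rw [← hg, Category.assoc, Category.assoc, eL.inv_hom_id,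
        Category.comp_id]]
    simp
  simp only [Functor.map_comp, Iso.trans_hom, asIso_hom, Category.assoc, h2]

/-- The long exact sequence of `- ⊗^L F`. -/
lemma torAmp_vanish {T : Triangle (DCoh.D X)} (hT : T ∈ distinguishedTriangles)
    (F : X.Modules) [DCoh.HasLTensorMod F] :
    (∀ i, IsZero (DCoh.HD ((DCoh.LTensorMod F).obj T.obj₂) i) →
      IsZero (DCoh.HD ((DCoh.LTensorMod F).obj T.obj₁) (i + 1)) →
      IsZero (DCoh.HD ((DCoh.LTensorMod F).obj T.obj₃) i)) ∧
    (∀ i, IsZero (DCoh.HD ((DCoh.LTensorMod F).obj T.obj₁) i) →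
      IsZero (DCoh.HD ((DCoh.LTensorMod F).obj T.obj₃) i) →
      IsZero (DCoh.HD ((DCoh.LTensorMod F).obj T.obj₂) i)) ∧
    (∀ i, IsZero (DCoh.HD ((DCoh.LTensorMod F).obj T.obj₃) i) →
      IsZero (DCoh.HD ((DCoh.LTensorMod F).obj T.obj₂) (i + 1)) →
      IsZero (DCoh.HD ((DCoh.LTensorMod F).obj T.obj₁) (i + 1))) := by
  obtain ⟨Q, c, hQ, -, hc, -⟩ := exists_kflat_sheaf (DerivedCategory.Q.objPreimage T.obj₂)
  haveI := hc
  let eL : DCoh.toD X Q ≅ T.obj₂ := asIso (DerivedCategory.Q.map c) ≪≫ DerivedCategory.Q.objObjPreimageIso _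
  obtain ⟨R, φ, hR, eK, comm⟩ := exists_kflat_lift T.mor₁ eL
  let e := isoTriangleOfIso₁₂ _ _ (DerivedCategory.mappingCone_triangle_distinguished φ) hT eK eL comm
  have e₃ : DCoh.toD X (CochainComplex.mappingCone φ) ≅ T.obj₃ := Triangle.π₃.mapIso e
  let G := (DCoh.tensorRightMod F).mapHomologicalComplex (ComplexShape.up ℤ)
  let T' := DerivedCategory.Q.mapTriangle.obj (CochainComplex.mappingCone.triangle (G.map φ))
  have hT' : T' ∈ distinguishedTriangles := DerivedCategory.mappingCone_triangle_distinguished _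
  have k : ∀ {P : CochainComplex X.Modules ℤ} {K : DCoh.D X}, IsKFlatFor (shT X) P → (DCoh.toD X P ≅ K) → ∀ i,
      (IsZero (DCoh.HD ((DCoh.LTensorMod F).obj K) i) ↔ IsZero (DCoh.HD (DCoh.toD X (G.obj P)) i)) :=
    fun hP e i => by rw [isZero_HD_ltensorMod_iff F hP e i, isZero_HD_toD_iff]
  have k₁ := k hR eK
  have k₂ := k hQ eL
  have k₃ : ∀ i, IsZero (DCoh.HD ((DCoh.LTensorMod F).obj T.obj₃) i) ↔ IsZero (DCoh.HD T'.obj₃ i) := fun i =>
    (k (isKFlatFor_sheaf_cone φ hR hQ) e₃ i).trans (Iso.isZero_iff ((DerivedCategory.homologyFunctor X.Modules i).mapIso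
      (DerivedCategory.Q.mapIso (CochainComplex.mappingCone.mapHomologicalComplexIso φ (DCoh.tensorRightMod F)))))
  refine ⟨fun i h₂ h₁ => ?_, fun i h₁ h₃ => ?_, fun i h₃ h₂ => ?_⟩
  · rw [k₂] at h₂; rw [k₁] at h₁; rw [k₃]
    exact (DerivedCategory.HomologySequence.exact₃ T' hT' i (i + 1) rfl).isZero_X₂
      (h₂.eq_of_src _ _) (h₁.eq_of_tgt _ _)
  · rw [k₁] at h₁; rw [k₃] at h₃; rw [k₂]
    exact (DerivedCategory.HomologySequence.exact₂ T' hT' i).isZero_X₂ (h₁.eq_of_src _ _) (h₃.eq_of_tgt _ _)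
  · rw [k₃] at h₃; rw [k₂] at h₂; rw [k₁]
    exact (DerivedCategory.HomologySequence.exact₁ T' hT' i (i + 1) rfl).isZero_X₂
      (h₃.eq_of_src _ _) (h₂.eq_of_tgt _ _)

/-- Pullback of a flat module is flat. -/
lemma isFlat_pullback {Y : Scheme.{u}} (f : X ⟶ Y) {M : Y.Modules} (h : FlatMod.IsFlat M) :
    FlatMod.IsFlat ((Scheme.Modules.pullback f).obj M) := fun x => by
  letI := (f.stalkMap x).hom.toAlgebra
  haveI : Module.Flat (Y.presheaf.stalk (f.base x)) ((DerSch.stalkFunctor Y (f.base x)).obj M) := h (f.base x)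
  have hb : Module.Flat (X.presheaf.stalk x)
      ((ModuleCat.extendScalars (f.stalkMap x).hom).obj ((DerSch.stalkFunctor Y (f.base x)).obj M)) :=
    Module.Flat.baseChange (R := Y.presheaf.stalk (f.base x)) (S := X.presheaf.stalk x) (M := (DerSch.stalkFunctor Y (f.base x)).obj M)
  exact @Module.Flat.of_linearEquiv _ _ _ _ _ _ _ _ hb ((pullbackStalkIso f x).app M).toLinearEquiv

/-- Flat amplitude is preserved by pullback. -/
theorem flatAmp_lpull {Y : Scheme.{u}} (f : X ⟶ Y) [DCoh.HasLpull f] {a b : ℤ} {E : DCoh.D Y}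
    (hE : DCoh.HasFlatAmplitudeIn a b E) : DCoh.HasFlatAmplitudeIn a b ((DCoh.Lpull f).obj E) := by
  obtain ⟨P, hPz, hPf, ⟨e⟩⟩ := hE
  have hP : kflatObj Y ((HomotopyCategory.quotient _ _).obj P) :=
    isKFlatFor_sheaf_of_flat P b (fun n hn => hPz n (Or.inr hn)) hPf
  refine ⟨((Scheme.Modules.pullback f).mapHomologicalComplex (ComplexShape.up ℤ)).obj P,
    fun i hi => (Scheme.Modules.pullback f).map_isZero (hPz i hi), fun i => isFlat_pullback f (hPf i), ⟨?_⟩⟩
  exact ((DerivedCategory.quotientCompQhIso X.Modules).app _).symm ≪≫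
    (@asIso _ _ _ _ (((DCoh.pullKh f).totalLeftDerivedCounit DerivedCategory.Qh
      (HomotopyCategory.quasiIso Y.Modules (ComplexShape.up ℤ))).app
        ((HomotopyCategory.quotient Y.Modules (ComplexShape.up ℤ)).obj P))
      (isIso_counit_of_mem exists_kflat_hot (isIso_pullKh_of_kflat f) _ hP)).symm ≪≫
    (DCoh.Lpull f).mapIso ((DerivedCategory.quotientCompQhIso Y.Modules).app P ≪≫ e)

end Groth.Agent.DCat
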