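import Groth.Agent.DCat.MayerVietoris
import Groth.Agent.DCat.KInjRes

/-! The Mayer–Vietoris triangles for derived direct image and derived sections. -/

set_option autoImplicit false
set_option backward.isDefEq.respectTransparency false
set_option backward.defeqAttrib.useBackward true
set_option linter.style.haveILetI false

universe u

open CategoryTheory CategoryTheory.Limits AlgebraicGeometry Opposite TopologicalSpace

attribute [local instance] HasDerivedCategory.standard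

namespace Groth.Agent.DCat.MV

variable {X Y : Scheme.{u}}

lemma exists_rep (E : DCoh.D X) : ∃ I : CochainComplex X.Modules ℤ, I.IsKInjective ∧ (∀ n, Injective (I.X n)) ∧
    Nonempty (DerivedCategory.Q.obj I ≅ E) := by
  obtain ⟨I, f, h₁, h₂, -, h₄⟩ := exists_kInj_res (DerivedCategory.Q.objPreimage E)
  exact ⟨I, h₁, h₄, ⟨(asIso (DerivedCategory.Q.map f)).symm ≪≫ DerivedCategory.Q.objObjPreimageIso E⟩⟩

/-- `R F` of the restriction of a K-injective complex. -/
noncomputable def rfRestrictIso (U : X.Opens) {B : Type (u + 1)} [Category.{u} B] [Abelian B]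
    (F : (U : Scheme.{u}).Modules ⥤ B) [F.Additive]
    [(F.mapHomotopyCategory (ComplexShape.up ℤ) ⋙ DerivedCategory.Qh).HasRightDerivedFunctor
      (HomotopyCategory.quasiIso (U : Scheme.{u}).Modules (ComplexShape.up ℤ))]
    [PreservesFiniteLimits (Scheme.Modules.restrictFunctor U.ι)]
    {E : DCoh.D X} {I : CochainComplex X.Modules ℤ} [I.IsKInjective] (e : DerivedCategory.Q.obj I ≅ E) :
    DerivedCategory.Q.obj ((F.mapHomologicalComplex (ComplexShape.up ℤ)).obj
      (((Scheme.Modules.restrictFunctor U.ι).mapHomologicalComplex (ComplexShape.up ℤ)).obj I)) ≅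
    ((F.mapHomotopyCategory (ComplexShape.up ℤ) ⋙ DerivedCategory.Qh).totalRightDerived DerivedCategory.Qh
      (HomotopyCategory.quasiIso (U : Scheme.{u}).Modules (ComplexShape.up ℤ))).obj ((DCoh.restrictD U.ι).obj E) :=
  haveI := OpenDerived.isKInjective_restrict U.ι I
  ((DerivedCategory.quotientCompQhIso B).app _).symm ≪≫
    (OpenDerived.rfQIso (modules_enoughKInj (U : Scheme.{u})) (F.mapHomotopyCategory (ComplexShape.up ℤ) ⋙ DerivedCategory.Qh)
      (((Scheme.Modules.restrictFunctor U.ι).mapHomologicalComplex (ComplexShape.up ℤ)).obj I)).symm ≪≫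
    Functor.mapIso _ (((Scheme.Modules.restrictFunctor U.ι).mapDerivedCategoryFactors.app I).symm ≪≫
      (DCoh.restrictD U.ι).mapIso e)

/-- `R F` of a K-injective complex. -/
noncomputable def rfIsoAt {B : Type (u + 1)} [Category.{u} B] [Abelian B]
    (F : X.Modules ⥤ B) [F.Additive]
    [(F.mapHomotopyCategory (ComplexShape.up ℤ) ⋙ DerivedCategory.Qh).HasRightDerivedFunctor
      (HomotopyCategory.quasiIso X.Modules (ComplexShape.up ℤ))]
    {E : DCoh.D X} {I : CochainComplex X.Modules ℤ} [I.IsKInjective] (e : DerivedCategory.Q.obj I ≅ E) :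
    DerivedCategory.Q.obj ((F.mapHomologicalComplex (ComplexShape.up ℤ)).obj I) ≅
    ((F.mapHomotopyCategory (ComplexShape.up ℤ) ⋙ DerivedCategory.Qh).totalRightDerived DerivedCategory.Qh
      (HomotopyCategory.quasiIso X.Modules (ComplexShape.up ℤ))).obj E :=
  ((DerivedCategory.quotientCompQhIso B).app _).symm ≪≫
    (OpenDerived.rfQIso (modules_enoughKInj X) (F.mapHomotopyCategory (ComplexShape.up ℤ) ⋙ DerivedCategory.Qh) I).symm ≪≫
    Functor.mapIso _ e

theorem exists_triangle_id {U V : X.Opens} (hUV : U ⊔ V = ⊤)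
    [DCoh.HasRpush U.ι] [DCoh.HasRpush V.ι] [DCoh.HasRpush (U ⊓ V).ι]
    [PreservesFiniteLimits (Scheme.Modules.restrictFunctor U.ι)]
    [PreservesFiniteLimits (Scheme.Modules.restrictFunctor V.ι)]
    [PreservesFiniteLimits (Scheme.Modules.restrictFunctor (U ⊓ V).ι)] (E : DCoh.D X) :
    ∃ (a : E ⟶ ((DCoh.Rpush U.ι).obj ((DCoh.restrictD U.ι).obj E) ⊞ (DCoh.Rpush V.ι).obj ((DCoh.restrictD V.ι).obj E)))
      (b : ((DCoh.Rpush U.ι).obj ((DCoh.restrictD U.ι).obj E) ⊞ (DCoh.Rpush V.ι).obj ((DCoh.restrictD V.ι).obj E)) ⟶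
        (DCoh.Rpush (U ⊓ V).ι).obj ((DCoh.restrictD (U ⊓ V).ι).obj E))
      (c : (DCoh.Rpush (U ⊓ V).ι).obj ((DCoh.restrictD (U ⊓ V).ι).obj E) ⟶ E⟦(1 : ℤ)⟧),
      Pretriangulated.Triangle.mk a b c ∈ Pretriangulated.distinguishedTriangles := by
  obtain ⟨I, hI, hinj, ⟨e⟩⟩ := exists_rep E
  let c : ∀ W : X.Opens,
      ((𝟭 X.Modules).mapHomologicalComplex (ComplexShape.up ℤ)).obj (((R W).mapHomologicalComplex (ComplexShape.up ℤ)).obj I) ≅
        ((Scheme.Modules.pushforward W.ι).mapHomologicalComplex (ComplexShape.up ℤ)).obj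
          (((Scheme.Modules.restrictFunctor W.ι).mapHomologicalComplex (ComplexShape.up ℤ)).obj I) := fun W =>
    HomologicalComplex.Hom.isoOfComponents (fun n => Iso.refl _) (fun i j _ => (Category.id_comp _).trans (Category.comp_id _).symm)
  exact exists_triangle (𝟭 X.Modules) hUV I hinj
    (DerivedCategory.Q.mapIso ((Functor.mapHomologicalComplexIdIso X.Modules (ComplexShape.up ℤ)).app I) ≪≫ e)
    (DerivedCategory.Q.mapIso (c U) ≪≫ rfRestrictIso U (Scheme.Modules.pushforward U.ι) e)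
    (DerivedCategory.Q.mapIso (c V) ≪≫ rfRestrictIso V (Scheme.Modules.pushforward V.ι) e)
    (DerivedCategory.Q.mapIso (c (U ⊓ V)) ≪≫ rfRestrictIso (U ⊓ V) (Scheme.Modules.pushforward (U ⊓ V).ι) e)

theorem exists_triangle_push (f : X ⟶ Y) {U V : X.Opens} (hUV : U ⊔ V = ⊤)
    [DCoh.HasRpush f] [DCoh.HasRpush (U.ι ≫ f)] [DCoh.HasRpush (V.ι ≫ f)] [DCoh.HasRpush ((U ⊓ V).ι ≫ f)]
    [PreservesFiniteLimits (Scheme.Modules.restrictFunctor U.ι)]
    [PreservesFiniteLimits (Scheme.Modules.restrictFunctor V.ι)]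
    [PreservesFiniteLimits (Scheme.Modules.restrictFunctor (U ⊓ V).ι)] (E : DCoh.D X) :
    ∃ (a : (DCoh.Rpush f).obj E ⟶ ((DCoh.Rpush (U.ι ≫ f)).obj ((DCoh.restrictD U.ι).obj E) ⊞
          (DCoh.Rpush (V.ι ≫ f)).obj ((DCoh.restrictD V.ι).obj E)))
      (b : ((DCoh.Rpush (U.ι ≫ f)).obj ((DCoh.restrictD U.ι).obj E) ⊞
          (DCoh.Rpush (V.ι ≫ f)).obj ((DCoh.restrictD V.ι).obj E)) ⟶
        (DCoh.Rpush ((U ⊓ V).ι ≫ f)).obj ((DCoh.restrictD (U ⊓ V).ι).obj E))
      (c : (DCoh.Rpush ((U ⊓ V).ι ≫ f)).obj ((DCoh.restrictD (U ⊓ V).ι).obj E) ⟶ ((DCoh.Rpush f).obj E)⟦(1 : ℤ)⟧),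
      Pretriangulated.Triangle.mk a b c ∈ Pretriangulated.distinguishedTriangles := by
  obtain ⟨I, hI, hinj, ⟨e⟩⟩ := exists_rep E
  let c : ∀ W : X.Opens,
      ((Scheme.Modules.pushforward f).mapHomologicalComplex (ComplexShape.up ℤ)).obj (((R W).mapHomologicalComplex (ComplexShape.up ℤ)).obj I) ≅
        ((Scheme.Modules.pushforward (W.ι ≫ f)).mapHomologicalComplex (ComplexShape.up ℤ)).obj
          (((Scheme.Modules.restrictFunctor W.ι).mapHomologicalComplex (ComplexShape.up ℤ)).obj I) := fun W =>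
    HomologicalComplex.Hom.isoOfComponents
      (fun n => (Scheme.Modules.pushforwardComp W.ι f).app ((Scheme.Modules.restrictFunctor W.ι).obj (I.X n)))
      (fun i j _ => ((Scheme.Modules.pushforwardComp W.ι f).hom.naturality ((Scheme.Modules.restrictFunctor W.ι).map (I.d i j))).symm)
  exact exists_triangle (Scheme.Modules.pushforward f) hUV I hinj
    (rfIsoAt (Scheme.Modules.pushforward f) e)
    (DerivedCategory.Q.mapIso (c U) ≪≫ rfRestrictIso U (Scheme.Modules.pushforward (U.ι ≫ f)) e)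
    (DerivedCategory.Q.mapIso (c V) ≪≫ rfRestrictIso V (Scheme.Modules.pushforward (V.ι ≫ f)) e)
    (DerivedCategory.Q.mapIso (c (U ⊓ V)) ≪≫ rfRestrictIso (U ⊓ V) (Scheme.Modules.pushforward ((U ⊓ V).ι ≫ f)) e)

theorem exists_triangle_gamma {U V : X.Opens} (hUV : U ⊔ V = ⊤)
    [DCoh.HasRΓ X] [DCoh.HasRΓ (U : Scheme.{u})] [DCoh.HasRΓ (V : Scheme.{u})] [DCoh.HasRΓ (U ⊓ V : X.Opens)]
    [PreservesFiniteLimits (Scheme.Modules.restrictFunctor U.ι)]
    [PreservesFiniteLimits (Scheme.Modules.restrictFunctor V.ι)]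
    [PreservesFiniteLimits (Scheme.Modules.restrictFunctor (U ⊓ V).ι)] (E : DCoh.D X) :
    ∃ (a : (DCoh.RΓ X).obj E ⟶ ((DCoh.RΓ (U : Scheme.{u})).obj ((DCoh.restrictD U.ι).obj E) ⊞
          (DCoh.RΓ (V : Scheme.{u})).obj ((DCoh.restrictD V.ι).obj E)))
      (b : ((DCoh.RΓ (U : Scheme.{u})).obj ((DCoh.restrictD U.ι).obj E) ⊞
          (DCoh.RΓ (V : Scheme.{u})).obj ((DCoh.restrictD V.ι).obj E)) ⟶
        (DCoh.RΓ (U ⊓ V : X.Opens)).obj ((DCoh.restrictD (U ⊓ V).ι).obj E))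
      (c : (DCoh.RΓ (U ⊓ V : X.Opens)).obj ((DCoh.restrictD (U ⊓ V).ι).obj E) ⟶ ((DCoh.RΓ X).obj E)⟦(1 : ℤ)⟧),
      Pretriangulated.Triangle.mk a b c ∈ Pretriangulated.distinguishedTriangles := by
  obtain ⟨I, hI, hinj, ⟨e⟩⟩ := exists_rep E
  let c : ∀ W : X.Opens,
      ((DCoh.gammaAb X).mapHomologicalComplex (ComplexShape.up ℤ)).obj (((R W).mapHomologicalComplex (ComplexShape.up ℤ)).obj I) ≅
        ((DCoh.gammaAb (W : Scheme.{u})).mapHomologicalComplex (ComplexShape.up ℤ)).obj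
          (((Scheme.Modules.restrictFunctor W.ι).mapHomologicalComplex (ComplexShape.up ℤ)).obj I) := fun W =>
    HomologicalComplex.Hom.isoOfComponents (fun n => Iso.refl _) (fun i j _ => (Category.id_comp _).trans (Category.comp_id _).symm)
  exact exists_triangle (DCoh.gammaAb X) hUV I hinj
    (rfIsoAt (DCoh.gammaAb X) e)
    (DerivedCategory.Q.mapIso (c U) ≪≫ rfRestrictIso U (DCoh.gammaAb (U : Scheme.{u})) e)
    (DerivedCategory.Q.mapIso (c V) ≪≫ rfRestrictIso V (DCoh.gammaAb (V : Scheme.{u})) e)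
    (DerivedCategory.Q.mapIso (c (U ⊓ V)) ≪≫ rfRestrictIso (U ⊓ V) (DCoh.gammaAb ((U ⊓ V : X.Opens) : Scheme.{u})) e)

end Groth.Agent.DCat.MV
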