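import Groth.Agent.DCat.LocGen
import Groth.Agent.DRingLib.PCGen
import Groth.Prelude.Def_CohDer

/-! Perfect objects are the compact objects of `D(R)`. -/

set_option autoImplicit false
set_option backward.isDefEq.respectTransparency false
set_option backward.defeqAttrib.useBackward true
set_option linter.style.haveILetI false

universe u

open CategoryTheory CategoryTheory.Limits HomologicalComplex CategoryTheory.Pretriangulated

attribute [local instance] HasDerivedCategory.standard

namespace Groth.Agent.DCat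

variable {R : Type u} [CommRing R]


section Gen

universe v w

variable [hs : HasDerivedCategory.{u} (ModuleCat.{u} R)]
  {D : Type w} [Category.{v} D] [Preadditive D] [HasZeroObject D] [HasShift D ℤ]
  [∀ n : ℤ, (shiftFunctor D n).Additive] [Pretriangulated D]

/-- Surjectivity for the generators, transported along an equivalence. -/
theorem surj_gen (E : DerivedCategory (ModuleCat.{u} R) ⥤ D) [E.CommShift ℤ] [E.IsTriangulated] [E.IsEquivalence]
    (n : ℤ) (κ : Type u) (X : κ → D) (c : Cofan X) (hc : IsColimit c)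
    (x : E.obj (DerivedCategory.Q.obj (ringCx R n)) ⟶ c.pt) :
    ∃ (s : Finset κ) (y : ∀ i, E.obj (DerivedCategory.Q.obj (ringCx R n)) ⟶ X i),
      x = ∑ i ∈ s, y i ≫ c.inj i := by
  classical
  haveI : HasCoproducts.{u} (DerivedCategory (ModuleCat.{u} R)) := fun J =>
    hasCoproductsOfShape_derived enoughKInj_of_isGrothendieckAbelian J
  let F := fun k => E.objPreimage (X k)
  have hcol := isColimitCofanMkObjOfIsColimit E _ _ (coproductIsCoproduct F)
  let w : E.obj (∐ F) ⟶ c.pt := Cofan.IsColimit.desc hcol fun k => (E.objObjPreimageIso (X k)).hom ≫ c.inj k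
  let w' : c.pt ⟶ E.obj (∐ F) :=
    Cofan.IsColimit.desc hc fun k => (E.objObjPreimageIso (X k)).inv ≫ E.map (Sigma.ι F k)
  have hw : ∀ k, E.map (Sigma.ι F k) ≫ w = (E.objObjPreimageIso (X k)).hom ≫ c.inj k := fun k =>
    Cofan.IsColimit.fac hcol _ k
  have hww : w' ≫ w = 𝟙 _ := Cofan.IsColimit.hom_ext hc _ _ fun k => by
    rw [Cofan.IsColimit.fac_assoc, Category.assoc, hw, Iso.inv_hom_id_assoc, Category.comp_id]
  obtain ⟨s, hs'⟩ := finFac_ringCx R n κ F (E.preimage (x ≫ w'))
  rw [finProj_eq_sum, Preadditive.comp_sum] at hs'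
  refine ⟨s, fun i => E.map (E.preimage (x ≫ w') ≫ coordProj F i) ≫ (E.objObjPreimageIso (X i)).hom, ?_⟩
  have h2 := congrArg (fun z => E.map z ≫ w) hs'
  simp only [E.map_sum, Preadditive.sum_comp, E.map_comp, E.map_preimage, Category.assoc, hw, hww,
    Category.comp_id] at h2
  conv_lhs => rw [← h2]
  refine Finset.sum_congr rfl fun i _ => ?_
  simp [E.map_comp]

/-- Compact objects lie in every triangulated, retract stable property containing the generators. -/
theorem prop_of_compact (E : DerivedCategory (ModuleCat.{u} R) ⥤ D) [E.CommShift ℤ] [E.IsTriangulated]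
    [E.IsEquivalence] (P : ObjectProperty D) [P.IsClosedUnderIsomorphisms] [P.IsTriangulated]
    [P.IsStableUnderRetracts] (hgen : ∀ n, P (E.obj (DerivedCategory.Q.obj (ringCx R n))))
    (K : D) (h : ∀ (κ : Type u) (X : κ → D) (c : Cofan X), IsColimit c → ∀ x : K ⟶ c.pt,
      ∃ (s : Finset κ) (y : ∀ i, K ⟶ X i), x = ∑ i ∈ s, y i ≫ c.inj i) : P K := by
  classical
  let S := DerivedCategory (ModuleCat.{u} R)
  haveI : HasCoproducts.{u} S := fun J => hasCoproductsOfShape_derived enoughKInj_of_isGrothendieckAbelian J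
  haveI : HasColimitsOfShape (Discrete ℕ) S :=
    hasColimitsOfShape_of_equivalence (Discrete.equivalence (Equiv.ulift.{u} : ULift.{u} ℕ ≃ ℕ))
  let G : ULift.{u} ℤ → S := fun n => DerivedCategory.Q.obj (ringCx R n.down)
  have hc : ∀ n, CohDer.IsCompactObject (G n) := fun n => (isCompactObject_iff _).2 (finFac_ringCx _ _)
  have hg : CohDer.Generates G := fun X hX => isZero_of_forall_ringCx _ X fun n f => by
    rw [← cancel_mono ((shiftFunctorZero S ℤ).inv.app X), zero_comp]
    exact hX ⟨n⟩ 0 _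
  haveI : (P.inverseImage E).IsStableUnderRetracts := ⟨fun r h => P.prop_of_retract (r.map E) h⟩
  have hX : CohDer.IsCompactObject (E.objPreimage K) := (isCompactObject_iff _).2 fun κ F α => by
    let e := E.objObjPreimageIso K
    obtain ⟨s, y, hy⟩ := h κ (fun i => E.obj (F i)) _
      (isColimitCofanMkObjOfIsColimit E _ _ (coproductIsCoproduct F)) (e.inv ≫ E.map α)
    refine ⟨s, E.map_injective ?_⟩
    rw [← cancel_epi e.inv, hy, E.map_comp, ← Category.assoc, hy, Preadditive.sum_comp]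
    refine Finset.sum_congr rfl fun i hi => ?_
    simp only [Cofan.inj, Cofan.mk_ι_app, Category.assoc, ← E.map_comp, ι_finProj, if_pos hi]
  obtain ⟨s, hs'⟩ := exists_env_of_compact hc hg _ hX
  exact P.prop_of_iso (E.objObjPreimageIso K)
    ((ObjectProperty.triangEnvelope_le_iff (Q := P.inverseImage E) _).2 (fun Y ⟨i, _, hY⟩ => hY ▸ hgen i.down) _ hs')

end Gen

/-- Maps into direct sums are finite sums. -/
def Cpt (K : Dual.D R) : Prop :=
  ∀ (κ : Type u) (X : κ → Dual.D R) (c : Cofan X), IsColimit c → ∀ x : K ⟶ c.pt,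
    ∃ (s : Finset κ) (y : ∀ i, K ⟶ X i), x = ∑ i ∈ s, y i ≫ c.inj i

lemma cofan_coord {κ : Type u} {X : κ → Dual.D R} {c : Cofan X} (hc : IsColimit c) (i : κ) :
    ∃ p : c.pt ⟶ X i, c.inj i ≫ p = 𝟙 _ ∧ ∀ j, j ≠ i → c.inj j ≫ p = 0 := by
  classical
  exact ⟨Cofan.IsColimit.desc hc fun j => if h : j = i then eqToHom (congrArg X h) else 0,
    by rw [Cofan.IsColimit.fac]; simp, fun j hj => by rw [Cofan.IsColimit.fac]; simp [hj]⟩

lemma eq_zero_of_sum {κ : Type u} {X : κ → Dual.D R} {c : Cofan X} (hc : IsColimit c) {K : Dual.D R}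
    (s : Finset κ) (y : ∀ i, K ⟶ X i) (h : ∑ i ∈ s, y i ≫ c.inj i = 0) {i : κ} (hi : i ∈ s) : y i = 0 := by
  obtain ⟨p, hp, hp'⟩ := cofan_coord hc i
  have := congrArg (· ≫ p) h
  simp only [Preadditive.sum_comp, Category.assoc, zero_comp] at this
  rw [Finset.sum_eq_single i (fun j _ hj => by rw [hp' j hj, comp_zero]) (fun h => absurd hi h), hp,
    Category.comp_id] at this
  exact this

lemma Cpt.of_iso {K L : Dual.D R} (e : K ≅ L) (h : Cpt K) : Cpt L := fun κ X c hc x => by
  obtain ⟨s, y, hy⟩ := h κ X c hc (e.hom ≫ x)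
  refine ⟨s, fun i => e.inv ≫ y i, ?_⟩
  rw [← cancel_epi e.hom, hy, Preadditive.comp_sum]
  simp

lemma Cpt.of_retract {K L : Dual.D R} (r : Retract K L) (h : Cpt L) : Cpt K := fun κ X c hc x => by
  obtain ⟨s, y, hy⟩ := h κ X c hc (r.r ≫ x)
  refine ⟨s, fun i => r.i ≫ y i, ?_⟩
  have := congrArg (r.i ≫ ·) hy
  simp only [Preadditive.comp_sum, ← Category.assoc, r.retract, Category.id_comp] at this
  exact this

lemma Cpt.cone {T : Triangle (Dual.D R)} (hT : T ∈ distinguishedTriangles) (h₂ : Cpt T.obj₂)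
    (h₄ : Cpt (T.obj₁⟦(1 : ℤ)⟧)) : Cpt T.obj₃ := fun κ X c hc x => by
  classical
  obtain ⟨s, y, hy⟩ := h₂ κ X c hc (T.mor₂ ≫ x)
  have hz : ∀ i : κ, ∃ z : T.obj₃ ⟶ X i, i ∈ s → y i = T.mor₂ ≫ z := fun i => by
    by_cases hi : i ∈ s
    · have h0 : ∑ i ∈ s, (T.mor₁ ≫ y i) ≫ c.inj i = 0 := by
        have := congrArg (T.mor₁ ≫ ·) hy
        simp only [Preadditive.comp_sum] at this
        rw [← Category.assoc, comp_distTriang_mor_zero₁₂ _ hT, zero_comp] at this
        simpa [Category.assoc] using this.symm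
      obtain ⟨z, hz⟩ := Triangle.yoneda_exact₂ _ hT (y i) (eq_zero_of_sum hc s _ h0 hi)
      exact ⟨z, fun _ => hz⟩
    · exact ⟨0, fun h => absurd h hi⟩
  choose z hz using hz
  obtain ⟨w, hw⟩ := Triangle.yoneda_exact₃ _ hT (x - ∑ i ∈ s, z i ≫ c.inj i) (by
    rw [Preadditive.comp_sub, hy, Preadditive.comp_sum, sub_eq_zero]
    exact Finset.sum_congr rfl fun i hi => by rw [hz i hi, Category.assoc])
  obtain ⟨t, v, hv⟩ := h₄ κ X c hc w
  refine ⟨s ∪ t, fun i => (if i ∈ s then z i else 0) + (if i ∈ t then T.mor₃ ≫ v i else 0), ?_⟩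
  simp only [Preadditive.add_comp, Finset.sum_add_distrib, ite_comp, zero_comp, Finset.sum_ite_mem,
    Finset.union_inter_cancel_left, Finset.union_inter_cancel_right]
  rw [sub_eq_iff_eq_add.1 hw, hv, Preadditive.comp_sum, add_comm]
  simp only [Category.assoc]

theorem cpt_gen (n : ℤ) : Cpt (DerivedCategory.Q.obj (ringCx R n)) := by
  intro κ X c hc x
  let e := (cmpDIso R).app (ringCx R n)
  obtain ⟨s, y, hy⟩ :=
    @surj_gen R _ (smallD R) (Dual.D R) _ _ _ _ _ _ (cmpD R) _ _ (isEquivalence_cmpD R) n κ X c hc (e.hom ≫ x)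
  refine ⟨s, fun i => e.inv ≫ y i, ?_⟩
  rw [← cancel_epi e.hom, hy, Preadditive.comp_sum]
  simp

theorem cpt_of_perfect {K : Dual.D R} (h : DRing.IsPerfect R K) : Cpt K :=
  devissage Cpt (fun e h => h.of_iso e) (fun _ hT _ h₂ h₄ _ => Cpt.cone hT h₂ h₄) (fun r h => h.of_retract r)
    (fun n => cpt_gen n) h

theorem bijective_of_cpt {K : Dual.D R} (h : Cpt K) (I : Type u) (X : I → Dual.D R)
    [HasCoproduct fun i : ULift.{u + 1} I => X i.down] :
    Function.Bijective (CohDer.homSumToHomCoprod K fun i : ULift.{u + 1} I => X i.down) := by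
  classical
  let c : Cofan X := Cofan.mk (∐ fun i : ULift.{u + 1} I => X i.down)
    fun i => Sigma.ι (fun i : ULift.{u + 1} I => X i.down) ⟨i⟩
  have hc : IsColimit c := Cofan.IsColimit.mk _ (fun s => Sigma.desc fun i : ULift.{u + 1} I => s.inj i.down)
    (fun s i => by simp [c, Cofan.inj]) (fun s m hm => Sigma.hom_ext _ _ fun i : ULift.{u + 1} I => by simpa [c, Cofan.inj] using hm i.down)
  have happ : ∀ (i : ULift.{u + 1} I) (f : K ⟶ X i.down),
      CohDer.homSumToHomCoprod K (fun i : ULift.{u + 1} I => X i.down) (DirectSum.of _ i f) = f ≫ c.inj i.down := by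
    intro i f
    simp only [CohDer.homSumToHomCoprod]
    erw [DirectSum.toAddMonoid_of]
    rfl
  constructor
  · rw [injective_iff_map_eq_zero]
    intro z hz
    rw [← DirectSum.sum_support_of z, map_sum] at hz
    have hz' : ∑ i ∈ z.support.image ULift.down, z ⟨i⟩ ≫ c.inj i = 0 := by
      rw [Finset.sum_image (fun a _ b _ h => ULift.ext a b h)]
      exact (Finset.sum_congr rfl fun i _ => (happ i (z i)).symm).trans hz
    refine DFinsupp.ext fun i => ?_
    by_cases hi : i ∈ z.support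
    · exact eq_zero_of_sum hc _ (fun j => z ⟨j⟩) hz' (Finset.mem_image_of_mem _ hi)
    · exact DFinsupp.notMem_support_iff.1 hi
  · intro x
    obtain ⟨s, y, hy⟩ := h I X c hc x
    refine ⟨∑ i ∈ s, DirectSum.of (fun i : ULift.{u + 1} I => K ⟶ X i.down) ⟨i⟩ (y i), ?_⟩
    rw [map_sum]
    exact (Finset.sum_congr rfl fun i _ => happ ⟨i⟩ (y i)).trans hy.symm

theorem perfect_gen (n : ℤ) : DRing.IsPerfect R (DerivedCategory.Q.obj (ringCx R n)) :=
  DRingLib.perfect_of_iso (DRingLib.singleIso n _) (DRingLib.perfect_shift perfect_ring (-n))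
where
  perfect_ring : DRing.IsPerfect R (Dual.inD R R) := by
    refine ⟨ringCx R 0, 0, 0, fun i hi => isZero_single_obj_X _ _ _ _ (by omega), fun i => ?_,
      ⟨((DerivedCategory.singleFunctorIsoCompQ (ModuleCat.{u} R) 0).app _).symm⟩⟩
    by_cases hi : i = 0
    · subst hi
      exact finite_projective_of_iso (singleObjXSelf (ComplexShape.up ℤ) 0 _).symm
        ⟨inferInstanceAs (Module.Finite R R), inferInstanceAs (Module.Projective R R)⟩
    · haveI : Subsingleton ((ringCx R 0).X i) :=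
        ModuleCat.subsingleton_of_isZero (isZero_single_obj_X (ComplexShape.up ℤ) 0 (ModuleCat.of R R) i hi)
      exact ⟨inferInstance, inferInstance⟩

theorem cpt_of_bijective {K : Dual.D R}
    (h : ∀ (I : Type u) (X : I → Dual.D R) [HasCoproduct fun i : ULift.{u + 1} I => X i.down],
      Function.Bijective (CohDer.homSumToHomCoprod K fun i : ULift.{u + 1} I => X i.down)) : Cpt K := by
  classical
  intro κ X c hc x
  let F' : ULift.{u + 1} κ → Dual.D R := fun i => X i.down
  let hcol' : IsColimit (Cofan.mk c.pt (fun i : ULift.{u + 1} κ => c.inj i.down) : Cofan F') :=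
    Cofan.IsColimit.mk _ (fun s => Cofan.IsColimit.desc hc fun i => s.inj ⟨i⟩)
      (fun s i => by simp only [Cofan.inj, Cofan.mk_ι_app]; exact Cofan.IsColimit.fac hc _ i.down)
      (fun s m hm => Cofan.IsColimit.hom_ext hc _ _ fun i => by
        erw [Cofan.IsColimit.fac hc]
        exact hm ⟨i⟩)
  haveI : HasCoproduct F' := ⟨⟨⟨_, hcol'⟩⟩⟩
  let w := (coproductIsCoproduct F').coconePointUniqueUpToIso hcol'
  obtain ⟨z, hz⟩ := (h κ X).2 (x ≫ w.inv)
  refine ⟨z.support.image ULift.down, fun i => z ⟨i⟩, ?_⟩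
  rw [Finset.sum_image (fun a _ b _ h => ULift.ext a b h)]
  rw [← DirectSum.sum_support_of z, map_sum] at hz
  have := congrArg (· ≫ w.hom) hz
  simp only [Category.assoc, Iso.inv_hom_id, Category.comp_id, Preadditive.sum_comp] at this
  rw [← this]
  refine Finset.sum_congr rfl fun i _ => ?_
  simp only [CohDer.homSumToHomCoprod]
  erw [DirectSum.toAddMonoid_of]
  change (z i ≫ Sigma.ι F' i) ≫ w.hom = _
  rw [Category.assoc]
  congr 1
  exact IsColimit.comp_coconePointUniqueUpToIso_hom (coproductIsCoproduct F') hcol' ⟨i⟩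

theorem perfect_of_cpt {K : Dual.D R} (h : Cpt K) : DRing.IsPerfect R K := by
  let P : ObjectProperty (Dual.D R) := fun M => DRing.IsPerfect R M
  haveI : P.IsClosedUnderIsomorphisms := ⟨fun e h => DRingLib.perfect_of_iso e h⟩
  haveI : P.IsStableUnderRetracts := ⟨fun r h => DRingLib.perfect_retract r h⟩
  haveI : P.IsStableUnderShift ℤ :=
    { isStableUnderShiftBy := fun a => ⟨fun M hM => DRingLib.perfect_shift hM a⟩ }
  haveI : P.IsTriangulatedClosed₂ := ObjectProperty.IsTriangulatedClosed₂.mk' fun T hT h₁ h₃ =>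
    DRingLib.perfect_ext hT h₁ h₃
  haveI : P.ContainsZero :=
    { exists_zero := ⟨_, (Triangle.isZero₃_iff_isIso₁ _
        (DerivedCategory.mappingCone_triangle_distinguished (𝟙 (ringCx R 0)))).2
          (inferInstanceAs (IsIso (DerivedCategory.Q.map (𝟙 (ringCx R 0))))),
        DRingLib.perfect_cone (DerivedCategory.mappingCone_triangle_distinguished (𝟙 (ringCx R 0)))
          (perfect_gen 0) (perfect_gen 0)⟩ }
  haveI : P.IsTriangulated := { }
  exact @prop_of_compact R _ (smallD R) (Dual.D R) _ _ _ _ _ _ (cmpD R) _ _ (isEquivalence_cmpD R) P _ _ _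
    (fun n => DRingLib.perfect_of_iso ((cmpDIso R).app (ringCx R n)).symm (perfect_gen n)) K h

end Groth.Agent.DCat
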