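import Groth.Agent.DCat.Trunc
import Mathlib.Algebra.Homology.DerivedCategory.SingleTriangle
import Mathlib.CategoryTheory.Shift.CommShift
import Mathlib.CategoryTheory.Abelian.DiagramLemmas.Four
import Mathlib.CategoryTheory.Triangulated.Functor

/-! The way-out lemmas for morphisms of triangulated functors between derived categories. -/

set_option autoImplicit false
set_option backward.isDefEq.respectTransparency false
set_option backward.defeqAttrib.useBackward true

universe w w' v v' u u'

open CategoryTheory CategoryTheory.Limits CategoryTheory.Pretriangulated DerivedCategory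

namespace Groth.Agent.DCat.WayOut

variable {A : Type u} [Category.{v} A] [Abelian A] [HasDerivedCategory.{w} A]
  {B : Type u'} [Category.{v'} B] [Abelian B] [HasDerivedCategory.{w'} B]
  {F G : DerivedCategory A ⥤ DerivedCategory B} [F.CommShift ℤ] [G.CommShift ℤ]
  [F.IsTriangulated] [G.IsTriangulated] (η : F ⟶ G) [NatTrans.CommShift η ℤ]

local notation "t₀" => DerivedCategory.TStructure.t (C := A)

/-- `η` on a triangle. -/
@[simps]
def triMap (T : Triangle (DerivedCategory A)) : F.mapTriangle.obj T ⟶ G.mapTriangle.obj T where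
  hom₁ := η.app T.obj₁
  hom₂ := η.app T.obj₂
  hom₃ := η.app T.obj₃
  comm₁ := η.naturality T.mor₁
  comm₂ := η.naturality T.mor₂
  comm₃ := by
    dsimp
    rw [Category.assoc, NatTrans.shift_app_comm η (1 : ℤ) T.obj₁, ← Category.assoc, η.naturality,
      Category.assoc]

lemma isIso₂ {T : Triangle (DerivedCategory A)} (hT : T ∈ distTriang _)
    (h₁ : IsIso (η.app T.obj₁)) (h₃ : IsIso (η.app T.obj₃)) : IsIso (η.app T.obj₂) :=
  isIso₂_of_isIso₁₃ (triMap η T) (F.map_distinguished T hT) (G.map_distinguished T hT) h₁ h₃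

lemma isIso_of_iso {X Y : DerivedCategory A} (e : X ≅ Y) (h : IsIso (η.app Y)) :
    IsIso (η.app X) := (NatTrans.isIso_app_iff_of_iso η e).2 h

lemma isIso_shift {X : DerivedCategory A} (n : ℤ) (h : IsIso (η.app X)) : IsIso (η.app (X⟦n⟧)) := by
  rw [NatTrans.app_shift η n X]
  infer_instance

lemma isIso_zero {X : DerivedCategory A} (hX : IsZero X) : IsIso (η.app X) :=
  ⟨(G.map_isZero hX).to_ _, (F.map_isZero hX).eq_of_src _ _, (G.map_isZero hX).eq_of_src _ _⟩

/-- `X⟦n⟧` for `X` in degree 0 is concentrated in degree `-n`. -/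
noncomputable def singleIso (M : A) (b : ℤ) :
    (singleFunctor A b).obj M ≅ ((singleFunctor A 0).obj M)⟦-b⟧ :=
  (((singleFunctors A).shiftIso (-b) b 0 (by omega)).app M).symm

lemma isIso_single (M : A) (b : ℤ) (h : IsIso (η.app ((singleFunctor A 0).obj M))) :
    IsIso (η.app ((singleFunctor A b).obj M)) :=
  isIso_of_iso η (singleIso M b) (isIso_shift η (-b) h)

lemma prop_homology_truncLT (P : ObjectProperty A) [P.IsClosedUnderIsomorphisms]
    (hP : ∀ Z : A, IsZero Z → P Z) (X : DerivedCategory A) (b : ℤ)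
    (hX : ∀ i, P ((homologyFunctor A i).obj X)) (i : ℤ) :
    P ((homologyFunctor A i).obj ((t₀).truncLT b |>.obj X)) := by
  by_cases hi : i < b
  · have h1 := mono_homology_truncLTι X b i
    have h2 : Epi ((homologyFunctor A i).map (((t₀).truncLTι b).app X)) := by
      refine (HomologySequence.epi_homologyMap_mor₁_iff _
        ((t₀).triangleLTGE_distinguished b X) i).2 ?_
      exact (isZero_of_isGE ((t₀).truncGE b |>.obj X) b i hi).eq_of_tgt _ _
    have := isIso_of_mono_of_epi ((homologyFunctor A i).map (((t₀).truncLTι b).app X))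
    exact P.prop_of_iso (asIso ((homologyFunctor A i).map (((t₀).truncLTι b).app X))).symm (hX i)
  · have : ((t₀).truncLT b |>.obj X).IsLE (b - 1) := (t₀).isLE_truncLT_obj _ _ _ (by omega)
    exact hP _ (isZero_of_isLE _ (b - 1) i (by omega))

lemma prop_homology_truncGE (P : ObjectProperty A) [P.IsClosedUnderIsomorphisms]
    (hP : ∀ Z : A, IsZero Z → P Z) (X : DerivedCategory A) (b : ℤ)
    (hX : ∀ i, P ((homologyFunctor A i).obj X)) (i : ℤ) :
    P ((homologyFunctor A i).obj ((t₀).truncGE b |>.obj X)) := by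
  by_cases hi : i < b
  · exact hP _ (isZero_of_isGE ((t₀).truncGE b |>.obj X) b i hi)
  · have h1 := epi_homology_truncGEπ X b i
    have h2 : Mono ((homologyFunctor A i).map (((t₀).truncGEπ b).app X)) := by
      refine (HomologySequence.mono_homologyMap_mor₂_iff _
        ((t₀).triangleLTGE_distinguished b X) i).2 ?_
      have : ((t₀).truncLT b |>.obj X).IsLE (b - 1) := (t₀).isLE_truncLT_obj _ _ _ (by omega)
      exact (isZero_of_isLE _ (b - 1) i (by omega)).eq_of_src _ _
    have := isIso_of_mono_of_epi ((homologyFunctor A i).map (((t₀).truncGEπ b).app X))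
    exact P.prop_of_iso (asIso ((homologyFunctor A i).map (((t₀).truncGEπ b).app X))) (hX i)

lemma isZero_of_isGE_of_isLE (X : DerivedCategory A) (a b : ℤ) (h : b < a) [X.IsGE a] [X.IsLE b] :
    IsZero X :=
  (t₀).isZero X b a h

theorem isIso_of_bounded (P : ObjectProperty A) [P.IsClosedUnderIsomorphisms]
    (hη : ∀ M : A, P M → IsIso (η.app ((singleFunctor A 0).obj M)))
    (X : DerivedCategory A) (a b : ℤ) [X.IsGE a] [X.IsLE b]
    (hX : ∀ i, P ((homologyFunctor A i).obj X)) : IsIso (η.app X) := by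
  have hP : ∀ Z : A, IsZero Z → P Z := fun Z hZ =>
    P.prop_of_iso ((isZero_of_isGE X a (a - 1) (by omega)).iso hZ) (hX (a - 1))
  suffices ∀ (n : ℕ) (Y : DerivedCategory A), Y.IsGE a → Y.IsLE (a + n - 1) →
      (∀ i, P ((homologyFunctor A i).obj Y)) → IsIso (η.app Y) from
    this (b - a + 1).toNat X inferInstance ((t₀).isLE_of_le X b _ (by omega)) hX
  intro n
  induction n with
  | zero =>
    intro Y _ _ _
    exact isIso_zero η (isZero_of_isGE_of_isLE Y a (a + ((0 : ℕ) : ℤ) - 1) (by omega))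
  | succ n ih =>
    intro Y _ hle hY
    let c : ℤ := a + n
    have hT := (t₀).triangleLTGE_distinguished c Y
    have h1 : IsIso (η.app ((t₀).truncLT c |>.obj Y)) :=
      ih _ inferInstance ((t₀).isLE_truncLT_obj _ _ _ (by omega))
        (prop_homology_truncLT P hP Y c hY)
    refine isIso₂ η hT h1 ?_
    have : Y.IsLE c := (t₀).isLE_of_le Y (a + (n + 1 : ℕ) - 1) _ (by omega)
    obtain ⟨M, ⟨e⟩⟩ := exists_iso_singleFunctor_obj_of_isGE_of_isLE ((t₀).truncGE c |>.obj Y) c
    refine isIso_of_iso η e (isIso_single η M c (hη M ?_))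
    exact P.prop_of_iso (((homologyFunctor A c).mapIso e) ≪≫
      (singleFunctorCompHomologyFunctorIso A c).app M) (prop_homology_truncGE P hP Y c hY c)

lemma isIso_map_of_vanishing₃ (H : DerivedCategory A ⥤ DerivedCategory B) [H.CommShift ℤ]
    [H.IsTriangulated] {T : Triangle (DerivedCategory A)} (hT : T ∈ distTriang _) (q : ℤ)
    (h : IsZero ((homologyFunctor B q).obj (H.obj T.obj₃)))
    (h' : IsZero ((homologyFunctor B (q - 1)).obj (H.obj T.obj₃))) :
    IsIso ((homologyFunctor B q).map (H.map T.mor₁)) := by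
  have hT' := H.map_distinguished T hT
  have : Mono ((homologyFunctor B q).map (H.map T.mor₁)) :=
    (HomologySequence.mono_homologyMap_mor₁_iff _ hT' (q - 1) q).2 (h'.eq_of_src _ _)
  have : Epi ((homologyFunctor B q).map (H.map T.mor₁)) :=
    (HomologySequence.epi_homologyMap_mor₁_iff _ hT' q).2 (h.eq_of_tgt _ _)
  exact isIso_of_mono_of_epi _

lemma isIso_map_of_vanishing₁ (H : DerivedCategory A ⥤ DerivedCategory B) [H.CommShift ℤ]
    [H.IsTriangulated] {T : Triangle (DerivedCategory A)} (hT : T ∈ distTriang _) (q : ℤ)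
    (h : IsZero ((homologyFunctor B q).obj (H.obj T.obj₁)))
    (h' : IsZero ((homologyFunctor B (q + 1)).obj (H.obj T.obj₁))) :
    IsIso ((homologyFunctor B q).map (H.map T.mor₂)) := by
  have hT' := H.map_distinguished T hT
  have : Mono ((homologyFunctor B q).map (H.map T.mor₂)) :=
    (HomologySequence.mono_homologyMap_mor₂_iff _ hT' q).2 (h.eq_of_src _ _)
  have : Epi ((homologyFunctor B q).map (H.map T.mor₂)) :=
    (HomologySequence.epi_homologyMap_mor₂_iff _ hT' q (q + 1)).2 (h'.eq_of_tgt _ _)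
  exact isIso_of_mono_of_epi _

theorem isIso_of_boundedBelow (P : ObjectProperty A) [P.IsClosedUnderIsomorphisms]
    (hF : ∀ n₁ : ℤ, ∃ n₂ : ℤ, ∀ Y : DerivedCategory A, Y.IsGE n₂ → (F.obj Y).IsGE n₁)
    (hG : ∀ n₁ : ℤ, ∃ n₂ : ℤ, ∀ Y : DerivedCategory A, Y.IsGE n₂ → (G.obj Y).IsGE n₁)
    (hη : ∀ M : A, P M → IsIso (η.app ((singleFunctor A 0).obj M)))
    (X : DerivedCategory A) (a : ℤ) [X.IsGE a]
    (hX : ∀ i, P ((homologyFunctor A i).obj X)) : IsIso (η.app X) := by
  have hP : ∀ Z : A, IsZero Z → P Z := fun Z hZ =>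
    P.prop_of_iso ((isZero_of_isGE X a (a - 1) (by omega)).iso hZ) (hX (a - 1))
  rw [DerivedCategory.isIso_iff]
  intro q
  obtain ⟨m, hm⟩ := hF (q + 1)
  obtain ⟨m', hm'⟩ := hG (q + 1)
  let c := max m m'
  have hT := (t₀).triangleLTGE_distinguished c X
  have hle : ((t₀).truncLT c |>.obj X).IsLE (c - 1) := (t₀).isLE_truncLT_obj _ _ _ (by omega)
  have h1 := isIso_of_bounded η P hη ((t₀).truncLT c |>.obj X) a (c - 1)
    (prop_homology_truncLT P hP X c hX)
  have : ((t₀).truncGE c |>.obj X).IsGE m := (t₀).isGE_of_ge _ m c (le_max_left _ _)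
  have : ((t₀).truncGE c |>.obj X).IsGE m' := (t₀).isGE_of_ge _ m' c (le_max_right _ _)
  have hF' := hm ((t₀).truncGE c |>.obj X) inferInstance
  have hG' := hm' ((t₀).truncGE c |>.obj X) inferInstance
  have iF := isIso_map_of_vanishing₃ F hT q (isZero_of_isGE _ (q + 1) _ (by omega) (hX := hF'))
    (isZero_of_isGE _ (q + 1) _ (by omega) (hX := hF'))
  have iG := isIso_map_of_vanishing₃ G hT q (isZero_of_isGE _ (q + 1) _ (by omega) (hX := hG'))
    (isZero_of_isGE _ (q + 1) _ (by omega) (hX := hG'))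
  have sq := congrArg (homologyFunctor B q).map (η.naturality (((t₀).truncLTι c).app X))
  simp only [Functor.map_comp] at sq
  dsimp at iF iG sq
  exact IsIso.of_isIso_fac_left (f := (homologyFunctor B q).map (F.map (((t₀).truncLTι c).app X))) sq

theorem isIso_of_wayOut (P : ObjectProperty A) [P.IsClosedUnderIsomorphisms]
    (hP : ∀ Z : A, IsZero Z → P Z)
    (hF : ∀ n₁ : ℤ, ∃ n₂ : ℤ, ∀ Y : DerivedCategory A, Y.IsGE n₂ → (F.obj Y).IsGE n₁)
    (hF' : ∀ n₁ : ℤ, ∃ n₂ : ℤ, ∀ Y : DerivedCategory A, Y.IsLE n₂ → (F.obj Y).IsLE n₁)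
    (hG : ∀ n₁ : ℤ, ∃ n₂ : ℤ, ∀ Y : DerivedCategory A, Y.IsGE n₂ → (G.obj Y).IsGE n₁)
    (hG' : ∀ n₁ : ℤ, ∃ n₂ : ℤ, ∀ Y : DerivedCategory A, Y.IsLE n₂ → (G.obj Y).IsLE n₁)
    (hη : ∀ M : A, P M → IsIso (η.app ((singleFunctor A 0).obj M)))
    (X : DerivedCategory A) (hX : ∀ i, P ((homologyFunctor A i).obj X)) : IsIso (η.app X) := by
  rw [DerivedCategory.isIso_iff]
  intro q
  obtain ⟨m, hm⟩ := hF' (q - 1)
  obtain ⟨m', hm'⟩ := hG' (q - 1)
  let c := min m m' + 1
  have hT := (t₀).triangleLTGE_distinguished c X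
  have hle : ((t₀).truncLT c |>.obj X).IsLE (c - 1) := (t₀).isLE_truncLT_obj _ _ _ (by omega)
  have : ((t₀).truncLT c |>.obj X).IsLE m := (t₀).isLE_of_le _ (c - 1) m (by omega)
  have : ((t₀).truncLT c |>.obj X).IsLE m' := (t₀).isLE_of_le _ (c - 1) m' (by omega)
  have hFz := hm ((t₀).truncLT c |>.obj X) inferInstance
  have hGz := hm' ((t₀).truncLT c |>.obj X) inferInstance
  have h1 := isIso_of_boundedBelow η P hF hG hη ((t₀).truncGE c |>.obj X) c
    (prop_homology_truncGE P hP X c hX)
  have iF := isIso_map_of_vanishing₁ F hT q (isZero_of_isLE _ (q - 1) _ (by omega) (hX := hFz))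
    (isZero_of_isLE _ (q - 1) _ (by omega) (hX := hFz))
  have iG := isIso_map_of_vanishing₁ G hT q (isZero_of_isLE _ (q - 1) _ (by omega) (hX := hGz))
    (isZero_of_isLE _ (q - 1) _ (by omega) (hX := hGz))
  have sq := congrArg (homologyFunctor B q).map (η.naturality (((t₀).truncGEπ c).app X))
  simp only [Functor.map_comp] at sq
  dsimp at iF iG sq
  have : IsIso ((homologyFunctor B q).map (η.app X) ≫
      (homologyFunctor B q).map (G.map (((t₀).truncGEπ c).app X))) := by
    rw [← sq]; infer_instance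
  exact IsIso.of_isIso_comp_right _ ((homologyFunctor B q).map (G.map (((t₀).truncGEπ c).app X)))

/-- the morphism of homology sequences induced by `η` -/
noncomputable def seqMap (T : Triangle (DerivedCategory A)) (q : ℤ) :
    (homologyFunctor B 0).homologySequenceComposableArrows₅ (F.mapTriangle.obj T) (q - 1) q (by omega) ⟶
      (homologyFunctor B 0).homologySequenceComposableArrows₅ (G.mapTriangle.obj T) (q - 1) q (by omega) :=
    ComposableArrows.homMk₅ ((homologyFunctor B (q - 1)).map (η.app T.obj₁))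
      ((homologyFunctor B (q - 1)).map (η.app T.obj₂)) ((homologyFunctor B (q - 1)).map (η.app T.obj₃))
      ((homologyFunctor B q).map (η.app T.obj₁)) ((homologyFunctor B q).map (η.app T.obj₂))
      ((homologyFunctor B q).map (η.app T.obj₃))
      (((homologyFunctor B (q - 1)).map_comp _ _).symm.trans
        ((congrArg _ (η.naturality T.mor₁)).trans ((homologyFunctor B (q - 1)).map_comp _ _)))
      (((homologyFunctor B (q - 1)).map_comp _ _).symm.trans
        ((congrArg _ (η.naturality T.mor₂)).trans ((homologyFunctor B (q - 1)).map_comp _ _)))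
      ((homologyFunctor B 0).homologySequenceδ_naturality _ _ (triMap η T) (q - 1) q (by omega)).symm
      (((homologyFunctor B q).map_comp _ _).symm.trans
        ((congrArg _ (η.naturality T.mor₁)).trans ((homologyFunctor B q).map_comp _ _)))
      (((homologyFunctor B q).map_comp _ _).symm.trans
        ((congrArg _ (η.naturality T.mor₂)).trans ((homologyFunctor B q).map_comp _ _)))


theorem isIso_single_of_embedding (P : ObjectProperty A)
    (hP : ∀ X : A, ∃ (Y : A) (i : X ⟶ Y), P Y ∧ Mono i)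
    (hF : ∀ n₁ : ℤ, ∃ n₂ : ℤ, ∀ Y : DerivedCategory A, Y.IsGE n₂ → (F.obj Y).IsGE n₁)
    (hG : ∀ n₁ : ℤ, ∃ n₂ : ℤ, ∀ Y : DerivedCategory A, Y.IsGE n₂ → (G.obj Y).IsGE n₁)
    (hη : ∀ M : A, P M → IsIso (η.app ((singleFunctor A 0).obj M))) (M : A) :
    IsIso (η.app ((singleFunctor A 0).obj M)) := by
  let s := singleFunctor A 0
  obtain ⟨n, hn⟩ := hF 0
  obtain ⟨n', hn'⟩ := hG 0
  let m := max n n'
  have low : ∀ (N : A) (q : ℤ), q < -m →
      IsIso ((homologyFunctor B q).map (η.app (s.obj N))) := by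
    intro N q hq
    have key : ∀ (H : DerivedCategory A ⥤ DerivedCategory B) [H.CommShift ℤ] (k : ℤ),
        (∀ Y : DerivedCategory A, Y.IsGE k → (H.obj Y).IsGE 0) → k ≤ m →
        IsZero ((homologyFunctor B q).obj (H.obj (s.obj N))) := by
      intro H _ k hk hkm
      have h1 : (H.obj ((s.obj N)⟦-m⟧)).IsGE 0 := by
        refine hk _ ?_
        have : ((s.obj N)⟦-m⟧).IsGE m := (t₀).isGE_shift _ 0 (-m) m (by omega)
        exact (t₀).isGE_of_ge _ k m hkm
      refine (isZero_of_isGE (H.obj ((s.obj N)⟦-m⟧)) 0 (q + m) (by omega)).of_iso ?_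
      exact ((Functor.shiftIso (homologyFunctor B 0) (-m) (q + m) q (by omega)).app
        (H.obj (s.obj N))).symm ≪≫
        (homologyFunctor B (q + m)).mapIso ((H.commShiftIso (-m)).symm.app (s.obj N))
    exact ⟨(key G n' hn' (le_max_right _ _)).to_ _,
      (key F n hn (le_max_left _ _)).eq_of_src _ _,
      (key G n' hn' (le_max_right _ _)).eq_of_src _ _⟩
  rw [DerivedCategory.isIso_iff]
  suffices ∀ (k : ℕ) (N : A) (q : ℤ), q < -m + k →
      IsIso ((homologyFunctor B q).map (η.app (s.obj N))) from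
    fun q => this (q + m + 1).toNat M q (by omega)
  intro k
  induction k with
  | zero => exact fun N q hq => low N q (by simpa using hq)
  | succ k ih =>
    intro N q hq
    have step : ∀ N : A, ∃ (Y Z : A) (T : Triangle (DerivedCategory A)),
        T ∈ distTriang _ ∧ T.obj₁ = s.obj N ∧ T.obj₂ = s.obj Y ∧ T.obj₃ = s.obj Z ∧ P Y := by
      intro N
      obtain ⟨Y, i, hY, hi⟩ := hP N
      have hS : (ShortComplex.mk i (cokernel.π i) (cokernel.condition i)).ShortExact :=
        { exact := ShortComplex.exact_of_g_is_cokernel _ (cokernelIsCokernel i) }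
      exact ⟨Y, cokernel i, hS.singleTriangle, hS.singleTriangle_distinguished, rfl, rfl, rfl, hY⟩
    -- the five consecutive maps of the homology sequences
    have hmono : ∀ N : A, Mono ((homologyFunctor B q).map (η.app (s.obj N))) := by
      intro N
      obtain ⟨Y, Z, T, hT, e₁, e₂, e₃, hY⟩ := step N
      rw [← e₁]
      have i₂ : IsIso (η.app T.obj₂) := by rw [e₂]; exact hη Y hY
      have i₃ : IsIso ((homologyFunctor B (q - 1)).map (η.app T.obj₃)) := by
        rw [e₃]; exact ih Z (q - 1) (by omega)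
      exact Abelian.mono_of_epi_of_mono_of_mono'' (k := 1) (n := 5) (by omega)
        ((homologyFunctor B 0).homologySequenceComposableArrows₅_exact _ (F.map_distinguished T hT) (q - 1) q (by omega))
        ((homologyFunctor B 0).homologySequenceComposableArrows₅_exact _ (G.map_distinguished T hT) (q - 1) q (by omega))
        (seqMap η T q) 1 2 3 4 rfl rfl rfl rfl
        (by exact (inferInstance : Epi ((homologyFunctor B (q - 1)).map (η.app T.obj₂))))
        (by exact (inferInstance : Mono ((homologyFunctor B (q - 1)).map (η.app T.obj₃))))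
        (by exact (inferInstance : Mono ((homologyFunctor B q).map (η.app T.obj₂))))
    obtain ⟨Y, Z, T, hT, e₁, e₂, e₃, hY⟩ := step N
    have := hmono N
    rw [← e₁] at this ⊢
    have i₂ : IsIso (η.app T.obj₂) := by rw [e₂]; exact hη Y hY
    have i₃ : IsIso ((homologyFunctor B (q - 1)).map (η.app T.obj₃)) := by
      rw [e₃]; exact ih Z (q - 1) (by omega)
    have i₅ : Mono ((homologyFunctor B q).map (η.app T.obj₃)) := by rw [e₃]; exact hmono Z
    have : Epi ((homologyFunctor B q).map (η.app T.obj₁)) :=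
      Abelian.epi_of_epi_of_epi_of_mono'' (k := 2) (n := 5) (by omega)
        ((homologyFunctor B 0).homologySequenceComposableArrows₅_exact _ (F.map_distinguished T hT) (q - 1) q (by omega))
        ((homologyFunctor B 0).homologySequenceComposableArrows₅_exact _ (G.map_distinguished T hT) (q - 1) q (by omega))
        (seqMap η T q) 2 3 4 5 rfl rfl rfl rfl
        (by exact (inferInstance : Epi ((homologyFunctor B (q - 1)).map (η.app T.obj₃))))
        (by exact (inferInstance : Epi ((homologyFunctor B q).map (η.app T.obj₂))))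
        i₅
    exact isIso_of_mono_of_epi _

end Groth.Agent.DCat.WayOut
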