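import Groth.Agent.DCat.DerivedAdj
import Groth.Agent.DCat.RDUnbounded
import Groth.Agent.DCat.DerivedLimits
import Mathlib.CategoryTheory.Abelian.GrothendieckCategory.ModuleEmbedding.GabrielPopescu
import Mathlib.Algebra.Homology.DerivedCategory.ExactFunctor
import Mathlib.CategoryTheory.Monad.Adjunction
import Mathlib.CategoryTheory.Generator.Preadditive

/-! The derived Gabriel–Popescu localization. -/

set_option autoImplicit false
set_option backward.isDefEq.respectTransparency false
set_option backward.defeqAttrib.useBackward true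
set_option linter.style.haveILetI false

universe w w' v v' u u'

open CategoryTheory CategoryTheory.Limits

namespace Groth.Agent.DCat

variable {M : Type u'} [Category.{v'} M] [Abelian M] [HasDerivedCategory.{w'} M]
  {C : Type u} [Category.{v} C] [Abelian C] [HasDerivedCategory.{w} C]
  {F : M ⥤ C} [F.Additive] [PreservesFiniteLimits F] [PreservesFiniteColimits F] {G : C ⥤ M} [G.Additive]
  (h : EnoughKInj C)
  [(G.mapHomotopyCategory (ComplexShape.up ℤ) ⋙ DerivedCategory.Qh).HasRightDerivedFunctor
    (HomotopyCategory.quasiIso C (ComplexShape.up ℤ))]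

include h

/-- A right adjoint of an exact functor derives to a right adjoint; if it is fully faithful, so is its derived functor. -/
theorem derived_localization (adj : F ⊣ G) :
    Nonempty (F.mapDerivedCategory ⊣
      (G.mapHomotopyCategory (ComplexShape.up ℤ) ⋙ DerivedCategory.Qh).totalRightDerived
        DerivedCategory.Qh (HomotopyCategory.quasiIso C (ComplexShape.up ℤ))) ∧
    (IsIso adj.counit → Nonempty ((G.mapHomotopyCategory (ComplexShape.up ℤ) ⋙ DerivedCategory.Qh).totalRightDerived
        DerivedCategory.Qh (HomotopyCategory.quasiIso C (ComplexShape.up ℤ)) ⋙ F.mapDerivedCategory ≅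
          𝟭 (DerivedCategory C))) := by
  let W₁ := HomotopyCategory.quasiIso M (ComplexShape.up ℤ)
  let W₂ := HomotopyCategory.quasiIso C (ComplexShape.up ℤ)
  let Fh := F.mapHomotopyCategory (ComplexShape.up ℤ)
  let Gh := G.mapHomotopyCategory (ComplexShape.up ℤ)
  let LF := F.mapDerivedCategory
  let RG := (Gh ⋙ DerivedCategory.Qh).totalRightDerived DerivedCategory.Qh W₂
  let β := (Gh ⋙ DerivedCategory.Qh).totalRightDerivedUnit DerivedCategory.Qh W₂
  let α := F.mapDerivedCategoryFactorsh.hom
  have hF : W₁.IsInvertedBy (Fh ⋙ (DerivedCategory.Qh : _ ⥤ DerivedCategory C)) := fun X Y s hs => by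
    haveI := Localization.inverts DerivedCategory.Qh W₁ s hs
    exact (NatIso.isIso_map_iff F.mapDerivedCategoryFactorsh s).1 (Functor.map_isIso LF _)
  haveI : LF.IsLeftDerivedFunctor α W₁ :=
    Functor.isLeftDerivedFunctor_of_inverts W₁ LF F.mapDerivedCategoryFactorsh
  haveI : (LF ⋙ RG).IsLeftDerivedFunctor ((Functor.associator _ _ _).inv ≫ Functor.whiskerRight α RG) W₁ :=
    isLeftDerived_of_isIso (P := ⊤) (fun X => ⟨X, 𝟙 X, trivial, W₁.id_mem _⟩)
      (fun X Y s _ _ hs => by
        haveI := hF s hs
        exact Functor.map_isIso RG ((Fh ⋙ DerivedCategory.Qh).map s)) _ fun X _ => by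
      dsimp [α]
      infer_instance
  haveI h₂ : (RG ⋙ LF).IsRightDerivedFunctor (Functor.whiskerRight β LF ≫ (Functor.associator _ _ _).hom) W₂ :=
    isRightDerived_of_isIso (kInj_resolution h) (fun X Y s hX hY hs => by
        haveI := kInj_isIso_map (Gh ⋙ DerivedCategory.Qh) s hX hY hs
        exact Functor.map_isIso LF ((Gh ⋙ DerivedCategory.Qh).map s)) _ fun X hX => by
      haveI := isIso_unit_of_mem (kInj_resolution h) (kInj_isIso_map (Gh ⋙ DerivedCategory.Qh)) β hX
      dsimp
      infer_instance
  refine ⟨⟨(adjHot (ComplexShape.up ℤ) adj).derived W₁ W₂ α β⟩, fun hc => ?_⟩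
  haveI := hc
  let e₀ : Gh ⋙ Fh ≅ 𝟭 _ :=
    NatIso.ofComponents (fun K => (HomotopyCategory.quotient C _).mapIso
        (HomologicalComplex.Hom.isoOfComponents (fun n => (asIso adj.counit).app (K.as.X n))
          (fun i j _ => (adj.counit.naturality (K.as.d i j)).symm)))
      (fun {K L} g => by
        obtain ⟨K⟩ := K
        obtain ⟨L⟩ := L
        obtain ⟨g, rfl⟩ := (HomotopyCategory.quotient C _).map_surjective g
        change (HomotopyCategory.quotient C _).map ((F.mapHomologicalComplex _).map ((G.mapHomologicalComplex _).map g)) ≫ _ =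
          _ ≫ (HomotopyCategory.quotient C _).map g
        refine ((HomotopyCategory.quotient C _).map_comp _ _).symm.trans
          ((congrArg (HomotopyCategory.quotient C _).map ?_).trans ((HomotopyCategory.quotient C _).map_comp _ _))
        ext n
        exact adj.counit.naturality (g.f n))
  let e : (Gh ⋙ DerivedCategory.Qh) ⋙ LF ≅ DerivedCategory.Qh :=
    Functor.associator _ _ _ ≪≫ Functor.isoWhiskerLeft Gh F.mapDerivedCategoryFactorsh ≪≫
      (Functor.associator _ _ _).symm ≪≫ Functor.isoWhiskerRight e₀ _ ≪≫ Functor.leftUnitor _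
  haveI := Functor.isRightDerivedFunctor_of_inverts W₂ (𝟭 (DerivedCategory C))
    (L := DerivedCategory.Qh) (Functor.rightUnitor _ ≪≫ e.symm)
  exact ⟨Functor.rightDerivedUnique (RG ⋙ LF) (𝟭 _) (Functor.whiskerRight β LF ≫ (Functor.associator _ _ _).hom)
    (Functor.rightUnitor _ ≪≫ e.symm).inv W₂⟩

end Groth.Agent.DCat
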