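import Groth.Agent.DCat.CompactEnv
import Groth.Agent.DCat.DerivedLimits
import Mathlib.Algebra.Category.ModuleCat.Projective
import Mathlib.Algebra.Category.ModuleCat.Abelian
import Mathlib.Algebra.Homology.ShortComplex.ModuleCat
import Mathlib.Algebra.Category.ModuleCat.AB
import Mathlib.Algebra.Homology.HomotopyCategory.KProjective
import Mathlib.Algebra.Homology.DerivedCategory.KProjective
import Mathlib.CategoryTheory.Abelian.GrothendieckCategory.Basic
import Mathlib.CategoryTheory.ShrinkYoneda

/-! The derived category of modules is compactly generated by the ring. -/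

set_option autoImplicit false
set_option backward.isDefEq.respectTransparency false
set_option backward.defeqAttrib.useBackward true
set_option linter.style.haveILetI false

universe w v u

open CategoryTheory CategoryTheory.Limits HomologicalComplex
open scoped ZeroObject

namespace Groth.Agent.DCat

section Shrink

variable (A : Type u) [Category.{v} A] [Abelian A]

/-- A derived category with small morphism types. -/
noncomputable def smallDerivedCategory (h : EnoughKInj A) : HasDerivedCategory.{v} A :=
  letI := HasDerivedCategory.standard A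
  letI := reflectiveRho h
  haveI : LocallySmall.{v} (DerivedCategory A) := ⟨fun X Y => small_of_injective (f := (rho h).map) (rho h).map_injective⟩
  haveI : (DerivedCategory.Q ⋙ (ShrinkHoms.equivalence (DerivedCategory A)).functor).IsLocalization
      (HomologicalComplex.quasiIso A (ComplexShape.up ℤ)) :=
    Functor.IsLocalization.of_equivalence_target DerivedCategory.Q _ _ (ShrinkHoms.equivalence (DerivedCategory A)) (Iso.refl _)
  { D := ShrinkHoms (DerivedCategory A)
    L := DerivedCategory.Q ⋙ (ShrinkHoms.equivalence (DerivedCategory A)).functor }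

end Shrink

variable (R : Type v) [Ring R]

/-- The ring as a complex. -/
noncomputable def ringCx (n : ℤ) : CochainComplex (ModuleCat.{v} R) ℤ :=
  (HomologicalComplex.single (ModuleCat.{v} R) (ComplexShape.up ℤ) n).obj (ModuleCat.of R R)

instance isKProjective_ringCx (n : ℤ) : (ringCx R n).IsKProjective := by
  haveI : CochainComplex.IsStrictlyLE (ringCx R n) n :=
    (CochainComplex.isStrictlyLE_iff _ n).2 fun i hi => isZero_single_obj_X _ n _ i (by omega)
  haveI : ∀ i : ℤ, Projective ((ringCx R n).X i) := fun i => by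
    by_cases hi : i = n
    · subst hi
      exact Projective.of_iso (singleObjXSelf (ComplexShape.up ℤ) i (ModuleCat.of R R)).symm
        ((IsProjective.iff_projective (R := R) R).1 inferInstance)
    · exact Projective.of_iso (isZero_single_obj_X _ n _ i hi).isoZero.symm inferInstance
  exact CochainComplex.isKProjective_of_projective _ n

variable [HasDerivedCategory.{v} (ModuleCat.{v} R)]

lemma exists_Q_map_ringCx (n : ℤ) {L : CochainComplex (ModuleCat.{v} R) ℤ}
    (α : DerivedCategory.Q.obj (ringCx R n) ⟶ DerivedCategory.Q.obj L) :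
    ∃ f : ringCx R n ⟶ L, DerivedCategory.Q.map f = α := by
  obtain ⟨f', hf⟩ := (CochainComplex.IsKProjective.Qh_map_bijective (ringCx R n) _).2
    ((DerivedCategory.quotientCompQhIso (ModuleCat.{v} R)).hom.app _ ≫ α ≫
      (DerivedCategory.quotientCompQhIso (ModuleCat.{v} R)).inv.app L)
  obtain ⟨f, rfl⟩ := (HomotopyCategory.quotient _ (ComplexShape.up ℤ)).map_surjective f'
  refine ⟨f, ?_⟩
  rw [← cancel_epi ((DerivedCategory.quotientCompQhIso (ModuleCat.{v} R)).hom.app (ringCx R n))]
  refine ((DerivedCategory.quotientCompQhIso (ModuleCat.{v} R)).hom.naturality f).symm.trans ?_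
  exact (congrArg (· ≫ _) hf).trans (by simp)

theorem isZero_of_forall_ringCx (X : DerivedCategory (ModuleCat.{v} R))
    (h : ∀ (n : ℤ) (f : DerivedCategory.Q.obj (ringCx R n) ⟶ X), f = 0) : IsZero X := by
  obtain ⟨L, ⟨e⟩⟩ : ∃ L, Nonempty (DerivedCategory.Q.obj L ≅ X) := ⟨_, ⟨DerivedCategory.Q.objObjPreimageIso X⟩⟩
  refine (IsZero.of_iso ?_ e.symm)
  have hL : ∀ n, L.ExactAt n := by
    intro n
    rw [HomologicalComplex.exactAt_iff' L (n - 1) n (n + 1) (by simp) (by simp), ShortComplex.moduleCat_exact_iff]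
    intro (z : L.X n) (hz : L.d n (n + 1) z = 0)
    let f : ringCx R n ⟶ L := HomologicalComplex.mkHomFromSingle (ModuleCat.ofHom (LinearMap.toSpanSingleton R _ z)) (fun k hk => by
      simp only [ComplexShape.up_Rel] at hk
      subst hk
      refine ModuleCat.hom_ext (LinearMap.ext_ring ?_)
      change L.d n (n + 1) ((1 : R) • z) = 0
      rw [one_smul, hz])
    have h0 : DerivedCategory.Q.map f = 0 := by
      rw [← cancel_mono e.hom, zero_comp]
      exact h n _
    have h1 : (HomotopyCategory.quotient _ (ComplexShape.up ℤ)).map f = 0 := by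
      apply (CochainComplex.IsKProjective.Qh_map_bijective (ringCx R n) _).1
      rw [Functor.map_zero, ← cancel_mono ((DerivedCategory.quotientCompQhIso (ModuleCat.{v} R)).hom.app L), zero_comp]
      exact ((DerivedCategory.quotientCompQhIso (ModuleCat.{v} R)).hom.naturality f).trans (by rw [h0, comp_zero])
    have H := HomotopyCategory.homotopyOfEq _ _ (show (HomotopyCategory.quotient _ (ComplexShape.up ℤ)).map f =
      (HomotopyCategory.quotient _ (ComplexShape.up ℤ)).map 0 by rw [h1, Functor.map_zero])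
    have hc := H.comm n
    rw [dNext_eq _ (show (ComplexShape.up ℤ).Rel n (n + 1) by simp),
      prevD_eq _ (show (ComplexShape.up ℤ).Rel (n - 1) n by simp), HomologicalComplex.zero_f, add_zero] at hc
    let one : (ringCx R n).X n := (singleObjXSelf (ComplexShape.up ℤ) n (ModuleCat.of R R)).inv (1 : R)
    have hf : f.f n one = z := by
      simp only [f, one, HomologicalComplex.mkHomFromSingle_f]
      refine (congrArg (fun g => (ConcreteCategory.hom g) (1 : R))
        (Iso.inv_hom_id_assoc (singleObjXSelf (ComplexShape.up ℤ) n (ModuleCat.of R R)) (ModuleCat.ofHom (LinearMap.toSpanSingleton R (L.X n) z)))).trans ?_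
      exact one_smul R z
    have hd : (ringCx R n).d n (n + 1) = 0 := HomologicalComplex.single_obj_d _ _ _ _ _
    rw [hd, zero_comp, zero_add] at hc
    exact ⟨H.hom n (n - 1) one, (congrArg (fun g => (ConcreteCategory.hom g) one) hc).symm.trans hf⟩
  have hz : QuasiIso (0 : L ⟶ (0 : CochainComplex (ModuleCat.{v} R) ℤ)) := ⟨fun n => by
    rw [quasiIsoAt_iff_exactAt (0 : L ⟶ (0 : CochainComplex (ModuleCat.{v} R) ℤ)) n (hL n)]
    exact ExactAt.of_isZero ((HomologicalComplex.eval _ _ n).map_isZero (isZero_zero _))⟩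
  haveI := hz
  haveI : IsIso (DerivedCategory.Q.map (0 : L ⟶ (0 : CochainComplex (ModuleCat.{v} R) ℤ))) :=
    (DerivedCategory.isIso_Q_map_iff_quasiIso (C := ModuleCat.{v} R) _).2 hz
  exact (DerivedCategory.Q.map_isZero (isZero_zero _)).of_iso (asIso (DerivedCategory.Q.map (0 : L ⟶ (0 : CochainComplex (ModuleCat.{v} R) ℤ))))

theorem finFac_ringCx [HasCoproducts.{v} (DerivedCategory (ModuleCat.{v} R))] (n : ℤ) :
    FinFac (DerivedCategory.Q.obj (ringCx R n)) := by
  classical
  intro κ X α
  let h := enoughKInj_of_isGrothendieckAbelian (A := ModuleCat.{v} R)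
  haveI : DerivedCategory.Qh.IsLeftAdjoint := ⟨_, ⟨rhoAdj h⟩⟩
  let L : κ → CochainComplex (ModuleCat.{v} R) ℤ := fun k => DerivedCategory.Q.objPreimage (X k)
  let e : ∀ k, DerivedCategory.Q.obj (L k) ≅ X k := fun k => DerivedCategory.Q.objObjPreimageIso (X k)
  let hc := isColimitCofanMkObjOfIsColimit DerivedCategory.Qh _ _ (isColimitCofanQuotient (coproductIsCoproduct L))
  let i : ∀ k, DerivedCategory.Qh.obj ((HomotopyCategory.quotient _ (ComplexShape.up ℤ)).obj (L k)) ≅ X k :=
    fun k => (DerivedCategory.quotientCompQhIso _).app (L k) ≪≫ e k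
  let c' : Cofan X := Cofan.mk (DerivedCategory.Qh.obj ((HomotopyCategory.quotient _ (ComplexShape.up ℤ)).obj (∐ L)))
    fun k => (i k).inv ≫ DerivedCategory.Qh.map ((HomotopyCategory.quotient _ (ComplexShape.up ℤ)).map (Sigma.ι L k))
  have hc' : IsColimit c' := Cofan.IsColimit.mk _
    (fun s => Cofan.IsColimit.desc hc fun k => (i k).hom ≫ s.inj k)
    (fun s k => by
      simp only [c', Cofan.inj, Cofan.mk_ι_app, Category.assoc]
      erw [Cofan.IsColimit.fac hc]
      exact Iso.inv_hom_id_assoc _ _)
    (fun s m hm => Cofan.IsColimit.hom_ext hc _ _ fun k => by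
      erw [Cofan.IsColimit.fac hc]
      have := (i k).hom ≫= hm k
      simp only [c', Cofan.inj, Cofan.mk_ι_app, Category.assoc, Iso.hom_inv_id_assoc] at this ⊢
      exact this)
  let Φ : DerivedCategory.Q.obj (∐ L) ≅ ∐ X :=
    ((DerivedCategory.quotientCompQhIso _).app (∐ L)).symm ≪≫
      ((coproductIsCoproduct X).coconePointUniqueUpToIso hc').symm
  have hι : ∀ k, DerivedCategory.Q.map (Sigma.ι L k) ≫ Φ.hom = (e k).hom ≫ Sigma.ι X k := by
    intro k
    have h1 : c'.inj k ≫ ((coproductIsCoproduct X).coconePointUniqueUpToIso hc').inv = Sigma.ι X k :=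
      IsColimit.comp_coconePointUniqueUpToIso_inv (coproductIsCoproduct X) hc' ⟨k⟩
    rw [← h1]
    simp only [Φ, c', i, Iso.trans_hom, Iso.symm_hom, Iso.trans_inv, Iso.app_inv, Cofan.inj, Cofan.mk_ι_app,
      Category.assoc, Iso.hom_inv_id_assoc]
    exact ((DerivedCategory.quotientCompQhIso (ModuleCat.{v} R)).inv.naturality_assoc (Sigma.ι L k) _)
  have hp : ∀ s, DerivedCategory.Q.map (finProj L s) ≫ Φ.hom = Φ.hom ≫ finProj X s := by
    intro s
    rw [← cancel_epi Φ.inv, Iso.inv_hom_id_assoc]
    refine Sigma.hom_ext _ _ fun k => ?_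
    have : Sigma.ι X k ≫ Φ.inv = (e k).inv ≫ DerivedCategory.Q.map (Sigma.ι L k) := by
      rw [← cancel_mono Φ.hom, Category.assoc, Category.assoc, Iso.inv_hom_id, Category.comp_id, hι,
        Iso.inv_hom_id_assoc]
    rw [reassoc_of% this, ← DerivedCategory.Q.map_comp_assoc, ι_finProj, ι_finProj]
    split_ifs
    · rw [hι, Iso.inv_hom_id_assoc]
    · rw [DerivedCategory.Q.map_zero, zero_comp, comp_zero]
  obtain ⟨f, hf⟩ := exists_Q_map_ringCx R n (α ≫ Φ.inv)
  let S : Submodule R ((∐ L).X n) :=
    { carrier := {y | ∃ s, (finProj L s).f n y = y}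
      zero_mem' := ⟨∅, map_zero _⟩
      add_mem' := by
        rintro y y' ⟨s, hs⟩ ⟨t, ht⟩
        refine ⟨s ∪ t, ?_⟩
        have h1 : ∀ (a b : Finset κ), a ⊆ b → ∀ x, (finProj L b).f n ((finProj L a).f n x) = (finProj L a).f n x :=
          fun a b hab x => congrArg (fun g : ∐ L ⟶ ∐ L => g.f n x) (finProj_comp L hab)
        rw [map_add, ← hs, ← ht, h1 _ _ Finset.subset_union_left, h1 _ _ Finset.subset_union_right]
      smul_mem' := by
        rintro a y ⟨s, hs⟩
        exact ⟨s, by rw [map_smul, hs]⟩ }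
  have hS : S = ⊤ := by
    have h0 : ModuleCat.ofHom S.mkQ = (0 : (∐ L).X n ⟶ ModuleCat.of R ((∐ L).X n ⧸ S)) :=
      Cofan.IsColimit.hom_ext (isColimitCofanMkObjOfIsColimit (HomologicalComplex.eval (ModuleCat.{v} R) (ComplexShape.up ℤ) n)
        _ _ (coproductIsCoproduct L)) _ _ fun k => ModuleCat.hom_ext (LinearMap.ext fun x => by
        change S.mkQ ((Sigma.ι L k).f n x) = 0
        exact (Submodule.Quotient.mk_eq_zero S).2 ⟨{k}, congrArg (fun g : L k ⟶ ∐ L => g.f n x)
          ((ι_finProj L {k} k).trans (if_pos (Finset.mem_singleton_self k)))⟩)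
    rw [← Submodule.ker_mkQ S, LinearMap.ker_eq_top]
    exact congrArg ModuleCat.Hom.hom h0
  let one : (ringCx R n).X n := (singleObjXSelf (ComplexShape.up ℤ) n (ModuleCat.of R R)).inv (1 : R)
  obtain ⟨s, hs⟩ : f.f n one ∈ S := hS ▸ Submodule.mem_top
  have hfs : f ≫ finProj L s = f := by
    refine HomologicalComplex.from_single_hom_ext ?_
    rw [← cancel_epi (singleObjXSelf (ComplexShape.up ℤ) n (ModuleCat.of R R)).inv]
    exact ModuleCat.hom_ext (LinearMap.ext_ring hs)
  refine ⟨s, ?_⟩
  have e1 : α = DerivedCategory.Q.map f ≫ Φ.hom := by rw [hf, Category.assoc, Φ.inv_hom_id, Category.comp_id]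
  rw [e1, Category.assoc, ← hp, ← DerivedCategory.Q.map_comp_assoc, hfs]

end Groth.Agent.DCat
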