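import Groth.Agent.DCat.BrownCor
import Groth.Agent.DCat.ModGen
import Groth.Agent.DCat.GPDerived

/-! Brown representability for derived categories of Grothendieck abelian categories. -/

set_option autoImplicit false
set_option backward.isDefEq.respectTransparency false
set_option backward.defeqAttrib.useBackward true
set_option linter.style.haveILetI false

universe v v' u u'

open CategoryTheory CategoryTheory.Limits CategoryTheory.Pretriangulated Opposite

namespace Groth.Agent.DCat

open Brown

/-- A representing pair transfers along a localization with fully faithful right adjoint. -/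
theorem universal_of_localization {T : Type u'} [Category.{v} T] {D : Type u} [Category.{v} D]
    {L : T ⥤ D} {R : D ⥤ T} (adj : L ⊣ R) [IsIso adj.counit] (H : Dᵒᵖ ⥤ AddCommGrpCat.{v})
    {X : T} (x : H.obj (op (L.obj X))) (hx : ∀ M : T, Function.Bijective fun f : M ⟶ X => pb H (L.map f) x) (Y : D) :
    Function.Bijective fun g : Y ⟶ L.obj X => pb H g x := by
  let η := adj.unit.app X
  have hη : IsIso (L.map η) := by
    rw [show L.map η = inv (adj.counit.app (L.obj X)) from IsIso.eq_inv_of_inv_hom_id (adj.left_triangle_components X)]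
    infer_instance
  obtain ⟨r, hr⟩ := (hx (R.obj (L.obj X))).2 (pb H (inv (L.map η)) x)
  have h1 : η ≫ r = 𝟙 X := (hx X).1 (by
    simp only [L.map_comp, pb_comp]
    refine (congrArg (pb H (L.map η)) hr).trans ?_
    rw [← pb_comp, IsIso.hom_inv_id]
    exact congrArg (pb H · x) (L.map_id X).symm)
  have h2 : r ≫ η = 𝟙 _ := by
    apply (adj.homEquiv _ _).symm.injective
    rw [Adjunction.homEquiv_counit, Adjunction.homEquiv_counit, L.map_comp]
    have : L.map r = inv (L.map η) := IsIso.eq_inv_of_hom_inv_id (((L.map_comp η r).symm.trans (congrArg L.map h1)).trans (L.map_id X))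
    rw [this, IsIso.inv_hom_id]
    exact congrArg (· ≫ _) (L.map_id _).symm
  haveI : IsIso η := ⟨r, h1, h2⟩
  have hb : Function.Bijective fun f : R.obj Y ⟶ X => inv (adj.counit.app Y) ≫ L.map f := by
    have e : (fun f : R.obj Y ⟶ X => inv (adj.counit.app Y) ≫ L.map f) =
        (Iso.homCongr (asIso (adj.counit.app Y)) (Iso.refl (L.obj X))) ∘ (adj.homEquiv (R.obj Y) (L.obj X)).symm ∘
          (Iso.homCongr (Iso.refl (R.obj Y)) (asIso η)) := by
      funext f
      simp [Adjunction.homEquiv_counit, η]
    rw [e]
    exact (Equiv.bijective _).comp ((Equiv.bijective _).comp (Equiv.bijective _))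
  refine (Function.Bijective.of_comp_iff _ hb).1 ?_
  have e : ((fun g : Y ⟶ L.obj X => pb H g x) ∘ fun f : R.obj Y ⟶ X => inv (adj.counit.app Y) ≫ L.map f) =
      (fun z => pb H (inv (adj.counit.app Y)) z) ∘ fun f : R.obj Y ⟶ X => pb H (L.map f) x := funext fun f => pb_comp H _ _ _
  rw [e]
  refine Function.Bijective.comp (Function.bijective_iff_has_inverse.2 ⟨pb H (adj.counit.app Y), fun z => ?_, fun z => ?_⟩) (hx _)
  · rw [← pb_comp, IsIso.hom_inv_id, pb_id]
  · change pb H _ (pb H _ z) = z
    rw [← pb_comp, IsIso.inv_hom_id, pb_id]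

section

variable {A : Type u} [Category.{v} A] [Abelian A] [IsGrothendieckAbelian.{v} A] [HasDerivedCategory.{v} A]

/-- Cohomological functors turning sums into products are representable on `D(A)`. -/
theorem representable_derived [HasCoproducts.{v} (DerivedCategory A)] (H : (DerivedCategory A)ᵒᵖ ⥤ AddCommGrpCat.{v})
    [H.IsHomological] (hH : IsProd H) :
    ∃ (Z : DerivedCategory A) (a : H.obj (op Z)), ∀ Y, Function.Bijective fun g : Y ⟶ Z => pb H g a := by
  obtain ⟨U, hU⟩ := HasSeparator.hasSeparator (C := A)
  let adj := IsGrothendieckAbelian.tensorObjPreadditiveCoyonedaObjAdjunction U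
  haveI := IsGrothendieckAbelian.GabrielPopescu.full U hU
  haveI : (preadditiveCoyonedaObj U).Faithful := (isSeparator_iff_faithful_preadditiveCoyonedaObj U).1 hU
  haveI := IsGrothendieckAbelian.GabrielPopescu.preservesFiniteLimits U hU
  haveI : PreservesFiniteColimits (IsGrothendieckAbelian.tensorObj U) := inferInstance
  haveI : (IsGrothendieckAbelian.tensorObj U).Additive := adj.left_adjoint_additive
  let M := ModuleCat.{v} (End U)ᵐᵒᵖ
  have hM : EnoughKInj M := enoughKInj_of_isGrothendieckAbelian
  letI : HasDerivedCategory.{v} M := smallDerivedCategory M hM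
  have hA : EnoughKInj A := enoughKInj_of_isGrothendieckAbelian
  haveI : ((preadditiveCoyonedaObj U).mapHomotopyCategory (ComplexShape.up ℤ) ⋙ DerivedCategory.Qh).HasRightDerivedFunctor
      (HomotopyCategory.quasiIso A (ComplexShape.up ℤ)) := hasRightDerivedFunctor_of_enoughKInj hA _
  obtain ⟨⟨a⟩, hiso⟩ := derived_localization hA adj
  obtain ⟨e⟩ := hiso inferInstance
  haveI := a.isIso_counit_of_iso e
  let LF := (IsGrothendieckAbelian.tensorObj U).mapDerivedCategory
  haveI : HasCoproducts.{v} (DerivedCategory M) := fun J => hasCoproductsOfShape_derived hM J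
  haveI : HasColimitsOfShape (Discrete ℕ) (DerivedCategory M) :=
    hasColimitsOfShape_of_equivalence (Discrete.equivalence (Equiv.ulift.{v} : ULift.{v} ℕ ≃ ℕ))
  let G : ULift.{v} ℤ → DerivedCategory M := fun n => DerivedCategory.Q.obj (ringCx (End U)ᵐᵒᵖ n.down)
  have hG : IsPerfGen (shifts G) := isPerfGen_shifts G
    (fun X hX => isZero_of_forall_ringCx _ X fun n f => by
      rw [← cancel_epi ((shiftFunctorZero (DerivedCategory M) ℤ).hom.app (G ⟨n⟩)), comp_zero]
      exact hX ⟨n⟩ 0 _)
    (fac_of_compact G fun n => (isCompactObject_iff _).2 (finFac_ringCx _ _))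
  haveI : (LF.op ⋙ H).IsHomological :=
    { map_zero := fun _ _ => by simp
      exact := fun T hT => by
        let T' := ((triangleOpEquivalence (DerivedCategory M)).inverse.obj T).unop
        exact H.map_distinguished_op_exact (LF.mapTriangle.obj T') (LF.map_distinguished T' (unop_distinguished T hT)) }
  have hH' : IsProd (LF.op ⋙ H) := fun κ X => by
    let cs := sigmaComparison LF X
    haveI : PreservesColimit (Discrete.functor X) LF := a.leftAdjoint_preservesColimits.preservesColimitsOfShape.preservesColimit
    have e : (fun (y : H.obj (op (LF.obj (∐ X)))) k => pb H (LF.map (Sigma.ι X k)) y) =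
        (fun (z : H.obj (op (∐ fun k => LF.obj (X k)))) k => pb H (Sigma.ι (fun k => LF.obj (X k)) k) z) ∘ pb H cs := by
      funext y k
      simp only [Function.comp_apply, ← pb_comp, cs, ι_comp_sigmaComparison]
    change Function.Bijective fun (y : H.obj (op (LF.obj (∐ X)))) k => pb H (LF.map (Sigma.ι X k)) y
    rw [e]
    refine (hH κ _).comp (Function.bijective_iff_has_inverse.2 ⟨pb H (inv cs), fun y => ?_, fun y => ?_⟩)
    · rw [← pb_comp, IsIso.inv_hom_id, pb_id]
    · change pb H _ (pb H _ y) = y
      rw [← pb_comp, IsIso.hom_inv_id, pb_id]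
  obtain ⟨X, x, hx⟩ := representable hG hH'
  exact ⟨LF.obj X, x, universal_of_localization a H x hx⟩

/-- Exact functors preserving sums out of `D(A)` are left adjoints. -/
theorem isLeftAdjoint_derived {D : Type u'} [Category.{v} D] [Preadditive D] [HasZeroObject D] [HasShift D ℤ]
    [∀ n : ℤ, (shiftFunctor D n).Additive] [Pretriangulated D] (F : DerivedCategory A ⥤ D) [F.CommShift ℤ]
    [F.IsTriangulated] [∀ κ : Type v, PreservesColimitsOfShape (Discrete κ) F] : F.IsLeftAdjoint := by
  haveI : HasCoproducts.{v} (DerivedCategory A) := fun J =>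
    hasCoproductsOfShape_derived enoughKInj_of_isGrothendieckAbelian J
  refine Functor.isLeftAdjoint_of_rightAdjointObjIsDefined_eq_top ?_
  ext N
  simp only [Pi.top_apply, Prop.top_eq_true, iff_true]
  let H : (DerivedCategory A)ᵒᵖ ⥤ AddCommGrpCat.{v} := F.op ⋙ preadditiveYoneda.obj N
  haveI : H.IsHomological :=
    { map_zero := fun _ _ => by ext; simp [H]
      exact := fun T hT => by
        rw [ShortComplex.ab_exact_iff]
        intro (x₂ : F.obj T.obj₂.unop ⟶ N) (hx₂ : F.map T.mor₂.unop ≫ x₂ = 0)
        obtain ⟨x₃, hx₃⟩ := Triangle.yoneda_exact₂ _ (F.map_distinguished _ (unop_distinguished T hT)) x₂ hx₂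
        exact ⟨x₃, hx₃.symm⟩ }
  have hH : IsProd H := fun κ X => by
    let hc := isColimitCofanMkObjOfIsColimit F _ _ (coproductIsCoproduct X)
    constructor
    · intro (y : F.obj (∐ X) ⟶ N) (y' : F.obj (∐ X) ⟶ N) h
      exact Cofan.IsColimit.hom_ext hc _ _ fun k => congrFun h k
    · intro (x : ∀ k, F.obj (X k) ⟶ N)
      exact ⟨Cofan.IsColimit.desc hc x, funext fun k => Cofan.IsColimit.fac hc x k⟩
  obtain ⟨Z, z, hz⟩ := representable_derived H hH
  rw [Functor.rightAdjointObjIsDefined_iff]
  exact Functor.RepresentableBy.isRepresentable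
    { homEquiv := fun {Y} => Equiv.ofBijective _ (hz Y)
      homEquiv_comp := fun {Y Y'} f g => pb_comp H f g z }

/-- The functorial form of representability on `D(A)`. -/
theorem isRepresentable_derived (H : (DerivedCategory A)ᵒᵖ ⥤ AddCommGrpCat.{v}) [H.IsHomological]
    [∀ κ : Type v, PreservesLimitsOfShape (Discrete κ) H] : (H ⋙ forget AddCommGrpCat.{v}).IsRepresentable := by
  haveI : HasCoproducts.{v} (DerivedCategory A) := fun J =>
    hasCoproductsOfShape_derived enoughKInj_of_isGrothendieckAbelian J
  obtain ⟨Z, a, ha⟩ := representable_derived H (isProd_of_preserves H)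
  exact Functor.RepresentableBy.isRepresentable
    { homEquiv := fun {Y} => Equiv.ofBijective _ (ha Y)
      homEquiv_comp := fun {Y Y'} f g => pb_comp H f g a }

end

end Groth.Agent.DCat
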