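import Groth.Agent.DCat.CompactPres
import Groth.Agent.DCat.GPBrown
import Groth.Prelude.Def_Wider

/-! `D(R)` is the smallest localizing subcategory containing the shifts of `R`. -/

set_option autoImplicit false
set_option backward.isDefEq.respectTransparency false
set_option backward.defeqAttrib.useBackward true
set_option linter.style.haveILetI false

universe u

open CategoryTheory CategoryTheory.Limits HomologicalComplex CategoryTheory.Pretriangulated

attribute [local instance] HasDerivedCategory.standard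

namespace Groth.Agent.DCat

variable (R : Type u) [CommRing R]

/-- The small model of `D(R)`. -/
noncomputable abbrev smallD : HasDerivedCategory.{u} (ModuleCat.{u} R) :=
  smallDerivedCategory (ModuleCat.{u} R) enoughKInj_of_isGrothendieckAbelian

/-- Comparison between the small and the standard model. -/
noncomputable abbrev cmpD :
    @DerivedCategory (ModuleCat.{u} R) _ _ (smallD R) ⥤ Dual.D R :=
  @Functor.mapDerivedCategory (ModuleCat.{u} R) _ _ (smallD R) (ModuleCat.{u} R) _ _ _ (𝟭 _) _ _ _

/-- The comparison commutes with the localization functors. -/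
noncomputable def cmpDIso :
    @DerivedCategory.Q (ModuleCat.{u} R) _ _ (smallD R) ⋙ cmpD R ≅ DerivedCategory.Q :=
  @Functor.mapDerivedCategoryFactors (ModuleCat.{u} R) _ _ (smallD R) (ModuleCat.{u} R) _ _ _ (𝟭 _) _ _ _ ≪≫
    NatIso.ofComponents (fun K => DerivedCategory.Q.mapIso (HomologicalComplex.Hom.isoOfComponents (fun _ => Iso.refl _)
      (fun _ _ _ => by simp))) (fun {K L} f => by
        dsimp
        rw [← Functor.map_comp, ← Functor.map_comp]
        congr 1)

instance isEquivalence_cmpD : (cmpD R).IsEquivalence := by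
  letI := smallD R
  let W := HomologicalComplex.quasiIso (ModuleCat.{u} R) (ComplexShape.up ℤ)
  let L' := @DerivedCategory.Q (ModuleCat.{u} R) _ _ (HasDerivedCategory.standard _)
  let L := @DerivedCategory.Q (ModuleCat.{u} R) _ _ (smallD R)
  haveI : Localization.Lifting L W L' (cmpD R) := ⟨cmpDIso R⟩
  haveI : Localization.Lifting L W L' (Localization.uniq L L' W).functor := ⟨Localization.compUniqFunctor L L' W⟩
  exact Functor.isEquivalence_of_iso
    (Localization.liftNatIso L W L' L' (Localization.uniq L L' W).functor (cmpD R) (Iso.refl _))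

variable {R}

end Groth.Agent.DCat

namespace Groth.Agent.DCat

section Aux

universe v w

variable {R : Type u} [CommRing R] [hs : HasDerivedCategory.{u} (ModuleCat.{u} R)]
  {D : Type w} [Category.{v} D] [Preadditive D] [HasZeroObject D] [HasShift D ℤ]
  [∀ n : ℤ, (shiftFunctor D n).Additive] [Pretriangulated D]

theorem localizing_aux (E : DerivedCategory (ModuleCat.{u} R) ⥤ D) [E.CommShift ℤ] [E.IsTriangulated]
    [E.IsEquivalence] (P : ObjectProperty D)
    (hiso : ∀ {K L : D}, (K ≅ L) → P K → P L)
    (hcone : ∀ T ∈ (distinguishedTriangles : Set (Triangle D)), P T.obj₁ → P T.obj₂ → P T.obj₃)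
    (hsum : ∀ (κ : Type u) (X : κ → D) (c : Cofan X), IsColimit c → (∀ k, P (X k)) → P c.pt)
    (hgen : ∀ n : ℤ, P (E.obj (DerivedCategory.Q.obj (ringCx R n)))) (K : D) : P K := by
  let h := enoughKInj_of_isGrothendieckAbelian (A := ModuleCat.{u} R)
  let S := DerivedCategory (ModuleCat.{u} R)
  haveI : HasCoproducts.{u} S := fun J => hasCoproductsOfShape_derived h J
  haveI : HasColimitsOfShape (Discrete ℕ) S :=
    hasColimitsOfShape_of_equivalence (Discrete.equivalence (Equiv.ulift.{u} : ULift.{u} ℕ ≃ ℕ))
  let G : ULift.{u} ℤ → S := fun n => DerivedCategory.Q.obj (ringCx R n.down)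
  have hc : ∀ n, CohDer.IsCompactObject (G n) := fun n => (isCompactObject_iff _).2 (finFac_ringCx _ _)
  have hg : CohDer.Generates G := fun X hX => isZero_of_forall_ringCx _ X fun n f => by
    rw [← cancel_mono ((shiftFunctorZero S ℤ).inv.app X), zero_comp]
    exact hX ⟨n⟩ 0 _
  obtain ⟨Kn, f, i, hL, ⟨κ₀, a₀, m₀, ⟨e₀⟩⟩, hs⟩ := exists_hocolim_presentation hc hg (E.objPreimage K)
  have hsum' : ∀ (κ : Type u) (X : κ → S), (∀ k, P (E.obj (X k))) → P (E.obj (∐ X)) := fun κ X hX =>
    hsum κ (fun k => E.obj (X k)) _ (isColimitCofanMkObjOfIsColimit E _ _ (coproductIsCoproduct X)) hX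
  have hG : ∀ (j : ULift.{u} ℤ) (m : ℤ), P (E.obj ((G j)⟦m⟧)) := fun j m =>
    hiso (E.mapIso ((DerivedCategory.Q).mapIso
        (((CochainComplex.singleFunctors (ModuleCat.{u} R)).shiftIso m (j.down - m) j.down (by omega)).app
          (ModuleCat.of R R)).symm ≪≫ (DerivedCategory.Q.commShiftIso m).app _)) (hgen (j.down - m))
  have hK : ∀ n, P (E.obj (Kn n)) := by
    intro n
    induction n with
    | zero => exact hiso (E.mapIso e₀.symm) (hsum' _ _ fun k => hG _ _)
    | succ n ih =>
      obtain ⟨κ, a, m, y, z, hT⟩ := hs n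
      exact hcone _ (E.map_distinguished _ hT) (hsum' _ _ fun k => hG _ _) ih
  obtain ⟨c, hT⟩ := hL
  have hN : P (E.obj (∐ Kn)) := by
    refine hiso (E.mapIso ?_) (hsum' (ULift.{u} ℕ) (fun n => Kn n.down) fun n => hK n.down)
    exact Sigma.reindex Equiv.ulift.{u} Kn
  exact hiso (E.objObjPreimageIso K) (hcone _ (E.map_distinguished _ hT) hN hN)

end Aux

variable {R : Type u} [CommRing R]

/-- `D(R)` is generated by the shifts of `R` under cones and direct sums. -/
theorem localizing_induction (P : ObjectProperty (Dual.D R))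
    (hiso : ∀ {K L : Dual.D R}, (K ≅ L) → P K → P L)
    (hcone : ∀ T ∈ (distinguishedTriangles : Set (Triangle (Dual.D R))), P T.obj₁ → P T.obj₂ → P T.obj₃)
    (hsum : ∀ (κ : Type u) (X : κ → Dual.D R) (c : Cofan X), IsColimit c → (∀ k, P (X k)) → P c.pt)
    (hgen : ∀ n : ℤ, P (DerivedCategory.Q.obj (ringCx R n))) (K : Dual.D R) : P K :=
  @localizing_aux R _ (smallD R) (Dual.D R) _ _ _ _ _ _ (cmpD R) _ _ (isEquivalence_cmpD R) P hiso hcone hsum
    (fun n => hiso ((cmpDIso R).app (ringCx R n)).symm (hgen n)) K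

end Groth.Agent.DCat
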