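import Groth.Agent.DCat.TensorAssoc
import Groth.Agent.DCat.LTensorSheaf
import Mathlib.CategoryTheory.Localization.Predicate

/-!
# `- ⊗^L E` depends only on the class of `E` in `D(O_X)`
-/

set_option autoImplicit false
set_option backward.isDefEq.respectTransparency false
set_option backward.defeqAttrib.useBackward true
set_option linter.style.haveILetI false

universe u

open CategoryTheory CategoryTheory.Limits AlgebraicGeometry HomologicalComplex
open Groth.Agent.ModStalk

attribute [local instance] HasDerivedCategory.standard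

namespace Groth.Agent.DCat.TensorCongr

variable {X : Scheme.{u}}

theorem quasiIso_tot_left {A : CochainComplex X.Modules ℤ} (hA : IsKFlatFor (shT X) A)
    {N E : CochainComplex X.Modules ℤ} (q : N ⟶ E) [QuasiIso q] :
    QuasiIso (totMap₂ (shT X) A q) := by
  rw [quasiIso_iff_stalks]
  intro x
  haveI := (quasiIso_iff_stalks q).1 inferInstance x
  haveI := ((isKFlatFor_iff_stalks A).1 hA x).quasiIso_map ((stalkK x).map q)
  have e := stalkTotIso_natural x (𝟙 A) q
  rw [CategoryTheory.Functor.map_id] at e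
  refine (quasiIso_iff_comp_right _ (stalkTotIso x A E).hom).1 ?_
  refine (congrArg (fun t => QuasiIso t) e).mpr ?_
  haveI : QuasiIso (mapBifunctorMap (𝟙 ((stalkK x).obj A)) ((stalkK x).map q)
      (modT (X.presheaf.stalk x)) (ComplexShape.up ℤ)) := by
    refine (quasiIso_iff_comp_right _ (totSymm _ _).hom).1 ?_
    rw [totSymm_natural]
    infer_instance
  infer_instance

section Generic

universe w v v' v'' u' w'

variable {C : Type u'} [Category.{v'} C] {D : Type w} [Category.{v} D] {H : Type w'} [Category.{v''} H]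

/-- Derived functors of two functors related by a map which is invertible on enough objects are isomorphic. -/
theorem nonempty_derived_iso (L : C ⥤ D) (W : MorphismProperty C) [L.IsLocalization W]
    {Φ Ψ : C ⥤ H} (θ : Φ ⟶ Ψ) (F G : D ⥤ H) (cF : L ⋙ F ⟶ Φ) (cG : L ⋙ G ⟶ Ψ)
    [G.IsLeftDerivedFunctor cG W]
    (hres : ∀ Y : D, ∃ A : C, Nonempty (L.obj A ≅ Y) ∧ IsIso (cF.app A) ∧ IsIso (cG.app A) ∧ IsIso (θ.app A)) :
    Nonempty (F ≅ G) := by
  haveI : IsIso (G.leftDerivedLift cG W F (cF ≫ θ)) := by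
    rw [NatTrans.isIso_iff_isIso_app]
    intro Y
    obtain ⟨A, ⟨e⟩, h₁, h₂, h₃⟩ := hres Y
    refine (NatTrans.isIso_app_iff_of_iso (G.leftDerivedLift cG W F (cF ≫ θ)) e).1 ?_
    haveI := h₂
    have hh : IsIso ((G.leftDerivedLift cG W F (cF ≫ θ)).app (L.obj A) ≫ cG.app A) := by
      rw [G.leftDerived_fac_app cG W F (cF ≫ θ) A]
      haveI := h₁
      haveI := h₃
      rw [NatTrans.comp_app]
      infer_instance
    exact IsIso.of_isIso_comp_right _ (cG.app A)
  exact ⟨asIso (G.leftDerivedLift cG W F (cF ≫ θ))⟩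

/-- Whiskering a map of total complexes with a localization. -/
theorem isIso_whisker_of_eq {A₀ : Type u'} [Category.{v'} A₀] [Preadditive A₀] {B₀ : Type w} [Category.{v} B₀] [Preadditive B₀]
    {C₀ : Type w'} [Category.{v''} C₀] [Abelian C₀] (T : A₀ ⥤ B₀ ⥤ C₀) [T.Additive] [∀ a, (T.obj a).Additive]
    [∀ (K₁ : CochainComplex A₀ ℤ) (K₂ : CochainComplex B₀ ℤ), CochainComplex.HasMapBifunctor K₁ K₂ T]
    (Φ : CochainComplex A₀ ℤ ⥤ CochainComplex B₀ ℤ ⥤ CochainComplex C₀ ℤ) (hΦ : Φ = T.map₂CochainComplex)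
    [HasDerivedCategory C₀] {N E : CochainComplex B₀ ℤ} (q : N ⟶ E)
    (A : CochainComplex A₀ ℤ) (h : QuasiIso (totMap₂ T A q)) :
    IsIso ((Functor.whiskerRight (Φ.flip.map q) DerivedCategory.Q).app A) := by
  subst hΦ
  exact Localization.inverts DerivedCategory.Q (HomologicalComplex.quasiIso C₀ (ComplexShape.up ℤ))
    (totMap₂ T A q) ((HomologicalComplex.mem_quasiIso_iff _).2 h)

end Generic

/-- Functoriality in the second variable, in the derived category. -/
theorem isIso_whisker_app {N E : CochainComplex X.Modules ℤ} (q : N ⟶ E) {A : CochainComplex X.Modules ℤ}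
    (h : QuasiIso (totMap₂ (shT X) A q)) :
    IsIso ((Functor.whiskerRight ((DCoh.tensorCx (X := X)).flip.map q) DerivedCategory.Q).app A) :=
  isIso_whisker_of_eq (shT X) (DCoh.tensorCx (X := X)) rfl q A h

theorem nonempty_of_quasiIso {N E : CochainComplex X.Modules ℤ} (q : N ⟶ E) [QuasiIso q]
    [DCoh.HasLTensorCx N] [DCoh.HasLTensorCx E] :
    Nonempty (DCoh.LTensorCx N ≅ DCoh.LTensorCx E) := by
  refine nonempty_derived_iso DerivedCategory.Q (HomologicalComplex.quasiIso X.Modules (ComplexShape.up ℤ))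
    (Functor.whiskerRight ((DCoh.tensorCx (X := X)).flip.map q) DerivedCategory.Q) _ _
    (LTensorSheaf.counit N) (LTensorSheaf.counit E) fun Y => ?_
  obtain ⟨A, k, hA, -, hk, -⟩ := exists_kflat_sheaf (DerivedCategory.Q.objPreimage Y)
  haveI := hk
  exact ⟨A, ⟨asIso (DerivedCategory.Q.map k) ≪≫ DerivedCategory.Q.objObjPreimageIso Y⟩,
    LTensorSheaf.isIso_counit N hA, LTensorSheaf.isIso_counit E hA, isIso_whisker_app q (quasiIso_tot_left hA q)⟩

/-- Complexes isomorphic in `D(O_X)` have isomorphic derived tensor functors. -/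
theorem nonempty_congr {E E' : CochainComplex X.Modules ℤ} [DCoh.HasLTensorCx E]
    [DCoh.HasLTensorCx E'] (e : DerivedCategory.Q.obj E ≅ DerivedCategory.Q.obj E') :
    Nonempty (DCoh.LTensorCx E ≅ DCoh.LTensorCx E') := by
  obtain ⟨Z, s, hs, g, hg⟩ := DerivedCategory.right_fac e.hom
  haveI : IsIso (DerivedCategory.Q.map g) := by
    haveI : IsIso (inv (DerivedCategory.Q.map s) ≫ DerivedCategory.Q.map g) := hg ▸ e.isIso_hom
    exact IsIso.of_isIso_comp_left (inv (DerivedCategory.Q.map s)) _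
  haveI := (DerivedCategory.isIso_Q_map_iff_quasiIso _ s).1 hs
  haveI := (DerivedCategory.isIso_Q_map_iff_quasiIso _ g).1 ‹_›
  haveI := LTensorSheaf.hasLTensorCx Z
  obtain ⟨a⟩ := nonempty_of_quasiIso s
  obtain ⟨b⟩ := nonempty_of_quasiIso g
  exact ⟨a.symm ≪≫ b⟩

/-- `- ⊗^L E` descends `- ⊗ E` for K-flat `E`. -/
noncomputable def fac {E : CochainComplex X.Modules ℤ} (hE : IsKFlatFor (shT X) E)
    [DCoh.HasLTensorCx E] : DerivedCategory.Q ⋙ DCoh.LTensorCx E ≅ DCoh.tensorCxQ E :=
  haveI : ∀ A, IsIso ((LTensorSheaf.counit E).app A) := LTensorSheaf.isIso_counit_of_right hE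
  haveI := NatIso.isIso_of_isIso_app (LTensorSheaf.counit E)
  asIso (LTensorSheaf.counit E)

/-- Isomorphic derived tensor functors have isomorphic internal Homs. -/
theorem nonempty_congr_rhom {E E' : CochainComplex X.Modules ℤ} [DCoh.HasLTensorCx E]
    [DCoh.HasRSheafHom E] [DCoh.HasLTensorCx E'] [DCoh.HasRSheafHom E']
    (e : DerivedCategory.Q.obj E ≅ DerivedCategory.Q.obj E') :
    Nonempty (DCoh.RSheafHom E ≅ DCoh.RSheafHom E') := by
  obtain ⟨a⟩ := nonempty_congr e
  exact ⟨((DCoh.RSheafHomAdj E).ofNatIsoLeft a).rightAdjointUniq (DCoh.RSheafHomAdj E')⟩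

end Groth.Agent.DCat.TensorCongr
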