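import Groth.Agent.DCat.GPBrown
import Groth.Agent.DCat.KHomLimits
import Groth.Agent.DCat.TensorCongr

/-!
# Right adjoints of functors of derived categories given termwise, and the existence of `RHom`
-/

set_option autoImplicit false
set_option backward.isDefEq.respectTransparency false
set_option backward.defeqAttrib.useBackward true
set_option linter.style.haveILetI false

universe w w' v v' u u'

open CategoryTheory CategoryTheory.Limits CategoryTheory.Pretriangulated HomologicalComplex Opposite

open scoped ZeroObject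

namespace Groth.Agent.DCat.RHomExist

section Triangles

variable {A : Type u} [Category.{v} A] [Abelian A] [HasDerivedCategory.{w} A]

/-- A distinguished triangle comes from a degreewise split sequence of complexes. -/
theorem exists_split_rep {T : Triangle (DerivedCategory A)} (hT : T ∈ Pretriangulated.distinguishedTriangles) :
    ∃ (S : ShortComplex (CochainComplex A ℤ))
      (_ : ∀ n, Nonempty ((S.map (HomologicalComplex.eval A (ComplexShape.up ℤ) n)).Splitting))
      (e₁ : DerivedCategory.Q.obj S.X₁ ≅ T.obj₁) (e₂ : DerivedCategory.Q.obj S.X₂ ≅ T.obj₂)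
      (e₃ : DerivedCategory.Q.obj S.X₃ ≅ T.obj₃),
      DerivedCategory.Q.map S.f ≫ e₂.hom = e₁.hom ≫ T.mor₁ ∧
        DerivedCategory.Q.map S.g ≫ e₃.hom = e₂.hom ≫ T.mor₂ := by
  have hT' := inv_rot_of_distTriang _ hT
  let oL := DerivedCategory.Q.objObjPreimageIso T.invRotate.obj₂
  let oK := DerivedCategory.Q.objObjPreimageIso T.invRotate.obj₁
  obtain ⟨R, s, hs, φ, hφ⟩ := DerivedCategory.right_fac (oK.hom ≫ T.invRotate.mor₁ ≫ oL.inv)
  haveI := hs
  have comm : DerivedCategory.Q.map φ ≫ oL.hom =
      (asIso (DerivedCategory.Q.map s) ≪≫ oK).hom ≫ T.invRotate.mor₁ := by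
    rw [show DerivedCategory.Q.map φ = DerivedCategory.Q.map s ≫ oK.hom ≫ T.invRotate.mor₁ ≫ oL.inv from by
      rw [hφ, IsIso.hom_inv_id_assoc]]
    simp
  let e := isoTriangleOfIso₁₂ _ _ (DerivedCategory.mappingCone_triangle_distinguished φ) hT'
    (asIso (DerivedCategory.Q.map s) ≪≫ oK) oL comm
  let ce := (shiftEquiv (DerivedCategory A) (1 : ℤ)).counitIso.app T.obj₃
  have e3 : (DerivedCategory.Q.mapTriangle.obj (CochainComplex.mappingCone.triangle φ)).mor₃ ≫ e.hom.hom₁⟦(1 : ℤ)⟧' =
      e.hom.hom₃ ≫ T.invRotate.mor₃ := e.hom.comm₃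
  refine ⟨CochainComplex.mappingCone.triangleRotateShortComplex φ,
    fun n => ⟨CochainComplex.mappingCone.triangleRotateShortComplexSplitting φ n⟩,
    Triangle.π₂.mapIso e, Triangle.π₃.mapIso e,
    (DerivedCategory.Q.commShiftIso (1 : ℤ)).app R ≪≫
      (shiftFunctor (DerivedCategory A) (1 : ℤ)).mapIso (Triangle.π₁.mapIso e) ≪≫ ce, e.hom.comm₂, ?_⟩
  simp only [Iso.trans_hom, Iso.app_hom, Functor.mapIso_hom, Triangle.π₁_map, Triangle.π₃_map]
  have h' := congrArg (· ≫ ce.hom) e3
  dsimp [ce, Triangle.invRotate] at h' ⊢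
  simp only [Category.assoc] at h'
  refine h'.trans ?_
  rw [Iso.inv_hom_id_app]
  exact congrArg (e.hom.hom₃ ≫ ·) (Category.comp_id _)

variable {B : Type u'} [Category.{v'} B] [Abelian B] [HasDerivedCategory.{w'} B]
  (Φ : CochainComplex A ℤ ⥤ CochainComplex B ℤ) [Φ.PreservesZeroMorphisms]
  {F : DerivedCategory A ⥤ DerivedCategory B} (e : DerivedCategory.Q ⋙ F ≅ Φ ⋙ DerivedCategory.Q)

/-- The first two maps of a distinguished triangle go to those of a distinguished triangle. -/
theorem exists_triangle
    (hΦ : ∀ S : ShortComplex (CochainComplex A ℤ),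
      (∀ n, Nonempty ((S.map (HomologicalComplex.eval A (ComplexShape.up ℤ) n)).Splitting)) → (S.map Φ).ShortExact)
    (e : DerivedCategory.Q ⋙ F ≅ Φ ⋙ DerivedCategory.Q)
    {T : Triangle (DerivedCategory A)} (hT : T ∈ Pretriangulated.distinguishedTriangles) :
    ∃ δ : F.obj T.obj₃ ⟶ (F.obj T.obj₁)⟦(1 : ℤ)⟧,
      Triangle.mk (F.map T.mor₁) (F.map T.mor₂) δ ∈ Pretriangulated.distinguishedTriangles := by
  obtain ⟨S, hS, e₁, e₂, e₃, h₁, h₂⟩ := exists_split_rep hT
  have hS' := hΦ S hS
  let a₁ := (e.app S.X₁).symm ≪≫ F.mapIso e₁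
  let a₂ := (e.app S.X₂).symm ≪≫ F.mapIso e₂
  let a₃ := (e.app S.X₃).symm ≪≫ F.mapIso e₃
  have k : ∀ {K L : CochainComplex A ℤ} {K' L' : DerivedCategory A} (f : K ⟶ L) (m : K' ⟶ L')
      (i : DerivedCategory.Q.obj K ≅ K') (j : DerivedCategory.Q.obj L ≅ L'),
      DerivedCategory.Q.map f ≫ j.hom = i.hom ≫ m →
      DerivedCategory.Q.map (Φ.map f) ≫ ((e.app L).symm ≪≫ F.mapIso j).hom =
        ((e.app K).symm ≪≫ F.mapIso i).hom ≫ F.map m := by
    intro K L K' L' f m i j h
    have n := e.inv.naturality f
    dsimp at n ⊢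
    rw [reassoc_of% n, Category.assoc, ← Functor.map_comp, ← Functor.map_comp, h]
  refine ⟨a₃.inv ≫ DerivedCategory.triangleOfSESδ hS' ≫ a₁.hom⟦(1 : ℤ)⟧',
    isomorphic_distinguished _ (DerivedCategory.triangleOfSES_distinguished hS') _
      (Triangle.isoMk _ _ a₁ a₂ a₃ (k S.f _ e₁ e₂ h₁) (k S.g _ e₂ e₃ h₂) ?_).symm⟩
  simp

include e in
/-- Such a functor preserves zero morphisms. -/
theorem preservesZeroMorphisms : F.PreservesZeroMorphisms := by
  have h0 : IsZero (0 : CochainComplex A ℤ) := isZero_zero _
  have h1 : IsZero ((DerivedCategory.Q (C := A)).obj 0) := DerivedCategory.Q.map_isZero h0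
  have h2 : IsZero (F.obj (DerivedCategory.Q.obj (0 : CochainComplex A ℤ))) :=
    IsZero.of_iso (DerivedCategory.Q.map_isZero (Φ.map_isZero h0)) (e.app 0)
  exact Functor.preservesZeroMorphisms_of_map_zero_object
    (IsZero.of_iso h2 (F.mapIso ((isZero_zero _).iso h1))).isoZero

end Triangles

section Sums

variable {A : Type u} [Category.{v} A] [Abelian A] [IsGrothendieckAbelian.{v} A] [HasDerivedCategory.{w} A]

/-- Localization to the derived category preserves sums. -/
theorem preservesCoproducts_Q (J : Type v) :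
    PreservesColimitsOfShape (Discrete J) (DerivedCategory.Q (C := A)) := by
  let h := enoughKInj_of_isGrothendieckAbelian (A := A)
  haveI : PreservesColimitsOfShape (Discrete J) (HomotopyCategory.quotient A (ComplexShape.up ℤ)) :=
    ⟨fun {K} => by
      haveI : PreservesColimit (Discrete.functor fun t => K.obj ⟨t⟩) (HomotopyCategory.quotient A (ComplexShape.up ℤ)) :=
        preservesColimit_of_preserves_colimit_cocone (colimit.isColimit _)
          ((isColimitMapCoconeCofanMkEquiv (HomotopyCategory.quotient A (ComplexShape.up ℤ)) _ (fun t => colimit.ι (Discrete.functor fun t => K.obj ⟨t⟩) ⟨t⟩)).symm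
            (isColimitCofanQuotient (colimit.isColimit (Discrete.functor fun t => K.obj ⟨t⟩))))
      exact preservesColimit_of_iso_diagram _ (Discrete.natIso fun _ => Iso.refl _ : Discrete.functor (fun t => K.obj ⟨t⟩) ≅ K)⟩
  haveI : PreservesColimitsOfShape (Discrete J) (DerivedCategory.Qh (C := A)) :=
    haveI := (rhoAdj h).leftAdjoint_preservesColimits
    inferInstance
  exact preservesColimitsOfShape_of_natIso (DerivedCategory.quotientCompQhIso A)

variable {B : Type u'} [Category.{v'} B] [Abelian B] [HasDerivedCategory.{w'} B]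

/-- Preservation of sums can be checked on complexes. -/
theorem preservesCoproducts_of_fac {D : Type*} [Category D] (F : DerivedCategory A ⥤ D) (J : Type v)
    [PreservesColimitsOfShape (Discrete J) (DerivedCategory.Q ⋙ F)] :
    PreservesColimitsOfShape (Discrete J) F := by
  refine ⟨fun {K} => ?_⟩
  haveI := preservesCoproducts_Q (A := A) J
  let K' : Discrete J ⥤ CochainComplex A ℤ :=
    Discrete.functor fun t => DerivedCategory.Q.objPreimage (K.obj ⟨t⟩)
  let eK : K' ⋙ DerivedCategory.Q ≅ K :=
    Discrete.natIso fun ⟨t⟩ => DerivedCategory.Q.objObjPreimageIso (K.obj ⟨t⟩)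
  haveI : PreservesColimit (K' ⋙ DerivedCategory.Q) F :=
    preservesColimit_of_preserves_colimit_cocone (isColimitOfPreserves DerivedCategory.Q (colimit.isColimit K'))
      (isColimitOfPreserves (DerivedCategory.Q ⋙ F) (colimit.isColimit K'))
  exact preservesColimit_of_iso_diagram _ eK

end Sums

section Small

variable {A : Type u} [Category.{v} A] [Abelian A] [IsGrothendieckAbelian.{v} A] [HasDerivedCategory.{v} A]

/-- Functors given by exact sum-preserving functors of complexes are left adjoints. -/
theorem isLeftAdjoint_small (Φ : CochainComplex A ℤ ⥤ CochainComplex A ℤ) [Φ.PreservesZeroMorphisms]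
    [∀ J : Type v, PreservesColimitsOfShape (Discrete J) Φ]
    (hΦ : ∀ S : ShortComplex (CochainComplex A ℤ),
      (∀ n, Nonempty ((S.map (HomologicalComplex.eval A (ComplexShape.up ℤ) n)).Splitting)) → (S.map Φ).ShortExact)
    (F : DerivedCategory A ⥤ DerivedCategory A) (e : DerivedCategory.Q ⋙ F ≅ Φ ⋙ DerivedCategory.Q) :
    F.IsLeftAdjoint := by
  haveI : HasCoproducts.{v} (DerivedCategory A) := fun J =>
    hasCoproductsOfShape_derived enoughKInj_of_isGrothendieckAbelian J
  haveI := preservesZeroMorphisms Φ e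
  haveI : ∀ J : Type v, PreservesColimitsOfShape (Discrete J) F := fun J =>
    haveI := preservesCoproducts_Q (A := A) J
    haveI : PreservesColimitsOfShape (Discrete J) (DerivedCategory.Q ⋙ F) :=
      preservesColimitsOfShape_of_natIso e.symm
    preservesCoproducts_of_fac F J
  refine Functor.isLeftAdjoint_of_rightAdjointObjIsDefined_eq_top ?_
  ext N
  simp only [Pi.top_apply, Prop.top_eq_true, iff_true]
  let H : (DerivedCategory A)ᵒᵖ ⥤ AddCommGrpCat.{v} := F.op ⋙ preadditiveYoneda.obj N
  haveI : H.IsHomological :=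
    { map_zero := fun _ _ => by ext; simp [H]
      exact := fun T hT => by
        rw [ShortComplex.ab_exact_iff]
        intro (x₂ : F.obj T.obj₂.unop ⟶ N) (hx₂ : F.map T.mor₂.unop ≫ x₂ = 0)
        obtain ⟨δ, hδ⟩ := exists_triangle Φ hΦ e (unop_distinguished T hT)
        obtain ⟨x₃, hx₃⟩ := Triangle.yoneda_exact₂ _ hδ x₂ hx₂
        exact ⟨x₃, hx₃.symm⟩ }
  have hH : Brown.IsProd H := fun κ X => by
    let hc := isColimitCofanMkObjOfIsColimit F _ _ (coproductIsCoproduct X)
    constructor
    · intro (y : F.obj (∐ X) ⟶ N) (y' : F.obj (∐ X) ⟶ N) h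
      exact Cofan.IsColimit.hom_ext hc _ _ fun k => congrFun h k
    · intro (x : ∀ k, F.obj (X k) ⟶ N)
      exact ⟨Cofan.IsColimit.desc hc x, funext fun k => Cofan.IsColimit.fac hc x k⟩
  obtain ⟨Z, z, hz⟩ := representable_derived H hH
  rw [Functor.rightAdjointObjIsDefined_iff]
  exact Functor.RepresentableBy.isRepresentable
    { homEquiv := fun {Y} => Equiv.ofBijective _ (hz Y)
      homEquiv_comp := fun {Y Y'} f g => Brown.pb_comp H f g z }

/-- The same, in any category localizing the quasi-isomorphisms. -/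
theorem isLeftAdjoint_of_small (Φ : CochainComplex A ℤ ⥤ CochainComplex A ℤ) [Φ.PreservesZeroMorphisms]
    [∀ J : Type v, PreservesColimitsOfShape (Discrete J) Φ]
    (hΦ : ∀ S : ShortComplex (CochainComplex A ℤ),
      (∀ n, Nonempty ((S.map (HomologicalComplex.eval A (ComplexShape.up ℤ) n)).Splitting)) → (S.map Φ).ShortExact)
    {D : Type u'} [Category.{v'} D] (Q : CochainComplex A ℤ ⥤ D)
    [Q.IsLocalization (HomologicalComplex.quasiIso A (ComplexShape.up ℤ))]
    (F : D ⥤ D) (e : Q ⋙ F ≅ Φ ⋙ Q) : F.IsLeftAdjoint := by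
  let W := HomologicalComplex.quasiIso A (ComplexShape.up ℤ)
  let E := Localization.uniq (DerivedCategory.Q (C := A)) Q W
  let c : DerivedCategory.Q ⋙ E.functor ≅ Q := Localization.compUniqFunctor _ Q W
  let c' : Q ⋙ E.inverse ≅ DerivedCategory.Q := Localization.compUniqInverse _ Q W
  let F' := E.functor ⋙ F ⋙ E.inverse
  let e' : DerivedCategory.Q ⋙ F' ≅ Φ ⋙ DerivedCategory.Q :=
    (Functor.associator _ _ _).symm ≪≫ Functor.isoWhiskerRight c _ ≪≫ (Functor.associator _ _ _).symm ≪≫
      Functor.isoWhiskerRight e _ ≪≫ Functor.associator _ _ _ ≪≫ Functor.isoWhiskerLeft _ c'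
  haveI : F'.IsLeftAdjoint := isLeftAdjoint_small Φ hΦ F' e'
  haveI : (E.inverse ⋙ F' ⋙ E.functor).IsLeftAdjoint := inferInstance
  exact Functor.isLeftAdjoint_of_iso
    (Functor.isoWhiskerLeft E.inverse (Functor.associator _ _ _) ≪≫ (Functor.associator _ _ _).symm ≪≫
      Functor.isoWhiskerRight E.counitIso _ ≪≫ Functor.leftUnitor _ ≪≫ Functor.associator _ _ _ ≪≫
      Functor.isoWhiskerLeft F E.counitIso ≪≫ F.rightUnitor)

end Small

section Standard

attribute [local instance] HasDerivedCategory.standard

variable {A : Type u} [Category.{v} A] [Abelian A] [IsGrothendieckAbelian.{v} A]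

/-- `isLeftAdjoint_small` for the standard derived category. -/
theorem isLeftAdjoint_standard (Φ : CochainComplex A ℤ ⥤ CochainComplex A ℤ) [Φ.PreservesZeroMorphisms]
    [∀ J : Type v, PreservesColimitsOfShape (Discrete J) Φ]
    (hΦ : ∀ S : ShortComplex (CochainComplex A ℤ),
      (∀ n, Nonempty ((S.map (HomologicalComplex.eval A (ComplexShape.up ℤ) n)).Splitting)) → (S.map Φ).ShortExact)
    (F : DerivedCategory A ⥤ DerivedCategory A) (e : DerivedCategory.Q ⋙ F ≅ Φ ⋙ DerivedCategory.Q) :
    F.IsLeftAdjoint := by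
  exact @isLeftAdjoint_of_small A _ _ _ (smallDerivedCategory A enoughKInj_of_isGrothendieckAbelian)
    Φ _ _ hΦ _ _ (DerivedCategory.Q (C := A)) _ F e

end Standard

section TotColim

variable {A : Type u} [Category.{v} A] [Preadditive A] {B : Type u'} [Category.{v'} B] [Preadditive B]
  {C : Type w'} [Category.{w} C] [Abelian C]
  (T : A ⥤ B ⥤ C) [T.Additive] [∀ a, (T.obj a).Additive]
  [∀ (K₁ : CochainComplex A ℤ) (K₂ : CochainComplex B ℤ), CochainComplex.HasMapBifunctor K₁ K₂ T]

/-- The total complex commutes with colimits in the first variable. -/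
theorem TotColim.preservesColimitsOfShape_tot₁ {J : Type*} [Category J] [HasColimitsOfShape J A]
    (K : CochainComplex B ℤ) (h : ∀ q, PreservesColimitsOfShape J (T.flip.obj (K.X q))) :
    PreservesColimitsOfShape J (T.map₂CochainComplex.flip.obj K) := by
  refine ⟨fun {D} => preservesColimit_of_preserves_colimit_cocone (colimit.isColimit D) ?_⟩
  let hc := fun p q : ℤ => isColimitOfPreserves (T.flip.obj (K.X q))
    (isColimitOfPreserves (HomologicalComplex.eval A (ComplexShape.up ℤ) p) (colimit.isColimit D))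
  exact isColimitOfEval _ _ fun n =>
    { desc := fun s => mapBifunctorDesc fun p q h =>
        (hc p q).desc (Cocone.mk s.pt
          { app := fun j => ιMapBifunctor (D.obj j) K T (ComplexShape.up ℤ) p q n h ≫ s.ι.app j
            naturality := fun j j' f => by
              have := s.w f
              dsimp at this ⊢
              rw [Category.comp_id, ← this, ι_mapBifunctorMap_assoc]
              simp })
      fac := fun s j => by
        refine mapBifunctor.hom_ext fun p q h => ?_
        dsimp
        rw [ι_mapBifunctorMap_assoc]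
        simp only [id_f, CategoryTheory.Functor.map_id, Category.id_comp, ι_mapBifunctorDesc]
        exact (hc p q).fac _ j
      uniq := fun s m hm => by
        refine mapBifunctor.hom_ext fun p q h => ?_
        rw [ι_mapBifunctorDesc]
        refine (hc p q).hom_ext fun j => ?_
        rw [(hc p q).fac]
        dsimp at hm ⊢
        rw [← hm j, ι_mapBifunctorMap_assoc]
        simp }

/-- The same, for a functor given to be the total complex functor. -/
theorem TotColim.preservesColimitsOfShape_of_eq (Φ : CochainComplex A ℤ ⥤ CochainComplex B ℤ ⥤ CochainComplex C ℤ)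
    (hΦ : Φ = T.map₂CochainComplex) {J : Type*} [Category J] [HasColimitsOfShape J A]
    (K : CochainComplex B ℤ) (h : ∀ q, PreservesColimitsOfShape J (T.flip.obj (K.X q))) :
    PreservesColimitsOfShape J (Φ.flip.obj K) := by
  subst hΦ; exact TotColim.preservesColimitsOfShape_tot₁ T K h

end TotColim

section TotSplit

variable {A : Type u} [Category.{v} A] [Abelian A] {B : Type u'} [Category.{v'} B] [Abelian B]
  {C : Type w'} [Category.{w} C] [Abelian C]
  (T : A ⥤ B ⥤ C) [T.Additive] [∀ a, (T.obj a).Additive]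
  [∀ (K₁ : CochainComplex A ℤ) (K₂ : CochainComplex B ℤ), CochainComplex.HasMapBifunctor K₁ K₂ T]

/-- `shortExact_tot₁_of_split` for a functor given to be the total complex functor. -/
theorem TotColim.shortExact_of_eq (Φ : CochainComplex A ℤ ⥤ CochainComplex B ℤ ⥤ CochainComplex C ℤ)
    (hΦ : Φ = T.map₂CochainComplex) (K : CochainComplex B ℤ) [(Φ.flip.obj K).PreservesZeroMorphisms]
    (S : ShortComplex (CochainComplex A ℤ))
    (hS : ∀ n, Nonempty ((S.map (eval A (ComplexShape.up ℤ) n)).Splitting)) :
    (S.map (Φ.flip.obj K)).ShortExact := by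
  subst hΦ; exact shortExact_tot₁_of_split T S hS K

end TotSplit

section Tensor

open AlgebraicGeometry Groth.Agent.ModStalk

attribute [local instance] HasDerivedCategory.standard

variable {X : Scheme.{u}} (K : CochainComplex X.Modules ℤ)

/-- Colimit-preserving after taking stalks implies colimit-preserving. -/
theorem preservesColimitsOfShape_of_stalks {K : Type u} [SmallCategory K] (F : X.Modules ⥤ X.Modules)
    [HasColimitsOfShape K X.Modules]
    (h : ∀ x : X, PreservesColimitsOfShape K (F ⋙ DerSch.stalkFunctor X x))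
    [∀ x : X, PreservesColimitsOfShape K (DerSch.stalkFunctor X x)] : PreservesColimitsOfShape K F where
  preservesColimit {D} := ⟨fun {c} hc => ⟨by
    haveI : IsIso ((colimit.isColimit (D ⋙ F)).desc (F.mapCocone c)) := isIso_of_stalks _ fun x => by
      haveI := h x
      let h₁ := isColimitOfPreserves (DerSch.stalkFunctor X x) (colimit.isColimit (D ⋙ F))
      let h₂ : IsColimit ((DerSch.stalkFunctor X x).mapCocone (F.mapCocone c)) :=
        isColimitOfPreserves (F ⋙ DerSch.stalkFunctor X x) hc
      rw [show (DerSch.stalkFunctor X x).map ((colimit.isColimit (D ⋙ F)).desc (F.mapCocone c)) =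
          (h₁.coconePointUniqueUpToIso h₂).hom from h₁.hom_ext fun j => by
        rw [h₁.comp_coconePointUniqueUpToIso_hom h₂ j]
        exact ((DerSch.stalkFunctor X x).map_comp _ _).symm.trans
          (congrArg (DerSch.stalkFunctor X x).map ((colimit.isColimit (D ⋙ F)).fac (F.mapCocone c) j))]
      infer_instance
    exact IsColimit.ofPointIso (colimit.isColimit (D ⋙ F)) (t := F.mapCocone c)⟩⟩

open Groth.Agent.ModStalk in
/-- Tensoring with a module preserves sums. -/
theorem preservesCoproducts_shT (J : Type u) (M : X.Modules) :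
    PreservesColimitsOfShape (Discrete J) ((shT X).flip.obj M) :=
  haveI hs : ∀ x : X, PreservesColimitsOfShape (Discrete J) (DerSch.stalkFunctor X x) := fun x =>
    haveI := (stalkAdj x).leftAdjoint_preservesColimits (F := DerSch.stalkFunctor X x)
    inferInstance
  preservesColimitsOfShape_of_stalks _ fun x =>
    haveI : PreservesColimitsOfShape (Discrete J) (MonoidalCategory.tensorRight ((DerSch.stalkFunctor X x).obj M)) :=
      preservesColimitsOfShape_of_natIso (BraidedCategory.tensorLeftIsoTensorRight _)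
    preservesColimitsOfShape_of_natIso (NatIso.ofComponents (fun N => (stalkTensorIso x N M).symm)
      (fun {N N'} g => by
        rw [Iso.symm_hom, Iso.symm_hom, Iso.eq_inv_comp, ← Category.assoc, Iso.comp_inv_eq]
        exact (stalkTensor_nat₁ x g M).symm) :
      DerSch.stalkFunctor X x ⋙ MonoidalCategory.tensorRight ((DerSch.stalkFunctor X x).obj M) ≅
        (shT X).flip.obj M ⋙ DerSch.stalkFunctor X x)

/-- Total tensor products commute with sums. -/
theorem preservesCoproducts_tensor (J : Type u) :
    PreservesColimitsOfShape (Discrete J) ((DCoh.tensorCx (X := X)).flip.obj K) :=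
  TotColim.preservesColimitsOfShape_of_eq (shT X) (DCoh.tensorCx (X := X)) rfl K fun q =>
    preservesCoproducts_shT J (K.X q)

/-- `- ⊗^L K` has a right adjoint: `RHom(K, -)` exists. -/
theorem hasRSheafHom [DCoh.HasLTensorCx K] : DCoh.HasRSheafHom K := by
  obtain ⟨N, q, hN, -, hq, -⟩ := exists_kflat_sheaf K
  haveI := hq
  haveI := LTensorSheaf.hasLTensorCx N
  haveI : (DCoh.LTensorCx N).IsLeftAdjoint :=
    haveI := fun J : Type u => preservesCoproducts_tensor N J
    isLeftAdjoint_standard ((DCoh.tensorCx (X := X)).flip.obj N)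
      (TotColim.shortExact_of_eq (shT X) (DCoh.tensorCx (X := X)) rfl N) _ (TensorCongr.fac hN)
  obtain ⟨a⟩ := TensorCongr.nonempty_of_quasiIso q
  exact Functor.isLeftAdjoint_of_iso a

end Tensor

end Groth.Agent.DCat.RHomExist
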