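import Groth.Agent.DCat.MVTriangles
import Groth.Prelude.Def_CxOX

/-! Objects supported in an open: `E ≅ Rj_*(E|_U)` and `j_! F ≅ Rj_* F`. -/

set_option autoImplicit false
set_option backward.isDefEq.respectTransparency false
set_option backward.defeqAttrib.useBackward true
set_option linter.style.haveILetI false

universe v w u u'

open CategoryTheory CategoryTheory.Limits AlgebraicGeometry Opposite TopologicalSpace
open Groth.Agent.ModStalk

attribute [local instance] HasDerivedCategory.standard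

namespace Groth.Agent.DCat.SuppOpen

section
variable {A : Type (u + 1)} [Category.{u} A] [Abelian A] {B : Type (u + 1)} [Category.{u} B] [Abelian B]
  (F : A ⥤ B) [F.Additive] [PreservesFiniteLimits F] [PreservesFiniteColimits F]

/-- Cohomology commutes with exact functors. -/
noncomputable def hdMapIso (K : DerivedCategory A) (i : ℤ) :
    (DerivedCategory.homologyFunctor B i).obj (F.mapDerivedCategory.obj K) ≅
      F.obj ((DerivedCategory.homologyFunctor A i).obj K) :=
  (DerivedCategory.homologyFunctor B i).mapIso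
    (F.mapDerivedCategory.mapIso (DerivedCategory.Q.objObjPreimageIso K).symm ≪≫
      F.mapDerivedCategoryFactors.app (DerivedCategory.Q.objPreimage K)) ≪≫
    (DerivedCategory.homologyFunctorFactors B i).app _ ≪≫
    ((DerivedCategory.Q.objPreimage K).sc i).mapHomologyIso F ≪≫
    F.mapIso (((DerivedCategory.homologyFunctorFactors A i).app _).symm ≪≫
      (DerivedCategory.homologyFunctor A i).mapIso (DerivedCategory.Q.objObjPreimageIso K))

/-- An object with vanishing cohomology is zero. -/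
lemma isZero_of_hd (K : DerivedCategory A) (h : ∀ i : ℤ, IsZero ((DerivedCategory.homologyFunctor A i).obj K)) :
    IsZero K := by
  obtain ⟨Z, hZ⟩ := HasZeroObject.zero (C := DerivedCategory A)
  haveI : IsIso (hZ.from_ K) := (DerivedCategory.isIso_iff A _).2 fun i =>
    isIso_of_isTerminal (h i).isTerminal
      (Functor.map_isZero (DerivedCategory.homologyFunctor A i) ⟨hZ.1, hZ.2⟩).isTerminal _
  exact IsZero.of_iso ⟨hZ.1, hZ.2⟩ (asIso (hZ.from_ K))

end

variable {X : Scheme.{u}}

lemma subsingleton_stalk_restrict {U : Scheme.{u}} (j : U ⟶ X) [IsOpenImmersion j] (M : X.Modules) (x : U)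
    (h : Subsingleton (M.presheaf.stalk (j x))) :
    Subsingleton (((Scheme.Modules.restrictFunctor j).obj M).presheaf.stalk x) :=
  let φ : ((Scheme.Modules.restrictFunctor j).obj M).presheaf.stalk x ⟶ M.presheaf.stalk (j x) :=
    (Scheme.Modules.restrictStalkNatIso j x).hom.app M
  haveI : IsIso φ := inferInstanceAs (IsIso ((Scheme.Modules.restrictStalkNatIso j x).hom.app M))
  @Function.Injective.subsingleton _ _ φ (ConcreteCategory.bijective_of_isIso φ).1 h

lemma subsingleton_stalk_of_restrict {U : Scheme.{u}} (j : U ⟶ X) [IsOpenImmersion j] (M : X.Modules) (x : U)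
    (h : Subsingleton (((Scheme.Modules.restrictFunctor j).obj M).presheaf.stalk x)) :
    Subsingleton (M.presheaf.stalk (j x)) :=
  let φ : ((Scheme.Modules.restrictFunctor j).obj M).presheaf.stalk x ⟶ M.presheaf.stalk (j x) :=
    (Scheme.Modules.restrictStalkNatIso j x).hom.app M
  haveI : IsIso φ := inferInstanceAs (IsIso ((Scheme.Modules.restrictStalkNatIso j x).hom.app M))
  @Function.Surjective.subsingleton _ _ φ h (ConcreteCategory.bijective_of_isIso φ).2

lemma isZero_stalkFunctor {X : Scheme.{u}} (M : X.Modules) (x : X) [h : Subsingleton (M.presheaf.stalk x)] :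
    IsZero ((DerSch.stalkFunctor X x).obj M) :=
  @ModuleCat.isZero_of_subsingleton _ _ _ h

lemma subsingleton_of_isZero_stalkFunctor {X : Scheme.{u}} (M : X.Modules) (x : X)
    (h : IsZero ((DerSch.stalkFunctor X x).obj M)) : Subsingleton (M.presheaf.stalk x) :=
  ModuleCat.subsingleton_of_isZero h

lemma isZero_restrictD (V : X.Opens) (E : DCoh.D X)
    [PreservesFiniteLimits (Scheme.Modules.restrictFunctor V.ι)]
    (h : ∀ i : ℤ, ∀ x ∈ V, x ∉ CohB1.support (DCoh.HD E i)) : IsZero ((DCoh.restrictD V.ι).obj E) := by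
  refine isZero_of_hd _ fun i => IsZero.of_iso (isZero_of_stalks fun x => ?_) (hdMapIso _ E i)
  haveI : Subsingleton ((DCoh.HD E i).presheaf.stalk (V.ι x)) := not_not.1 (h i _ x.2)
  haveI := subsingleton_stalk_restrict V.ι (DCoh.HD E i) x this
  exact isZero_stalkFunctor _ x

/-- An object supported in an open is the direct image of its restriction. -/
theorem nonempty_iso_rpush (U : X.Opens) [DCoh.HasRpush U.ι]
    [PreservesFiniteLimits (Scheme.Modules.restrictFunctor U.ι)]
    (T : Set X) (hT : IsClosed T) (hTU : T ⊆ (U : Set X)) (E : DCoh.D X)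
    (h : ∀ i : ℤ, CohB1.support (DCoh.HD E i) ⊆ T) :
    Nonempty (E ≅ (DCoh.Rpush U.ι).obj ((DCoh.restrictD U.ι).obj E)) := by
  let V : X.Opens := ⟨Tᶜ, hT.isOpen_compl⟩
  have hUV : U ⊔ V = ⊤ := by
    ext x
    refine iff_of_true ?_ trivial
    by_cases hx : x ∈ T
    · exact Or.inl (hTU hx)
    · exact Or.inr hx
  haveI := JShriek.preservesLimits_restrict V.ι
  haveI := JShriek.preservesLimits_restrict (U ⊓ V).ι
  haveI := hasRpush V.ι
  haveI := hasRpush (U ⊓ V).ι
  obtain ⟨a, b, c, hm⟩ := MV.exists_triangle_id hUV E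
  haveI : (DCoh.Rpush V.ι).PreservesZeroMorphisms := by
    haveI : (DCoh.Rpush V.ι).IsRightAdjoint := isRightAdjoint_Rpush V.ι
    infer_instance
  haveI : (DCoh.Rpush (U ⊓ V).ι).PreservesZeroMorphisms := by
    haveI : (DCoh.Rpush (U ⊓ V).ι).IsRightAdjoint := isRightAdjoint_Rpush (U ⊓ V).ι
    infer_instance
  have z₂ : IsZero ((DCoh.Rpush V.ι).obj ((DCoh.restrictD V.ι).obj E)) :=
    (DCoh.Rpush V.ι).map_isZero (isZero_restrictD V E fun i x hx hs => hx (h i hs))
  have z₃ : IsZero ((DCoh.Rpush (U ⊓ V).ι).obj ((DCoh.restrictD (U ⊓ V).ι).obj E)) :=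
    (DCoh.Rpush (U ⊓ V).ι).map_isZero (isZero_restrictD (U ⊓ V) E fun i x hx hs => hx.2 (h i hs))
  haveI : IsIso a := (Pretriangulated.Triangle.isZero₃_iff_isIso₁ _ hm).1 z₃
  exact ⟨asIso a ≪≫ (isoBiprodZero z₂).symm⟩

/-- `j_! F ≅ Rj_* F` for `F` supported on a subset closed in the ambient scheme. -/
theorem nonempty_extZero_iso_rpush (U : X.Opens) [DCoh.HasRpush U.ι]
    [PreservesFiniteLimits (CxOX.extZero U.ι)] (T : Set X) (hT : IsClosed T) (hTU : T ⊆ (U : Set X))
    (F : DCoh.D (U : Scheme.{u}))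
    (h : ∀ i : ℤ, (fun x : (U : Scheme.{u}) => U.ι.base x) '' CohB1.support (DCoh.HD F i) ⊆ T) :
    Nonempty ((CxOX.extZeroD U.ι).obj F ≅ (DCoh.Rpush U.ι).obj F) := by
  let e : CxOX.extZero U.ι ≅ JShriek.shriek U.ι :=
    (CxOX.extZeroAdj U.ι).leftAdjointUniq (JShriek.shriekAdj U.ι)
  haveI hu : IsIso (CxOX.extZeroAdj U.ι).unit := by
    haveI : IsIso (JShriek.shriekAdj U.ι).unit := JShriek.isIso_unit U.ι
    exact IsIso.of_isIso_fac_right (Adjunction.unit_leftAdjointUniq_hom (CxOX.extZeroAdj U.ι) (JShriek.shriekAdj U.ι))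
  haveI hux : ∀ M, IsIso ((CxOX.extZeroAdj U.ι).unit.app M) := fun M => inferInstance
  let C := DerivedCategory.Q.objPreimage F
  haveI : IsIso ((adjCx (ComplexShape.up ℤ) (CxOX.extZeroAdj U.ι)).unit.app C) :=
    haveI : ∀ n, IsIso (((adjCx (ComplexShape.up ℤ) (CxOX.extZeroAdj U.ι)).unit.app C).f n) := fun n => hux (C.X n)
    HomologicalComplex.Hom.isIso_of_components _
  let E := (CxOX.extZeroD U.ι).obj F
  let ρ : (DCoh.restrictD U.ι).obj E ≅ F :=
    (DCoh.restrictD U.ι).mapIso ((CxOX.extZeroD U.ι).mapIso (DerivedCategory.Q.objObjPreimageIso F).symm ≪≫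
      (CxOX.extZero U.ι).mapDerivedCategoryFactors.app C) ≪≫
    (Scheme.Modules.restrictFunctor U.ι).mapDerivedCategoryFactors.app _ ≪≫
    DerivedCategory.Q.mapIso (asIso ((adjCx (ComplexShape.up ℤ) (CxOX.extZeroAdj U.ι)).unit.app C)).symm ≪≫
    DerivedCategory.Q.objObjPreimageIso F
  have hE : ∀ i : ℤ, CohB1.support (DCoh.HD E i) ⊆ T := fun i x hx => by
    by_contra hxT
    refine hx (subsingleton_of_isZero_stalkFunctor _ x ?_)
    refine IsZero.of_iso ?_ ((DerSch.stalkFunctor X x).mapIso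
      (hdMapIso (CxOX.extZero U.ι) F i ≪≫ e.app (DCoh.HD F i)))
    by_cases hxU : x ∈ U.ι.opensRange
    · obtain ⟨y, rfl⟩ := hxU
      haveI : Subsingleton ((DCoh.HD F i).presheaf.stalk y) := not_not.1 fun hy => hxT (h i ⟨y, hy, rfl⟩)
      have hz : IsZero ((DerSch.stalkFunctor (U : Scheme.{u}) y).obj
          ((Scheme.Modules.restrictFunctor U.ι).obj ((JShriek.shriek U.ι).obj (DCoh.HD F i)))) :=
        (isZero_stalkFunctor (DCoh.HD F i) y).of_iso
          ((DerSch.stalkFunctor (U : Scheme.{u}) y).mapIso (asIso ((JShriek.shriekAdj U.ι).unit.app (DCoh.HD F i)))).symm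
      haveI := subsingleton_stalk_of_restrict U.ι _ y (subsingleton_of_isZero_stalkFunctor _ y hz)
      exact isZero_stalkFunctor _ _
    · exact JShriek.isZero_stalk_shriek U.ι _ x hxU
  obtain ⟨φ⟩ := nonempty_iso_rpush U T hT hTU E hE
  exact ⟨φ ≪≫ (DCoh.Rpush U.ι).mapIso ρ⟩

end Groth.Agent.DCat.SuppOpen
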