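import Mathlib.Algebra.Homology.DerivedCategory.KProjective
import Mathlib.Algebra.Homology.DerivedCategory.FullyFaithful
import Mathlib.Algebra.Homology.SingleHomology

/-! `Hom(P[0], L) = Hom(P, H⁰ L)` in the derived category, `P` projective. -/

set_option autoImplicit false
set_option backward.isDefEq.respectTransparency false
set_option backward.defeqAttrib.useBackward true

universe w v u

open CategoryTheory CategoryTheory.Limits DerivedCategory HomologicalComplex

namespace Groth.Agent.DCat.ProjHomology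

variable {A : Type u} [Category.{v} A] [Abelian A]

section Cx

variable (P : A) [Projective P] (K : CochainComplex A ℤ)

lemma projective_cycles : Projective (((single A (ComplexShape.up ℤ) 0).obj P).cycles 0) :=
  Projective.of_iso (singleObjCyclesSelfIso (ComplexShape.up ℤ) 0 P).symm inferInstance

lemma exists_homologyMap_eq
    (h : ((single A (ComplexShape.up ℤ) 0).obj P).homology 0 ⟶ K.homology 0) :
    ∃ g : (single A (ComplexShape.up ℤ) 0).obj P ⟶ K, homologyMap g 0 = h := by
  let P₀ := (single A (ComplexShape.up ℤ) 0).obj P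
  have := projective_cycles P
  obtain ⟨c, hc⟩ : ∃ c : P₀.cycles 0 ⟶ K.cycles 0, c ≫ K.homologyπ 0 = P₀.homologyπ 0 ≫ h :=
    ⟨Projective.factorThru _ (K.homologyπ 0), Projective.factorThru_comp _ _⟩
  refine ⟨mkHomFromSingle ((singleObjCyclesSelfIso (ComplexShape.up ℤ) 0 P).inv ≫ c ≫ K.iCycles 0)
    (fun k _ => by simp), ?_⟩
  rw [← cancel_epi (P₀.homologyπ 0), homologyπ_naturality, ← hc]
  congr 1
  rw [← cancel_mono (K.iCycles 0), cyclesMap_i]
  erw [mkHomFromSingle_f]
  rw [← Category.assoc (iCycles _ 0)]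
  erw [← singleObjCyclesSelfIso_hom]
  simp

lemma homotopic_zero (g : (single A (ComplexShape.up ℤ) 0).obj P ⟶ K) (hg : homologyMap g 0 = 0) :
    Nonempty (Homotopy g 0) := by
  let P₀ := (single A (ComplexShape.up ℤ) 0).obj P
  have := projective_cycles P
  have hex : (ShortComplex.mk (K.toCycles (-1) 0) (K.homologyπ 0) (toCycles_comp_homologyπ _ _ _)).Exact :=
    ShortComplex.exact_of_g_is_cokernel _ (K.homologyIsCokernel (-1) 0 (by simp))
  have h0 : cyclesMap g 0 ≫ K.homologyπ 0 = 0 := by
    rw [← homologyπ_naturality, hg, comp_zero]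
  obtain ⟨s, hs⟩ : ∃ s : P₀.cycles 0 ⟶ K.X (-1), s ≫ K.toCycles (-1) 0 = cyclesMap g 0 :=
    ⟨hex.liftFromProjective _ h0, hex.liftFromProjective_comp _ h0⟩
  let s' : P₀.X 0 ⟶ K.X (-1) := (singleObjXSelf (ComplexShape.up ℤ) 0 P).hom ≫
    (singleObjCyclesSelfIso (ComplexShape.up ℤ) 0 P).inv ≫ s
  let h : ∀ i j, (ComplexShape.up ℤ).Rel j i → (P₀.X i ⟶ K.X j) := fun i j _ =>
    if hij : i = 0 ∧ j = -1 then (P₀.XIsoOfEq hij.1).hom ≫ s' ≫ (K.XIsoOfEq hij.2.symm).hom else 0
  suffices g = Homotopy.nullHomotopicMap' h from ⟨(Homotopy.ofEq this).trans (Homotopy.nullHomotopy' h)⟩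
  refine from_single_hom_ext ?_
  rw [Homotopy.nullHomotopicMap'_f (show (ComplexShape.up ℤ).Rel (-1) 0 by simp)
    (show (ComplexShape.up ℤ).Rel 0 1 by simp)]
  have hd : P₀.d 0 1 = 0 := by simp [P₀]
  rw [hd, zero_comp, zero_add]
  have e := hs =≫ K.iCycles 0
  rw [Category.assoc, toCycles_i, cyclesMap_i] at e
  simp only [h, and_self, dite_true, XIsoOfEq_rfl, Iso.refl_hom, Category.id_comp, Category.comp_id, s',
    Category.assoc]
  rw [e]
  erw [singleObjCyclesSelfIso_inv_iCycles_assoc, Iso.hom_inv_id_assoc]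

end Cx

section D

variable [HasDerivedCategory.{w} A] (P : A) [Projective P]

instance : ((CochainComplex.singleFunctor A 0).obj P).IsKProjective := by
  have : ∀ n, Projective (((CochainComplex.singleFunctor A 0).obj P).X n) := fun n => by
    by_cases h : n = 0
    · subst h
      exact Projective.of_iso (singleObjXSelf (ComplexShape.up ℤ) 0 P).symm inferInstance
    · exact (isZero_single_obj_X (ComplexShape.up ℤ) 0 P n h).projective
  exact CochainComplex.isKProjective_of_projective _ 0

lemma bijective_map_Q (K : CochainComplex A ℤ) : Function.Bijective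
    (fun φ : Q.obj ((CochainComplex.singleFunctor A 0).obj P) ⟶ Q.obj K =>
      (homologyFunctor A 0).map φ) := by
  let P₀ := (CochainComplex.singleFunctor A 0).obj P
  have nat : ∀ g : P₀ ⟶ K, (homologyFunctor A 0).map (Q.map g) =
      (homologyFunctorFactors A 0).hom.app P₀ ≫ homologyMap g 0 ≫
        (homologyFunctorFactors A 0).inv.app K := by
    intro g
    rw [← homologyFunctorFactors_hom_naturality_assoc, Iso.hom_inv_id_app]
    exact (Category.comp_id _).symm
  have lift : ∀ φ : Q.obj P₀ ⟶ Q.obj K, ∃ g : P₀ ⟶ K, Q.map g = φ := by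
    intro φ
    obtain ⟨f, hf⟩ := (CochainComplex.IsKProjective.Qh_map_bijective P₀
      ((HomotopyCategory.quotient _ _).obj K)).surjective
      ((quotientCompQhIso A).hom.app P₀ ≫ φ ≫ (quotientCompQhIso A).inv.app K)
    obtain ⟨g, rfl⟩ := (HomotopyCategory.quotient _ _).map_surjective f
    refine ⟨g, ?_⟩
    have h := (quotientCompQhIso A).hom.naturality g
    dsimp at h hf
    rw [hf, Category.assoc, Category.assoc, Iso.inv_hom_id_app, Category.comp_id] at h
    exact ((cancel_epi ((quotientCompQhIso A).hom.app P₀)).1 h).symm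
  constructor
  · intro φ φ' e
    obtain ⟨g, rfl⟩ := lift φ
    obtain ⟨g', rfl⟩ := lift φ'
    dsimp only at e
    rw [nat, nat, cancel_epi, cancel_mono] at e
    obtain ⟨H⟩ := homotopic_zero P K (g - g') (by rw [homologyMap_sub, e, sub_self])
    have hQ := HomotopyCategory.eq_of_homotopy _ _ H
    rw [Functor.map_sub, Functor.map_zero, sub_eq_zero] at hQ
    have h1 := (quotientCompQhIso A).hom.naturality g
    have h2 := (quotientCompQhIso A).hom.naturality g'
    dsimp at h1 h2
    rw [hQ, h2] at h1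
    exact ((cancel_epi ((quotientCompQhIso A).hom.app P₀)).1 h1).symm
  · intro h
    obtain ⟨g, hg⟩ := exists_homologyMap_eq P K
      ((homologyFunctorFactors A 0).inv.app P₀ ≫ h ≫ (homologyFunctorFactors A 0).hom.app K)
    refine ⟨Q.map g, ?_⟩
    dsimp only
    rw [nat, hg]
    simp [P₀]

/-- `Hom(P[0], L) → Hom(P, H⁰ L)` -/
noncomputable def toH {P : A} {L : DerivedCategory A} (φ : (singleFunctor A 0).obj P ⟶ L) :
    P ⟶ (homologyFunctor A 0).obj L :=
  (singleFunctorCompHomologyFunctorIso A 0).inv.app P ≫ (homologyFunctor A 0).map φ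

lemma toH_comp {P : A} {L L' : DerivedCategory A} (φ : (singleFunctor A 0).obj P ⟶ L) (u : L ⟶ L') :
    toH (φ ≫ u) = toH φ ≫ (homologyFunctor A 0).map u := by
  simp [toH]

lemma toH_precomp {P P' : A} {L : DerivedCategory A} (u : P' ⟶ P)
    (φ : (singleFunctor A 0).obj P ⟶ L) :
    toH ((singleFunctor A 0).map u ≫ φ) = u ≫ toH φ := by
  have h := (singleFunctorCompHomologyFunctorIso A 0).inv.naturality u
  dsimp at h
  simp only [toH, Functor.map_comp]
  rw [reassoc_of% h]

theorem bijective_toH (L : DerivedCategory A) :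
    Function.Bijective (toH : ((singleFunctor A 0).obj P ⟶ L) → _) := by
  let K := Q.objPreimage L
  let e : Q.obj K ≅ L := Q.objObjPreimageIso L
  have hb := bijective_map_Q P K
  constructor
  · intro φ φ' h
    rw [toH, toH, cancel_epi] at h
    have := hb.1 (a₁ := φ ≫ e.inv) (a₂ := φ' ≫ e.inv) (by simp [h])
    exact (cancel_mono e.inv).1 this
  · intro h
    obtain ⟨ψ, hψ⟩ := hb.2 ((singleFunctorCompHomologyFunctorIso A 0).hom.app P ≫ h ≫
      (homologyFunctor A 0).map e.inv)
    refine ⟨ψ ≫ e.hom, ?_⟩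
    dsimp only at hψ
    rw [toH, Functor.map_comp]
    erw [reassoc_of% hψ]
    simp [← Functor.map_comp]

end D

end Groth.Agent.DCat.ProjHomology
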