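import Groth.Agent.DCat.ProjPerfMap

/-! The projection map on bounded complexes that are free over an open. -/

set_option autoImplicit false
set_option backward.isDefEq.respectTransparency false
set_option backward.defeqAttrib.useBackward true
set_option linter.style.haveILetI false

universe u

open CategoryTheory CategoryTheory.Limits AlgebraicGeometry Opposite TopologicalSpace HomologicalComplex
open Groth.Agent.ModStalk

attribute [local instance] HasDerivedCategory.standard

namespace Groth.Agent.DCat.ProjPerf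

variable {X Y : Scheme.{u}}

section Restr

variable {W : Scheme.{u}} (j : W ⟶ X) [IsOpenImmersion j]

/-- Restriction of complexes along an open immersion. -/
noncomputable abbrev restrC : CochainComplex X.Modules ℤ ⥤ CochainComplex W.Modules ℤ :=
  (Scheme.Modules.restrictFunctor j).mapHomologicalComplex (ComplexShape.up ℤ)

instance (n : ℤ) : PreservesColimitsOfShape (Discrete (TotIdx n)) (Scheme.Modules.restrictFunctor j) :=
  haveI := (Scheme.Modules.restrictAdjunction j).leftAdjoint_preservesColimits (F := Scheme.Modules.restrictFunctor j)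
  inferInstance

/-- Restriction commutes with total tensor complexes. -/
noncomputable def restrTot (A B : CochainComplex X.Modules ℤ) :
    (restrC j).obj (tot (shT X) A B) ≅ tot (shT W) ((restrC j).obj A) ((restrC j).obj B) :=
  mapTotIso (shT X) (shT W) (Scheme.Modules.restrictFunctor j) (Scheme.Modules.restrictFunctor j)
    (Scheme.Modules.restrictFunctor j) (ShriekTensor.restrTen j)
    (fun φ N => ShriekTensor.restrTen_nat₁ j φ N) (fun M {_ _} ψ => ShriekTensor.restrTen_nat₂ j M ψ) A B

theorem restrTot_natural (A : CochainComplex X.Modules ℤ) {B B' : CochainComplex X.Modules ℤ} (g : B ⟶ B') :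
    (restrC j).map (totMap₂ (shT X) A g) ≫ (restrTot j A B').hom =
      (restrTot j A B).hom ≫ totMap₂ (shT W) ((restrC j).obj A) ((restrC j).map g) := by
  refine (mapTotHom_natural (fun φ N => ShriekTensor.restrTen_nat₁ j φ N)
    (fun M {_ _} ψ => ShriekTensor.restrTen_nat₂ j M ψ) (𝟙 A) g).trans ?_
  rw [CategoryTheory.Functor.map_id]
  rfl

/-- Tensoring a quasi-isomorphism of K-flats over an open. -/
theorem quasiIso_restrC_tot (A : CochainComplex X.Modules ℤ) {B B' : CochainComplex X.Modules ℤ} (g : B ⟶ B')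
    (h : IsKFlatFor (shT W) ((restrC j).obj B)) (h' : IsKFlatFor (shT W) ((restrC j).obj B'))
    [QuasiIso ((restrC j).map g)] : QuasiIso ((restrC j).map (totMap₂ (shT X) A g)) := by
  haveI := quasiIso_tot_sheaf h h' ((restrC j).map g) ((restrC j).obj A)
  refine (quasiIso_iff_comp_right _ (restrTot j A B').hom).1 ?_
  rw [restrTot_natural]
  infer_instance

end Restr

theorem isZero_freeMod_zero : IsZero (FlatMod.freeMod X 0) :=
  (IsZero.iff_id_eq_zero _).2 (Sigma.hom_ext _ _ fun i => i.elim0)

/-- `I ⊗ O^n[k]` is K-injective. -/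
theorem isKInjective_tot_free (I : CochainComplex X.Modules ℤ) [I.IsKInjective] (k : ℤ) (n : ℕ) :
    CochainComplex.IsKInjective (tot (shT X) I ((single X.Modules (ComplexShape.up ℤ) k).obj (FlatMod.freeMod X n))) := by
  induction n with
  | zero =>
    exact ⟨fun {K} φ _ => ⟨Homotopy.ofEq ((((shT X).map₂CochainComplex.obj I).map_isZero
      ((single _ _ k).map_isZero isZero_freeMod_zero)).eq_of_tgt _ _)⟩⟩
  | succ n ih =>
    let T := RHomLeft.sigmaSeq (fun _ : Fin (n + 1) => Coh.structureModule X)
    let sp : T.Splitting := RHomLeft.sigmaSplit (fun _ : Fin (n + 1) => Coh.structureModule X)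
    have h₁ : CochainComplex.IsKInjective
        (tot (shT X) I ((single X.Modules (ComplexShape.up ℤ) k).obj (Coh.structureModule X))) :=
      TotHom.isKInjective_tot_single (shT X) (Coh.structureModule X) (RHomLeft.rightUnitIso X) I k
    exact TotHom.isKInjective_tot_of_splitting (shT X) I (T.map (single X.Modules (ComplexShape.up ℤ) k))
      (fun q => ⟨sp.map (single X.Modules (ComplexShape.up ℤ) k ⋙ HomologicalComplex.eval _ _ q)⟩) h₁ ih

/-- `I ⊗ F` is K-injective for `F` bounded with finite free terms. -/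
theorem isKInjective_tot (I : CochainComplex X.Modules ℤ) [I.IsKInjective] (F : CochainComplex X.Modules ℤ)
    (a : ℤ) (m : ℕ) (h₁ : ∀ n, n < a → IsZero (F.X n)) (h₂ : ∀ n, a + (m : ℤ) ≤ n → IsZero (F.X n))
    (hfree : ∀ i, ∃ n, Nonempty (F.X i ≅ FlatMod.freeMod X n)) : CochainComplex.IsKInjective (tot (shT X) I F) :=
  TotHom.isKInjective_tot_of_bounded I (fun M => ∃ n, Nonempty (M ≅ FlatMod.freeMod X n))
    (fun M hM => ⟨0, ⟨hM.iso isZero_freeMod_zero⟩⟩) (fun M N e ⟨n, ⟨g⟩⟩ => ⟨n, ⟨e.symm ≪≫ g⟩⟩) (shT X)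
    (fun k M ⟨n, ⟨g⟩⟩ => @CochainComplex.isKInjective_of_iso _ _ _ _ _
      (((shT X).map₂CochainComplex.obj I).mapIso ((single _ _ k).mapIso g.symm)) (isKInjective_tot_free I k n))
    F a m h₁ h₂ hfree

variable (f : X ⟶ Y) (V : Y.Opens)

/-- Over `V`, the projection map of a bounded complex which is free there is invertible. -/
theorem isIso_restrict_Theta (I : CochainComplex X.Modules ℤ) (E : CochainComplex Y.Modules ℤ)
    (a : ℤ) (m : ℕ) (h₁ : ∀ n, n < a → IsZero (E.X n)) (h₂ : ∀ n, a + (m : ℤ) ≤ n → IsZero (E.X n))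
    (hfree : ∀ i, ∃ n, Nonempty ((Scheme.Modules.restrictFunctor V.ι).obj (E.X i) ≅ FlatMod.freeMod V n)) :
    IsIso ((restrC V.ι).map (Theta f I E)) := by
  haveI h : ∀ n, IsIso (((restrC V.ι).map (Theta f I E)).f n) := fun n =>
    TotHom.isIso_map_totHom (shT Y) (shT X) (Scheme.Modules.pushforward f) (Scheme.Modules.pullback f)
      (Scheme.Modules.pushforward f) (theta f) (Scheme.Modules.restrictFunctor V.ι)
      (fun N => ∃ n, Nonempty ((Scheme.Modules.restrictFunctor V.ι).obj N ≅ FlatMod.freeMod V n))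
      (fun M hM => ⟨0, ⟨((Scheme.Modules.restrictFunctor V.ι).map_isZero hM).iso isZero_freeMod_zero⟩⟩)
      (fun M N e ⟨n, ⟨g⟩⟩ => ⟨n, ⟨((Scheme.Modules.restrictFunctor V.ι).mapIso e).symm ≪≫ g⟩⟩)
      (fun M N ⟨n, ⟨g⟩⟩ => isIso_restrict_theta f V M N n g) I E a m h₁ h₂ hfree
      (fun φ N => theta_nat₁ f φ N) (fun M {_ _} ψ => theta_nat₂ f M ψ) n
  exact Hom.isIso_of_components _

end Groth.Agent.DCat.ProjPerf
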