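import Mathlib.Algebra.Homology.DerivedCategory.RightDerivedFunctorPlus
import Mathlib.Algebra.Homology.DerivedCategory.HomologySequence
import Mathlib.CategoryTheory.Triangulated.Adjunction
import Mathlib.CategoryTheory.Abelian.Exact
import Mathlib.Algebra.Homology.DerivedCategory.ShortExact

set_option autoImplicit false
set_option backward.isDefEq.respectTransparency false
set_option backward.defeqAttrib.useBackward true

universe w w' v v' u u'

open CategoryTheory CategoryTheory.Limits CategoryTheory.Pretriangulated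

namespace Groth.Agent.DCat

variable (C : Type u) [Category.{v} C] [Abelian C] [HasDerivedCategory.{w} C]

/-- `K⁺(Inj C) ⥤ D⁺(C)`. -/
noncomputable abbrev injToDPlus :
    HomotopyCategory.Plus (InjectiveObject C) ⥤ DerivedCategory.Plus C :=
  (InjectiveObject.ι C).mapHomotopyCategoryPlus ⋙ DerivedCategory.Plus.Qh

instance injToDPlus_full : (injToDPlus C).Full where
  map_surjective {K L} f := by
    obtain ⟨g, hg⟩ := (DerivedCategory.Plus.Qh_map_bijective_of_isKInjective
      ((InjectiveObject.ι C).mapHomotopyCategoryPlus.obj K)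
      ((InjectiveObject.ι C).mapHomotopyCategoryPlus.obj L) (by
        obtain ⟨M, rfl⟩ := HomotopyCategory.Plus.quotient_obj_surjective L
        exact (inferInstance : CochainComplex.IsKInjective
          (((InjectiveObject.ι C).mapHomologicalComplex (.up ℤ)).obj M.obj)))).2 f
    obtain ⟨h, rfl⟩ := (InjectiveObject.ι C).mapHomotopyCategoryPlus.map_surjective g
    exact ⟨h, hg⟩

instance injToDPlus_faithful : (injToDPlus C).Faithful where
  map_injective {K L} _ _ h := by
    apply (InjectiveObject.ι C).mapHomotopyCategoryPlus.map_injective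
    refine (DerivedCategory.Plus.Qh_map_bijective_of_isKInjective
      ((InjectiveObject.ι C).mapHomotopyCategoryPlus.obj K)
      ((InjectiveObject.ι C).mapHomotopyCategoryPlus.obj L) ?_).1 h
    obtain ⟨M, rfl⟩ := HomotopyCategory.Plus.quotient_obj_surjective L
    exact (inferInstance : CochainComplex.IsKInjective
      (((InjectiveObject.ι C).mapHomologicalComplex (.up ℤ)).obj M.obj))

variable [EnoughInjectives C]

instance injToDPlus_essSurj : (injToDPlus C).EssSurj where
  mem_essImage K := by
    obtain ⟨n, hn⟩ := K.property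
    have : K.IsGE n := (DerivedCategory.Plus.isGE_ι_obj_iff K n).1 hn
    obtain ⟨L, _, ⟨e⟩⟩ := DerivedCategory.Plus.exists_injective_nonempty_iso K n
    exact ⟨(HomotopyCategory.Plus.quotient _).obj L, ⟨e⟩⟩

instance injToDPlus_isEquivalence : (injToDPlus C).IsEquivalence where

variable {C} {D : Type u'} [Category.{v'} D] [Abelian D] [HasDerivedCategory.{w'} D]
  (F : C ⥤ D) [F.Additive]

/-- `F` on injective complexes. -/
noncomputable abbrev onInj :
    HomotopyCategory.Plus (InjectiveObject C) ⥤ DerivedCategory.Plus D :=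
  (InjectiveObject.ι C).mapHomotopyCategoryPlus ⋙ F.mapHomotopyCategoryPlus ⋙ DerivedCategory.Plus.Qh

/-- `R⁺F` restricted to injective complexes is `F`. -/
noncomputable def injCompRDIso : injToDPlus C ⋙ F.rightDerivedFunctorPlus ≅ onInj F :=
  Functor.associator _ _ _ ≪≫
    (@asIso _ _ _ _ (Functor.whiskerLeft (InjectiveObject.ι C).mapHomotopyCategoryPlus
      F.rightDerivedFunctorPlusUnit) (by
        have : ∀ X, IsIso ((Functor.whiskerLeft (InjectiveObject.ι C).mapHomotopyCategoryPlus
            F.rightDerivedFunctorPlusUnit).app X) := fun X =>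
          (inferInstance : IsIso (F.rightDerivedFunctorPlusUnit.app
            ((InjectiveObject.ι C).mapHomotopyCategoryPlus.obj X)))
        exact NatIso.isIso_of_isIso_app _)).symm

/-- A triangulated model of `R⁺F`. -/
noncomputable abbrev rdModel : DerivedCategory.Plus C ⥤ DerivedCategory D :=
  (injToDPlus C).asEquivalence.inverse ⋙ onInj F ⋙ DerivedCategory.Plus.ι

/-- The comparison between `R⁺F` and its triangulated model. -/
noncomputable def rdIso : F.rightDerivedFunctorPlus ⋙ DerivedCategory.Plus.ι ≅ rdModel F :=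
  (Functor.isoWhiskerRight ((Functor.leftUnitor _).symm ≪≫
    Functor.isoWhiskerRight (injToDPlus C).asEquivalence.counitIso.symm _ ≪≫
    Functor.associator _ _ _ ≪≫
    Functor.isoWhiskerLeft (injToDPlus C).asEquivalence.inverse (injCompRDIso F)) _) ≪≫
    Functor.associator _ _ _

section

variable {F}

local notation "Φ" i:max => F.rightDerivedFunctorPlus ⋙ DerivedCategory.Plus.ι ⋙
  DerivedCategory.homologyFunctor D i

/-- Long exact cohomology sequence of `R⁺F` on a distinguished triangle. -/
theorem rd_long_exact (T : Triangle (DerivedCategory.Plus C)) (hT : T ∈ distTriang _) (i : ℤ) :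
    (∃ h : (Φ i).map T.mor₁ ≫ (Φ i).map T.mor₂ = 0,
      (ShortComplex.mk ((Φ i).map T.mor₁) ((Φ i).map T.mor₂) h).Exact) ∧
    ∃ δ : (Φ i).obj T.obj₃ ⟶ (Φ (i + 1)).obj T.obj₁,
      (∃ h : (Φ i).map T.mor₂ ≫ δ = 0, (ShortComplex.mk ((Φ i).map T.mor₂) δ h).Exact) ∧
      (∃ h : δ ≫ (Φ (i + 1)).map T.mor₁ = 0,
        (ShortComplex.mk δ ((Φ (i + 1)).map T.mor₁) h).Exact) := by
  let _ : (injToDPlus C).asEquivalence.functor.CommShift ℤ :=
    (inferInstance : (injToDPlus C).CommShift ℤ)
  let _ := (injToDPlus C).asEquivalence.commShiftInverse ℤ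
  have _ := (injToDPlus C).asEquivalence.commShift_of_functor ℤ
  have _ : (injToDPlus C).asEquivalence.functor.IsTriangulated :=
    (inferInstance : (injToDPlus C).IsTriangulated)
  have _ := Equivalence.IsTriangulated.mk' (injToDPlus C).asEquivalence inferInstance
  let L := rdModel F
  have _ : L.IsTriangulated := (inferInstance : (rdModel F).IsTriangulated)
  have _ : L.PreservesZeroMorphisms := inferInstance
  have hT' : L.mapTriangle.obj T ∈ distTriang _ := L.map_distinguished T hT
  let e := fun j X => (DerivedCategory.homologyFunctor D j).mapIso ((rdIso F).app X)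
  have nat : ∀ (j : ℤ) {X Y : DerivedCategory.Plus C} (f : X ⟶ Y),
      (Φ j).map f ≫ (e j Y).hom =
        (e j X).hom ≫ (DerivedCategory.homologyFunctor D j).map (L.map f) := by
    intro j X Y f
    exact ((DerivedCategory.homologyFunctor D j).map_comp _ _).symm.trans
      ((congrArg _ ((rdIso F).hom.naturality f)).trans
        ((DerivedCategory.homologyFunctor D j).map_comp _ _))
  have z₂ : (Φ i).map T.mor₁ ≫ (Φ i).map T.mor₂ = 0 := by
    rw [← cancel_mono (e i _).hom, zero_comp, Category.assoc, nat, ← Category.assoc, nat, Category.assoc]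
    exact (congrArg ((e i _).hom ≫ ·) (ShortComplex.mk _ _ (by
      rw [← Functor.map_comp, ← L.map_comp, comp_distTriang_mor_zero₁₂ _ hT, Functor.map_zero,
        Functor.map_zero]) : ShortComplex D).zero).trans comp_zero
  let δ' := DerivedCategory.HomologySequence.δ (L.mapTriangle.obj T) i (i + 1) rfl
  let δ : (Φ i).obj T.obj₃ ⟶ (Φ (i + 1)).obj T.obj₁ :=
    (e i _).hom ≫ δ' ≫ (e (i + 1) _).inv
  have hδ₁ := DerivedCategory.HomologySequence.comp_δ _ hT' i (i + 1) rfl
  have hδ₂ := DerivedCategory.HomologySequence.δ_comp _ hT' i (i + 1) rfl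
  have z₃ : (Φ i).map T.mor₂ ≫ δ = 0 := by
    simp only [δ, ← Category.assoc, nat]
    simp only [Category.assoc]
    erw [reassoc_of% hδ₁, zero_comp, comp_zero]
  have z₁ : δ ≫ (Φ (i + 1)).map T.mor₁ = 0 := by
    rw [← cancel_mono (e (i + 1) _).hom, zero_comp, Category.assoc, nat]
    simp only [δ, Category.assoc, Iso.inv_hom_id_assoc]
    erw [hδ₂, comp_zero]
  refine ⟨⟨z₂, ?_⟩, δ, ⟨z₃, ?_⟩, ⟨z₁, ?_⟩⟩
  · exact (ShortComplex.exact_iff_of_iso (ShortComplex.isoMk (e i _) (e i _) (e i _)
      (nat i _).symm (nat i _).symm)).2 (DerivedCategory.HomologySequence.exact₂ _ hT' i)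
  · exact (ShortComplex.exact_iff_of_iso (ShortComplex.isoMk (e i _) (e i _) (e (i + 1) _)
      (nat i _).symm (by dsimp [δ]; simp only [Category.assoc]; erw [Iso.inv_hom_id, Category.comp_id]; rfl))).2 (DerivedCategory.HomologySequence.exact₃ _ hT' i (i + 1) rfl)
  · exact (ShortComplex.exact_iff_of_iso (ShortComplex.isoMk (e i _) (e (i + 1) _) (e (i + 1) _)
      (by dsimp [δ]; simp only [Category.assoc]; erw [Iso.inv_hom_id, Category.comp_id]; rfl) (nat (i + 1) _).symm)).2
        (DerivedCategory.HomologySequence.exact₁ _ hT' i (i + 1) rfl)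

end

/-- `D⁺` sees short exact sequences of complexes as distinguished triangles. -/
theorem exists_triangle_of_shortExact {E : Type u'} [Category.{v'} E] [Abelian E]
    [HasDerivedCategory.{w'} E] {X₁ X₂ X₃ : CochainComplex.Plus E} (f : X₁ ⟶ X₂) (g : X₂ ⟶ X₃)
    (w : f.hom ≫ g.hom = 0) (hS : (ShortComplex.mk f.hom g.hom w).ShortExact) :
    ∃ δ, Triangle.mk (DerivedCategory.Plus.Q.map f) (DerivedCategory.Plus.Q.map g) δ ∈
      distTriang (DerivedCategory.Plus E) := by
  let e : DerivedCategory.Plus.Q ⋙ DerivedCategory.Plus.ι ≅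
      CochainComplex.Plus.ι E ⋙ DerivedCategory.Q :=
    Functor.isoWhiskerLeft (CochainComplex.Plus.ι E) (DerivedCategory.quotientCompQhIso E)
  let T := DerivedCategory.triangleOfSES hS
  let ι := DerivedCategory.Plus.ι (C := E)
  let d : (ι.obj (DerivedCategory.Plus.Q.obj X₃)) ⟶ (ι.obj (DerivedCategory.Plus.Q.obj X₁))⟦(1 : ℤ)⟧ :=
    e.hom.app X₃ ≫ T.mor₃ ≫ (e.inv.app X₁)⟦(1 : ℤ)⟧'
  refine ⟨ι.preimage (d ≫ (ι.commShiftIso (1 : ℤ)).inv.app _), ?_⟩
  rw [← ι.map_distinguished_iff]
  refine isomorphic_distinguished _ (DerivedCategory.triangleOfSES_distinguished hS) _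
    (Triangle.isoMk _ _ (e.app X₁) (e.app X₂) (e.app X₃) (e.hom.naturality f) (e.hom.naturality g) ?_)
  have hd : d ≫ (e.hom.app X₁)⟦(1 : ℤ)⟧' = e.hom.app X₃ ≫ T.mor₃ := by
    simp only [d, Category.assoc, ← Functor.map_comp, Iso.inv_hom_id_app]
    exact (congrArg (fun q => e.hom.app X₃ ≫ q)
      ((congrArg (T.mor₃ ≫ ·) ((shiftFunctor _ (1 : ℤ)).map_id _)).trans (Category.comp_id _)))
  simpa [T] using hd

end Groth.Agent.DCat
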