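import Groth.Agent.DCat.PerfTensor
import Groth.Agent.DCat.ModulesGrothendieck
import Mathlib.CategoryTheory.Abelian.GrothendieckCategory.Coseparator
import Mathlib.CategoryTheory.Adjunction.AdjointFunctorTheorems
import Mathlib.CategoryTheory.Adjunction.Triple
import Mathlib.CategoryTheory.Limits.Preserves.FunctorCategory
import Mathlib.CategoryTheory.Localization.Adjunction

/-! Extension by zero `j_!` along an open immersion, on modules and derived categories. -/

set_option autoImplicit false
set_option backward.isDefEq.respectTransparency false
set_option backward.defeqAttrib.useBackward true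
set_option linter.style.haveILetI false

universe v u v' u'

open CategoryTheory CategoryTheory.Limits AlgebraicGeometry HomologicalComplex Opposite
open Groth.Agent.ModStalk

attribute [local instance] HasDerivedCategory.standard

namespace Groth.Agent.DCat

/-- An adjunction, on complexes. -/
noncomputable def adjCx {A : Type u} [Category.{v} A] [Preadditive A] {B : Type u'} [Category.{v'} B] [Preadditive B]
    {G : A ⥤ B} {F : B ⥤ A} [G.Additive] [F.Additive] {ι : Type*} (c : ComplexShape ι) (adj : G ⊣ F) :
    G.mapHomologicalComplex c ⊣ F.mapHomologicalComplex c where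
  unit :=
    { app := fun K => { f := fun n => adj.unit.app (K.X n), comm' := fun i j _ => (adj.unit.naturality (K.d i j)).symm }
      naturality := fun K L g => by ext n; exact adj.unit.naturality (g.f n) }
  counit :=
    { app := fun K => { f := fun n => adj.counit.app (K.X n), comm' := fun i j _ => (adj.counit.naturality (K.d i j)).symm }
      naturality := fun K L g => by ext n; exact adj.counit.naturality (g.f n) }
  left_triangle_components K := by ext n; exact adj.left_triangle_components (K.X n)
  right_triangle_components K := by ext n; exact adj.right_triangle_components (K.X n)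

namespace JShriek

variable {U X : Scheme.{u}} (j : U ⟶ X) [IsOpenImmersion j]

instance preservesLimits_restrict : PreservesLimits (Scheme.Modules.restrictFunctor j) := by
  haveI : PreservesLimitsOfSize.{u, u} ((Functor.whiskeringLeft _ _ Ab.{u}).obj j.opensFunctor.op) :=
    whiskeringLeft_preservesLimits _
  haveI : PreservesLimits (Scheme.Modules.restrictFunctor j ⋙ Scheme.Modules.toPresheaf U) :=
    comp_preservesLimits (Scheme.Modules.toPresheaf X) ((Functor.whiskeringLeft _ _ Ab.{u}).obj j.opensFunctor.op)
  haveI : ReflectsLimits (Scheme.Modules.toPresheaf U) := reflectsLimits_of_reflectsIsomorphisms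
  exact preservesLimits_of_reflects_of_preserves _ (Scheme.Modules.toPresheaf U)

theorem isRightAdjoint_restrict : (Scheme.Modules.restrictFunctor j).IsRightAdjoint :=
  isRightAdjoint_of_preservesLimits_of_isCoseparating (isCoseparator_coseparator X.Modules) _

/-- Extension by zero. -/
noncomputable def shriek : U.Modules ⥤ X.Modules :=
  haveI := isRightAdjoint_restrict j
  (Scheme.Modules.restrictFunctor j).leftAdjoint

/-- `j_! ⊣ j^*`. -/
noncomputable def shriekAdj : shriek j ⊣ Scheme.Modules.restrictFunctor j :=
  haveI := isRightAdjoint_restrict j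
  Adjunction.ofIsRightAdjoint _

instance : (shriek j).Additive := (shriekAdj j).left_adjoint_additive

instance isIso_unit : IsIso (shriekAdj j).unit := by
  haveI : (shriek j).Full ∧ (shriek j).Faithful := by
    let h := ((Adjunction.Triple.mk (shriekAdj j) (Scheme.Modules.restrictAdjunction j))).fullyFaithfulEquiv.symm
      (Scheme.Modules.restrictAdjunction j).fullyFaithfulROfIsIsoCounit
    exact ⟨h.full, h.faithful⟩
  obtain ⟨h₁, h₂⟩ := this
  infer_instance

/-- Stalks of an extension by zero vanish outside the open. -/
lemma isZero_stalk_shriek (A : U.Modules) (x : X) (hx : x ∉ j.opensRange) :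
    IsZero ((DerSch.stalkFunctor X x).obj ((shriek j).obj A)) := by
  rw [IsZero.iff_id_eq_zero]
  apply ((stalkAdj x).homEquiv _ _).injective
  apply ((shriekAdj j).homEquiv _ _).injective
  refine Scheme.Modules.hom_ext _ _ fun V => ?_
  ext s
  refine sval_ext (A := (DerSch.stalkFunctor X x).obj ((shriek j).obj A)) (U := j ''ᵁ V) fun h => ?_
  exact absurd (by obtain ⟨y, -, rfl⟩ := h; exact ⟨y, rfl⟩) hx

/-- Zero after pulling back and zero outside implies zero. -/
lemma isZero_of_restrict {M : X.Modules} (h : IsZero ((Scheme.Modules.restrictFunctor j).obj M))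
    (h' : ∀ x : X, x ∉ j.opensRange → IsZero ((DerSch.stalkFunctor X x).obj M)) : IsZero M := by
  refine isZero_of_stalks fun x => ?_
  by_cases hx : x ∈ j.opensRange
  · obtain ⟨u, rfl⟩ := hx
    have h₁ : IsZero ((ModuleCat.extendScalars (j.stalkMap u).hom).obj ((DerSch.stalkFunctor X (j.base u)).obj M)) :=
      ((DerSch.stalkFunctor U u).map_isZero (h.of_iso ((Scheme.Modules.restrictFunctorIsoPullback j).app M).symm)).of_iso
        ((pullbackStalkIso j u).app M).symm
    haveI := ModuleCat.subsingleton_of_isZero h₁
    haveI : Subsingleton ((DerSch.stalkFunctor X (j.base u)).obj M) := by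
      letI := (j.stalkMap u).hom.toAlgebra
      let e : X.presheaf.stalk (j.base u) ≃ₗ[X.presheaf.stalk (j.base u)] U.presheaf.stalk u :=
        LinearEquiv.ofBijective (Algebra.linearMap _ _) (ConcreteCategory.bijective_of_isIso (j.stalkMap u))
      haveI : Subsingleton (TensorProduct (X.presheaf.stalk (j.base u)) (U.presheaf.stalk u)
          ((DerSch.stalkFunctor X (j.base u)).obj M)) := ‹Subsingleton ((ModuleCat.extendScalars (j.stalkMap u).hom).obj
            ((DerSch.stalkFunctor X (j.base u)).obj M))›
      exact ((TensorProduct.lid (X.presheaf.stalk (j.base u)) ((DerSch.stalkFunctor X (j.base u)).obj M)).symm.trans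
        (TensorProduct.congr e (LinearEquiv.refl _ _))).injective.subsingleton
    exact ModuleCat.isZero_of_subsingleton _
  · exact h' x hx

instance preservesMonomorphisms_shriek : (shriek j).PreservesMonomorphisms where
  preserves {A B} f _ := by
    refine Preadditive.mono_of_isZero_kernel _ (isZero_of_restrict j ?_ fun x hx => ?_)
    · haveI : Mono ((Scheme.Modules.restrictFunctor j).map ((shriek j).map f)) :=
        (MorphismProperty.monomorphisms U.Modules).arrow_mk_iso_iff
          (Arrow.isoMk (f := Arrow.mk f) (g := Arrow.mk ((Scheme.Modules.restrictFunctor j).map ((shriek j).map f)))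
            (asIso ((shriekAdj j).unit.app A)) (asIso ((shriekAdj j).unit.app B))
            ((shriekAdj j).unit.naturality f).symm) |>.1 ‹_›
      exact IsZero.of_iso (isZero_kernel_of_mono _)
        (PreservesKernel.iso (Scheme.Modules.restrictFunctor j) ((shriek j).map f))
    · exact IsZero.of_mono ((DerSch.stalkFunctor X x).map (kernel.ι ((shriek j).map f))) (isZero_stalk_shriek j A x hx)

instance preservesFiniteColimits_shriek : PreservesFiniteColimits (shriek j) :=
  haveI := (shriekAdj j).leftAdjoint_preservesColimits
  inferInstance

instance preservesFiniteLimits_shriek : PreservesFiniteLimits (shriek j) := by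
  have e := (Functor.preservesFiniteLimits_tfae (shriek j)).out 0 3
  refine e.1 fun S hS => ⟨?_, ?_⟩
  · have e' := (Functor.preservesFiniteColimits_tfae (shriek j)).out 3 0
    exact (e'.1 inferInstance S hS).1
  · haveI := hS.mono_f
    infer_instance

/-- `j_! ⊣ j^*` on derived categories. -/
noncomputable def shriekD : (shriek j).mapDerivedCategory ⊣ (Scheme.Modules.restrictFunctor j).mapDerivedCategory :=
  letI : CatCommSq ((shriek j).mapHomologicalComplex (ComplexShape.up ℤ)) DerivedCategory.Q DerivedCategory.Q
      (shriek j).mapDerivedCategory := ⟨(shriek j).mapDerivedCategoryFactors.symm⟩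
  letI : CatCommSq ((Scheme.Modules.restrictFunctor j).mapHomologicalComplex (ComplexShape.up ℤ)) DerivedCategory.Q
      DerivedCategory.Q (Scheme.Modules.restrictFunctor j).mapDerivedCategory :=
    ⟨(Scheme.Modules.restrictFunctor j).mapDerivedCategoryFactors.symm⟩
  (adjCx (ComplexShape.up ℤ) (shriekAdj j)).localization
    DerivedCategory.Q (HomologicalComplex.quasiIso _ _) DerivedCategory.Q (HomologicalComplex.quasiIso _ _) _ _

end JShriek

end Groth.Agent.DCat
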