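import Groth.Agent.DCat.TotMap
import Mathlib.Algebra.Homology.DerivedCategory.ExactFunctor
import Mathlib.CategoryTheory.Localization.Predicate

/-! A projection formula for total complexes of biadditive functors. -/

set_option autoImplicit false
set_option backward.isDefEq.respectTransparency false
set_option backward.defeqAttrib.useBackward true
set_option linter.style.haveILetI false

universe w₁ w₂ v₁ v₂ v₃ u₁ u₂ u₃ v₁' v₂' v₃' u₁' u₂' u₃'

open CategoryTheory CategoryTheory.Limits HomologicalComplex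

namespace Groth.Agent.DCat.TotProj

section Complexes

variable {A : Type u₁} [Category.{v₁} A] [Preadditive A] {B' : Type u₂'} [Category.{v₂'} B'] [Preadditive B']
  {C : Type u₃} [Category.{v₃} C] [Abelian C]
  {A' : Type u₁'} [Category.{v₁'} A'] [Preadditive A'] {B : Type u₂} [Category.{v₂} B] [Preadditive B]
  {C' : Type u₃'} [Category.{v₃'} C'] [Abelian C']
  (T : A ⥤ B' ⥤ C) [T.Additive] [∀ a, (T.obj a).Additive]
  [∀ (K₁ : CochainComplex A ℤ) (K₂ : CochainComplex B' ℤ), CochainComplex.HasMapBifunctor K₁ K₂ T]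
  (T' : A' ⥤ B ⥤ C') [T'.Additive] [∀ a, (T'.obj a).Additive]
  [∀ (K₁ : CochainComplex A' ℤ) (K₂ : CochainComplex B ℤ), CochainComplex.HasMapBifunctor K₁ K₂ T']
  (F : A ⥤ A') [F.Additive] (H : B ⥤ B') [H.Additive] (G : C ⥤ C') [G.Additive]
  (α : ∀ a b, G.obj ((T.obj a).obj (H.obj b)) ≅ (T'.obj (F.obj a)).obj b)
  (hα₁ : ∀ {a a' : A} (f : a ⟶ a') (b : B),
    G.map ((T.map f).app (H.obj b)) ≫ (α a' b).hom = (α a b).hom ≫ (T'.map (F.map f)).app b)
  (hα₂ : ∀ (a : A) {b b' : B} (g : b ⟶ b'),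
    G.map ((T.obj a).map (H.map g)) ≫ (α a b').hom = (α a b).hom ≫ (T'.obj (F.obj a)).map g)
  [∀ n : ℤ, PreservesColimitsOfShape (Discrete (TotIdx n)) G]

/-- Comparison map, degreewise. -/
noncomputable def projTotHom (M : CochainComplex A ℤ) (K : CochainComplex B ℤ) (n : ℤ) :
    G.obj ((tot T M ((H.mapHomologicalComplex (ComplexShape.up ℤ)).obj K)).X n) ⟶
      (tot T' ((F.mapHomologicalComplex (ComplexShape.up ℤ)).obj M) K).X n :=
  Cofan.IsColimit.desc (isColimitMapTot T G M ((H.mapHomologicalComplex (ComplexShape.up ℤ)).obj K) n) fun i =>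
    (α (M.X i.1.1) (K.X i.1.2)).hom ≫
      ιMapBifunctor ((F.mapHomologicalComplex (ComplexShape.up ℤ)).obj M) K T' (ComplexShape.up ℤ)
        i.1.1 i.1.2 n i.2

omit [G.Additive] in
@[reassoc]
lemma ι_projTotHom (M : CochainComplex A ℤ) (K : CochainComplex B ℤ) (p q n : ℤ) (h : p + q = n) :
    G.map (ιMapBifunctor M ((H.mapHomologicalComplex (ComplexShape.up ℤ)).obj K) T (ComplexShape.up ℤ) p q n h) ≫
        projTotHom T T' F H G α M K n =
      (α (M.X p) (K.X q)).hom ≫ ιMapBifunctor ((F.mapHomologicalComplex (ComplexShape.up ℤ)).obj M)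
        K T' (ComplexShape.up ℤ) p q n h :=
  Cofan.IsColimit.fac (isColimitMapTot T G M ((H.mapHomologicalComplex (ComplexShape.up ℤ)).obj K) n) _
    (⟨(p, q), h⟩ : TotIdx n)

include hα₁ hα₂ in
/-- `G (M ⊗ H K) ≅ F M ⊗ K`. -/
noncomputable def projTotIso (M : CochainComplex A ℤ) (K : CochainComplex B ℤ) :
    (G.mapHomologicalComplex (ComplexShape.up ℤ)).obj
        (tot T M ((H.mapHomologicalComplex (ComplexShape.up ℤ)).obj K)) ≅
      tot T' ((F.mapHomologicalComplex (ComplexShape.up ℤ)).obj M) K :=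
  Hom.isoOfComponents (fun n =>
    { hom := projTotHom T T' F H G α M K n
      inv := mapBifunctorDesc fun p q h =>
        (α (M.X p) (K.X q)).inv ≫
          G.map (ιMapBifunctor M ((H.mapHomologicalComplex (ComplexShape.up ℤ)).obj K) T (ComplexShape.up ℤ) p q n h)
      hom_inv_id := Cofan.IsColimit.hom_ext
        (isColimitMapTot T G M ((H.mapHomologicalComplex (ComplexShape.up ℤ)).obj K) n) _ _ fun ⟨⟨p, q⟩, h⟩ => by
        dsimp
        erw [ι_projTotHom_assoc, ι_mapBifunctorDesc, Iso.hom_inv_id_assoc, Category.comp_id]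
      inv_hom_id := mapBifunctor.hom_ext fun p q h => by
        rw [ι_mapBifunctorDesc_assoc, Category.assoc, ι_projTotHom, Iso.inv_hom_id_assoc,
          Category.comp_id] })
    fun n n' hn => Cofan.IsColimit.hom_ext
        (isColimitMapTot T G M ((H.mapHomologicalComplex (ComplexShape.up ℤ)).obj K) n) _ _ fun ⟨⟨p, q⟩, h⟩ => by
      dsimp
      have h' : p + q = n := h
      erw [ι_projTotHom_assoc, ← G.map_comp_assoc]
      rw [mapBifunctor.d_eq, mapBifunctor.d_eq]
      simp only [Preadditive.comp_add, Functor.map_add, Preadditive.add_comp, mapBifunctor.ι_D₁,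
        mapBifunctor.ι_D₂, ComplexShape.up_Rel] at hn ⊢
      rw [mapBifunctor.d₁_eq _ _ _ _ (show (ComplexShape.up ℤ).Rel p (p + 1) from rfl) _ _
          (by simp; omega),
        mapBifunctor.d₂_eq _ _ _ _ _ (show (ComplexShape.up ℤ).Rel q (q + 1) from rfl) _
          (by simp; omega),
        mapBifunctor.d₁_eq _ _ _ _ (show (ComplexShape.up ℤ).Rel p (p + 1) from rfl) _ _
          (by simp; omega),
        mapBifunctor.d₂_eq _ _ _ _ _ (show (ComplexShape.up ℤ).Rel q (q + 1) from rfl) _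
          (by simp; omega)]
      simp only [Functor.map_zsmul, Units.smul_def,
        Preadditive.zsmul_comp, Preadditive.comp_zsmul, G.map_comp, Category.assoc, ι_projTotHom,
        Functor.mapHomologicalComplex_obj_d, reassoc_of% hα₂]
      exact congrArg₂ (· + ·) (congrArg _ ((Category.assoc _ _ _).symm.trans
        ((congrArg (· ≫ _) (hα₁ (M.d p (p + 1)) (K.X q)).symm).trans (Category.assoc _ _ _)))) rfl

variable {T T' F H G α}

/-- Naturality in the first variable. -/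
lemma projTotIso_natural (hα₁' : ∀ {a a' : A} (f : a ⟶ a') (b : B),
    G.map ((T.map f).app (H.obj b)) ≫ (α a' b).hom = (α a b).hom ≫ (T'.map (F.map f)).app b)
    (hα₂' : ∀ (a : A) {b b' : B} (g : b ⟶ b'),
    G.map ((T.obj a).map (H.map g)) ≫ (α a b').hom = (α a b).hom ≫ (T'.obj (F.obj a)).map g)
    {M M' : CochainComplex A ℤ} (f : M ⟶ M') (K : CochainComplex B ℤ) :
    (G.mapHomologicalComplex (ComplexShape.up ℤ)).map
          (totMap₁ T f ((H.mapHomologicalComplex (ComplexShape.up ℤ)).obj K)) ≫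
        (projTotIso T T' F H G α hα₁' hα₂' M' K).hom =
      (projTotIso T T' F H G α hα₁' hα₂' M K).hom ≫
        totMap₁ T' ((F.mapHomologicalComplex (ComplexShape.up ℤ)).map f) K := by
  ext n
  refine Cofan.IsColimit.hom_ext
    (isColimitMapTot T G M ((H.mapHomologicalComplex (ComplexShape.up ℤ)).obj K) n) _ _ fun ⟨⟨p, q⟩, h⟩ => ?_
  dsimp [projTotIso]
  rw [← G.map_comp_assoc, ι_mapBifunctorMap]
  simp only [id_f, CategoryTheory.Functor.map_id, Category.id_comp, G.map_comp, Category.assoc]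
  rw [ι_projTotHom, ι_projTotHom_assoc, ι_mapBifunctorMap]
  simp only [id_f, CategoryTheory.Functor.map_id, Category.id_comp]
  exact (Category.assoc _ _ _).symm.trans
    ((congrArg (· ≫ _) (hα₁' (f.f p) (K.X q))).trans (Category.assoc _ _ _))

variable (T T' F H G α)

include hα₁ hα₂ in
/-- The projection formula as an isomorphism of functors of the first variable. -/
noncomputable def projTotNatIso (K : CochainComplex B ℤ) :
    T.map₂CochainComplex.flip.obj ((H.mapHomologicalComplex (ComplexShape.up ℤ)).obj K) ⋙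
        G.mapHomologicalComplex (ComplexShape.up ℤ) ≅
      F.mapHomologicalComplex (ComplexShape.up ℤ) ⋙ T'.map₂CochainComplex.flip.obj K :=
  NatIso.ofComponents (fun M => projTotIso T T' F H G α hα₁ hα₂ M K)
    fun f => projTotIso_natural hα₁ hα₂ f K

end Complexes

end Groth.Agent.DCat.TotProj

namespace Groth.Agent.DCat.TotProj

variable {A₀ : Type u₁} [Category.{v₁} A₀] [Abelian A₀] [HasDerivedCategory.{w₁} A₀]
  {B₀' : Type u₂'} [Category.{v₂'} B₀'] [Preadditive B₀']
  {A₀' : Type u₁'} [Category.{v₁'} A₀'] [Abelian A₀'] [HasDerivedCategory.{w₂} A₀']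
  {B₀ : Type u₂} [Category.{v₂} B₀] [Preadditive B₀]
  (T : A₀ ⥤ B₀' ⥤ A₀) [T.Additive] [∀ a, (T.obj a).Additive]
  [∀ (K₁ : CochainComplex A₀ ℤ) (K₂ : CochainComplex B₀' ℤ), CochainComplex.HasMapBifunctor K₁ K₂ T]
  (T' : A₀' ⥤ B₀ ⥤ A₀') [T'.Additive] [∀ a, (T'.obj a).Additive]
  [∀ (K₁ : CochainComplex A₀' ℤ) (K₂ : CochainComplex B₀ ℤ), CochainComplex.HasMapBifunctor K₁ K₂ T']
  (F : A₀ ⥤ A₀') [F.Additive] [PreservesFiniteLimits F] [PreservesFiniteColimits F]
  [∀ n : ℤ, PreservesColimitsOfShape (Discrete (TotIdx n)) F]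
  (H : B₀ ⥤ B₀') [H.Additive]
  (α : ∀ a b, F.obj ((T.obj a).obj (H.obj b)) ≅ (T'.obj (F.obj a)).obj b)
  (hα₁ : ∀ {a a' : A₀} (f : a ⟶ a') (b : B₀),
    F.map ((T.map f).app (H.obj b)) ≫ (α a' b).hom = (α a b).hom ≫ (T'.map (F.map f)).app b)
  (hα₂ : ∀ (a : A₀) {b b' : B₀} (g : b ⟶ b'),
    F.map ((T.obj a).map (H.map g)) ≫ (α a b').hom = (α a b).hom ≫ (T'.obj (F.obj a)).map g)

/-- `- ⊗ K`, on complexes, to the derived category. -/
noncomputable abbrev cxQ {A₁ : Type u₁} [Category.{v₁} A₁] [Abelian A₁] [HasDerivedCategory.{w₁} A₁]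
    {B₁ : Type u₂'} [Category.{v₂'} B₁] [Preadditive B₁]
    (S : A₁ ⥤ B₁ ⥤ A₁) [S.Additive] [∀ a, (S.obj a).Additive]
    [∀ (K₁ : CochainComplex A₁ ℤ) (K₂ : CochainComplex B₁ ℤ), CochainComplex.HasMapBifunctor K₁ K₂ S]
    (K : CochainComplex B₁ ℤ) : CochainComplex A₁ ℤ ⥤ DerivedCategory A₁ :=
  S.map₂CochainComplex.flip.obj K ⋙ DerivedCategory.Q

include hα₁ hα₂ in
/-- The projection formula for functors of derived categories descending the total tensor products. -/
theorem nonempty_derived (K : CochainComplex B₀ ℤ)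
    (L₁ : DerivedCategory A₀ ⥤ DerivedCategory A₀)
    (e₁ : DerivedCategory.Q ⋙ L₁ ≅ cxQ T ((H.mapHomologicalComplex (ComplexShape.up ℤ)).obj K))
    (L₂ : DerivedCategory A₀' ⥤ DerivedCategory A₀')
    (e₂ : DerivedCategory.Q ⋙ L₂ ≅ cxQ T' K) :
    Nonempty (L₁ ⋙ F.mapDerivedCategory ≅ F.mapDerivedCategory ⋙ L₂) := by
  let e : DerivedCategory.Q ⋙ L₁ ⋙ F.mapDerivedCategory ≅ DerivedCategory.Q ⋙ F.mapDerivedCategory ⋙ L₂ :=
    (Functor.associator _ _ _).symm ≪≫ Functor.isoWhiskerRight e₁ _ ≪≫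
      Functor.associator _ _ _ ≪≫
      Functor.isoWhiskerLeft _ F.mapDerivedCategoryFactors ≪≫
      (Functor.associator _ _ _).symm ≪≫
      Functor.isoWhiskerRight (projTotNatIso T T' F H F α hα₁ hα₂ K) _ ≪≫
      Functor.associator _ _ _ ≪≫
      Functor.isoWhiskerLeft _ e₂.symm ≪≫ (Functor.associator _ _ _).symm ≪≫
      Functor.isoWhiskerRight F.mapDerivedCategoryFactors.symm _ ≪≫
      Functor.associator _ _ _
  exact ⟨Localization.liftNatIso DerivedCategory.Q (HomologicalComplex.quasiIso A₀ (ComplexShape.up ℤ))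
    (DerivedCategory.Q ⋙ L₁ ⋙ F.mapDerivedCategory) (DerivedCategory.Q ⋙ F.mapDerivedCategory ⋙ L₂) _ _ e⟩


end Groth.Agent.DCat.TotProj
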