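import Groth.Agent.DCat.ClosedPush
import Groth.Agent.DCat.JShriek
import Groth.Agent.DCat.TensorCongr
import Groth.Agent.DCat.PullPerf
import Groth.Agent.DCat.TotProj
import Mathlib.CategoryTheory.Localization.Predicate

/-!
# The projection formula for extension by zero and restriction of `RHom`
-/

set_option autoImplicit false
set_option backward.isDefEq.respectTransparency false
set_option backward.defeqAttrib.useBackward true
set_option linter.style.haveILetI false

universe u

open CategoryTheory CategoryTheory.Limits AlgebraicGeometry HomologicalComplex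
open Groth.Agent.ModStalk

attribute [local instance] HasDerivedCategory.standard
attribute [-instance] Int.instConditionallyCompleteLinearOrder

namespace Groth.Agent.DCat.ShriekTensor

variable {U X : Scheme.{u}} (j : U ⟶ X) [IsOpenImmersion j]

/-- A map which is invertible on the open and between modules vanishing outside is invertible. -/
theorem isIso_of_restrict {A B : X.Modules} (φ : A ⟶ B)
    [IsIso ((Scheme.Modules.restrictFunctor j).map φ)]
    (hA : ∀ x, x ∉ j.opensRange → Subsingleton ((DerSch.stalkFunctor X x).obj A))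
    (hB : ∀ x, x ∉ j.opensRange → Subsingleton ((DerSch.stalkFunctor X x).obj B)) : IsIso φ := by
  refine isIso_of_stalks _ fun x => (ConcreteCategory.isIso_iff_bijective _).2 ?_
  by_cases hx : x ∈ j.opensRange
  · obtain ⟨u, rfl⟩ := hx
    let g := j.stalkMap u
    let S := DerSch.stalkFunctor X (j.base u)
    haveI : IsIso ((Scheme.Modules.pullback j).map φ) :=
      (NatIso.isIso_map_iff (Scheme.Modules.restrictFunctorIsoPullback j) φ).1 ‹_›
    haveI : IsIso ((Scheme.Modules.pullback j ⋙ DerSch.stalkFunctor U u).map φ) :=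
      Functor.map_isIso (DerSch.stalkFunctor U u) _
    haveI : IsIso ((ModuleCat.extendScalars g.hom).map (S.map φ)) :=
      (NatIso.isIso_map_iff (pullbackStalkIso j u) φ).1 ‹_›
    have hext := ConcreteCategory.bijective_of_isIso ((ModuleCat.extendScalars g.hom).map (S.map φ))
    have hg := ConcreteCategory.bijective_of_isIso g
    let η := (ModuleCat.extendRestrictScalarsAdj g.hom).unit
    have hnat : ∀ a, η.app (S.obj B) (S.map φ a) =
        (ModuleCat.extendScalars g.hom).map (S.map φ) (η.app (S.obj A) a) := fun a =>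
      ConcreteCategory.congr_hom (η.naturality (S.map φ)) a
    have hinj : ∀ M : ModuleCat.{u} (X.presheaf.stalk (j.base u)), Function.Injective (η.app M) :=
      fun M => ClosedPush.extend_unit_injective g.hom hg.2 M fun r hr a => by
        rw [show r = 0 from hg.1 (hr.trans (map_zero g.hom).symm), zero_smul]
    refine ⟨fun a a' h => hinj _ (hext.1 ?_), fun b => ?_⟩
    · exact (hnat a).symm.trans ((congrArg _ h).trans (hnat a'))
    · obtain ⟨t, ht⟩ := hext.2 (η.app (S.obj B) b)
      obtain ⟨a, rfl⟩ := ClosedPush.extend_unit_surjective g.hom hg.2 (S.obj A) t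
      exact ⟨a, hinj _ ((hnat a).trans ht)⟩
  · haveI := hA x hx
    haveI := hB x hx
    exact ⟨fun a a' _ => Subsingleton.elim a a', fun b => ⟨0, Subsingleton.elim _ b⟩⟩

/-- Restriction commutes with tensor products. -/
noncomputable def restrTen (M N : X.Modules) :
    (Scheme.Modules.restrictFunctor j).obj (((shT X).obj M).obj N) ≅
      ((shT U).obj ((Scheme.Modules.restrictFunctor j).obj M)).obj ((Scheme.Modules.restrictFunctor j).obj N) :=
  (Scheme.Modules.restrictFunctorIsoPullback j).app _ ≪≫ PullTensor.pullTensorIso j M N ≪≫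
    ((shT U).mapIso ((Scheme.Modules.restrictFunctorIsoPullback j).app M).symm).app _ ≪≫
    ((shT U).obj _).mapIso ((Scheme.Modules.restrictFunctorIsoPullback j).app N).symm

theorem restrTen_nat₁ {M M' : X.Modules} (φ : M ⟶ M') (N : X.Modules) :
    (Scheme.Modules.restrictFunctor j).map (((shT X).map φ).app N) ≫ (restrTen j M' N).hom =
      (restrTen j M N).hom ≫ ((shT U).map ((Scheme.Modules.restrictFunctor j).map φ)).app
        ((Scheme.Modules.restrictFunctor j).obj N) := by
  simp only [restrTen, Iso.trans_hom, Iso.app_hom, PullTensor.pullTensorIso, asIso_hom,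
    Functor.mapIso_hom, Iso.symm_hom, Iso.app_inv, Category.assoc]
  rw [NatTrans.naturality_assoc, reassoc_of% (PullTensor.pullTensorHom_nat₁ j φ N),
    NatTrans.naturality, ← NatTrans.comp_app_assoc, ← NatTrans.comp_app_assoc, ← Functor.map_comp,
    ← Functor.map_comp, NatTrans.naturality]

theorem restrTen_nat₂ (M : X.Modules) {N N' : X.Modules} (ψ : N ⟶ N') :
    (Scheme.Modules.restrictFunctor j).map (((shT X).obj M).map ψ) ≫ (restrTen j M N').hom =
      (restrTen j M N).hom ≫ ((shT U).obj ((Scheme.Modules.restrictFunctor j).obj M)).map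
        ((Scheme.Modules.restrictFunctor j).map ψ) := by
  simp only [restrTen, Iso.trans_hom, Iso.app_hom, PullTensor.pullTensorIso, asIso_hom,
    Functor.mapIso_hom, Iso.symm_hom, Iso.app_inv, Category.assoc]
  rw [NatTrans.naturality_assoc, reassoc_of% (PullTensor.pullTensorHom_nat₂ j M ψ),
    NatTrans.naturality_assoc, ← Functor.map_comp, ← Functor.map_comp, NatTrans.naturality]

/-- The transpose of the projection map. -/
noncomputable def gamma (A : U.Modules) (N : X.Modules) :
    ((shT U).obj A).obj ((Scheme.Modules.restrictFunctor j).obj N) ⟶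
      (Scheme.Modules.restrictFunctor j).obj (((shT X).obj ((JShriek.shriek j).obj A)).obj N) :=
  ((shT U).map ((JShriek.shriekAdj j).unit.app A)).app _ ≫ (restrTen j _ N).inv

instance isIso_gamma (A : U.Modules) (N : X.Modules) : IsIso (gamma j A N) := by
  unfold gamma; infer_instance

/-- The projection map `j_!(A ⊗ N|_U) → j_! A ⊗ N`. -/
noncomputable def projMap (A : U.Modules) (N : X.Modules) :
    (JShriek.shriek j).obj (((shT U).obj A).obj ((Scheme.Modules.restrictFunctor j).obj N)) ⟶
      ((shT X).obj ((JShriek.shriek j).obj A)).obj N :=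
  ((JShriek.shriekAdj j).homEquiv _ _).symm (gamma j A N)

instance isIso_projMap (A : U.Modules) (N : X.Modules) : IsIso (projMap j A N) := by
  have e : (JShriek.shriekAdj j).unit.app _ ≫ (Scheme.Modules.restrictFunctor j).map (projMap j A N) =
      gamma j A N :=
    ((JShriek.shriekAdj j).homEquiv_unit _ _ _).symm.trans (Equiv.apply_symm_apply _ _)
  haveI : IsIso ((Scheme.Modules.restrictFunctor j).map (projMap j A N)) :=
    IsIso.of_isIso_fac_left e
  refine isIso_of_restrict j _ (fun x hx => ModuleCat.subsingleton_of_isZero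
    (JShriek.isZero_stalk_shriek j _ x hx)) fun x hx => ?_
  haveI := ModuleCat.subsingleton_of_isZero (JShriek.isZero_stalk_shriek j A x hx)
  refine subsingleton_of_forall_eq 0 fun t => ?_
  apply (ConcreteCategory.bijective_of_isIso (stalkTensorIso x ((JShriek.shriek j).obj A) N).hom).1
  rw [map_zero]
  generalize (stalkTensorIso x ((JShriek.shriek j).obj A) N).hom t = w
  induction w using TensorProduct.induction_on with
  | zero => rfl
  | tmul a b => rw [Subsingleton.elim a 0, TensorProduct.zero_tmul]
  | add a b ha hb => rw [ha, hb, add_zero]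

theorem projMap_nat₁ {A A' : U.Modules} (φ : A ⟶ A') (N : X.Modules) :
    (JShriek.shriek j).map (((shT U).map φ).app ((Scheme.Modules.restrictFunctor j).obj N)) ≫
        projMap j A' N =
      projMap j A N ≫ ((shT X).map ((JShriek.shriek j).map φ)).app N := by
  unfold projMap
  rw [← Adjunction.homEquiv_naturality_left_symm, ← Adjunction.homEquiv_naturality_right_symm]
  refine congrArg _ ?_
  simp only [gamma, Category.assoc]
  rw [← NatTrans.comp_app_assoc, ← Functor.map_comp]
  have h := (JShriek.shriekAdj j).unit.naturality φ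
  rw [show φ ≫ (JShriek.shriekAdj j).unit.app A' = (JShriek.shriekAdj j).unit.app A ≫
    (Scheme.Modules.restrictFunctor j).map ((JShriek.shriek j).map φ) from h, Functor.map_comp,
    NatTrans.comp_app_assoc]
  refine congrArg (_ ≫ ·) ?_
  rw [Iso.comp_inv_eq, Category.assoc, restrTen_nat₁, Iso.inv_hom_id_assoc]

theorem projMap_nat₂ (A : U.Modules) {N N' : X.Modules} (ψ : N ⟶ N') :
    (JShriek.shriek j).map (((shT U).obj A).map ((Scheme.Modules.restrictFunctor j).map ψ)) ≫
        projMap j A N' =
      projMap j A N ≫ ((shT X).obj ((JShriek.shriek j).obj A)).map ψ := by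
  unfold projMap
  rw [← Adjunction.homEquiv_naturality_left_symm, ← Adjunction.homEquiv_naturality_right_symm]
  refine congrArg _ ?_
  simp only [gamma, Category.assoc]
  rw [NatTrans.naturality_assoc]
  refine congrArg (_ ≫ ·) ?_
  rw [Iso.comp_inv_eq, Category.assoc, restrTen_nat₂, Iso.inv_hom_id_assoc]
  rfl

instance (n : ℤ) : PreservesColimitsOfShape (Discrete (TotIdx n)) (JShriek.shriek j) :=
  haveI := (JShriek.shriekAdj j).leftAdjoint_preservesColimits (F := JShriek.shriek j)
  inferInstance

theorem tensorCxQ_eq {W : Scheme.{u}} (E : CochainComplex W.Modules ℤ) :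
    DCoh.tensorCxQ E = TotProj.cxQ (DCoh.tensorBi (X := W)) E :=
  congrArg (fun Φ : CochainComplex W.Modules ℤ ⥤ CochainComplex W.Modules ℤ ⥤ CochainComplex W.Modules ℤ =>
      Φ.flip.obj E ⋙ DerivedCategory.Q)
    (rfl : DCoh.tensorCx (X := W) = (DCoh.tensorBi (X := W)).map₂CochainComplex)

/-- `j_!(- ⊗^L K|_U) ≅ j_!(-) ⊗^L K` for K-flat `K`. -/
theorem nonempty_shriek_LTensor {K : CochainComplex X.Modules ℤ} (hK : IsKFlatFor (shT X) K)
    (hK' : IsKFlatFor (shT U) (((Scheme.Modules.restrictFunctor j).mapHomologicalComplex (ComplexShape.up ℤ)).obj K))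
    [DCoh.HasLTensorCx K]
    [DCoh.HasLTensorCx (((Scheme.Modules.restrictFunctor j).mapHomologicalComplex (ComplexShape.up ℤ)).obj K)] :
    Nonempty (DCoh.LTensorCx (((Scheme.Modules.restrictFunctor j).mapHomologicalComplex (ComplexShape.up ℤ)).obj K) ⋙
        (JShriek.shriek j).mapDerivedCategory ≅
      (JShriek.shriek j).mapDerivedCategory ⋙ DCoh.LTensorCx K) :=
  TotProj.nonempty_derived (DCoh.tensorBi (X := U)) (DCoh.tensorBi (X := X)) (JShriek.shriek j)
    (Scheme.Modules.restrictFunctor j) (fun M N => asIso (projMap j M N))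
    (fun φ N => projMap_nat₁ j φ N) (fun M {_ _} ψ => projMap_nat₂ j M ψ) K
    _ (TensorCongr.fac hK' ≪≫ eqToIso (tensorCxQ_eq _))
    _ (TensorCongr.fac hK ≪≫ eqToIso (tensorCxQ_eq _))

/-- Restriction of a K-flat complex is K-flat. -/
theorem isKFlatFor_restr {N : CochainComplex X.Modules ℤ} (hN : IsKFlatFor (shT X) N) :
    IsKFlatFor (shT U) (((Scheme.Modules.restrictFunctor j).mapHomologicalComplex (ComplexShape.up ℤ)).obj N) :=
  IsKFlatFor.of_iso (Hom.isoOfComponents
      (fun n => ((Scheme.Modules.restrictFunctorIsoPullback j).app (N.X n)).symm)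
      (fun a b _ => ((Scheme.Modules.restrictFunctorIsoPullback j).inv.naturality (N.d a b)).symm) :
        ((Scheme.Modules.pullback j).mapHomologicalComplex (ComplexShape.up ℤ)).obj N ≅
          ((Scheme.Modules.restrictFunctor j).mapHomologicalComplex (ComplexShape.up ℤ)).obj N)
      (kflatObj_pullback j ((HomotopyCategory.quotient _ _).obj N) hN)

/-- `RHom(K, M)|_U ≅ RHom(K|_U, M|_U)`. -/
theorem nonempty_restrict_RHom (K : CochainComplex X.Modules ℤ)
    [DCoh.HasLTensorCx K] [DCoh.HasRSheafHom K]
    [DCoh.HasLTensorCx (((Scheme.Modules.restrictFunctor j).mapHomologicalComplex (ComplexShape.up ℤ)).obj K)]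
    [DCoh.HasRSheafHom (((Scheme.Modules.restrictFunctor j).mapHomologicalComplex (ComplexShape.up ℤ)).obj K)] :
    Nonempty (DCoh.RSheafHom K ⋙ (Scheme.Modules.restrictFunctor j).mapDerivedCategory ≅
      (Scheme.Modules.restrictFunctor j).mapDerivedCategory ⋙
        DCoh.RSheafHom (((Scheme.Modules.restrictFunctor j).mapHomologicalComplex (ComplexShape.up ℤ)).obj K)) := by
  obtain ⟨N, q, hN, -, hq, -⟩ := exists_kflat_sheaf K
  haveI := hq
  haveI : QuasiIso (((Scheme.Modules.restrictFunctor j).mapHomologicalComplex (ComplexShape.up ℤ)).map q) := inferInstance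
  have hN' : IsKFlatFor (shT U) (((Scheme.Modules.restrictFunctor j).mapHomologicalComplex (ComplexShape.up ℤ)).obj N) := isKFlatFor_restr j hN
  haveI := LTensorSheaf.hasLTensorCx N
  haveI := LTensorSheaf.hasLTensorCx (((Scheme.Modules.restrictFunctor j).mapHomologicalComplex (ComplexShape.up ℤ)).obj N)
  obtain ⟨a⟩ := TensorCongr.nonempty_of_quasiIso q
  obtain ⟨a'⟩ := TensorCongr.nonempty_of_quasiIso (((Scheme.Modules.restrictFunctor j).mapHomologicalComplex (ComplexShape.up ℤ)).map q)
  obtain ⟨e⟩ := nonempty_shriek_LTensor j hN hN'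
  have e' : DCoh.LTensorCx (((Scheme.Modules.restrictFunctor j).mapHomologicalComplex (ComplexShape.up ℤ)).obj K) ⋙ (JShriek.shriek j).mapDerivedCategory ≅
      (JShriek.shriek j).mapDerivedCategory ⋙ DCoh.LTensorCx K :=
    Functor.isoWhiskerRight a'.symm _ ≪≫ e ≪≫ Functor.isoWhiskerLeft _ a
  exact ⟨((((JShriek.shriekD j).comp (DCoh.RSheafHomAdj K))).ofNatIsoLeft e'.symm).rightAdjointUniq
    ((DCoh.RSheafHomAdj (((Scheme.Modules.restrictFunctor j).mapHomologicalComplex (ComplexShape.up ℤ)).obj K)).comp (JShriek.shriekD j))⟩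

/-- `nonempty_restrict_RHom`, with the restricted complex and the restriction functor given up to equality. -/
theorem nonempty_restrict_RHom_of_eq (K : CochainComplex X.Modules ℤ) (K' : CochainComplex U.Modules ℤ)
    (hK' : K' = ((Scheme.Modules.restrictFunctor j).mapHomologicalComplex (ComplexShape.up ℤ)).obj K)
    (R : DCoh.D X ⥤ DCoh.D U) (hR : R = (Scheme.Modules.restrictFunctor j).mapDerivedCategory)
    [DCoh.HasLTensorCx K] [DCoh.HasRSheafHom K] [DCoh.HasLTensorCx K'] [DCoh.HasRSheafHom K'] :
    Nonempty (DCoh.RSheafHom K ⋙ R ≅ R ⋙ DCoh.RSheafHom K') := by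
  subst hK' hR; exact nonempty_restrict_RHom j K

end Groth.Agent.DCat.ShriekTensor
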