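import Groth.Agent.DCat.RHomEvalMain

/-! Symmetry of the derived tensor product on `D(O_X)`; functoriality of `- ⊗^L E` in `E ∈ D(O_X)`. -/

set_option autoImplicit false
set_option backward.isDefEq.respectTransparency false
set_option backward.defeqAttrib.useBackward true
set_option linter.style.haveILetI false

universe v₀ u₀ u

open CategoryTheory CategoryTheory.Limits AlgebraicGeometry HomologicalComplex
open Groth.Agent.ModStalk

attribute [local instance] HasDerivedCategory.standard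
attribute [-instance] Int.instConditionallyCompleteLinearOrder

namespace Groth.Agent.DCat.TotSymm

section Generic

variable {C₀ : Type u₀} [Category.{v₀} C₀] [Abelian C₀] (T : C₀ ⥤ C₀ ⥤ C₀) [T.Additive] [∀ a, (T.obj a).Additive]
  [T.flip.Additive] [∀ a, (T.flip.obj a).Additive]
  [∀ (K₁ : CochainComplex C₀ ℤ) (K₂ : CochainComplex C₀ ℤ), CochainComplex.HasMapBifunctor K₁ K₂ T]
  [∀ (K₁ : CochainComplex C₀ ℤ) (K₂ : CochainComplex C₀ ℤ), CochainComplex.HasMapBifunctor K₁ K₂ T.flip]
  (β : ∀ a b, (T.obj a).obj b ≅ (T.flip.obj a).obj b)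
  (hβ₁ : ∀ {a a' : C₀} (f : a ⟶ a') (b : C₀), (T.map f).app b ≫ (β a' b).hom = (β a b).hom ≫ (T.flip.map f).app b)
  (hβ₂ : ∀ (a : C₀) {b b' : C₀} (g : b ⟶ b'), (T.obj a).map g ≫ (β a b').hom = (β a b).hom ≫ (T.flip.obj a).map g)

/-- Symmetry of total complexes from a symmetry of the bifunctor. -/
noncomputable def symmIso (M K : CochainComplex C₀ ℤ) : tot T M K ≅ tot T K M :=
  (mapTotIso T T.flip (𝟭 _) (𝟭 _) (𝟭 _) β (fun f b => hβ₁ f b) (fun a _ _ g => hβ₂ a g) M K :) ≪≫
    mapBifunctorFlipIso K M T (ComplexShape.up ℤ)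

theorem symmIso_natural {M M' K K' : CochainComplex C₀ ℤ} (f : M ⟶ M') (g : K ⟶ K') :
    mapBifunctorMap f g T (ComplexShape.up ℤ) ≫ (symmIso T β hβ₁ hβ₂ M' K').hom =
      (symmIso T β hβ₁ hβ₂ M K).hom ≫ mapBifunctorMap g f T (ComplexShape.up ℤ) := by
  have h₁ := mapTotHom_natural (T := T) (T' := T.flip) (F := 𝟭 _) (H := 𝟭 _) (G := 𝟭 _)
    (α := β) (fun f b => hβ₁ f b) (fun a _ _ g => hβ₂ a g) f g
  dsimp only [symmIso, Iso.trans_hom]
  rw [Category.assoc, ← mapBifunctorFlipIso_hom_naturality]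
  exact (Category.assoc _ _ _).symm.trans ((congrArg (· ≫ _) h₁).trans (Category.assoc _ _ _))

/-- Symmetry, as an isomorphism of functors, for a functor equal to the action on complexes. -/
theorem nonempty_symm (Φ : CochainComplex C₀ ℤ ⥤ CochainComplex C₀ ℤ ⥤ CochainComplex C₀ ℤ)
    (hΦ : Φ = T.map₂CochainComplex) (β : ∀ a b, (T.obj a).obj b ≅ (T.flip.obj a).obj b)
    (hβ₁ : ∀ {a a' : C₀} (f : a ⟶ a') (b : C₀), (T.map f).app b ≫ (β a' b).hom = (β a b).hom ≫ (T.flip.map f).app b)
    (hβ₂ : ∀ (a : C₀) {b b' : C₀} (g : b ⟶ b'), (T.obj a).map g ≫ (β a b').hom = (β a b).hom ≫ (T.flip.obj a).map g)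
    (K : CochainComplex C₀ ℤ) : Nonempty (Φ.flip.obj K ≅ Φ.obj K) := by
  subst hΦ
  exact ⟨NatIso.ofComponents (fun M => symmIso T β hβ₁ hβ₂ M K) fun {M M'} f => symmIso_natural T β hβ₁ hβ₂ f (𝟙 K)⟩

end Generic

variable {X : Scheme.{u}}

instance additive_flip : (shT X).flip.Additive where
  map_add {A B f g} := NatTrans.ext (funext fun M => ((shT X).obj M).map_add)

instance additive_flip_obj (M : X.Modules) : ((shT X).flip.obj M).Additive where
  map_add {A B f g} := congr_app ((shT X).map_add (f := f) (g := g)) M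

instance hasMapBifunctor_flip (F G : CochainComplex X.Modules ℤ) :
    HomologicalComplex.HasMapBifunctor F G (shT X).flip (ComplexShape.up ℤ) := fun _ => inferInstance

/-- The symmetry of the tensor product of modules. -/
noncomputable def braid (A B : X.Modules) : ((shT X).obj A).obj B ≅ ((shT X).flip.obj A).obj B :=
  AmpleLib.tensorComm A B

theorem braid_nat₁ {A A' : X.Modules} (f : A ⟶ A') (B : X.Modules) :
    ((shT X).map f).app B ≫ (braid A' B).hom = (braid A B).hom ≫ ((shT X).flip.map f).app B :=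
  AmpleLib.hom_ext fun U a b => by
    show (AmpleLib.tensorSwap A' B).app U ((((shT X).map f).app B).app U (AmpleLib.tmul a b)) =
      (((shT X).obj B).map f).app U ((AmpleLib.tensorSwap A B).app U (AmpleLib.tmul a b))
    exact ((congrArg _ (PullTensor.tensorBi_map_tmul f U a b)).trans (AmpleLib.Bilin.desc_tmul _ _ _ _)).trans
      ((congrArg _ (AmpleLib.Bilin.desc_tmul _ _ _ _)).trans (PullTensor.tensorBi_obj_map_tmul f U b a)).symm

theorem braid_nat₂ (A : X.Modules) {B B' : X.Modules} (g : B ⟶ B') :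
    ((shT X).obj A).map g ≫ (braid A B').hom = (braid A B).hom ≫ ((shT X).flip.obj A).map g :=
  AmpleLib.hom_ext fun U a b => by
    show (AmpleLib.tensorSwap A B').app U ((((shT X).obj A).map g).app U (AmpleLib.tmul a b)) =
      (((shT X).map g).app A).app U ((AmpleLib.tensorSwap A B).app U (AmpleLib.tmul a b))
    exact ((congrArg _ (PullTensor.tensorBi_obj_map_tmul g U a b)).trans (AmpleLib.Bilin.desc_tmul _ _ _ _)).trans
      ((congrArg _ (AmpleLib.Bilin.desc_tmul _ _ _ _)).trans (PullTensor.tensorBi_map_tmul g U b a)).symm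

/-- `- ⊗ K = K ⊗ -` on complexes. -/
theorem nonempty_flip_symm (K : CochainComplex X.Modules ℤ) :
    Nonempty ((DCoh.tensorCx (X := X)).flip.obj K ≅ (DCoh.tensorCx (X := X)).obj K) :=
  nonempty_symm (shT X) (DCoh.tensorCx (X := X)) rfl braid (fun f b => braid_nat₁ f b) (fun a _ _ g => braid_nat₂ a g) K

/-- `- ⊗^L K = K ⊗^L -` for K-flat `K`. -/
theorem nonempty_LT_leftT {K : CochainComplex X.Modules ℤ} (hK : IsKFlatFor (shT X) K) :
    Nonempty (RHomNat.LT K ≅ RHomEval.leftT hK) := by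
  obtain ⟨e⟩ := nonempty_flip_symm K
  letI : Localization.Lifting DerivedCategory.Q (HomologicalComplex.quasiIso X.Modules (ComplexShape.up ℤ))
      (RHomEval.lT K ⋙ DerivedCategory.Q) (RHomEval.leftT hK) := ⟨RHomEval.leftTIso hK⟩
  letI : Localization.Lifting DerivedCategory.Q (HomologicalComplex.quasiIso X.Modules (ComplexShape.up ℤ))
      (RHomEval.rT K ⋙ DerivedCategory.Q) (RHomNat.LT K) := ⟨RHomEval.rTIso hK⟩
  exact ⟨Localization.liftNatIso DerivedCategory.Q (HomologicalComplex.quasiIso X.Modules (ComplexShape.up ℤ))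
    (RHomEval.rT K ⋙ DerivedCategory.Q) (RHomEval.lT K ⋙ DerivedCategory.Q) _ _
    (Functor.isoWhiskerRight e DerivedCategory.Q)⟩

/-- `E ↦ - ⊗^L E` on complexes. -/
noncomputable def lhatF : CochainComplex X.Modules ℤ ⥤ DCoh.D X ⥤ DCoh.D X where
  obj E := RHomNat.LT E
  map g := RHomNat.lhat g
  map_id E := RHomNat.lhat_id E
  map_comp g g' := RHomNat.lhat_comp g g'

theorem inverts_lhatF : (HomologicalComplex.quasiIso X.Modules (ComplexShape.up ℤ)).IsInvertedBy (lhatF (X := X)) :=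
  fun _ _ g hg => by
    haveI := (HomologicalComplex.mem_quasiIso_iff _).1 hg
    exact RHomNat.isIso_lhat g

/-- `E ↦ - ⊗^L E` on `D(O_X)`. -/
noncomputable def LTD : DCoh.D X ⥤ DCoh.D X ⥤ DCoh.D X :=
  Localization.lift lhatF inverts_lhatF DerivedCategory.Q

/-- `LTD` extends `lhatF`. -/
noncomputable def LTDIso : DerivedCategory.Q ⋙ LTD (X := X) ≅ lhatF :=
  Localization.fac lhatF inverts_lhatF DerivedCategory.Q

/-- `T ↦ Z ⊗^L T` is `P ⊗^L -` for `P` a K-flat representative of `Z`. -/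
theorem nonempty_LTD_flip {P : CochainComplex X.Modules ℤ} (hP : IsKFlatFor (shT X) P) :
    Nonempty ((LTD (X := X)).flip.obj (DerivedCategory.Q.obj P) ≅ RHomEval.leftT hP) := by
  haveI : ∀ A, IsIso ((RHomNat.cu A).app P) := fun A =>
    @LTensorSheaf.isIso_counit _ A (LTensorSheaf.hasLTensorCx A) _ hP
  let c : DerivedCategory.Q ⋙ (LTD (X := X)).flip.obj (DerivedCategory.Q.obj P) ≅ RHomEval.lT P ⋙ DerivedCategory.Q :=
    NatIso.ofComponents (fun A => (LTDIso.app A).app (DerivedCategory.Q.obj P) ≪≫ asIso ((RHomNat.cu A).app P))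
      fun {A B} f => by
        have h₁ := congr_app ((LTDIso (X := X)).hom.naturality f) (DerivedCategory.Q.obj P)
        have h₂ := RHomNat.lhat_fac f P
        simp only [Functor.comp_map, NatTrans.comp_app, Functor.whiskerRight_app, lhatF] at h₁ h₂
        simp only [Functor.comp_map, Functor.flip_obj_map, Iso.trans_hom, asIso_hom, Iso.app_hom]
        rw [reassoc_of% h₁, h₂, Category.assoc]
        rfl
  letI : Localization.Lifting DerivedCategory.Q (HomologicalComplex.quasiIso X.Modules (ComplexShape.up ℤ))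
      (RHomEval.lT P ⋙ DerivedCategory.Q) (RHomEval.leftT hP) := ⟨RHomEval.leftTIso hP⟩
  letI : Localization.Lifting DerivedCategory.Q (HomologicalComplex.quasiIso X.Modules (ComplexShape.up ℤ))
      (RHomEval.lT P ⋙ DerivedCategory.Q) ((LTD (X := X)).flip.obj (DerivedCategory.Q.obj P)) := ⟨c⟩
  exact ⟨Localization.liftNatIso DerivedCategory.Q (HomologicalComplex.quasiIso X.Modules (ComplexShape.up ℤ))
    (RHomEval.lT P ⋙ DerivedCategory.Q) (RHomEval.lT P ⋙ DerivedCategory.Q) _ _ (Iso.refl _)⟩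

end Groth.Agent.DCat.TotSymm
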