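import Groth.Agent.DCat.PullPush
import Groth.Agent.DCat.PullPerf
import Groth.Agent.DCat.TotSymm
import Groth.Agent.DCat.GPDerived
import Groth.Agent.DCat.RDPlus
import Groth.Agent.DCat.LPull
import Groth.Agent.DCat.RHomExist
import Groth.Agent.DQCoh.Local
import Groth.Agent.DCat.ShriekTensor
import Groth.Agent.SerreDual.ExtShRep
import Groth.Agent.ExtSS.ClosedHom
import Groth.Prelude.Def_Dual3

/-!
# `i_* R Hom(O_Z, -) = R Hom(i_* O_Z, -)` for closed immersions
-/

set_option autoImplicit false
set_option backward.isDefEq.respectTransparency false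
set_option backward.defeqAttrib.useBackward true
set_option linter.style.haveILetI false
set_option linter.unusedVariables false
set_option synthInstance.maxHeartbeats 100000

universe u v v' u' w'

open CategoryTheory CategoryTheory.Limits AlgebraicGeometry HomologicalComplex

attribute [local instance] HasDerivedCategory.standard

namespace Groth.Agent.DCat.ClosedShriek

section RightSingle

variable {A : Type u} [Category.{v} A] [Preadditive A] {B : Type u'} [Category.{v'} B] [Preadditive B] [HasZeroObject B]
  {C : Type w'} [Category.{v} C] [Abelian C]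
  (T : A ⥤ B ⥤ C) [T.Additive] [∀ a, (T.obj a).Additive]
  [∀ (K₁ : CochainComplex A ℤ) (K₂ : CochainComplex B ℤ), CochainComplex.HasMapBifunctor K₁ K₂ T]

/-- The total complex with a single right term, naturally. -/
noncomputable def totSingle (P : B) [(T.flip.obj P).Additive] :
    (T.flip.obj P).mapHomologicalComplex (ComplexShape.up ℤ) ≅
      T.map₂CochainComplex.flip.obj ((HomologicalComplex.single B (ComplexShape.up ℤ) 0).obj P) :=
  NatIso.ofComponents (fun M =>
    Hom.isoOfComponents (fun n =>
      { hom := (T.obj (M.X n)).map (singleObjXSelf (ComplexShape.up ℤ) 0 P).inv ≫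
          ιMapBifunctor M ((HomologicalComplex.single B (ComplexShape.up ℤ) 0).obj P) T (ComplexShape.up ℤ) n 0 n (by simp)
        inv := mapBifunctorDesc fun p q h => if hq : q = 0 then
          (T.map (M.XIsoOfEq (show p = n by subst hq; simpa using h)).hom).app _ ≫
            (T.obj (M.X n)).map ((((HomologicalComplex.single B (ComplexShape.up ℤ) 0).obj P).XIsoOfEq hq).hom ≫
              (singleObjXSelf (ComplexShape.up ℤ) 0 P).hom) else 0
        hom_inv_id := by simp [← Functor.map_comp]
        inv_hom_id := mapBifunctor.hom_ext fun p q h => by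
          dsimp
          rw [ι_mapBifunctorDesc_assoc, Category.comp_id]
          by_cases hq : q = 0
          · subst hq
            obtain rfl : p = n := by simpa using h
            simp [← Functor.map_comp_assoc]
          · exact IsZero.eq_of_src
              ((T.obj _).map_isZero (isZero_single_obj_X (ComplexShape.up ℤ) 0 P q hq)) _ _ })
      fun i j hij => by
        dsimp
        simp only [Category.assoc, mapBifunctor.d_eq, Preadditive.comp_add, mapBifunctor.ι_D₁, mapBifunctor.ι_D₂]
        rw [mapBifunctor.d₁_eq _ _ _ _ hij _ _ (by simp at hij ⊢ <;> omega),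
          mapBifunctor.d₂_eq _ _ _ _ _ (show (ComplexShape.up ℤ).Rel 0 1 by simp) _ (by simp at hij ⊢; omega),
          single_obj_d]
        simp)
    fun {M M'} f => by
      ext n
      dsimp
      simp only [Category.assoc, ι_mapBifunctorMap, HomologicalComplex.id_f, CategoryTheory.Functor.map_id, Category.id_comp]
      exact (NatTrans.naturality_assoc (T.map (f.f n)) _ _).symm

end RightSingle

variable {Z X : Scheme.{u}} (i : Z ⟶ X)

/-- `i_* O_Z` in degree zero. -/
noncomputable abbrev pushOne : CochainComplex X.Modules ℤ :=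
  (HomologicalComplex.single X.Modules (ComplexShape.up ℤ) 0).obj
    ((Scheme.Modules.pushforward i).obj (Coh.structureModule Z))

variable [IsClosedImmersion i]

/-- `i_* i^* M = M ⊗ i_* O_Z`, naturally. -/
noncomputable def pushPullIso :
    Scheme.Modules.pullback i ⋙ Scheme.Modules.pushforward i ≅
      (shT X).flip.obj ((Scheme.Modules.pushforward i).obj (Coh.structureModule Z)) :=
  SerreDual.pushPullTensIso i ≪≫ NatIso.ofComponents
    (fun M => TotSymm.braid ((Scheme.Modules.pushforward i).obj (Coh.structureModule Z)) M)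
    fun {M M'} g => TotSymm.braid_nat₂ _ g

/-- On complexes: `i_* i^* C = tot(C, i_* O_Z)`, naturally. -/
noncomputable def pushPullCxIso :
    (Scheme.Modules.pullback i).mapHomologicalComplex (ComplexShape.up ℤ) ⋙
        (Scheme.Modules.pushforward i).mapHomologicalComplex (ComplexShape.up ℤ) ≅
      (shT X).map₂CochainComplex.flip.obj (pushOne i) :=
  NatIso.ofComponents (fun M => Hom.isoOfComponents (fun n => Iso.refl _) (fun _ _ _ => by simp)) (fun f => by ext; simp) ≪≫
    NatIso.mapHomologicalComplex (pushPullIso i) (ComplexShape.up ℤ) ≪≫ totSingle (shT X) _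

variable [PreservesFiniteLimits (Scheme.Modules.pushforward i)] [PreservesFiniteColimits (Scheme.Modules.pushforward i)]

/-- `Ri_* = i_*`. -/
theorem nonempty_Rpush_pushD [DCoh.HasRpush i] : Nonempty (DCoh.Rpush i ≅ Dual3.pushD i) := by
  let W := HomotopyCategory.quasiIso Z.Modules (ComplexShape.up ℤ)
  let e : DerivedCategory.Qh ⋙ Dual3.pushD i ≅ DCoh.pushKh i :=
    (Scheme.Modules.pushforward i).mapDerivedCategoryFactorsh
  haveI := Functor.isRightDerivedFunctor_of_inverts W (Dual3.pushD i) e
  exact ⟨Functor.rightDerivedUnique (DCoh.Rpush i) (Dual3.pushD i)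
    ((DCoh.pushKh i).totalRightDerivedUnit DerivedCategory.Qh W) e.inv W⟩

/-- `Li^*` followed by `i_*` is `- ⊗^L i_* O_Z`. -/
theorem nonempty_pushPull [DCoh.HasLpull i] [DCoh.HasLTensorCx (pushOne i)] :
    Nonempty (DCoh.Lpull i ⋙ Dual3.pushD i ≅ DCoh.LTensorCx (pushOne i)) := by
  let W := HomologicalComplex.quasiIso X.Modules (ComplexShape.up ℤ)
  let c₀ : DerivedCategory.Q ⋙ DCoh.Lpull i ⟶
      (Scheme.Modules.pullback i).mapHomologicalComplex (ComplexShape.up ℤ) ⋙ DerivedCategory.Q :=
    Functor.whiskerRight (DerivedCategory.quotientCompQhIso X.Modules).inv (DCoh.Lpull i) ≫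
      (Functor.associator _ _ _).hom ≫
      Functor.whiskerLeft (HomotopyCategory.quotient X.Modules (ComplexShape.up ℤ))
        ((DCoh.pullKh i).totalLeftDerivedCounit DerivedCategory.Qh (HomotopyCategory.quasiIso X.Modules (ComplexShape.up ℤ))) ≫
      (Functor.associator _ _ _).inv ≫
      Functor.whiskerRight ((Scheme.Modules.pullback i).mapHomotopyCategoryFactors (ComplexShape.up ℤ)).hom _ ≫
      (Functor.associator _ _ _).hom ≫
      Functor.whiskerLeft _ (DerivedCategory.quotientCompQhIso Z.Modules).hom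
  let Φ : CochainComplex X.Modules ℤ ⥤ DCoh.D X := (shT X).map₂CochainComplex.flip.obj (pushOne i) ⋙ DerivedCategory.Q
  let cF : DerivedCategory.Q ⋙ DCoh.Lpull i ⋙ Dual3.pushD i ⟶ Φ :=
    (Functor.associator _ _ _).inv ≫ Functor.whiskerRight c₀ _ ≫ (Functor.associator _ _ _).hom ≫
      Functor.whiskerLeft _ (Scheme.Modules.pushforward i).mapDerivedCategoryFactors.hom ≫
      (Functor.associator _ _ _).inv ≫ Functor.whiskerRight (pushPullCxIso i).hom _
  refine TensorCongr.nonempty_derived_iso DerivedCategory.Q W (Φ := Φ) (Ψ := DCoh.tensorCxQ (pushOne i))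
    (eqToHom (ShriekTensor.tensorCxQ_eq (pushOne i)).symm) _ _ cF (LTensorSheaf.counit (pushOne i)) fun Y => ?_
  obtain ⟨A, hA, ⟨e⟩⟩ := PullPerf.exists_kflat_rep Y
  haveI := isIso_counit_of_mem exists_kflat_hot (isIso_pullKh_of_kflat i)
    ((DCoh.pullKh i).totalLeftDerivedCounit DerivedCategory.Qh (HomotopyCategory.quasiIso X.Modules (ComplexShape.up ℤ)))
    (X := (HomotopyCategory.quotient X.Modules (ComplexShape.up ℤ)).obj A) hA
  haveI : IsIso (c₀.app A) := by
    simp only [c₀, NatTrans.comp_app, Functor.whiskerRight_app, Functor.whiskerLeft_app, Functor.associator_hom_app,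
      Functor.associator_inv_app]
    infer_instance
  refine ⟨A, ⟨e⟩, ?_, LTensorSheaf.isIso_counit (pushOne i) hA, inferInstance⟩
  simp only [cF, NatTrans.comp_app, Functor.whiskerRight_app, Functor.whiskerLeft_app, Functor.associator_hom_app,
      Functor.associator_inv_app]
  infer_instance

variable [Dual3.HasHomO i]

/-- The derived `Hom(O_Z, -)` on all complexes. -/
theorem hasRightDerived_homO :
    ((Dual3.homO i).mapHomotopyCategory (ComplexShape.up ℤ) ⋙ DerivedCategory.Qh).HasRightDerivedFunctor
      (HomotopyCategory.quasiIso X.Modules (ComplexShape.up ℤ)) :=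
  hasRightDerivedFunctor_of_enoughKInj (modules_enoughKInj X) _

/-- `R Hom(O_Z, -)` on `D(O_X)`. -/
noncomputable def RHomOD : DCoh.D X ⥤ DCoh.D Z :=
  haveI := hasRightDerived_homO i
  ((Dual3.homO i).mapHomotopyCategory (ComplexShape.up ℤ) ⋙ DerivedCategory.Qh).totalRightDerived
    DerivedCategory.Qh (HomotopyCategory.quasiIso X.Modules (ComplexShape.up ℤ))

theorem nonempty_adj : Nonempty (Dual3.pushD i ⊣ RHomOD i) :=
  haveI := hasRightDerived_homO i
  (derived_localization (modules_enoughKInj X) (Dual3.homOAdj i)).1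

/-- `i_* R Hom(O_Z, -) = R Hom(i_* O_Z, -)`. -/
theorem nonempty_push_RHomOD [DCoh.HasLTensorCx (pushOne i)] [DCoh.HasRSheafHom (pushOne i)] :
    Nonempty (RHomOD i ⋙ Dual3.pushD i ≅ DCoh.RSheafHom (pushOne i)) := by
  haveI := hasLpull i
  haveI := hasRpush i
  obtain ⟨p⟩ := nonempty_pullPushAdj i
  obtain ⟨r⟩ := nonempty_Rpush_pushD i
  obtain ⟨a⟩ := nonempty_adj i
  obtain ⟨n⟩ := nonempty_pushPull i
  exact ⟨(((p.ofNatIsoRight r).comp a).ofNatIsoLeft n).rightAdjointUniq (DCoh.RSheafHomAdj (pushOne i))⟩

/-- On bounded below objects it is `R⁺ Hom(O_Z, -)`. -/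
theorem nonempty_plus [EnoughInjectives X.Modules] :
    Nonempty (Dual3.RHomOPlus i ⋙ DerivedCategory.Plus.ι ≅ DerivedCategory.Plus.ι ⋙ RHomOD i) := by
  haveI := hasRightDerived_homO i
  let W := HomotopyCategory.quasiIso X.Modules (ComplexShape.up ℤ)
  let β := ((Dual3.homO i).mapHomotopyCategory (ComplexShape.up ℤ) ⋙ DerivedCategory.Qh).totalRightDerivedUnit DerivedCategory.Qh W
  let J := (InjectiveObject.ι X.Modules).mapHomotopyCategoryPlus
  have hu : ∀ K, IsIso (β.app (J.obj K).obj) := fun K => by
    obtain ⟨M, rfl⟩ := HomotopyCategory.Plus.quotient_obj_surjective K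
    exact isIso_unit_of_mem (kInj_resolution (modules_enoughKInj X)) (kInj_isIso_map _) β
      (inferInstance : CochainComplex.IsKInjective (((InjectiveObject.ι X.Modules).mapHomologicalComplex (.up ℤ)).obj M.obj))
  let ε : injToDPlus X.Modules ⋙ DerivedCategory.Plus.ι ⋙ RHomOD i ≅ onInj (Dual3.homO i) ⋙ DerivedCategory.Plus.ι :=
    (NatIso.ofComponents (fun K => @asIso _ _ _ _ (β.app (J.obj K).obj) (hu K))
      (fun {K L} g => β.naturality (J.map g).hom)).symm
  let E := (injToDPlus X.Modules).asEquivalence
  exact ⟨rdIso (Dual3.homO i) ≪≫ Functor.isoWhiskerLeft E.inverse ε.symm ≪≫ (Functor.associator _ _ _).symm ≪≫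
    Functor.isoWhiskerRight E.counitIso _ ≪≫ Functor.leftUnitor _⟩

end Groth.Agent.DCat.ClosedShriek
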