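import Groth.Agent.DCat.RHomExist
import Mathlib.CategoryTheory.Adjunction.Mates
import Mathlib.Algebra.Homology.DerivedCategory.ShortExact

/-!
# The long exact sequence of `RHom` in the first variable
-/

set_option autoImplicit false
set_option backward.isDefEq.respectTransparency false
set_option backward.defeqAttrib.useBackward true
set_option linter.style.haveILetI false

universe u

open CategoryTheory CategoryTheory.Limits CategoryTheory.Pretriangulated AlgebraicGeometry HomologicalComplex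
open Groth.Agent.ModStalk

attribute [local instance] HasDerivedCategory.standard

namespace Groth.Agent.DCat.RHomSeq

section Generic

universe v w v' u'

/-- `Hom(N, -)`-exactness at the middle implies exactness for homological functors. -/
theorem exact_of_hom_exact {C : Type w} [Category.{v} C] [Preadditive C] [HasZeroObject C] [HasShift C ℤ]
    [∀ n : ℤ, (shiftFunctor C n).Additive] [Pretriangulated C] {A : Type u'} [Category.{v'} A] [Abelian A]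
    (H : C ⥤ A) [H.IsHomological] {R₁ R₂ R₃ : C} (a : R₁ ⟶ R₂) (b : R₂ ⟶ R₃) (h0 : a ≫ b = 0)
    (hex : ∀ (N : C) (g : N ⟶ R₂), g ≫ b = 0 → ∃ g' : N ⟶ R₁, g = g' ≫ a) :
    (ShortComplex.mk (H.map a) (H.map b) (by rw [← H.map_comp, h0, H.map_zero])).Exact := by
  obtain ⟨F, f, δ, hT⟩ := distinguished_cocone_triangle₁ b
  have hf : f ≫ b = 0 := comp_distTriang_mor_zero₁₂ _ hT
  obtain ⟨f', hf'⟩ := hex F f hf
  have h := H.map_distinguished_exact _ hT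
  rw [ShortComplex.exact_iff_exact_up_to_refinements] at h ⊢
  intro Z x hx
  obtain ⟨Z', π, hπ, y, hy⟩ := h x hx
  exact ⟨Z', π, hπ, y ≫ H.map f', hy.trans
    ((congrArg (y ≫ ·) ((congrArg H.map hf').trans (H.map_comp f' a))).trans (Category.assoc _ _ _).symm)⟩

end Generic

section Closure

universe v w

/-- The middle of a five term exact sequence lies in any class closed under kernels, cokernels and extensions. -/
theorem middle_mem {A : Type w} [Category.{v} A] [Abelian A] (P : ObjectProperty A) [P.IsClosedUnderIsomorphisms]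
    (hk : ∀ {M N : A} (φ : M ⟶ N), P M → P N → P (kernel φ))
    (hc : ∀ {M N : A} (φ : M ⟶ N), P M → P N → P (cokernel φ))
    (he : ∀ {S : ShortComplex A}, S.ShortExact → P S.X₁ → P S.X₃ → P S.X₂)
    {M₁ M₂ M₃ M₄ M₅ : A} {f₁ : M₁ ⟶ M₂} {f₂ : M₂ ⟶ M₃} {f₃ : M₃ ⟶ M₄} {f₄ : M₄ ⟶ M₅}
    {w₁ : f₁ ≫ f₂ = 0} {w₂ : f₂ ≫ f₃ = 0} {w₃ : f₃ ≫ f₄ = 0}
    (e₁ : (ShortComplex.mk f₁ f₂ w₁).Exact) (e₂ : (ShortComplex.mk f₂ f₃ w₂).Exact)
    (e₃ : (ShortComplex.mk f₃ f₄ w₃).Exact) (h₁ : P M₁) (h₂ : P M₂) (h₄ : P M₄) (h₅ : P M₅) : P M₃ := by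
  haveI : Mono (cokernel.desc f₁ f₂ w₁) := (ShortComplex.exact_iff_mono_cokernel_desc _).1 e₁
  have w : cokernel.desc f₁ f₂ w₁ ≫ f₃ = 0 := by
    rw [← cancel_epi (cokernel.π f₁), cokernel.π_desc_assoc, w₂, comp_zero]
  haveI : Epi (kernel.lift f₃ (cokernel.desc f₁ f₂ w₁) w) := by
    haveI : Epi (kernel.lift f₃ f₂ w₂) := (ShortComplex.exact_iff_epi_kernel_lift _).1 e₂
    have e : cokernel.π f₁ ≫ kernel.lift f₃ (cokernel.desc f₁ f₂ w₁) w = kernel.lift f₃ f₂ w₂ := by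
      rw [← cancel_mono (kernel.ι f₃)]
      simp
    exact epi_of_epi_fac e
  haveI : Mono (kernel.lift f₃ (cokernel.desc f₁ f₂ w₁) w) :=
    mono_of_mono_fac (kernel.lift_ι f₃ (cokernel.desc f₁ f₂ w₁) w)
  haveI := isIso_of_mono_of_epi (kernel.lift f₃ (cokernel.desc f₁ f₂ w₁) w)
  have hker : P (kernel f₃) := P.prop_of_iso (asIso (kernel.lift f₃ (cokernel.desc f₁ f₂ w₁) w)) (hc f₁ h₁ h₂)
  haveI : Epi (kernel.lift f₄ f₃ w₃) := (ShortComplex.exact_iff_epi_kernel_lift _).1 e₃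
  have hz : kernel.ι f₃ ≫ kernel.lift f₄ f₃ w₃ = 0 := by
    rw [← cancel_mono (kernel.ι f₄), Category.assoc, kernel.lift_ι, kernel.condition, zero_comp]
  have hS : (ShortComplex.mk (kernel.ι f₃) (kernel.lift f₄ f₃ w₃) hz).Exact := by
    refine (ShortComplex.exact_iff_of_epi_of_isIso_of_mono
      (⟨𝟙 _, 𝟙 _, kernel.ι f₄, by simp, by simp⟩ :
        ShortComplex.mk (kernel.ι f₃) (kernel.lift f₄ f₃ w₃) hz ⟶
          ShortComplex.mk (kernel.ι f₃) f₃ (kernel.condition f₃))).2 ?_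
    exact ShortComplex.exact_of_f_is_kernel _ (kernelIsKernel f₃)
  exact he { exact := hS } hker (hk f₄ h₄ h₅)

end Closure

section Adj

universe w' v' v'' u''

variable {C : Type u''} [Category.{v''} C] [Preadditive C] [HasZeroObject C] [HasShift C ℤ]
  [∀ n : ℤ, (shiftFunctor C n).Additive] [Pretriangulated C]
  {L₁ L₂ L₃ R₁ R₂ R₃ : C ⥤ C} (A₁ : L₁ ⊣ R₁) (A₂ : L₂ ⊣ R₂) (A₃ : L₃ ⊣ R₃)
  (a : L₁ ⟶ L₂) (b : L₂ ⟶ L₃) (d : L₃ ⟶ L₁ ⋙ shiftFunctor C (1 : ℤ))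
  (hT : ∀ Y : C, Triangle.mk (a.app Y) (b.app Y) (d.app Y) ∈ distTriang C)

/-- The connecting map between right adjoints. -/
noncomputable def Rd (M : C) : R₁.obj M ⟶ R₃.obj (M⟦(1 : ℤ)⟧) :=
  A₃.homEquiv _ _ (d.app _ ≫ (A₁.counit.app M)⟦(1 : ℤ)⟧')

omit [Preadditive C] [HasZeroObject C] [HasShift C ℤ] in
theorem tr_conj {L R L' R' : C ⥤ C} (A : L ⊣ R) (A' : L' ⊣ R') (α : L ⟶ L') {Y M : C} (g : Y ⟶ R'.obj M) :
    (A.homEquiv Y M).symm (g ≫ (conjugateEquiv A' A α).app M) = α.app Y ≫ (A'.homEquiv Y M).symm g := by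
  simp only [Adjunction.homEquiv_counit, Functor.map_comp, Category.assoc]
  rw [conjugateEquiv_counit]
  exact α.naturality_assoc g _

omit [HasZeroObject C] in
theorem tr_Rd {Y M : C} (g : Y ⟶ R₁.obj M) :
    (A₃.homEquiv Y _).symm (g ≫ Rd A₁ A₃ d M) = d.app Y ≫ ((A₁.homEquiv Y M).symm g)⟦(1 : ℤ)⟧' := by
  simp only [Rd]
  rw [Adjunction.homEquiv_naturality_left_symm, Equiv.symm_apply_apply, Adjunction.homEquiv_counit,
    Functor.map_comp]
  exact d.naturality_assoc g _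

omit [HasZeroObject C] [HasShift C ℤ] in
theorem tr_zero {L R : C ⥤ C} (A : L ⊣ R) (Y M : C) : (A.homEquiv Y M).symm 0 = 0 := by
  haveI : L.IsLeftAdjoint := A.isLeftAdjoint
  haveI : L.PreservesZeroMorphisms := Functor.preservesZeroMorphisms_of_isLeftAdjoint _
  simp [Adjunction.homEquiv_counit]

omit [HasZeroObject C] [HasShift C ℤ] in
theorem eq_zero_of_tr {L R : C ⥤ C} (A : L ⊣ R) {Y M : C} {g : Y ⟶ R.obj M}
    (h : (A.homEquiv Y M).symm g = 0) : g = 0 :=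
  (A.homEquiv Y M).symm.injective (h.trans (tr_zero A Y M).symm)

include hT

theorem Rg_Rf (M : C) : (conjugateEquiv A₃ A₂ b).app M ≫ (conjugateEquiv A₂ A₁ a).app M = 0 := by
  refine eq_zero_of_tr A₁ ?_
  rw [tr_conj, ← Category.id_comp ((conjugateEquiv A₃ A₂ b).app M), tr_conj, ← Category.assoc]
  have h : a.app (R₃.obj M) ≫ b.app _ = 0 := comp_distTriang_mor_zero₁₂ _ (hT _)
  rw [h, zero_comp]

theorem Rf_Rd (M : C) : (conjugateEquiv A₂ A₁ a).app M ≫ Rd A₁ A₃ d M = 0 := by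
  refine eq_zero_of_tr A₃ ?_
  rw [tr_Rd, ← Category.id_comp ((conjugateEquiv A₂ A₁ a).app M), tr_conj, Functor.map_comp, ← Category.assoc]
  have h : d.app (R₂.obj M) ≫ (a.app _)⟦(1 : ℤ)⟧' = 0 := comp_distTriang_mor_zero₃₁ _ (hT _)
  rw [h, zero_comp]

theorem Rd_Rg (M : C) : Rd A₁ A₃ d M ≫ (conjugateEquiv A₃ A₂ b).app (M⟦(1 : ℤ)⟧) = 0 := by
  refine eq_zero_of_tr A₂ ?_
  rw [tr_conj, ← Category.id_comp (Rd A₁ A₃ d M), tr_Rd, ← Category.assoc]
  have h : b.app (R₁.obj M) ≫ d.app _ = 0 := comp_distTriang_mor_zero₂₃ _ (hT _)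
  rw [h, zero_comp]

/-- Exactness at the middle adjoint. -/
theorem exact₂ (M : C) {Y : C} (x : Y ⟶ R₂.obj M) (hx : x ≫ (conjugateEquiv A₂ A₁ a).app M = 0) :
    ∃ y, x = y ≫ (conjugateEquiv A₃ A₂ b).app M := by
  have h : a.app Y ≫ (A₂.homEquiv Y M).symm x = 0 := by rw [← tr_conj A₁ A₂, hx, tr_zero]
  obtain ⟨z, hz⟩ := Triangle.yoneda_exact₂ _ (hT Y) ((A₂.homEquiv Y M).symm x) h
  refine ⟨A₃.homEquiv Y M z, (A₂.homEquiv Y M).symm.injective ?_⟩
  rw [tr_conj, hz, Equiv.symm_apply_apply]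
  rfl

/-- Exactness at the first adjoint. -/
theorem exact₁ (M : C) {Y : C} (x : Y ⟶ R₁.obj M) (hx : x ≫ Rd A₁ A₃ d M = 0) :
    ∃ y, x = y ≫ (conjugateEquiv A₂ A₁ a).app M := by
  have h : d.app Y ≫ ((A₁.homEquiv Y M).symm x)⟦(1 : ℤ)⟧' = 0 := by rw [← tr_Rd A₁ A₃, hx, tr_zero]
  obtain ⟨z, hz⟩ := Triangle.yoneda_exact₂ _
    (rot_of_distTriang _ (rot_of_distTriang _ (hT Y))) (((A₁.homEquiv Y M).symm x)⟦(1 : ℤ)⟧') h
  obtain ⟨z₀, hz₀⟩ := (shiftFunctor C (1 : ℤ)).map_surjective (-z)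
  refine ⟨A₂.homEquiv Y M z₀, (A₁.homEquiv Y M).symm.injective ?_⟩
  rw [tr_conj, Equiv.symm_apply_apply]
  apply (shiftFunctor C (1 : ℤ)).map_injective
  rw [hz, Functor.map_comp, hz₀]
  simp

/-- Exactness at the third adjoint. -/
theorem exact₃ (M : C) {Y : C} (x : Y ⟶ R₃.obj (M⟦(1 : ℤ)⟧))
    (hx : x ≫ (conjugateEquiv A₃ A₂ b).app _ = 0) : ∃ y, x = y ≫ Rd A₁ A₃ d M := by
  have h : b.app Y ≫ (A₃.homEquiv Y _).symm x = 0 := by rw [← tr_conj A₂ A₃, hx, tr_zero]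
  obtain ⟨z, hz⟩ := Triangle.yoneda_exact₃ _ (hT Y) ((A₃.homEquiv Y _).symm x) h
  obtain ⟨z₀, rfl⟩ := (shiftFunctor C (1 : ℤ)).map_surjective z
  refine ⟨A₁.homEquiv Y M z₀, (A₃.homEquiv Y _).symm.injective ?_⟩
  rw [tr_Rd, hz, Equiv.symm_apply_apply]
  rfl

include A₁ A₂ A₃ in
/-- A class closed under kernels, cokernels and extensions containing the values of a homological functor
at the outer right adjoints contains that at the middle one. -/
theorem middle {A : Type w'} [Category.{v'} A] [Abelian A] (H : C ⥤ A) [H.IsHomological]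
    (P : ObjectProperty A) [P.IsClosedUnderIsomorphisms]
    (hk : ∀ {M N : A} (φ : M ⟶ N), P M → P N → P (kernel φ))
    (hc : ∀ {M N : A} (φ : M ⟶ N), P M → P N → P (cokernel φ))
    (he : ∀ {T : ShortComplex A}, T.ShortExact → P T.X₁ → P T.X₃ → P T.X₂)
    (M : C) (p₁ : P (H.obj (R₁.obj M))) (p₁' : P (H.obj (R₁.obj (M⟦(1 : ℤ)⟧))))
    (p₃ : P (H.obj (R₃.obj (M⟦(1 : ℤ)⟧)))) (p₃' : P (H.obj (R₃.obj (M⟦(1 : ℤ)⟧⟦(1 : ℤ)⟧)))) :
    P (H.obj (R₂.obj (M⟦(1 : ℤ)⟧))) :=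
  middle_mem P hk hc he
    (exact_of_hom_exact H _ _ (Rd_Rg A₁ A₂ A₃ a b d hT M) fun _ g hg => exact₃ A₁ A₂ A₃ a b d hT M g hg)
    (exact_of_hom_exact H _ _ (Rg_Rf A₁ A₂ A₃ a b d hT _) fun _ g hg => exact₂ A₁ A₂ A₃ a b d hT _ g hg)
    (exact_of_hom_exact H _ _ (Rf_Rd A₁ A₂ A₃ a b d hT _) fun _ g hg => exact₁ A₁ A₂ A₃ a b d hT _ g hg)
    p₁ p₃ p₁' p₃'

end Adj

section Nat

/-- The defining property of a lifted transformation. -/
theorem liftNatTrans_app_comp {C₀ D₀ E₀ : Type*} [Category C₀] [Category D₀] [Category E₀] (L : C₀ ⥤ D₀)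
    (W : MorphismProperty C₀) [L.IsLocalization W] (F₁ F₂ : C₀ ⥤ E₀) (F₁' F₂' : D₀ ⥤ E₀)
    [Localization.Lifting L W F₁ F₁'] [Localization.Lifting L W F₂ F₂'] (τ : F₁ ⟶ F₂) (x : C₀) :
    (Localization.liftNatTrans L W F₁ F₂ F₁' F₂' τ).app (L.obj x) ≫
        (Localization.Lifting.iso L W F₂ F₂').hom.app x =
      (Localization.Lifting.iso L W F₁ F₁').hom.app x ≫ τ.app x := by
  simp

universe w₁ w₂ v₁ v₂ v₃ u₁ u₂ u₃

variable {A : Type u₁} [Category.{v₁} A] [Abelian A] [HasDerivedCategory.{w₁} A]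
  {B : Type u₂} [Category.{v₂} B] [Abelian B]
  {C : Type u₃} [Category.{v₃} C] [Abelian C] [HasDerivedCategory.{w₂} C]
  [HasCountableCoproducts C] [CountableAB4 C]
  (T : A ⥤ B ⥤ C) [T.Additive] [∀ a, (T.obj a).Additive]
  [∀ (K₁ : CochainComplex A ℤ) (K₂ : CochainComplex B ℤ), CochainComplex.HasMapBifunctor K₁ K₂ T]
  (Φ : CochainComplex A ℤ ⥤ CochainComplex B ℤ ⥤ CochainComplex C ℤ)

/-- A degreewise split sequence in the second variable gives natural triangles of descended total complexes. -/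
theorem exists_nat_triangle (hΦ : Φ = T.map₂CochainComplex) (S : ShortComplex (CochainComplex B ℤ))
    (hS : ∀ n, Nonempty ((S.map (HomologicalComplex.eval B (ComplexShape.up ℤ) n)).Splitting))
    {L₁ L₂ L₃ : DerivedCategory A ⥤ DerivedCategory C}
    (e₁ : DerivedCategory.Q ⋙ L₁ ≅ Φ.flip.obj S.X₁ ⋙ DerivedCategory.Q)
    (e₂ : DerivedCategory.Q ⋙ L₂ ≅ Φ.flip.obj S.X₂ ⋙ DerivedCategory.Q)
    (e₃ : DerivedCategory.Q ⋙ L₃ ≅ Φ.flip.obj S.X₃ ⋙ DerivedCategory.Q) :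
    ∃ (a : L₁ ⟶ L₂) (b : L₂ ⟶ L₃) (d : L₃ ⟶ L₁ ⋙ shiftFunctor (DerivedCategory C) (1 : ℤ)),
      ∀ Y, Triangle.mk (a.app Y) (b.app Y) (d.app Y) ∈ distTriang (DerivedCategory C) := by
  subst hΦ
  let W := HomologicalComplex.quasiIso A (ComplexShape.up ℤ)
  have hA := fun A₀ : CochainComplex A ℤ =>
    shortExact_map_tot (T := T) (S := S) (fun a q => shortExact_map_of_splitting hS a q) A₀
  let Φ₁ := T.map₂CochainComplex.flip
  letI : Localization.Lifting DerivedCategory.Q W (Φ₁.obj S.X₁ ⋙ DerivedCategory.Q) L₁ := ⟨e₁⟩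
  letI : Localization.Lifting DerivedCategory.Q W (Φ₁.obj S.X₂ ⋙ DerivedCategory.Q) L₂ := ⟨e₂⟩
  letI : Localization.Lifting DerivedCategory.Q W (Φ₁.obj S.X₃ ⋙ DerivedCategory.Q) L₃ := ⟨e₃⟩
  letI : Localization.Lifting DerivedCategory.Q W
      ((Φ₁.obj S.X₁ ⋙ DerivedCategory.Q) ⋙ shiftFunctor (DerivedCategory C) (1 : ℤ))
      (L₁ ⋙ shiftFunctor (DerivedCategory C) (1 : ℤ)) :=
    ⟨(Functor.associator _ _ _).symm ≪≫ Functor.isoWhiskerRight e₁ _⟩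
  let δ : Φ₁.obj S.X₃ ⋙ DerivedCategory.Q ⟶
      (Φ₁.obj S.X₁ ⋙ DerivedCategory.Q) ⋙ shiftFunctor (DerivedCategory C) (1 : ℤ) :=
    { app := fun A₀ => DerivedCategory.triangleOfSESδ (hA A₀)
      naturality := fun A₀ A₁ g => (DerivedCategory.triangleOfSESδ_naturality (hA A₀) (hA A₁)
        (ShortComplex.Hom.mk ((T.map₂CochainComplex.map g).app S.X₁) ((T.map₂CochainComplex.map g).app S.X₂)
          ((T.map₂CochainComplex.map g).app S.X₃) ((T.map₂CochainComplex.map g).naturality S.f).symm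
          ((T.map₂CochainComplex.map g).naturality S.g).symm)).symm }
  refine ⟨Localization.liftNatTrans DerivedCategory.Q W _ _ L₁ L₂
      (Functor.whiskerRight (Φ₁.map S.f) DerivedCategory.Q),
    Localization.liftNatTrans DerivedCategory.Q W _ _ L₂ L₃
      (Functor.whiskerRight (Φ₁.map S.g) DerivedCategory.Q),
    Localization.liftNatTrans DerivedCategory.Q W _ _ L₃ _ δ, fun Y => ?_⟩
  obtain ⟨A₀, ⟨e⟩⟩ : ∃ A₀, Nonempty (DerivedCategory.Q.obj A₀ ≅ Y) :=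
    ⟨_, ⟨DerivedCategory.Q.objObjPreimageIso Y⟩⟩
  refine isomorphic_distinguished _ (DerivedCategory.triangleOfSES_distinguished (hA A₀)) _
    (Triangle.isoMk _ _ (L₁.mapIso e.symm ≪≫ e₁.app A₀)
      (L₂.mapIso e.symm ≪≫ e₂.app A₀) (L₃.mapIso e.symm ≪≫ e₃.app A₀) ?_ ?_ ?_)
  · dsimp
    rw [← NatTrans.naturality_assoc, Category.assoc]
    exact congrArg (_ ≫ ·) (liftNatTrans_app_comp DerivedCategory.Q W _ _ L₁ L₂ _ A₀)
  · dsimp
    rw [← NatTrans.naturality_assoc, Category.assoc]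
    exact congrArg (_ ≫ ·) (liftNatTrans_app_comp DerivedCategory.Q W _ _ L₂ L₃ _ A₀)
  · dsimp
    rw [Functor.map_comp]
    erw [← NatTrans.naturality_assoc]
    rw [Category.assoc]
    have k := liftNatTrans_app_comp DerivedCategory.Q W _ _ L₃ (L₁ ⋙ shiftFunctor (DerivedCategory C) (1 : ℤ)) δ A₀
    refine congrArg (_ ≫ ·) (Eq.trans ?_ k)
    refine congrArg (_ ≫ ·) ?_
    exact (Category.id_comp _).symm

end Nat

variable {X : Scheme.{u}}

/-- A class of modules closed under kernels, cokernels and extensions which contains the cohomology of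
`RHom` out of the ends of a degreewise split sequence of K-flat complexes contains that out of the middle. -/
theorem middle_rhom (S : ShortComplex (CochainComplex X.Modules ℤ))
    (hS : ∀ n, Nonempty ((S.map (HomologicalComplex.eval X.Modules (ComplexShape.up ℤ) n)).Splitting))
    (h₁ : IsKFlatFor (shT X) S.X₁) (h₂ : IsKFlatFor (shT X) S.X₂) (h₃ : IsKFlatFor (shT X) S.X₃)
    [DCoh.HasLTensorCx S.X₁] [DCoh.HasLTensorCx S.X₂] [DCoh.HasLTensorCx S.X₃]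
    [DCoh.HasRSheafHom S.X₁] [DCoh.HasRSheafHom S.X₂] [DCoh.HasRSheafHom S.X₃]
    (P : ObjectProperty X.Modules) [P.IsClosedUnderIsomorphisms]
    (hk : ∀ {M N : X.Modules} (φ : M ⟶ N), P M → P N → P (kernel φ))
    (hc : ∀ {M N : X.Modules} (φ : M ⟶ N), P M → P N → P (cokernel φ))
    (he : ∀ {T : ShortComplex X.Modules}, T.ShortExact → P T.X₁ → P T.X₃ → P T.X₂)
    (M : DCoh.D X) (i : ℤ)
    (p₁ : P (DCoh.HD ((DCoh.RSheafHom S.X₁).obj M) i))
    (p₁' : P (DCoh.HD ((DCoh.RSheafHom S.X₁).obj (M⟦(1 : ℤ)⟧)) i))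
    (p₃ : P (DCoh.HD ((DCoh.RSheafHom S.X₃).obj (M⟦(1 : ℤ)⟧)) i))
    (p₃' : P (DCoh.HD ((DCoh.RSheafHom S.X₃).obj (M⟦(1 : ℤ)⟧⟦(1 : ℤ)⟧)) i)) :
    P (DCoh.HD ((DCoh.RSheafHom S.X₂).obj (M⟦(1 : ℤ)⟧)) i) := by
  obtain ⟨a, b, d, hT⟩ := exists_nat_triangle (shT X) (DCoh.tensorCx (X := X)) rfl S hS
    (TensorCongr.fac h₁) (TensorCongr.fac h₂) (TensorCongr.fac h₃)
  exact middle (DCoh.RSheafHomAdj S.X₁) (DCoh.RSheafHomAdj S.X₂) (DCoh.RSheafHomAdj S.X₃) a b d hT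
    (DerivedCategory.homologyFunctor X.Modules i) P hk hc he M p₁ p₁' p₃ p₃'

end Groth.Agent.DCat.RHomSeq
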