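import Groth.Agent.DCat.ProjPerfFree
import Groth.Agent.DCat.PerfLocal

/-! The derived projection formula for perfect complexes. -/

set_option autoImplicit false
set_option backward.isDefEq.respectTransparency false
set_option backward.defeqAttrib.useBackward true
set_option linter.style.haveILetI false

universe u

open CategoryTheory CategoryTheory.Limits AlgebraicGeometry Opposite TopologicalSpace HomologicalComplex
open CategoryTheory.Pretriangulated
open Groth.Agent.ModStalk

attribute [local instance] HasDerivedCategory.standard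

namespace Groth.Agent.DCat.ProjPerf

variable {X Y : Scheme.{u}}

/-- A map in `D(O_X)` which is invertible near every point is invertible. -/
theorem isIso_of_locally {K L : DCoh.D X} (φ : K ⟶ L)
    (h : ∀ x : X, ∃ V : X.Opens, x ∈ V ∧ IsIso ((PerfLocal.rd V.ι).map φ)) : IsIso φ := by
  obtain ⟨C, g, d, hT⟩ := distinguished_cocone_triangle φ
  refine (Triangle.isZero₃_iff_isIso₁ _ hT).1 (SuppOpen.isZero_of_hd C fun i => isZero_of_stalks fun x => ?_)
  obtain ⟨V, hxV, hV⟩ := h x
  have hC : IsZero ((PerfLocal.rd V.ι).obj C) :=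
    (Triangle.isZero₃_iff_isIso₁ _ ((PerfLocal.rd V.ι).map_distinguished _ hT)).2 hV
  have hZ : IsZero ((Scheme.Modules.restrictFunctor V.ι).obj (DCoh.HD C i)) :=
    ((DerivedCategory.homologyFunctor _ i).map_isZero hC).of_iso (SuppOpen.hdMapIso _ C i).symm
  have hsub : Subsingleton (((Scheme.Modules.restrictFunctor V.ι).obj (DCoh.HD C i)).presheaf.stalk (⟨x, hxV⟩ : V)) :=
    SuppOpen.subsingleton_of_isZero_stalkFunctor _ _ ((DerSch.stalkFunctor _ _).map_isZero hZ)
  exact @SuppOpen.isZero_stalkFunctor _ _ x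
    (SuppOpen.subsingleton_stalk_of_restrict V.ι (DCoh.HD C i) (⟨x, hxV⟩ : V) hsub)

theorem isIso_rd_Q_iff {W : Scheme.{u}} (j : W ⟶ X) [IsOpenImmersion j] {A B : CochainComplex X.Modules ℤ} (g : A ⟶ B) :
    IsIso ((PerfLocal.rd j).map (DerivedCategory.Q.map g)) ↔ QuasiIso ((restrC j).map g) :=
  (NatIso.isIso_map_iff (Scheme.Modules.restrictFunctor j).mapDerivedCategoryFactors g).trans
    (DerivedCategory.isIso_Q_map_iff_quasiIso _ _)

variable (f : X ⟶ Y)

/-- Pushforward of complexes. -/
noncomputable abbrev pushC : CochainComplex X.Modules ℤ ⥤ CochainComplex Y.Modules ℤ :=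
  (Scheme.Modules.pushforward f).mapHomologicalComplex (ComplexShape.up ℤ)

/-- Pullback of complexes. -/
noncomputable abbrev pullC : CochainComplex Y.Modules ℤ ⥤ CochainComplex X.Modules ℤ :=
  (Scheme.Modules.pullback f).mapHomologicalComplex (ComplexShape.up ℤ)

variable [DCoh.HasRpush f]

/-- The canonical map `f_* → Rf_*` on complexes. -/
noncomputable def unitD : pushC f ⋙ DerivedCategory.Q ⟶ DerivedCategory.Q ⋙ DCoh.Rpush f where
  app C := (DerivedCategory.quotientCompQhIso Y.Modules).inv.app ((pushC f).obj C) ≫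
    ((DCoh.pushKh f).totalRightDerivedUnit DerivedCategory.Qh (HomotopyCategory.quasiIso X.Modules (ComplexShape.up ℤ))).app
        ((HomotopyCategory.quotient X.Modules (ComplexShape.up ℤ)).obj C) ≫
      (DCoh.Rpush f).map ((DerivedCategory.quotientCompQhIso X.Modules).hom.app C)
  naturality {C D} g := by
    have h₁ := (DerivedCategory.quotientCompQhIso Y.Modules).inv.naturality ((pushC f).map g)
    have h₂ := ((DCoh.pushKh f).totalRightDerivedUnit DerivedCategory.Qh
      (HomotopyCategory.quasiIso X.Modules (ComplexShape.up ℤ))).naturality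
        ((HomotopyCategory.quotient X.Modules (ComplexShape.up ℤ)).map g)
    have h₃ := congrArg (DCoh.Rpush f).map ((DerivedCategory.quotientCompQhIso X.Modules).hom.naturality g)
    rw [Functor.map_comp, Functor.map_comp] at h₃
    simp only [Functor.comp_map, Category.assoc] at h₁ h₂ h₃ ⊢
    rw [← h₃]
    refine (Category.assoc _ _ _).symm.trans ((congrArg (· ≫ _) h₁).trans ((Category.assoc _ _ _).trans ?_))
    exact congrArg (_ ≫ ·) ((Category.assoc _ _ _).symm.trans ((congrArg (· ≫ _) h₂).trans (Category.assoc _ _ _)))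

theorem isIso_unitD (J : CochainComplex X.Modules ℤ) [J.IsKInjective] : IsIso ((unitD f).app J) := by
  haveI := isIso_unit_of_kInj (modules_enoughKInj X) (DCoh.pushKh f) J ‹_›
  dsimp only [unitD]
  infer_instance

/-- `f_* → Rf_*` is invertible over `V` at complexes which are K-injective over the preimage. -/
theorem isIso_rd_unitD (V : Y.Opens) (C : CochainComplex X.Modules ℤ)
    (hC : CochainComplex.IsKInjective ((restrC (f ⁻¹ᵁ V).ι).obj C)) :
    IsIso ((PerfLocal.rd V.ι).map ((unitD f).app C)) := by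
  obtain ⟨J, s, hJ, hs⟩ := modules_enoughKInj X C
  haveI := hJ
  haveI := hs
  let U := f ⁻¹ᵁ V
  haveI := isIso_unitD f J
  haveI : IsIso (DerivedCategory.Q.map s) := (DerivedCategory.isIso_Q_map_iff_quasiIso _ s).2 hs
  haveI : IsIso ((PerfLocal.rd V.ι).map (DerivedCategory.Q.map ((pushC f).map s))) := by
    rw [isIso_rd_Q_iff, ← DerivedCategory.isIso_Q_map_iff_quasiIso]
    have hq : HomotopyCategory.quasiIso (U : Scheme.{u}).Modules (ComplexShape.up ℤ)
        ((HomotopyCategory.quotient _ _).map ((restrC U.ι).map s)) :=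
      (HomotopyCategory.quotient_map_mem_quasiIso_iff _).2 ((HomologicalComplex.mem_quasiIso_iff _).2 inferInstance)
    haveI := OpenDerived.isKInjective_restrict U.ι J
    haveI h₁ := kInj_isIso_map (DCoh.pushKh (f ∣_ V)) _ hC (OpenDerived.isKInjective_restrict U.ι J) hq
    haveI : IsIso (DerivedCategory.Q.map ((pushC (f ∣_ V)).map ((restrC U.ι).map s))) :=
      (NatIso.isIso_map_iff (DerivedCategory.quotientCompQhIso (V : Scheme.{u}).Modules)
        ((pushC (f ∣_ V)).map ((restrC U.ι).map s))).1 h₁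
    exact ((MorphismProperty.isomorphisms (DCoh.D (V : Scheme.{u}))).arrow_mk_iso_iff
      ((((Functor.mapArrowFunctor _ _).mapIso
        (Functor.isoWhiskerRight (NatIso.mapHomologicalComplex (OpenDerived.pushRestrict f V) (ComplexShape.up ℤ))
          DerivedCategory.Q)).app (Arrow.mk s)))).2 this
  have e := (unitD f).naturality s
  simp only [Functor.comp_map] at e
  have e' := congrArg (PerfLocal.rd V.ι).map e
  rw [Functor.map_comp, Functor.map_comp] at e'
  exact @IsIso.of_isIso_comp_right _ _ _ _ _ _ ((PerfLocal.rd V.ι).map ((DCoh.Rpush f).map (DerivedCategory.Q.map s)))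
    inferInstance (e' ▸ inferInstance)

/-- The derived projection map. -/
noncomputable def eta (I : CochainComplex X.Modules ℤ) (P : CochainComplex Y.Modules ℤ) :
    DerivedCategory.Q.obj (tot (shT Y) ((pushC f).obj I) P) ⟶
      (DCoh.Rpush f).obj (DerivedCategory.Q.obj (tot (shT X) I ((pullC f).obj P))) :=
  DerivedCategory.Q.map (Theta f I P) ≫ (unitD f).app (tot (shT X) I ((pullC f).obj P))

theorem eta_natural (I : CochainComplex X.Modules ℤ) {P P' : CochainComplex Y.Modules ℤ} (g : P ⟶ P') :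
    DerivedCategory.Q.map (totMap₂ (shT Y) ((pushC f).obj I) g) ≫ eta f I P' =
      eta f I P ≫ (DCoh.Rpush f).map (DerivedCategory.Q.map (totMap₂ (shT X) I ((pullC f).map g))) := by
  have e := (unitD f).naturality (totMap₂ (shT X) I ((pullC f).map g))
  simp only [Functor.comp_map] at e
  simp only [eta, Category.assoc]
  rw [← DerivedCategory.Q.map_comp_assoc, Theta_natural, DerivedCategory.Q.map_comp, Category.assoc]
  exact congrArg (_ ≫ ·) e

/-- `pullback` and restriction of complexes. -/
noncomputable def pullRestrC (V : Y.Opens) :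
    pullC f ⋙ restrC (f ⁻¹ᵁ V).ι ≅ restrC V.ι ⋙ pullC (f ∣_ V) :=
  Functor.mapHomologicalComplexCompIso (PullPerf.pullRestrict f V) (ComplexShape.up ℤ) ≪≫
    (Functor.mapHomologicalComplexCompIso (Iso.refl _) (ComplexShape.up ℤ)).symm

omit [DCoh.HasRpush f] in
theorem isKFlatFor_restr_pull (V : Y.Opens) {P : CochainComplex Y.Modules ℤ}
    (h : IsKFlatFor (shT (V : Scheme.{u})) ((restrC V.ι).obj P)) :
    IsKFlatFor (shT (f ⁻¹ᵁ V : Scheme.{u})) ((restrC (f ⁻¹ᵁ V).ι).obj ((pullC f).obj P)) :=
  IsKFlatFor.of_iso ((pullRestrC f V).app P).symm (PullTot.isKFlatFor_pullback (f ∣_ V) h)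

/-- Transfer of invertibility of the projection map along maps which are quasi-isomorphisms over `V`. -/
theorem isIso_rd_eta_iff (V : Y.Opens) (I : CochainComplex X.Modules ℤ) {P P' : CochainComplex Y.Modules ℤ} (g : P ⟶ P')
    (h : IsKFlatFor (shT (V : Scheme.{u})) ((restrC V.ι).obj P))
    (h' : IsKFlatFor (shT (V : Scheme.{u})) ((restrC V.ι).obj P')) [QuasiIso ((restrC V.ι).map g)] :
    IsIso ((PerfLocal.rd V.ι).map (eta f I P)) ↔ IsIso ((PerfLocal.rd V.ι).map (eta f I P')) := by
  let U := f ⁻¹ᵁ V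
  haveI h₁ : IsIso ((PerfLocal.rd V.ι).map (DerivedCategory.Q.map (totMap₂ (shT Y) ((pushC f).obj I) g))) :=
    (isIso_rd_Q_iff V.ι _).2 (quasiIso_restrC_tot V.ι _ g h h')
  haveI : QuasiIso ((restrC U.ι).map ((pullC f).map g)) := by
    haveI := quasiIso_pullback_of_kflat (f ∣_ V) (P := ((restrC V.ι).obj P)) (Q := ((restrC V.ι).obj P')) h h'
      ((restrC V.ι).map g)
    refine (quasiIso_iff_comp_right _ ((pullRestrC f V).hom.app P')).1 ?_
    have e := (pullRestrC f V).hom.naturality g
    simp only [Functor.comp_map] at e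
    rw [e]
    infer_instance
  haveI h₂ : IsIso ((PerfLocal.rd U.ι).map (DerivedCategory.Q.map (totMap₂ (shT X) I ((pullC f).map g)))) :=
    (isIso_rd_Q_iff U.ι _).2 (quasiIso_restrC_tot U.ι _ _ (isKFlatFor_restr_pull f V h) (isKFlatFor_restr_pull f V h'))
  haveI := hasRpush (f ∣_ V)
  haveI h₃ : IsIso ((PerfLocal.rd V.ι).map ((DCoh.Rpush f).map
      (DerivedCategory.Q.map (totMap₂ (shT X) I ((pullC f).map g))))) :=
    (NatIso.isIso_map_iff (OpenDerived.rpushRestrictIso f V) _).2
      (inferInstanceAs (IsIso ((DCoh.Rpush (f ∣_ V)).map ((PerfLocal.rd U.ι).map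
        (DerivedCategory.Q.map (totMap₂ (shT X) I ((pullC f).map g)))))))
  have e := congrArg (PerfLocal.rd V.ι).map (eta_natural f I g)
  rw [Functor.map_comp, Functor.map_comp] at e
  constructor <;> intro hh
  · haveI := hh
    exact IsIso.of_isIso_fac_left e
  · haveI := hh
    exact IsIso.of_isIso_fac_right e.symm

/-- The projection map at bounded complexes which are free over `V`. -/
theorem isIso_rd_eta_free (V : Y.Opens) (I : CochainComplex X.Modules ℤ) [I.IsKInjective]
    (E : CochainComplex Y.Modules ℤ) (a : ℤ) (m : ℕ) (h₁ : ∀ n, n < a → IsZero (E.X n))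
    (h₂ : ∀ n, a + (m : ℤ) ≤ n → IsZero (E.X n))
    (hfree : ∀ i, ∃ n, Nonempty ((Scheme.Modules.restrictFunctor V.ι).obj (E.X i) ≅ FlatMod.freeMod V n)) :
    IsIso ((PerfLocal.rd V.ι).map (eta f I E)) := by
  let U := f ⁻¹ᵁ V
  haveI := isIso_restrict_Theta f V I E a m h₁ h₂ hfree
  haveI : IsIso ((PerfLocal.rd V.ι).map (DerivedCategory.Q.map (Theta f I E))) :=
    (isIso_rd_Q_iff V.ι _).2 inferInstance
  haveI := OpenDerived.isKInjective_restrict U.ι I
  haveI : CochainComplex.IsKInjective (tot (shT (U : Scheme.{u})) ((restrC U.ι).obj I) ((restrC U.ι).obj ((pullC f).obj E))) :=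
    isKInjective_tot ((restrC U.ι).obj I) ((restrC U.ι).obj ((pullC f).obj E)) a m
      (fun n hn => (Scheme.Modules.restrictFunctor U.ι).map_isZero ((Scheme.Modules.pullback f).map_isZero (h₁ n hn)))
      (fun n hn => (Scheme.Modules.restrictFunctor U.ι).map_isZero ((Scheme.Modules.pullback f).map_isZero (h₂ n hn)))
      (fun i => by
        obtain ⟨r, ⟨g⟩⟩ := hfree i
        obtain ⟨g'⟩ := PerfTensor.nonempty_pullback_free (f ∣_ V) r
        exact ⟨r, ⟨(PullPerf.pullRestrict f V).app (E.X i) ≪≫ (Scheme.Modules.pullback (f ∣_ V)).mapIso g ≪≫ g'⟩⟩)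
  haveI := isIso_rd_unitD f V (tot (shT X) I ((pullC f).obj E))
    (CochainComplex.isKInjective_of_iso (restrTot U.ι I ((pullC f).obj E)).symm)
  rw [eta, Functor.map_comp]
  infer_instance

end Groth.Agent.DCat.ProjPerf
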