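import Mathlib.CategoryTheory.Triangulated.Pretriangulated
import Mathlib.Tactic.NoncommRing

set_option autoImplicit false
set_option backward.isDefEq.respectTransparency false
set_option backward.defeqAttrib.useBackward true

universe w v u

open CategoryTheory CategoryTheory.Limits CategoryTheory.Pretriangulated

namespace Groth.Agent.DCat

variable {D : Type u} [Category.{v} D] [Preadditive D] [HasZeroObject D] [HasShift D ℤ]
  [∀ n : ℤ, (shiftFunctor D n).Additive] [Pretriangulated D]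

/-- Hom out of a shift, as maps into the inverse shift. -/
noncomputable def shiftAdjEquiv (X A : D) : (X⟦(1 : ℤ)⟧ ⟶ A) ≃ (X ⟶ A⟦(-1 : ℤ)⟧) :=
  (shiftEquiv D (1 : ℤ)).toAdjunction.homEquiv X A

lemma shiftAdjEquiv_naturality_left {X X' A : D} (f : X ⟶ X') (v : X'⟦(1 : ℤ)⟧ ⟶ A) :
    shiftAdjEquiv X A (f⟦(1 : ℤ)⟧' ≫ v) = f ≫ shiftAdjEquiv X' A v :=
  (shiftEquiv D (1 : ℤ)).toAdjunction.homEquiv_naturality_left f v

lemma isIso_of_precomp_bijective {W W' : D} (a : W ⟶ W')
    (h : ∀ A : D, Function.Bijective (fun u : W' ⟶ A => a ≫ u)) : IsIso a := by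
  obtain ⟨b, hb⟩ := (h W).surjective (𝟙 W)
  exact ⟨b, hb, (h W').injective (show a ≫ b ≫ a = a ≫ 𝟙 W' by
    rw [Category.comp_id, reassoc_of% hb])⟩

/-- A coproduct of distinguished triangles is distinguished. -/
theorem coproduct_distinguished {J : Type w} (T : J → Triangle D)
    (hT : ∀ j, T j ∈ distTriang D)
    [HasCoproduct (fun j => (T j).obj₁)] [HasCoproduct (fun j => (T j).obj₂)]
    [HasCoproduct (fun j => (T j).obj₃)] :
    Triangle.mk (Limits.Sigma.map (fun j => (T j).mor₁)) (Limits.Sigma.map (fun j => (T j).mor₂))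
      (Sigma.desc (fun j => (T j).mor₃ ≫ (shiftFunctor D (1 : ℤ)).map
        (Sigma.ι (fun j => (T j).obj₁) j))) ∈ distTriang D := by
  obtain ⟨W, gW, hW, hTW⟩ := distinguished_cocone_triangle (Limits.Sigma.map (fun j => (T j).mor₁))
  have hc := fun j => complete_distinguished_triangle_morphism (T j) _ (hT j) hTW
    (Sigma.ι (fun j => (T j).obj₁) j) (Sigma.ι (fun j => (T j).obj₂) j) (by simp)
  choose c hc₂ hc₃ using hc
  let a : (∐ fun j => (T j).obj₃) ⟶ W := Sigma.desc c
  have ha₂ : Limits.Sigma.map (fun j => (T j).mor₂) ≫ a = gW := by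
    ext j; simpa [a] using hc₂ j
  have ha₃ : a ≫ hW = Sigma.desc (fun j => (T j).mor₃ ≫ (shiftFunctor D (1 : ℤ)).map
      (Sigma.ι (fun j => (T j).obj₁) j)) := by
    ext j; simpa [a] using (hc₃ j).symm
  have : IsIso a := by
    refine isIso_of_precomp_bijective a fun A => ⟨fun u u' hu => ?_, fun u => ?_⟩
    · rw [← sub_eq_zero]
      have h0 : a ≫ (u - u') = 0 := by rw [Preadditive.comp_sub, sub_eq_zero]; exact hu
      obtain ⟨v, hv⟩ := Triangle.yoneda_exact₃ _ hTW (u - u')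
        (by dsimp; rw [← ha₂, Category.assoc, h0, comp_zero])
      dsimp at hv v
      have hj : ∀ j, ∃ w, (Sigma.ι (fun j => (T j).obj₁) j)⟦(1 : ℤ)⟧' ≫ v = (T j).mor₁⟦(1 : ℤ)⟧' ≫ w := by
        intro j
        obtain ⟨w, hw⟩ := Triangle.yoneda_exact₃ _ (rot_of_distTriang _ (hT j))
          ((Sigma.ι (fun j => (T j).obj₁) j)⟦(1 : ℤ)⟧' ≫ v) (by
            have := Sigma.ι (fun j => (T j).obj₃) j ≫= h0
            rw [hv, reassoc_of% ha₃, Sigma.ι_desc_assoc, comp_zero, Category.assoc] at this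
            exact this)
        exact ⟨-w, hw.trans (by simp)⟩
      choose w hw using hj
      have hv' : v = (Limits.Sigma.map (fun j => (T j).mor₁))⟦(1 : ℤ)⟧' ≫
          (shiftAdjEquiv _ A).symm (Sigma.desc fun j => shiftAdjEquiv _ A (w j)) := by
        apply (shiftAdjEquiv _ A).injective
        rw [shiftAdjEquiv_naturality_left, Equiv.apply_symm_apply]
        ext j
        rw [← shiftAdjEquiv_naturality_left, hw, shiftAdjEquiv_naturality_left]
        simp
      rw [hv, hv']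
      exact (comp_distTriang_mor_zero₃₁_assoc _ hTW _).trans zero_comp
    · obtain ⟨u₁, hu₁⟩ := Triangle.yoneda_exact₂ _ hTW (Limits.Sigma.map (fun j => (T j).mor₂) ≫ u)
        (by
          dsimp
          ext j
          simp [comp_distTriang_mor_zero₁₂_assoc _ (hT j)])
      dsimp at hu₁ u₁
      have hj : ∀ j, ∃ v, Sigma.ι (fun j => (T j).obj₃) j ≫ (a ≫ u₁ - u) = (T j).mor₃ ≫ v :=
        fun j => Triangle.yoneda_exact₃ _ (hT j) _ (by
          have := Sigma.ι (fun j => (T j).obj₂) j ≫= hu₁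
          rw [← ha₂] at this
          simp only [Category.assoc, Sigma.ι_map_assoc] at this
          simp [Preadditive.comp_sub, this])
      choose v hv using hj
      let V := (shiftAdjEquiv _ A).symm (Sigma.desc fun j => shiftAdjEquiv _ A (v j))
      have hV : ∀ j, (Sigma.ι (fun j => (T j).obj₁) j)⟦(1 : ℤ)⟧' ≫ V = v j := by
        intro j
        apply (shiftAdjEquiv _ A).injective
        simp [shiftAdjEquiv_naturality_left, V]
      refine ⟨u₁ - hW ≫ V, ?_⟩
      dsimp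
      ext j
      have e := hv j
      simp only [Preadditive.comp_sub] at e ⊢
      simp only [reassoc_of% ha₃, Sigma.ι_desc_assoc, Category.assoc, hV] at e ⊢
      rw [← e]
      abel
  refine isomorphic_distinguished _ hTW _ (Triangle.isoMk _ _ (Iso.refl _) (Iso.refl _) (asIso a)
    (by simp) (by simpa using ha₂) ?_)
  simpa using ha₃.symm

section biprod

variable (T T' : Triangle D)

/-- The sum of two triangles. -/
noncomputable abbrev sumTriangle : Triangle D :=
  Triangle.mk (biprod.map T.mor₁ T'.mor₁) (biprod.map T.mor₂ T'.mor₂)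
    (biprod.desc (T.mor₃ ≫ (shiftFunctor D (1 : ℤ)).map biprod.inl)
      (T'.mor₃ ≫ (shiftFunctor D (1 : ℤ)).map biprod.inr))

variable {T T'}

/-- The sum of two distinguished triangles is distinguished. -/
theorem sumTriangle_distinguished (hT : T ∈ distTriang D) (hT' : T' ∈ distTriang D) :
    sumTriangle T T' ∈ distTriang D := by
  obtain ⟨W, gW, hW, hTW⟩ := distinguished_cocone_triangle (biprod.map T.mor₁ T'.mor₁)
  obtain ⟨c, hc₂, hc₃⟩ := complete_distinguished_triangle_morphism T _ hT hTW biprod.inl biprod.inl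
    (by simp)
  obtain ⟨c', hc₂', hc₃'⟩ := complete_distinguished_triangle_morphism T' _ hT' hTW biprod.inr
    biprod.inr (by simp)
  obtain ⟨d, hd₂, hd₃⟩ := complete_distinguished_triangle_morphism _ T hTW hT biprod.fst biprod.fst
    (by simp)
  obtain ⟨d', hd₂', hd₃'⟩ := complete_distinguished_triangle_morphism _ T' hTW hT' biprod.snd
    biprod.snd (by simp)
  dsimp at c c' hc₂ hc₃ hc₂' hc₃' d d' hd₂ hd₃ hd₂' hd₃'
  let a : T.obj₃ ⊞ T'.obj₃ ⟶ W := biprod.desc c c'
  let b : W ⟶ T.obj₃ ⊞ T'.obj₃ := biprod.lift d d'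
  have ha₂ : biprod.map T.mor₂ T'.mor₂ ≫ a = gW := by
    ext <;> simp [a, hc₂, hc₂']
  have ha₃ : a ≫ hW = biprod.desc (T.mor₃ ≫ (shiftFunctor D (1 : ℤ)).map biprod.inl)
      (T'.mor₃ ≫ (shiftFunctor D (1 : ℤ)).map biprod.inr) := by
    ext <;> simp [a, hc₃, hc₃']
  have hb₂ : gW ≫ b = biprod.map T.mor₂ T'.mor₂ := by
    ext <;> simp [b, hd₂, hd₂']
  have hb₃ : b ≫ biprod.desc (T.mor₃ ≫ (shiftFunctor D (1 : ℤ)).map biprod.inl)
      (T'.mor₃ ≫ (shiftFunctor D (1 : ℤ)).map biprod.inr) = hW := by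
    rw [biprod.lift_desc, ← reassoc_of% hd₃, ← reassoc_of% hd₃', ← Preadditive.comp_add,
      ← Functor.map_comp, ← Functor.map_comp, ← Functor.map_add, biprod.total, CategoryTheory.Functor.map_id,
      Category.comp_id]
  have hba : IsIso (b ≫ a) := isIso₃_of_isIso₁₂
    (Triangle.homMk (Triangle.mk (biprod.map T.mor₁ T'.mor₁) gW hW)
      (Triangle.mk (biprod.map T.mor₁ T'.mor₁) gW hW) (𝟙 _) (𝟙 _) (b ≫ a) (by simp)
      (by simp [reassoc_of% hb₂, ha₂]) (by simp [ha₃, hb₃])) hTW hTW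
      (by dsimp; infer_instance) (by dsimp; infer_instance)
  have : Mono a := by
    refine Preadditive.mono_of_cancel_zero _ fun {A} x hx => ?_
    have h3 : x ≫ biprod.desc (T.mor₃ ≫ (shiftFunctor D (1 : ℤ)).map biprod.inl)
        (T'.mor₃ ≫ (shiftFunctor D (1 : ℤ)).map biprod.inr) = 0 := by
      rw [← ha₃, reassoc_of% hx, zero_comp]
    obtain ⟨y₁, hy₁⟩ := Triangle.coyoneda_exact₃ _ hT (x ≫ biprod.fst) (by
      simpa [biprod.desc_eq, ← Functor.map_comp] using h3 =≫ (shiftFunctor D (1 : ℤ)).map biprod.fst)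
    obtain ⟨y₂, hy₂⟩ := Triangle.coyoneda_exact₃ _ hT' (x ≫ biprod.snd) (by
      simpa [biprod.desc_eq, ← Functor.map_comp] using h3 =≫ (shiftFunctor D (1 : ℤ)).map biprod.snd)
    have hxy : x = biprod.lift y₁ y₂ ≫ biprod.map T.mor₂ T'.mor₂ := by
      ext <;> simp [hy₁, hy₂]
    obtain ⟨z, hz⟩ := Triangle.coyoneda_exact₂ _ hTW (biprod.lift y₁ y₂) (by
      dsimp; rw [← ha₂, ← Category.assoc, ← hxy, hx])
    dsimp at hz z
    rw [hxy, hz]
    ext <;> simp [comp_distTriang_mor_zero₁₂ _ hT, comp_distTriang_mor_zero₁₂ _ hT']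
  have : IsSplitEpi a := IsSplitEpi.mk' ⟨inv (b ≫ a) ≫ b, (Category.assoc _ b a).trans (IsIso.inv_hom_id (b ≫ a))⟩
  have : IsIso a := isIso_of_mono_of_isSplitEpi a
  refine isomorphic_distinguished _ hTW _ (Triangle.isoMk _ _ (Iso.refl _) (Iso.refl _) (asIso a)
    (by simp) (by simpa using ha₂) ?_)
  simpa using ha₃.symm

/-- A direct summand of a distinguished triangle is distinguished. -/
theorem distinguished_of_sumTriangle (h : sumTriangle T T' ∈ distTriang D) : T ∈ distTriang D := by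
  obtain ⟨W, gW, hW, hTW⟩ := distinguished_cocone_triangle T.mor₁
  obtain ⟨c, hc₂, hc₃⟩ := complete_distinguished_triangle_morphism _ _ hTW h biprod.inl biprod.inl
    (by simp)
  obtain ⟨d, hd₂, hd₃⟩ := complete_distinguished_triangle_morphism _ _ h hTW biprod.fst biprod.fst
    (by simp)
  dsimp at c d hc₂ hc₃ hd₂ hd₃
  let a : W ⟶ T.obj₃ := c ≫ biprod.fst
  let b : T.obj₃ ⟶ W := biprod.inl ≫ d
  have ha₂ : gW ≫ a = T.mor₂ := by simp [a, reassoc_of% hc₂]
  have ha₃ : a ≫ T.mor₃ = hW := by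
    have := hc₃ =≫ (shiftFunctor D (1 : ℤ)).map biprod.fst
    simp only [Category.assoc, ← Functor.map_comp, biprod.inl_fst, CategoryTheory.Functor.map_id,
      Category.comp_id] at this
    rw [this]
    simp [a, biprod.desc_eq, ← Functor.map_comp]
  have hb₂ : T.mor₂ ≫ b = gW := by
    have := biprod.inl ≫= hd₂
    simpa [b] using this
  have hb₃ : b ≫ hW = T.mor₃ := by
    have := biprod.inl ≫= hd₃
    simpa [b, ← Functor.map_comp] using this.symm
  have hab : IsIso (a ≫ b) := isIso₃_of_isIso₁₂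
    (Triangle.homMk (Triangle.mk T.mor₁ gW hW) (Triangle.mk T.mor₁ gW hW) (𝟙 _) (𝟙 _) (a ≫ b)
      (by simp) (by simp [reassoc_of% ha₂, hb₂]) (by simp [ha₃, hb₃])) hTW hTW
      (by dsimp; infer_instance) (by dsimp; infer_instance)
  have hba : IsIso (b ≫ a) := by
    let e : sumTriangle T T' ⟶ sumTriangle T T' :=
      Triangle.homMk _ _ (𝟙 _) (𝟙 _) (biprod.map (b ≫ a) (𝟙 _)) (by simp)
        (by dsimp; ext <;> simp [reassoc_of% hb₂, ha₂])
        (by dsimp; ext <;> simp [hb₃, reassoc_of% hb₃, ha₃, reassoc_of% ha₃])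
    have he : IsIso e.hom₃ := isIso₃_of_isIso₁₂ e h h
      (by dsimp [e]; infer_instance) (by dsimp [e]; infer_instance)
    refine ⟨biprod.inl ≫ inv e.hom₃ ≫ biprod.fst, ?_, ?_⟩
    · have h1 : (b ≫ a) ≫ biprod.inl = biprod.inl ≫ e.hom₃ := by simp [e]
      rw [← Category.assoc, h1, Category.assoc, IsIso.hom_inv_id_assoc, biprod.inl_fst]
    · have h1 : biprod.fst ≫ (b ≫ a) = e.hom₃ ≫ biprod.fst := (biprod.map_fst _ _).symm
      simp only [Category.assoc]
      rw [h1, IsIso.inv_hom_id_assoc, biprod.inl_fst]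
  have : IsSplitMono a := IsSplitMono.mk' ⟨b ≫ inv (a ≫ b), (Category.assoc a b _).symm.trans (IsIso.hom_inv_id (a ≫ b))⟩
  have : IsSplitEpi a := IsSplitEpi.mk' ⟨inv (b ≫ a) ≫ b, (Category.assoc _ b a).trans (IsIso.inv_hom_id (b ≫ a))⟩
  have : IsIso a := isIso_of_mono_of_isSplitEpi a
  refine isomorphic_distinguished _ hTW _ (Triangle.isoMk _ _ (Iso.refl _) (Iso.refl _) (asIso a).symm
    (by simp) ?_ ?_)
  · dsimp; simp [← ha₂]
  · dsimp; simp [← ha₃]

end biprod

/-- Refinement of an approximate idempotent. -/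
lemma idem_refine {R : Type*} [Ring R] (e : R) (h : (e * e - e) * (e * e - e) = 0) :
    (3 • (e * e) - 2 • (e * e * e)) * (3 • (e * e) - 2 • (e * e * e)) =
      3 • (e * e) - 2 • (e * e * e) := by
  have : (3 • (e * e) - 2 • (e * e * e)) * (3 • (e * e) - 2 • (e * e * e))
      - (3 • (e * e) - 2 • (e * e * e)) =
      (e * e - e) * (e * e - e) * (4 • (e * e) - 4 • e - 3 • 1) := by
    noncomm_ring
  rw [h, zero_mul] at this
  exact sub_eq_zero.1 this

omit [HasZeroObject D] [HasShift D ℤ] [∀ n : ℤ, (shiftFunctor D n).Additive] [Pretriangulated D] in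
/-- Refinement of an approximate idempotent endomorphism. -/
lemma idem_refine_hom {X : D} (b : X ⟶ X) (h : (b ≫ b - b) ≫ (b ≫ b - b) = 0) :
    (3 • (b ≫ b) - 2 • (b ≫ b ≫ b)) ≫ (3 • (b ≫ b) - 2 • (b ≫ b ≫ b)) =
      3 • (b ≫ b) - 2 • (b ≫ b ≫ b) :=
  idem_refine (R := End X) b h

end Groth.Agent.DCat
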