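import Groth.Agent.DCat.RHomEvalMain
import Groth.Agent.DQCoh.PerfectAffine
import Groth.Agent.S0924

/-! Duals of perfect complexes. -/

set_option autoImplicit false
set_option backward.isDefEq.respectTransparency false
set_option backward.defeqAttrib.useBackward true
set_option linter.style.haveILetI false

universe v w u

open CategoryTheory CategoryTheory.Limits CategoryTheory.Pretriangulated AlgebraicGeometry HomologicalComplex
open Groth.Agent.ModStalk

attribute [local instance] HasDerivedCategory.standard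
attribute [-instance] Int.instConditionallyCompleteLinearOrder

namespace Groth.Agent.DCat.RHomDual

/-- In a sequence `R₄ → R₃ → R₂ → R₁` exact for maps into it, `R₃` is a retract of the fibre of `R₂ → R₁` plus `R₄`. -/
theorem middle_retract {C : Type w} [Category.{v} C] [Preadditive C] [HasZeroObject C] [HasShift C ℤ]
    [∀ n : ℤ, (shiftFunctor C n).Additive] [Pretriangulated C] {R₁ R₂ R₃ R₄ F : C} (r₃ : R₄ ⟶ R₃) (r₂ : R₃ ⟶ R₂)
    (r₁ : R₂ ⟶ R₁) {f : F ⟶ R₂} {δ : R₁ ⟶ F⟦(1 : ℤ)⟧} (hT : Triangle.mk f r₁ δ ∈ distTriang C) (z : r₂ ≫ r₁ = 0)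
    (h₂ : ∀ (N : C) (g : N ⟶ R₂), g ≫ r₁ = 0 → ∃ y, g = y ≫ r₂)
    (h₃ : ∀ (N : C) (g : N ⟶ R₃), g ≫ r₂ = 0 → ∃ y, g = y ≫ r₃) : Nonempty (Retract R₃ (F ⊞ R₄)) := by
  obtain ⟨χ, hχ⟩ := Triangle.coyoneda_exact₂ _ hT r₂ z
  obtain ⟨ψ, hψ⟩ := h₂ F f (comp_distTriang_mor_zero₁₂ _ hT)
  simp only [Triangle.mk_mor₁] at hχ
  obtain ⟨y, hy⟩ := h₃ R₃ (𝟙 R₃ - χ ≫ ψ) (by
    rw [Preadditive.sub_comp, Category.id_comp, Category.assoc, ← hψ, ← hχ, sub_self])
  exact ⟨{ i := biprod.lift χ y, r := biprod.desc ψ r₃, retract := by rw [biprod.lift_desc, ← hy]; abel }⟩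

variable {X : Scheme.{u}}

/-- Perfect objects are stable under retracts. -/
theorem perfect_of_retract {K M : DCoh.D X} (r : Retract K M) (h : DCoh.IsPerfect M) : DCoh.IsPerfect K := by
  obtain ⟨C, g, d, hT⟩ := distinguished_cocone_triangle r.i
  haveI : Mono r.i := (SplitMono.mk r.r r.retract).mono
  obtain ⟨e, -, -⟩ := exists_iso_binaryBiproduct_of_distTriang _ hT (Triangle.mor₃_eq_zero_of_mono₁ _ hT ‹_›)
  exact Groth.Agent.S0924.left K C (PCTriangle.perfect_iso e h)

theorem perfect_biprod {K L : DCoh.D X} (hK : DCoh.IsPerfect K) (hL : DCoh.IsPerfect L) : DCoh.IsPerfect (K ⊞ L) :=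
  (PCTriangle.perfect_two_out_of_three (binaryBiproductTriangle_distinguished K L)).2.1 hK hL

theorem perfect_of_isZero {K : DCoh.D X} (h : IsZero K) : DCoh.IsPerfect K :=
  DQCoh.isPerfect_of_local K fun x => ⟨X, 𝟙 X, inferInstance, ⟨x, rfl⟩,
    (PerfLocal.isPerfect_iff _).2 fun y => ⟨X, 𝟙 X, inferInstance, ⟨y, rfl⟩,
      PerfLocal.perfAt_of_isZero ((PerfLocal.rd (𝟙 X)).map_isZero ((PerfLocal.rd (𝟙 X)).map_isZero h))⟩⟩

/-- The structure sheaf is perfect. -/
theorem perfect_structure : DCoh.IsPerfect ((DerivedCategory.singleFunctor X.Modules 0).obj (Coh.structureModule X)) :=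
  (PerfLocal.isPerfect_iff _).2 fun x => ⟨X, 𝟙 X, inferInstance, ⟨x, rfl⟩,
    (single X.Modules (ComplexShape.up ℤ) 0).obj (FlatMod.freeMod X 1),
    ⟨⟨0, 0, fun i hi => isZero_single_obj_X _ _ _ _ (by omega)⟩, fun i => by
      by_cases h : i = 0
      · subst h
        exact PerfTensor.isFinLocFree_of_iso (singleObjXSelf _ _ _).symm (ProjPerf.isFinLocFree_freeMod 1)
      · exact PerfTensor.isFinLocFree_of_isZero (isZero_single_obj_X _ _ _ _ h)⟩,
    ⟨(PCTriangle.rd_id _).some ≪≫ ((DerivedCategory.singleFunctorIsoCompQ X.Modules 0).app _) ≪≫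
      DerivedCategory.Q.mapIso ((single X.Modules (ComplexShape.up ℤ) 0).mapIso
        (coproductUniqueIso (fun _ : Fin 1 => Coh.structureModule X)).symm)⟩⟩

/-- The dual is perfect. -/
def Dualizable (E : CochainComplex X.Modules ℤ) : Prop :=
  DCoh.IsPerfect ((RHomNat.RH E).obj ((DerivedCategory.singleFunctor X.Modules 0).obj (Coh.structureModule X)))

theorem dualizable_iff {E E' : CochainComplex X.Modules ℤ} (g : E ⟶ E') [QuasiIso g] :
    Dualizable E ↔ Dualizable E' :=
  haveI := RHomNat.isIso_rhat g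
  ⟨PCTriangle.perfect_iso (asIso ((RHomNat.rhat g).app _)).symm, PCTriangle.perfect_iso (asIso ((RHomNat.rhat g).app _))⟩

theorem dualizable_ext (S : ShortComplex (CochainComplex X.Modules ℤ))
    (hS : ∀ n, Nonempty ((S.map (HomologicalComplex.eval X.Modules (ComplexShape.up ℤ) n)).Splitting))
    (h₁ : ∀ k : ℤ, Dualizable (S.X₁⟦k⟧)) (h₃ : ∀ k : ℤ, Dualizable (S.X₃⟦k⟧)) (k : ℤ) : Dualizable (S.X₂⟦k⟧) := by
  refine RHomNat.ext_of_middle Dualizable (fun _ => True) (fun e => dualizable_iff e.hom) (fun _ h => h)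
    (fun {E₁ E₂ E₃ E₄ E₅} u₁ u₂ u₃ u₄ e₁ e₂ e₃ p₁ p₂ p₄ p₅ _ => ?_) S hS h₁ h₃ k trivial
  let O := (DerivedCategory.singleFunctor X.Modules 0).obj (Coh.structureModule X)
  obtain ⟨F, f, δ, hT⟩ := distinguished_cocone_triangle₁ ((RHomNat.rhat u₁).app O)
  obtain ⟨r⟩ := middle_retract ((RHomNat.rhat u₃).app O) ((RHomNat.rhat u₂).app O) ((RHomNat.rhat u₁).app O) hT
    (e₁.rhat_zero O) (fun N g hg => e₁.rhat_exact O N g hg) (fun N g hg => e₂.rhat_exact O N g hg)
  exact perfect_of_retract r (perfect_biprod ((PCTriangle.perfect_two_out_of_three hT).2.2 p₂ p₁) p₄)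

theorem dualizable_of_isZero {E : CochainComplex X.Modules ℤ} (hE : IsZero E) : Dualizable E := by
  refine perfect_of_isZero ?_
  let O := (DerivedCategory.singleFunctor X.Modules 0).obj (Coh.structureModule X)
  let Y := (RHomNat.RH E).obj O
  let B := DerivedCategory.Q.objPreimage Y
  have hz : IsZero ((RHomNat.LT E).obj Y) :=
    (DerivedCategory.Q.map_isZero (((shT X).map₂CochainComplex.obj B).map_isZero hE)).of_iso
      ((RHomNat.LT E).mapIso (DerivedCategory.Q.objObjPreimageIso Y).symm ≪≫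
        (haveI := LTensorSheaf.hasLTensorCx E; LTensorSheaf.ltensorCxIso' (isKFlatFor_of_isZero hE) B))
  exact (IsZero.iff_id_eq_zero _).2 (((RHomNat.adjE E).homEquiv Y O).symm.injective (hz.eq_of_src _ _))

theorem dualizable_structure (k : ℤ) :
    Dualizable (((single X.Modules (ComplexShape.up ℤ) 0).obj (Coh.structureModule X))⟦k⟧) := by
  haveI := LTensorSheaf.hasLTensorCx ((single X.Modules (ComplexShape.up ℤ) 0).obj (Coh.structureModule X))
  haveI := LTensorSheaf.hasLTensorCx (((single X.Modules (ComplexShape.up ℤ) 0).obj (Coh.structureModule X))⟦k⟧)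
  haveI := RHomExist.hasRSheafHom ((single X.Modules (ComplexShape.up ℤ) 0).obj (Coh.structureModule X))
  haveI := RHomExist.hasRSheafHom (((single X.Modules (ComplexShape.up ℤ) 0).obj (Coh.structureModule X))⟦k⟧)
  obtain ⟨e₀⟩ := RHomLeft.nonempty_RHom_structure (X := X)
  obtain ⟨e⟩ := RHomLeft.nonempty_RHom_shift ((single X.Modules (ComplexShape.up ℤ) 0).obj (Coh.structureModule X))
    (RHomLeft.isKFlatFor_structure X) k
  exact PCTriangle.perfect_iso (e.app _ ≪≫ e₀.app _).symm (PCTriangle.perfect_shift perfect_structure (-k))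

/-- Bounded complexes of free modules have perfect duals. -/
theorem dualizable_bounded (E : CochainComplex X.Modules ℤ) {a b : ℤ} (hE : DCoh.VanishesOutside E a b)
    (hfree : ∀ i, ∃ n, Nonempty (E.X i ≅ FlatMod.freeMod X n)) : Dualizable E := by
  have hi : ∀ {E E' : CochainComplex X.Modules ℤ}, (E ≅ E') → Dualizable E → Dualizable E' := fun e h =>
    (dualizable_iff e.hom).1 h
  have sh : ∀ (M : X.Modules) (m k : ℤ),
      ((single X.Modules (ComplexShape.up ℤ) m).obj M)⟦k⟧ ≅ (single X.Modules (ComplexShape.up ℤ) (m - k)).obj M :=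
    fun M m k => ((CochainComplex.singleFunctors X.Modules).shiftIso k (m - k) m (by omega)).app M
  have hO : ∀ m : ℤ, Dualizable ((single X.Modules (ComplexShape.up ℤ) m).obj (Coh.structureModule X)) := fun m =>
    hi (((CochainComplex.singleFunctors X.Modules).shiftIso (-m) m 0 (by omega)).app _) (dualizable_structure (-m))
  have hf : ∀ (n : ℕ) (m : ℤ), Dualizable ((single X.Modules (ComplexShape.up ℤ) m).obj (FlatMod.freeMod X n)) := by
    intro n
    induction n with
    | zero => exact fun m => dualizable_of_isZero ((single _ _ m).map_isZero ProjPerf.isZero_freeMod_zero)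
    | succ n ih =>
      intro m
      let T := RHomLeft.sigmaSeq (fun _ : Fin (n + 1) => Coh.structureModule X)
      let sp : T.Splitting := RHomLeft.sigmaSplit (fun _ : Fin (n + 1) => Coh.structureModule X)
      exact hi ((shiftFunctorZero _ ℤ).app _) (dualizable_ext (T.map (single X.Modules (ComplexShape.up ℤ) m))
        (fun q => ⟨sp.map (single X.Modules (ComplexShape.up ℤ) m ⋙ HomologicalComplex.eval _ _ q)⟩)
        (fun k => hi (sh _ m k).symm (hO _)) (fun k => hi (sh _ m k).symm (ih _)) 0)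
  have key : ∀ k : ℤ, Dualizable (E⟦k⟧) := bounded_induction (fun F => ∀ k : ℤ, Dualizable (F⟦k⟧))
    (fun M => ∃ n, Nonempty (M ≅ FlatMod.freeMod X n))
    (fun K hK k => dualizable_of_isZero ((shiftFunctor _ k).map_isZero hK))
    (fun M hM => ⟨0, ⟨hM.iso ProjPerf.isZero_freeMod_zero⟩⟩) (fun M N e ⟨n, ⟨f⟩⟩ => ⟨n, ⟨e.symm ≪≫ f⟩⟩)
    (fun m M ⟨n, ⟨f⟩⟩ k => hi ((sh _ m k).trans ((single _ _ _).mapIso f)).symm (hf n _))
    (fun S hS h₁ h₃ k => dualizable_ext S hS h₁ h₃ k) a (b + 1 - a).toNat E (fun n hn => hE n (Or.inl hn))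
    (fun n hn => hE n (Or.inr (by omega))) hfree
  exact hi ((shiftFunctorZero _ ℤ).app E) (key 0)

/-- The dual of a perfect complex is perfect. -/
theorem isPerfect_dual (K : CochainComplex X.Modules ℤ) (hK : DCoh.IsPerfect (DerivedCategory.Q.obj K))
    [DCoh.HasLTensorCx K] [DCoh.HasRSheafHom K] :
    DCoh.IsPerfect ((DCoh.RSheafHom K).obj ((DerivedCategory.singleFunctor X.Modules 0).obj (Coh.structureModule X))) := by
  refine DQCoh.isPerfect_of_local _ fun x => ?_
  obtain ⟨W, k, hk, E, a, b, hx, hE, hfree, ⟨e⟩⟩ := DQCoh.exists_free_model hK x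
  refine ⟨W, k, hk, hx, ?_⟩
  haveI := LTensorSheaf.hasLTensorCx (((Scheme.Modules.restrictFunctor k).mapHomologicalComplex (ComplexShape.up ℤ)).obj K)
  haveI := RHomExist.hasRSheafHom (((Scheme.Modules.restrictFunctor k).mapHomologicalComplex (ComplexShape.up ℤ)).obj K)
  haveI := LTensorSheaf.hasLTensorCx E
  haveI := RHomExist.hasRSheafHom E
  obtain ⟨r⟩ := ShriekTensor.nonempty_restrict_RHom_of_eq k K
    (((Scheme.Modules.restrictFunctor k).mapHomologicalComplex (ComplexShape.up ℤ)).obj K) rfl (PerfLocal.rd k) rfl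
  obtain ⟨q⟩ := DQCoh.nonempty_Q_map (Scheme.Modules.restrictFunctor k) K
  obtain ⟨c⟩ := TensorCongr.nonempty_congr_rhom (E := E)
    (E' := ((Scheme.Modules.restrictFunctor k).mapHomologicalComplex (ComplexShape.up ℤ)).obj K) (e ≪≫ q.symm)
  let eO : (PerfLocal.rd k).obj ((DerivedCategory.singleFunctor X.Modules 0).obj (Coh.structureModule X)) ≅
      (DerivedCategory.singleFunctor W.Modules 0).obj (Coh.structureModule W) :=
    (PerfLocal.rd k).mapIso ((DerivedCategory.singleFunctorIsoCompQ X.Modules 0).app _) ≪≫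
      (Scheme.Modules.restrictFunctor k).mapDerivedCategoryFactors.app _ ≪≫
      DerivedCategory.Q.mapIso ((singleMapHomologicalComplex (Scheme.Modules.restrictFunctor k) (ComplexShape.up ℤ) 0).app _ ≪≫
        (single W.Modules (ComplexShape.up ℤ) 0).mapIso (Scheme.Modules.restrictUnitIso k)) ≪≫
      ((DerivedCategory.singleFunctorIsoCompQ W.Modules 0).app _).symm
  exact PCTriangle.perfect_iso (r.app _ ≪≫ (DCoh.RSheafHom _).mapIso eO ≪≫ c.symm.app _).symm (dualizable_bounded E hE hfree)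

/-- `M ⊗ K^∨ = RHom(K, M)`. -/
theorem nonempty_tensor_dual (K : CochainComplex X.Modules ℤ) (hK : IsKFlatFor (shT X) K)
    (hKp : DCoh.IsPerfect (DerivedCategory.Q.obj K)) [DCoh.HasLTensorCx K] [DCoh.HasRSheafHom K]
    (D : CochainComplex X.Modules ℤ) (hD : IsKFlatFor (shT X) D)
    (eD : DerivedCategory.Q.obj D ≅
      (DCoh.RSheafHom K).obj ((DerivedCategory.singleFunctor X.Modules 0).obj (Coh.structureModule X)))
    [DCoh.HasLTensorCx D] (M : DCoh.D X) : Nonempty ((DCoh.LTensorCx D).obj M ≅ (DCoh.RSheafHom K).obj M) := by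
  obtain ⟨A, hA, ⟨eM⟩⟩ := PullPerf.exists_kflat_rep M
  let O := (DerivedCategory.singleFunctor X.Modules 0).obj (Coh.structureModule X)
  haveI := RHomEval.isIso_Phi hA hK hKp O
  obtain ⟨u⟩ := RHomLeft.nonempty_flip_single (DCoh.tensorCx (X := X)) rfl
  let eO : (RHomEval.leftT hA).obj O ≅ M :=
    (RHomEval.leftT hA).mapIso ((DerivedCategory.singleFunctorIsoCompQ X.Modules 0).app _) ≪≫
      (RHomEval.leftTIso hA).app _ ≪≫ DerivedCategory.Q.mapIso (u.app A) ≪≫ eM
  let c₁ : (DCoh.LTensorCx D).obj M ≅ (RHomEval.leftT hA).obj (DerivedCategory.Q.obj D) :=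
    (DCoh.LTensorCx D).mapIso eM.symm ≪≫ LTensorSheaf.ltensorCxIso' hD A ≪≫ ((RHomEval.leftTIso hA).app D).symm
  exact ⟨c₁ ≪≫ (RHomEval.leftT hA).mapIso eD ≪≫ asIso (RHomEval.Phi hA hK O) ≪≫ (DCoh.RSheafHom K).mapIso eO⟩

end Groth.Agent.DCat.RHomDual
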