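import Groth.Agent.DCat.RHomSeq
import Groth.Agent.DCat.RHomExist
import Groth.Agent.DCat.TensorCongr
import Groth.Agent.DCat.PullTensor
import Groth.Agent.DCat.TotKFlat
import Groth.Agent.DCat.PullPerf
import Groth.Agent.SiteTen.TotSingle
import Groth.Agent.DQCoh.Local
import Groth.Agent.Coherent.QcohOps

/-!
# `RHom` in the first variable: unit, shifts, finite complexes of free modules
-/

set_option autoImplicit false
set_option backward.isDefEq.respectTransparency false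
set_option backward.defeqAttrib.useBackward true
set_option linter.style.haveILetI false
set_option linter.unusedVariables false

universe u

open CategoryTheory CategoryTheory.Limits CategoryTheory.Pretriangulated DerivedCategory Opposite AlgebraicGeometry
open HomologicalComplex Groth.Agent.Coherent Groth.Agent.DQCoh Groth.Agent.SiteTen

attribute [local instance] HasDerivedCategory.standard
attribute [-instance] Int.instConditionallyCompleteLinearOrder

namespace Groth.Agent.DCat.RHomLeft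

variable {X : Scheme.{u}}

/-- The right unitor. -/
noncomputable def rightUnitIso (X : Scheme.{u}) : (shT X).flip.obj (Coh.structureModule X) ≅ 𝟭 X.Modules :=
  NatIso.ofComponents (fun M => AmpleLib.tensorComm M (Coh.structureModule X) ≪≫ AmpleLib.unitTensorIso M)
    fun {M N} φ => AmpleLib.hom_ext fun U a b => by
      show (AmpleLib.unitTensorIso N).hom.app U ((AmpleLib.tensorSwap N (Coh.structureModule X)).app U
          ((((shT X).map φ).app (Coh.structureModule X)).app U (AmpleLib.tmul a b))) =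
        φ.app U ((AmpleLib.unitTensorIso M).hom.app U ((AmpleLib.tensorSwap M (Coh.structureModule X)).app U (AmpleLib.tmul a b)))
      refine (congrArg _ ((congrArg _ (PullTensor.tensorBi_map_tmul φ U a b)).trans (AmpleLib.Bilin.desc_tmul _ _ _ _))).trans ?_
      refine (AmpleLib.Bilin.desc_tmul _ _ _ _).trans (Eq.trans ?_
        (congrArg (φ.app U) ((congrArg _ (AmpleLib.Bilin.desc_tmul _ _ _ _)).trans (AmpleLib.Bilin.desc_tmul _ _ _ _))).symm)
      exact (Scheme.Modules.Hom.app_smul φ _ a).symm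

section Generic

universe v₁ u₁

variable {A : Type u₁} [Category.{v₁} A] [Abelian A] (T : A ⥤ A ⥤ A) [T.Additive] [∀ a, (T.obj a).Additive]
  [∀ (K₁ : CochainComplex A ℤ) (K₂ : CochainComplex A ℤ), CochainComplex.HasMapBifunctor K₁ K₂ T]

theorem flip_single_generic (M : A) (e : T.flip.obj M ≅ 𝟭 A) (Φ : CochainComplex A ℤ ⥤ CochainComplex A ℤ ⥤ CochainComplex A ℤ)
    (hΦ : Φ = T.map₂CochainComplex) :
    Nonempty (Φ.flip.obj ((single A (ComplexShape.up ℤ) 0).obj M) ≅ 𝟭 _) := by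
  subst hΦ
  exact ⟨(NatIso.ofComponents (fun F => asIso (totSingle T M F))
      fun {F G} f => totSingle_natural T M f).symm ≪≫
    NatIso.mapHomologicalComplex e (ComplexShape.up ℤ) ≪≫ Functor.mapHomologicalComplexIdIso _ _⟩

theorem flip_shift_generic (Φ : CochainComplex A ℤ ⥤ CochainComplex A ℤ ⥤ CochainComplex A ℤ)
    (hΦ : Φ = T.map₂CochainComplex) (E : CochainComplex A ℤ) (k : ℤ) :
    Nonempty (Φ.flip.obj (E⟦k⟧) ≅ Φ.flip.obj E ⋙ shiftFunctor _ k) := by
  subst hΦ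
  refine ⟨NatIso.ofComponents (fun F => CochainComplex.mapBifunctorShift₂Iso F E T k) fun {F G} f => ?_⟩
  refine HomologicalComplex.hom_ext _ _ fun n => mapBifunctor.hom_ext fun p q h => ?_
  simp [CochainComplex.ι_mapBifunctorShift₂Iso_hom_f _ _ _ _ _ _ _ h (q + k) (n + k) rfl rfl,
    CochainComplex.ι_mapBifunctorShift₂Iso_hom_f_assoc _ _ _ _ _ _ _ h (q + k) (n + k) rfl rfl]

end Generic

/-- `A ⊗ O[0] = A`, naturally. -/
theorem nonempty_flip_single (Φ : CochainComplex X.Modules ℤ ⥤ CochainComplex X.Modules ℤ ⥤ CochainComplex X.Modules ℤ)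
    (hΦ : Φ = (shT X).map₂CochainComplex) :
    Nonempty (Φ.flip.obj ((single X.Modules (ComplexShape.up ℤ) 0).obj (Coh.structureModule X)) ≅ 𝟭 _) :=
  flip_single_generic (shT X) (Coh.structureModule X) (rightUnitIso X) Φ hΦ

/-- `A ⊗ E[k] = (A ⊗ E)[k]`, naturally. -/
theorem nonempty_flip_shift (Φ : CochainComplex X.Modules ℤ ⥤ CochainComplex X.Modules ℤ ⥤ CochainComplex X.Modules ℤ)
    (hΦ : Φ = (shT X).map₂CochainComplex) (E : CochainComplex X.Modules ℤ) (k : ℤ) :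
    Nonempty (Φ.flip.obj (E⟦k⟧) ≅ Φ.flip.obj E ⋙ shiftFunctor _ k) :=
  flip_shift_generic (shT X) Φ hΦ E k

theorem isKFlatFor_structure (X : Scheme.{u}) :
    IsKFlatFor (shT X) ((single X.Modules (ComplexShape.up ℤ) 0).obj (Coh.structureModule X)) :=
  (isKFlatFor_single_top X).of_iso ((single X.Modules (ComplexShape.up ℤ) 0).mapIso (topStructIso X))

/-- `- ⊗^L O = id`. -/
theorem nonempty_LTensor_structure
    [DCoh.HasLTensorCx ((single X.Modules (ComplexShape.up ℤ) 0).obj (Coh.structureModule X))] :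
    Nonempty (DCoh.LTensorCx ((single X.Modules (ComplexShape.up ℤ) 0).obj (Coh.structureModule X)) ≅ 𝟭 (DCoh.D X)) := by
  obtain ⟨e⟩ := nonempty_flip_single (DCoh.tensorCx (X := X)) rfl
  let c : DerivedCategory.Q ⋙ DCoh.LTensorCx ((single X.Modules (ComplexShape.up ℤ) 0).obj (Coh.structureModule X)) ≅
      DerivedCategory.Q ⋙ 𝟭 (DCoh.D X) :=
    TensorCongr.fac (isKFlatFor_structure X) ≪≫ Functor.isoWhiskerRight e DerivedCategory.Q ≪≫
      Functor.leftUnitor _ ≪≫ (Functor.rightUnitor _).symm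
  exact ⟨Localization.liftNatIso DerivedCategory.Q (HomologicalComplex.quasiIso X.Modules (ComplexShape.up ℤ))
    (DerivedCategory.Q ⋙ DCoh.LTensorCx ((single X.Modules (ComplexShape.up ℤ) 0).obj (Coh.structureModule X)))
    (DerivedCategory.Q ⋙ 𝟭 (DCoh.D X)) _ _ c⟩

/-- `RHom(O, L) = L`. -/
theorem nonempty_RHom_structure
    [DCoh.HasLTensorCx ((single X.Modules (ComplexShape.up ℤ) 0).obj (Coh.structureModule X))]
    [DCoh.HasRSheafHom ((single X.Modules (ComplexShape.up ℤ) 0).obj (Coh.structureModule X))] :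
    Nonempty (DCoh.RSheafHom ((single X.Modules (ComplexShape.up ℤ) 0).obj (Coh.structureModule X)) ≅ 𝟭 (DCoh.D X)) := by
  obtain ⟨e⟩ := nonempty_LTensor_structure (X := X)
  exact ⟨((DCoh.RSheafHomAdj _).ofNatIsoLeft e).rightAdjointUniq Adjunction.id⟩

/-- `- ⊗^L E[k] = (- ⊗^L E)[k]`. -/
theorem nonempty_LTensor_shift (E : CochainComplex X.Modules ℤ) (hE : IsKFlatFor (shT X) E) (k : ℤ)
    [DCoh.HasLTensorCx E] [DCoh.HasLTensorCx (E⟦k⟧)] :
    Nonempty (DCoh.LTensorCx (E⟦k⟧) ≅ DCoh.LTensorCx E ⋙ shiftFunctor (DCoh.D X) k) := by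
  obtain ⟨e⟩ := nonempty_flip_shift (DCoh.tensorCx (X := X)) rfl E k
  let c : DerivedCategory.Q ⋙ DCoh.LTensorCx (E⟦k⟧) ≅ DerivedCategory.Q ⋙ DCoh.LTensorCx E ⋙ shiftFunctor (DCoh.D X) k :=
    TensorCongr.fac (hE.shift k) ≪≫ Functor.isoWhiskerRight e DerivedCategory.Q ≪≫ Functor.associator _ _ _ ≪≫
      Functor.isoWhiskerLeft _ (DerivedCategory.Q.commShiftIso k) ≪≫ (Functor.associator _ _ _).symm ≪≫
      Functor.isoWhiskerRight (TensorCongr.fac hE).symm _ ≪≫ Functor.associator _ _ _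
  exact ⟨Localization.liftNatIso DerivedCategory.Q (HomologicalComplex.quasiIso X.Modules (ComplexShape.up ℤ))
    (DerivedCategory.Q ⋙ DCoh.LTensorCx (E⟦k⟧))
    (DerivedCategory.Q ⋙ DCoh.LTensorCx E ⋙ shiftFunctor (DCoh.D X) k) _ _ c⟩

/-- `RHom(E[k], L) = RHom(E, L[-k])`. -/
theorem nonempty_RHom_shift (E : CochainComplex X.Modules ℤ) (hE : IsKFlatFor (shT X) E) (k : ℤ)
    [DCoh.HasLTensorCx E] [DCoh.HasLTensorCx (E⟦k⟧)] [DCoh.HasRSheafHom E] [DCoh.HasRSheafHom (E⟦k⟧)] :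
    Nonempty (DCoh.RSheafHom (E⟦k⟧) ≅ shiftFunctor (DCoh.D X) (-k) ⋙ DCoh.RSheafHom E) := by
  obtain ⟨e⟩ := nonempty_LTensor_shift E hE k
  exact ⟨((DCoh.RSheafHomAdj _).ofNatIsoLeft e).rightAdjointUniq
    ((DCoh.RSheafHomAdj E).comp (shiftEquiv' (DCoh.D X) k (-k) (by omega)).toAdjunction)⟩

/-- `f₀ → ∐ f → ∐ f ∘ succ`. -/
noncomputable def sigmaSeq {n : ℕ} (f : Fin (n + 1) → X.Modules) : ShortComplex X.Modules :=
  ShortComplex.mk (Sigma.ι f 0)
    (Sigma.desc (Fin.cases (0 : f 0 ⟶ ∐ fun i : Fin n => f i.succ) fun i => Sigma.ι (fun i : Fin n => f i.succ) i))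
    (Sigma.ι_desc _ _)

/-- `sigmaSeq` splits. -/
noncomputable def sigmaSplit {n : ℕ} (f : Fin (n + 1) → X.Modules) : (sigmaSeq f).Splitting :=
  let g : Fin n → X.Modules := fun i => f i.succ
  let p : ∐ f ⟶ ∐ g := Sigma.desc (Fin.cases (0 : f 0 ⟶ ∐ g) fun i => Sigma.ι g i)
  let r : ∐ f ⟶ f 0 := Sigma.desc (Fin.cases (𝟙 (f 0)) fun i => (0 : f i.succ ⟶ f 0))
  { r := r
    s := Sigma.desc fun i => Sigma.ι f i.succ
    f_r := Sigma.ι_desc _ _
    s_g := Sigma.hom_ext _ _ fun i => by simp [sigmaSeq]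
    id := Sigma.hom_ext _ _ fun i => by
      induction i using Fin.cases <;> simp [sigmaSeq, r] }

/-- `RHom(E, -)` keeps the property `P` of the cohomology. -/
def Keeps (P : ObjectProperty X.Modules) (E : CochainComplex X.Modules ℤ) : Prop :=
  IsKFlatFor (shT X) E ∧ ∀ (_ : DCoh.HasLTensorCx E) (_ : DCoh.HasRSheafHom E) (L : DCoh.D X),
    (∀ i, P (DCoh.HD L i)) → ∀ i, P (DCoh.HD ((DCoh.RSheafHom E).obj L) i)

variable {P : ObjectProperty X.Modules} [P.IsClosedUnderIsomorphisms]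

theorem keeps_of_iso {E E' : CochainComplex X.Modules ℤ} (e : E ≅ E') (h : Keeps P E) : Keeps P E' := by
  refine ⟨h.1.of_iso e, fun i₁ i₂ L hL i => ?_⟩
  haveI := LTensorSheaf.hasLTensorCx E
  haveI := RHomExist.hasRSheafHom E
  haveI := i₁
  haveI := i₂
  obtain ⟨a⟩ := TensorCongr.nonempty_congr_rhom (E := E) (E' := E') (DerivedCategory.Q.mapIso e)
  exact P.prop_of_iso ((homologyFunctor X.Modules i).mapIso (a.app L)) (h.2 _ _ L hL i)

theorem prop_shift {L : DCoh.D X} (hL : ∀ i, P (DCoh.HD L i)) (k i : ℤ) : P (DCoh.HD (L⟦k⟧) i) :=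
  P.prop_of_iso (((homologyFunctor X.Modules 0).shiftIso k i (k + i) rfl).app L).symm (hL _)

omit [P.IsClosedUnderIsomorphisms] in
theorem keeps_of_isZero (hP0 : ∀ M, IsZero M → P M) {E : CochainComplex X.Modules ℤ} (hE : IsZero E) : Keeps P E := by
  have hk : IsKFlatFor (shT X) E := isKFlatFor_of_isZero hE
  refine ⟨hk, fun i₁ i₂ L hL i => hP0 _ ((homologyFunctor X.Modules i).map_isZero ?_)⟩
  haveI := i₁
  haveI := i₂
  let Y := (DCoh.RSheafHom E).obj L
  let A := DerivedCategory.Q.objPreimage Y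
  have hz : IsZero ((DCoh.LTensorCx E).obj Y) :=
    (DerivedCategory.Q.map_isZero (((shT X).map₂CochainComplex.obj A).map_isZero hE)).of_iso
      ((DCoh.LTensorCx E).mapIso (DerivedCategory.Q.objObjPreimageIso Y).symm ≪≫ LTensorSheaf.ltensorCxIso' hk A)
  exact (IsZero.iff_id_eq_zero _).2 (((DCoh.RSheafHomAdj E).homEquiv Y L).symm.injective (hz.eq_of_src _ _))

theorem keeps_shift {E : CochainComplex X.Modules ℤ} (h : Keeps P E) (k : ℤ) : Keeps P (E⟦k⟧) := by
  refine ⟨h.1.shift k, fun i₁ i₂ L hL i => ?_⟩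
  haveI := LTensorSheaf.hasLTensorCx E
  haveI := RHomExist.hasRSheafHom E
  haveI := i₁
  haveI := i₂
  obtain ⟨e⟩ := nonempty_RHom_shift E h.1 k
  exact P.prop_of_iso ((homologyFunctor X.Modules i).mapIso (e.app L)).symm
    (h.2 _ _ _ (fun j => prop_shift hL (-k) j) i)

theorem keeps_structure (n : ℤ) :
    Keeps P ((single X.Modules (ComplexShape.up ℤ) n).obj (Coh.structureModule X)) := by
  refine keeps_of_iso (((CochainComplex.singleFunctors X.Modules).shiftIso (-n) n 0 (by omega)).app _)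
    (keeps_shift ⟨isKFlatFor_structure X, fun i₁ i₂ L hL i => ?_⟩ (-n))
  haveI := i₁
  haveI := i₂
  obtain ⟨e⟩ := nonempty_RHom_structure (X := X)
  exact P.prop_of_iso ((homologyFunctor X.Modules i).mapIso (e.app L)).symm (hL i)

variable (hP0 : ∀ M, IsZero M → P M) (hk : ∀ {M N : X.Modules} (φ : M ⟶ N), P M → P N → P (kernel φ))
  (hc : ∀ {M N : X.Modules} (φ : M ⟶ N), P M → P N → P (cokernel φ))
  (he : ∀ {T : ShortComplex X.Modules}, T.ShortExact → P T.X₁ → P T.X₃ → P T.X₂)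

include hk hc he in
theorem keeps_ext (S : ShortComplex (CochainComplex X.Modules ℤ))
    (hS : ∀ n, Nonempty ((S.map (HomologicalComplex.eval X.Modules (ComplexShape.up ℤ) n)).Splitting))
    (h₁ : Keeps P S.X₁) (h₃ : Keeps P S.X₃) : Keeps P S.X₂ := by
  have h₂ : IsKFlatFor (shT X) S.X₂ :=
    IsKFlatFor.ext₂ (fun a q => ((hS q).some.map ((shT X).obj a)).shortExact) h₁.1 h₃.1
  refine ⟨h₂, fun i₁ i₂ L hL i => ?_⟩
  haveI := i₁
  haveI := i₂
  haveI := LTensorSheaf.hasLTensorCx S.X₁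
  haveI := RHomExist.hasRSheafHom S.X₁
  haveI := LTensorSheaf.hasLTensorCx S.X₃
  haveI := RHomExist.hasRSheafHom S.X₃
  let eL : (L⟦(-1 : ℤ)⟧)⟦(1 : ℤ)⟧ ≅ L := (shiftFunctorCompIsoId (DCoh.D X) (-1) 1 (by omega)).app L
  have hL' : ∀ j, P (DCoh.HD (L⟦(-1 : ℤ)⟧) j) := fun j => prop_shift hL _ j
  have hL'' : ∀ j, P (DCoh.HD ((L⟦(-1 : ℤ)⟧)⟦(1 : ℤ)⟧) j) := fun j => prop_shift hL' _ j
  exact P.prop_of_iso ((homologyFunctor X.Modules i).mapIso ((DCoh.RSheafHom S.X₂).mapIso eL))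
    (RHomSeq.middle_rhom S hS h₁.1 h₂ h₃.1 P hk hc he _ i (h₁.2 _ _ _ hL' i) (h₁.2 _ _ _ hL'' i)
      (h₃.2 _ _ _ hL'' i) (h₃.2 _ _ _ (fun j => prop_shift hL'' _ j) i))

include hP0 hk hc he in
theorem keeps_free (n : ℕ) (m : ℤ) :
    Keeps P ((single X.Modules (ComplexShape.up ℤ) m).obj (FlatMod.freeMod X n)) := by
  induction n with
  | zero => exact keeps_of_isZero hP0 ((single _ _ m).map_isZero
      ((IsZero.iff_id_eq_zero _).2 (Sigma.hom_ext _ _ fun i => i.elim0)))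
  | succ n ih =>
    let T := sigmaSeq (fun _ : Fin (n + 1) => Coh.structureModule X)
    let sp : T.Splitting := sigmaSplit (fun _ : Fin (n + 1) => Coh.structureModule X)
    exact keeps_ext hk hc he (T.map (single X.Modules (ComplexShape.up ℤ) m))
      (fun q => ⟨sp.map (single X.Modules (ComplexShape.up ℤ) m ⋙ HomologicalComplex.eval _ _ q)⟩)
      (keeps_structure m) ih

include hP0 hk hc he in
/-- Bounded complexes of free modules keep such a property. -/
theorem keeps_bounded (E : CochainComplex X.Modules ℤ) {a b : ℤ} (hE : DCoh.VanishesOutside E a b)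
    (hfree : ∀ i, ∃ n, Nonempty (E.X i ≅ FlatMod.freeMod X n)) : Keeps P E := by
  refine DCat.bounded_induction (Keeps P) (fun M => ∃ n, Nonempty (M ≅ FlatMod.freeMod X n))
    (fun K hK => keeps_of_isZero hP0 hK) (fun M hM => ⟨0, ⟨hM.iso ((IsZero.iff_id_eq_zero _).2
      (Sigma.hom_ext _ _ fun i => i.elim0))⟩⟩) (fun M N e ⟨n, ⟨f⟩⟩ => ⟨n, ⟨e.symm ≪≫ f⟩⟩)
    (fun m M ⟨n, ⟨f⟩⟩ => keeps_of_iso ((single _ _ m).mapIso f.symm) (keeps_free hP0 hk hc he n m))
    (fun S hS h₁ h₃ => keeps_ext hk hc he S hS h₁ h₃) a (b + 1 - a).toNat E (fun n hn => hE n (Or.inl hn))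
    (fun n hn => hE n (Or.inr (by omega))) hfree

end Groth.Agent.DCat.RHomLeft
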