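import Groth.Agent.DCat.ProjPerf

/-! The derived projection formula for perfect complexes: the main statement. -/

set_option autoImplicit false
set_option backward.isDefEq.respectTransparency false
set_option backward.defeqAttrib.useBackward true
set_option linter.style.haveILetI false

universe u

open CategoryTheory CategoryTheory.Limits AlgebraicGeometry Opposite TopologicalSpace HomologicalComplex
open Groth.Agent.ModStalk

attribute [local instance] HasDerivedCategory.standard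

namespace Groth.Agent.DCat.ProjPerf

variable {X Y : Scheme.{u}}

/-- A complex free in finitely many degrees near a point. -/
theorem exists_open_free (E : CochainComplex Y.Modules ℤ) (hE : ∀ i, FlatMod.IsFinLocFree (E.X i)) (y : Y) (a : ℤ) :
    ∀ m : ℕ, ∃ W : Y.Opens, y ∈ W ∧ ∀ i, a ≤ i → i < a + (m : ℤ) →
      ∃ n, Nonempty ((Scheme.Modules.restrictFunctor W.ι).obj (E.X i) ≅ FlatMod.freeMod W n)
  | 0 => ⟨⊤, trivial, fun i h₁ h₂ => absurd h₂ (by push_cast; omega)⟩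
  | m + 1 => by
    obtain ⟨W, hy, hW⟩ := exists_open_free E hE y a m
    obtain ⟨U, r, hyU, ⟨e⟩⟩ := hE (a + m) y
    refine ⟨W ⊓ U, ⟨hy, hyU⟩, fun i h₁ h₂ => ?_⟩
    by_cases h : i < a + (m : ℤ)
    · obtain ⟨n, ⟨g⟩⟩ := hW i h₁ h
      obtain ⟨g'⟩ := PerfTensor.free_of_le (inf_le_left : W ⊓ U ≤ W) g
      exact ⟨n, ⟨(Scheme.Modules.restrictFunctorIsoPullback _).app _ ≪≫ g'⟩⟩
    · obtain rfl : i = a + m := by push_cast at h₂; omega
      obtain ⟨g'⟩ := PerfTensor.free_of_le (inf_le_right : W ⊓ U ≤ U) e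
      exact ⟨r, ⟨(Scheme.Modules.restrictFunctorIsoPullback _).app _ ≪≫ g'⟩⟩

/-- A perfect object is, near every point, a bounded complex of free modules. -/
theorem exists_free_nhd {K : DCoh.D Y} (hK : DCoh.IsPerfect K) (y : Y) :
    ∃ (V : Y.Opens) (E : CochainComplex (V : Scheme.{u}).Modules ℤ) (a : ℤ) (m : ℕ), y ∈ V ∧
      (∀ n, n < a → IsZero (E.X n)) ∧ (∀ n, a + (m : ℤ) ≤ n → IsZero (E.X n)) ∧
      (∀ i, ∃ n, Nonempty (E.X i ≅ FlatMod.freeMod V n)) ∧
      Nonempty ((PerfLocal.rd V.ι).obj K ≅ DerivedCategory.Q.obj E) := by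
  obtain ⟨V₀, hy₀, h₀⟩ := hK y
  obtain ⟨E₀, ⟨⟨a, b, hab⟩, hf⟩, ⟨e₀⟩⟩ := h₀ _ ⟨DerivedCategory.Q.objObjPreimageIso K⟩
  let a₀ : (PerfLocal.rd V₀.ι).obj K ≅ DerivedCategory.Q.obj E₀ :=
    (PerfLocal.rd V₀.ι).mapIso (DerivedCategory.Q.objObjPreimageIso K).symm ≪≫
      (Scheme.Modules.restrictFunctor V₀.ι).mapDerivedCategoryFactors.app _ ≪≫ e₀
  obtain ⟨W, hyW, hW⟩ := exists_open_free E₀ hf ⟨y, hy₀⟩ a (b + 1 - a).toNat
  have hall : ∀ i, ∃ n, Nonempty ((Scheme.Modules.restrictFunctor W.ι).obj (E₀.X i) ≅ FlatMod.freeMod W n) := by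
    intro i
    by_cases hi : a ≤ i ∧ i ≤ b
    · exact hW i hi.1 (by omega)
    · exact ⟨0, ⟨((Scheme.Modules.restrictFunctor W.ι).map_isZero (hab i (by omega))).iso isZero_freeMod_zero⟩⟩
  let k : (W : Scheme.{u}) ⟶ Y := W.ι ≫ V₀.ι
  let j : (k.opensRange : Scheme.{u}) ⟶ W := k.isoOpensRange.inv
  have hj : j ≫ k = k.opensRange.ι := k.isoOpensRange_inv_comp
  let E := ((Scheme.Modules.restrictFunctor j).mapHomologicalComplex (ComplexShape.up ℤ)).obj
    (((Scheme.Modules.restrictFunctor W.ι).mapHomologicalComplex (ComplexShape.up ℤ)).obj E₀)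
  obtain ⟨c₁⟩ := PerfLocal.rd_comp W.ι V₀.ι K
  obtain ⟨c₂⟩ := PerfLocal.rd_comp j k K
  have c₃ : (PerfLocal.rd (j ≫ k)).obj K ≅ (PerfLocal.rd k.opensRange.ι).obj K := by
    let F := DerivedCategory.Q.objPreimage K
    exact (PerfLocal.rd (j ≫ k)).mapIso (DerivedCategory.Q.objObjPreimageIso K).symm ≪≫
      (Scheme.Modules.restrictFunctor (j ≫ k)).mapDerivedCategoryFactors.app F ≪≫
      DerivedCategory.Q.mapIso ((NatIso.mapHomologicalComplex (Scheme.Modules.restrictFunctorCongr hj)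
        (ComplexShape.up ℤ)).app F) ≪≫
      ((Scheme.Modules.restrictFunctor k.opensRange.ι).mapDerivedCategoryFactors.app F).symm ≪≫
      (PerfLocal.rd k.opensRange.ι).mapIso (DerivedCategory.Q.objObjPreimageIso K)
  refine ⟨k.opensRange, E, a, (b + 1 - a).toNat, ⟨⟨⟨y, hy₀⟩, hyW⟩, rfl⟩, fun n hn => ?_, fun n hn => ?_,
    fun i => ?_, ⟨c₃.symm ≪≫ c₂ ≪≫ (PerfLocal.rd j).mapIso (c₁ ≪≫ (PerfLocal.rd W.ι).mapIso a₀ ≪≫
      (Scheme.Modules.restrictFunctor W.ι).mapDerivedCategoryFactors.app E₀) ≪≫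
      (Scheme.Modules.restrictFunctor j).mapDerivedCategoryFactors.app _⟩⟩
  · exact (Scheme.Modules.restrictFunctor j).map_isZero
      ((Scheme.Modules.restrictFunctor W.ι).map_isZero (hab n (by omega)))
  · exact (Scheme.Modules.restrictFunctor j).map_isZero
      ((Scheme.Modules.restrictFunctor W.ι).map_isZero (hab n (by omega)))
  · obtain ⟨n, ⟨g⟩⟩ := hall i
    obtain ⟨g'⟩ := nonempty_restrict_free (Y := (W : Scheme.{u})) _ j n
    exact ⟨n, ⟨(Scheme.Modules.restrictFunctor j).mapIso g ≪≫ g'⟩⟩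

variable (f : X ⟶ Y) [DCoh.HasRpush f]

/-- The projection map of a perfect complex is invertible. -/
theorem isIso_eta (I : CochainComplex X.Modules ℤ) [I.IsKInjective] {P : CochainComplex Y.Modules ℤ}
    (hP : IsKFlatFor (shT Y) P) (hp : DCoh.IsPerfect (DerivedCategory.Q.obj P)) : IsIso (eta f I P) := by
  refine isIso_of_locally _ fun y => ?_
  obtain ⟨V, E, a, m, hyV, h₁, h₂, hfree, ⟨e⟩⟩ := exists_free_nhd hp y
  refine ⟨V, hyV, ?_⟩
  let R := Scheme.Modules.restrictFunctor V.ι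
  obtain ⟨Z, s, hs, t, ht⟩ := DerivedCategory.right_fac
    (e.inv ≫ R.mapDerivedCategoryFactors.hom.app P)
  obtain ⟨N, c, hN, -, hc, -⟩ := exists_kflat_sheaf Z
  haveI := hc
  haveI := hs
  haveI : QuasiIso s := (DerivedCategory.isIso_Q_map_iff_quasiIso _ s).1 hs
  haveI : IsIso (DerivedCategory.Q.map t) := by
    haveI : IsIso (inv (DerivedCategory.Q.map s) ≫ DerivedCategory.Q.map t) := ht ▸ inferInstance
    exact IsIso.of_isIso_comp_left (inv (DerivedCategory.Q.map s)) _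
  haveI : QuasiIso t := (DerivedCategory.isIso_Q_map_iff_quasiIso _ t).1 ‹_›
  let J := (JShriek.shriek V.ι).mapHomologicalComplex (ComplexShape.up ℤ)
  let a' := DCat.adjCx (ComplexShape.up ℤ) (JShriek.shriekAdj V.ι)
  haveI hu : ∀ (A : CochainComplex (V : Scheme.{u}).Modules ℤ), IsIso (a'.unit.app A) := fun A => by
    haveI : ∀ n, IsIso ((a'.unit.app A).f n) := fun n =>
      inferInstanceAs (IsIso ((JShriek.shriekAdj V.ι).unit.app (A.X n)))
    exact Hom.isIso_of_components _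
  let g₁ : J.obj N ⟶ J.obj E := J.map (c ≫ s)
  let g₂ : J.obj N ⟶ P := (a'.homEquiv N P).symm (c ≫ t)
  haveI q₁ : QuasiIso ((restrC V.ι).map g₁) := by
    refine (quasiIso_iff_comp_left (a'.unit.app N) _).1 ?_
    have e₁ := a'.unit.naturality (c ≫ s)
    simp only [Functor.id_map, Functor.comp_map] at e₁
    exact e₁ ▸ inferInstance
  haveI q₂ : QuasiIso ((restrC V.ι).map g₂) := by
    refine (quasiIso_iff_comp_left (a'.unit.app N) _).1 ?_
    have e₂ : a'.unit.app N ≫ (restrC V.ι).map g₂ = c ≫ t :=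
      (a'.homEquiv_unit (f := g₂)).symm.trans ((a'.homEquiv _ _).apply_symm_apply _)
    exact e₂ ▸ inferInstance
  have kN : IsKFlatFor (shT (V : Scheme.{u})) ((restrC V.ι).obj (J.obj N)) := IsKFlatFor.of_iso (asIso (a'.unit.app N)) hN
  have kE' : IsKFlatFor (shT (V : Scheme.{u})) E := PullPerf.isKFlatFor_of_strictlyPerfect
    ⟨⟨a, a + (m : ℤ) - 1, fun i hi => hi.elim (h₁ i) fun hi => h₂ i (by omega)⟩, fun i => by
      obtain ⟨n, ⟨g⟩⟩ := hfree i
      exact PerfTensor.isFinLocFree_of_iso g.symm (isFinLocFree_freeMod n)⟩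
  have kE : IsKFlatFor (shT (V : Scheme.{u})) ((restrC V.ι).obj (J.obj E)) :=
    IsKFlatFor.of_iso (asIso (a'.unit.app E)) kE'
  rw [← isIso_rd_eta_iff f V I g₂ kN (PullPerf.isKFlatFor_restrict V hP), isIso_rd_eta_iff f V I g₁ kN kE]
  refine isIso_rd_eta_free f V I (J.obj E) a m (fun n hn => (JShriek.shriek V.ι).map_isZero (h₁ n hn))
    (fun n hn => (JShriek.shriek V.ι).map_isZero (h₂ n hn)) fun i => ?_
  obtain ⟨n, ⟨g⟩⟩ := hfree i
  exact ⟨n, ⟨(asIso ((JShriek.shriekAdj V.ι).unit.app (E.X i))).symm ≪≫ g⟩⟩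

/-- `Rf_* E ⊗^L P ≅ Rf_*(E ⊗^L f^* P)` for perfect `P`. -/
theorem nonempty_projection (P : CochainComplex Y.Modules ℤ) (hP : IsKFlatFor (shT Y) P)
    (hp : DCoh.IsPerfect (DerivedCategory.Q.obj P)) [DCoh.HasLTensorCx P]
    [DCoh.HasLTensorCx ((pullC f).obj P)] (E : DCoh.D X) :
    Nonempty ((DCoh.LTensorCx P).obj ((DCoh.Rpush f).obj E) ≅
      (DCoh.Rpush f).obj ((DCoh.LTensorCx ((pullC f).obj P)).obj E)) := by
  obtain ⟨I, s, hI, hs⟩ := modules_enoughKInj X (DerivedCategory.Q.objPreimage E)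
  haveI := hI
  haveI : IsIso (DerivedCategory.Q.map s) := (DerivedCategory.isIso_Q_map_iff_quasiIso _ s).2 hs
  let eI : DerivedCategory.Q.obj I ≅ E := (asIso (DerivedCategory.Q.map s)).symm ≪≫ DerivedCategory.Q.objObjPreimageIso E
  haveI := isIso_eta f I hP hp
  haveI := isIso_unitD f I
  let e₁ : DerivedCategory.Q.obj ((pushC f).obj I) ≅ (DCoh.Rpush f).obj (DerivedCategory.Q.obj I) := asIso ((unitD f).app I)
  exact ⟨(DCoh.LTensorCx P).mapIso ((DCoh.Rpush f).mapIso eI.symm ≪≫ e₁.symm) ≪≫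
    LTensorSheaf.ltensorCxIso' hP _ ≪≫ asIso (eta f I P) ≪≫
    (DCoh.Rpush f).mapIso ((LTensorSheaf.ltensorCxIso' (PullTot.isKFlatFor_pullback f hP) I).symm ≪≫
      (DCoh.LTensorCx _).mapIso eI)⟩

end Groth.Agent.DCat.ProjPerf
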