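import Groth.Agent.DCat.Derived
import Mathlib.CategoryTheory.Functor.KanExtension.Basic

/-! Right derived functors and precomposition with a quotient functor. -/

set_option autoImplicit false
set_option backward.isDefEq.respectTransparency false
set_option backward.defeqAttrib.useBackward true
set_option linter.style.haveILetI false

universe v₀ v v' v'' u₀ u u' u''

open CategoryTheory CategoryTheory.Limits

namespace Groth.Agent.DCat

variable {C₀ : Type u₀} [Category.{v₀} C₀] {C : Type u} [Category.{v} C] {D : Type u'} [Category.{v'} D]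
  {H : Type u''} [Category.{v''} H] (q : C₀ ⥤ C) [((Functor.whiskeringLeft C₀ C H).obj q).Full]
  [((Functor.whiskeringLeft C₀ C H).obj q).Faithful]
  {L : C ⥤ D} {F : C ⥤ H} {L₀ : C₀ ⥤ D} (eL : q ⋙ L ≅ L₀) {F₀ : C₀ ⥤ H} (eF : q ⋙ F ≅ F₀)
  (W₀ : MorphismProperty C₀) [L₀.IsLocalization W₀] {W : MorphismProperty C} [L.IsLocalization W]

/-- A right derived functor on `C` gives a derived functor on `C₀`. -/
theorem isRightDerived_precomp {RF : D ⥤ H} (α : F ⟶ L ⋙ RF) [RF.IsRightDerivedFunctor α W] :
    RF.IsRightDerivedFunctor
      (eF.inv ≫ Functor.whiskerLeft q α ≫ (Functor.associator _ _ _).inv ≫ Functor.whiskerRight eL.hom RF) W₀ := by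
  haveI : RF.IsLeftKanExtension α := Functor.IsRightDerivedFunctor.isLeftKanExtension RF α W
  refine ⟨⟨⟨Limits.IsInitial.ofUniqueHom (fun G => ?_) (fun G m => ?_)⟩⟩⟩
  · exact StructuredArrow.homMk (RF.descOfIsLeftKanExtension α G.right
      (((Functor.whiskeringLeft C₀ C H).obj q).preimage (eF.hom ≫ G.hom ≫
        Functor.whiskerRight eL.inv G.right ≫ (Functor.associator q L G.right).hom))) (by
      ext X
      have h₁ := Functor.descOfIsLeftKanExtension_fac_app RF α G.right
        (((Functor.whiskeringLeft C₀ C H).obj q).preimage (eF.hom ≫ G.hom ≫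
          Functor.whiskerRight eL.inv G.right ≫ (Functor.associator q L G.right).hom)) (q.obj X)
      have h₂ := congrArg (fun t => NatTrans.app t X) (((Functor.whiskeringLeft C₀ C H).obj q).map_preimage
        (eF.hom ≫ G.hom ≫ Functor.whiskerRight eL.inv G.right ≫ (Functor.associator q L G.right).hom))
      dsimp at h₁ h₂ ⊢
      simp only [Category.id_comp, Category.comp_id] at h₂ ⊢
      rw [Category.assoc, Category.assoc, NatTrans.naturality, reassoc_of% h₁, reassoc_of% h₂]
      simp [← G.right.map_comp])
  · apply StructuredArrow.hom_ext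
    apply RF.hom_ext_of_isLeftKanExtension α
    refine Eq.trans ?_ (RF.descOfIsLeftKanExtension_fac α G.right _).symm
    refine ((Functor.whiskeringLeft C₀ C H).obj q).map_injective ?_
    rw [Functor.map_preimage]
    ext X
    have := congrArg (fun t => NatTrans.app t X) (StructuredArrow.w m)
    dsimp at this ⊢
    simp only [Category.id_comp, Category.comp_id] at this ⊢
    rw [← this, Category.assoc, Category.assoc, Category.assoc, ← NatTrans.naturality]
    simp [← G.right.map_comp]

end Groth.Agent.DCat
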