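import Groth.Agent.DCat.ChainCx
import Groth.Agent.DCat.Acyclic
import Groth.Agent.DCat.DerivedPrecomp
import Groth.Agent.DCat.DerivedPrecompRight
import Mathlib.Algebra.Homology.DerivedCategory.Fractions
import Mathlib.Algebra.Homology.DerivedCategory.ShortExact

/-!
In finite cohomological dimension with enough objects whose only derived functor is the top one, the
right derived functor is the shifted left derived functor of the top one.
-/

set_option autoImplicit false
set_option backward.isDefEq.respectTransparency false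
set_option linter.style.haveILetI false
set_option synthInstance.maxHeartbeats 100000

universe w w' v v' u u'

open CategoryTheory CategoryTheory.Limits CategoryTheory.Pretriangulated HomologicalComplex
open scoped ZeroObject

namespace Groth.Agent.DCat.CohDimShift

variable {A : Type u} [Category.{v} A] [Abelian A] [HasDerivedCategory.{w} A] [EnoughInjectives A]
  {B : Type u'} [Category.{v'} B] [Abelian B] [HasDerivedCategory.{w'} B]

theorem isZero_Q_of_acyclic (K : CochainComplex A ℤ) (h : K.Acyclic) : IsZero (DerivedCategory.Q.obj K) := by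
  haveI : QuasiIso (0 : K ⟶ 0) := (quasiIso_iff _).2 fun i => by
    rw [quasiIsoAt_iff_isIso_homologyMap]
    exact ⟨0, ((exactAt_iff_isZero_homology _ _).1 (h i)).eq_of_src _ _,
      ((homologyFunctor A (ComplexShape.up ℤ) i).map_isZero (isZero_zero _)).eq_of_src _ _⟩
  exact ((DerivedCategory.Q).map_isZero (isZero_zero _)).of_iso (asIso (DerivedCategory.Q.map 0))

omit [EnoughInjectives A] in
/-- Natural isomorphisms on a class of complexes resolving everything extend to the derived category. -/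
theorem nonempty_iso_of_resolving {D : Type*} [Category D] (P : CochainComplex A ℤ → Prop)
    (hP : ∀ K, ∃ (Y : CochainComplex A ℤ) (r : Y ⟶ K), P Y ∧ QuasiIso r)
    (U V : DerivedCategory A ⥤ D)
    (θ : ∀ Y, P Y → (U.obj (DerivedCategory.Q.obj Y) ≅ V.obj (DerivedCategory.Q.obj Y)))
    (hθ : ∀ (Y Y' : CochainComplex A ℤ) (hY : P Y) (hY' : P Y') (f : Y ⟶ Y'),
      U.map (DerivedCategory.Q.map f) ≫ (θ Y' hY').hom = (θ Y hY).hom ≫ V.map (DerivedCategory.Q.map f)) :
    Nonempty (U ≅ V) := by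
  have key : ∀ (Y Y' : CochainComplex A ℤ) (hY : P Y) (hY' : P Y')
      (g : DerivedCategory.Q.obj Y ⟶ DerivedCategory.Q.obj Y'),
      U.map g ≫ (θ Y' hY').hom = (θ Y hY).hom ≫ V.map g := by
    intro Y Y' hY hY' g
    obtain ⟨Z, s, hs, t, ht⟩ := DerivedCategory.right_fac g
    obtain ⟨W, r, hW, hr⟩ := hP Z
    have e : DerivedCategory.Q.map (r ≫ s) ≫ g = DerivedCategory.Q.map (r ≫ t) := by
      rw [Functor.map_comp, Functor.map_comp, ht, Category.assoc, IsIso.hom_inv_id_assoc]
    haveI : IsIso (DerivedCategory.Q.map (r ≫ s)) := by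
      rw [Functor.map_comp]; infer_instance
    rw [← cancel_epi (U.map (DerivedCategory.Q.map (r ≫ s))), ← U.map_comp_assoc, e, hθ W Y' hW hY',
      reassoc_of% hθ W Y hW hY, ← V.map_comp, e]
  have hX : ∀ X : DerivedCategory A, ∃ Y, P Y ∧ Nonempty (DerivedCategory.Q.obj Y ≅ X) := fun X => by
    obtain ⟨Y, r, hY, hr⟩ := hP (DerivedCategory.Q.objPreimage X)
    exact ⟨Y, hY, ⟨asIso (DerivedCategory.Q.map r) ≪≫ DerivedCategory.Q.objObjPreimageIso X⟩⟩
  choose Y hY e using hX
  refine ⟨NatIso.ofComponents (fun X => U.mapIso (e X).some.symm ≪≫ θ _ (hY X) ≪≫ V.mapIso (e X).some) ?_⟩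
  intro X X' f
  have h := key _ _ (hY X) (hY X') ((e X).some.hom ≫ f ≫ (e X').some.inv)
  simp only [Functor.map_comp, Category.assoc] at h
  simp only [Iso.trans_hom, Functor.mapIso_hom, Iso.symm_hom, Category.assoc]
  rw [← cancel_epi (U.map (e X).some.hom), reassoc_of% h, ← U.map_comp_assoc (e X).some.hom (e X).some.inv,
    Iso.hom_inv_id, U.map_id, Category.id_comp, ← V.map_comp (e X').some.inv, Iso.inv_hom_id, V.map_id,
    Category.comp_id]

variable (F : A ⥤ B) [F.Additive] [PreservesFiniteLimits F] (n : ℕ)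

/-- Objects with only the top derived functor. -/
def PObj (X : A) : Prop := ∀ i : ℕ, i ≠ n → IsZero ((F.rightDerived i).obj X)

variable {F n}

omit [PreservesFiniteLimits F] [HasDerivedCategory.{w} A] [HasDerivedCategory.{w'} B] in
theorem pObj_biprod {X Y : A} (hX : PObj F n X) (hY : PObj F n Y) : PObj F n (X ⊞ Y) := fun i hi => by
  haveI := preservesBinaryBiproducts_of_preservesBiproducts (F.rightDerived i)
  exact ((biprod_isZero_iff _ _).2 ⟨hX i hi, hY i hi⟩).of_iso ((F.rightDerived i).mapBiprod X Y)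

omit [PreservesFiniteLimits F] [HasDerivedCategory.{w} A] [HasDerivedCategory.{w'} B] in
/-- `R^{i+1}` of a subobject. -/
theorem isZero_rightDerived_X₁ {S : ShortComplex A} (hS : S.ShortExact) (i : ℕ)
    (h₃ : IsZero ((F.rightDerived i).obj S.X₃)) (h₂ : IsZero ((F.rightDerived (i + 1)).obj S.X₂)) :
    IsZero ((F.rightDerived (i + 1)).obj S.X₁) := by
  let _ := HasDerivedCategory.standard A
  let _ := HasDerivedCategory.standard B
  obtain ⟨e₁⟩ := SpecSeq.nonempty_rdSingle_iso F S.X₁ (i + 1)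
  obtain ⟨e₂⟩ := SpecSeq.nonempty_rdSingle_iso F S.X₂ (i + 1)
  obtain ⟨e₃⟩ := SpecSeq.nonempty_rdSingle_iso F S.X₃ i
  obtain ⟨δ, hT⟩ := SpecSeq.exists_plus_singleTriangle hS
  exact (((SpecSeq.rdH F).homologySequence_exact₁ _ hT (i : ℤ) ((i + 1 : ℕ) : ℤ) (by push_cast; ring)).isZero_X₂
    ((h₃.of_iso e₃).eq_of_src _ _) ((h₂.of_iso e₂).eq_of_tgt _ _)).of_iso e₁.symm

omit [HasDerivedCategory.{w'} B] in
/-- Every complex receives a quasi-isomorphism from a complex of `PObj` objects. -/
theorem exists_resolution (hdim : ∀ (X : A) (i : ℕ), n < i → IsZero ((F.rightDerived i).obj X))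
    (hP : ∀ X : A, ∃ (Y : A) (p : Y ⟶ X), Epi p ∧ PObj F n Y) (K : CochainComplex A ℤ) :
    ∃ (Y : CochainComplex A ℤ) (r : Y ⟶ K), (∀ m, PObj F n (Y.X m)) ∧ QuasiIso r := by
  suffices ∀ (k : ℕ) (K : CochainComplex A ℤ),
      (∀ (m : ℤ) (i : ℕ), i + k < n → IsZero ((F.rightDerived i).obj (K.X m))) →
      ∃ (Y : CochainComplex A ℤ) (r : Y ⟶ K), (∀ m, PObj F n (Y.X m)) ∧ QuasiIso r from
    this n K fun m i h => absurd h (by omega)
  intro k
  induction k with
  | zero =>
    intro K hK
    refine ⟨K, 𝟙 K, fun m i hi => ?_, inferInstance⟩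
    rcases lt_or_gt_of_ne hi with h | h
    · exact hK m i (by omega)
    · exact hdim _ i h
  | succ k ih =>
    intro K hK
    choose Yp pr hpr hYp using fun m => hP (K.X m)
    let Zc : CochainComplex A ℤ := { X := fun m => Yp (m - 1), d := fun _ _ => 0 }
    let α : CochainComplex.HomComplex.Cochain Zc K (-1) :=
      CochainComplex.HomComplex.Cochain.mk fun p q hpq =>
        eqToHom (congrArg Yp (show p - 1 = q by omega)) ≫ pr q
    let zβ : CochainComplex.HomComplex.Cocycle Zc K 0 :=
      CochainComplex.HomComplex.Cocycle.mk (CochainComplex.HomComplex.δ (-1) 0 α) 1 (zero_add 1)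
        (CochainComplex.HomComplex.δ_δ _ _ _ _)
    let β : Zc ⟶ K := CochainComplex.HomComplex.Cocycle.homOf zβ
    let D := CochainComplex.mappingCone (𝟙 Zc)
    let π : D ⟶ K := CochainComplex.mappingCone.desc (𝟙 Zc) α β (by
      rw [Category.id_comp]
      exact (CochainComplex.HomComplex.Cocycle.cochain_ofHom_homOf_eq_coe zβ).symm)
    haveI : ∀ m, Epi (π.f m) := fun m => by
      have e : (CochainComplex.mappingCone.inl (𝟙 Zc)).v (m + 1) m (by omega) ≫ π.f m =
          eqToHom (congrArg Yp (show m + 1 - 1 = m by omega)) ≫ pr m := by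
        simp [π, α]
      haveI := hpr m
      exact epi_of_epi_fac e
    haveI : Epi π := HomologicalComplex.epi_of_epi_f π inferInstance
    have hDX : ∀ m, PObj F n (D.X m) := fun m i hi =>
      (pObj_biprod (hYp (m + 1 - 1)) (hYp (m - 1)) i hi).of_iso
        ((F.rightDerived i).mapIso (homotopyCofiber.XIsoBiprod (𝟙 Zc) m (m + 1) rfl))
    let S := ShortComplex.mk (kernel.ι π) π (kernel.condition π)
    have hS : S.ShortExact := { exact := ShortComplex.exact_kernel π }
    obtain ⟨Y₁, j, hY₁, hj⟩ := ih (kernel π) fun m i hi => by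
      have hSm := hS.map_of_exact (HomologicalComplex.eval A (ComplexShape.up ℤ) m)
      cases i with
      | zero =>
        haveI := hSm.mono_f
        refine ((hDX m 0 (by omega)).of_iso ((asIso F.toRightDerivedZero).app _)).of_mono
          (F.map ((kernel.ι π).f m)) |>.of_iso ((asIso F.toRightDerivedZero).app _).symm
      | succ i => exact isZero_rightDerived_X₁ hSm i (hK m i (by omega)) (hDX m (i + 1) (by omega))
    refine ⟨CochainComplex.mappingCone (j ≫ kernel.ι π),
      CochainComplex.mappingCone.map (j ≫ kernel.ι π) (kernel.ι π) j (𝟙 _) (by simp) ≫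
        CochainComplex.mappingCone.descShortComplex S, fun m i hi => ?_, ?_⟩
    · exact (pObj_biprod (hY₁ (m + 1)) (hDX m) i hi).of_iso
        ((F.rightDerived i).mapIso (homotopyCofiber.XIsoBiprod (j ≫ kernel.ι π) m (m + 1) rfl))
    · haveI := CochainComplex.mappingCone.quasiIso_descShortComplex hS
      haveI : IsIso (DerivedCategory.Q.map
          (CochainComplex.mappingCone.map (j ≫ kernel.ι π) (kernel.ι π) j (𝟙 _) (by simp))) := by
        let φ := DerivedCategory.Q.mapTriangle.map
          (CochainComplex.mappingCone.triangleMap (j ≫ kernel.ι π) (kernel.ι π) j (𝟙 _) (by simp))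
        exact isIso₃_of_isIso₁₂ φ (DerivedCategory.mem_distTriang_iff _ |>.2 ⟨_, _, _, ⟨Iso.refl _⟩⟩)
          (DerivedCategory.mem_distTriang_iff _ |>.2 ⟨_, _, _, ⟨Iso.refl _⟩⟩)
          (inferInstanceAs (IsIso (DerivedCategory.Q.map j)))
          (inferInstanceAs (IsIso (DerivedCategory.Q.map (𝟙 _))))
      have : QuasiIso (CochainComplex.mappingCone.map (j ≫ kernel.ι π) (kernel.ι π) j (𝟙 _) (by simp)) :=
        (DerivedCategory.isIso_Q_map_iff_quasiIso A _).1 inferInstance
      infer_instance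

open InjChain

variable (k : ℕ)

theorem acy_cxChain_Z (hdim : ∀ (X : A) (i : ℕ), k + 1 < i → IsZero ((F.rightDerived i).obj X))
    (Y : CochainComplex A ℤ) (m : ℤ) : Acyclic.Acy F (((cxChain Y).Z (k + 1)).X m) := by
  suffices ∀ j i : ℕ, k + 1 < i + j → (j = 0 ∨ 0 < i) → IsZero ((F.rightDerived i).obj (((cxChain Y).Z j).X m)) from
    fun i hi => this (k + 1) i (by omega) (Or.inr hi)
  intro j
  induction j with
  | zero => exact fun i hi _ => hdim _ i (by omega)
  | succ j ih =>
    intro i hi hi'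
    have hi0 : 0 < i := by omega
    haveI := (evalChain Y m).inj j
    exact Acyclic.isZero_rightDerived_X₃ ((evalChain Y m).ses j) i
      (Acyclic.acy_injective ((evalChain Y m).J j) i hi0) (ih (i + 1) (by omega) (Or.inr (by omega)))

theorem acyclic_top [(F.rightDerived (k + 1)).Additive]
    (hdim : ∀ (X : A) (i : ℕ), k + 1 < i → IsZero ((F.rightDerived i).obj X))
    (Y : CochainComplex A ℤ) (hY : ∀ m, PObj F (k + 1) (Y.X m)) (h : Y.Acyclic) :
    (((F.rightDerived (k + 1)).mapHomologicalComplex (ComplexShape.up ℤ)).obj Y).Acyclic := by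
  have hZ : ∀ j, ((cxChain Y).Z j).Acyclic := fun j => by
    induction j with
    | zero => exact h
    | succ j ih =>
      refine acyclic_third ((cxChain Y).ses j) ih fun i => ?_
      rw [exactAt_iff_isZero_homology, IsZero.iff_id_eq_zero]
      exact (homologyMap_id _ _).symm.trans
        (((discHomotopy (cxZ Y j)).homologyMap_eq i).trans (homologyMap_zero _ _ _))
  have hF : ((F.mapHomologicalComplex (ComplexShape.up ℤ)).obj ((cxChain Y).Z (k + 1))).Acyclic :=
    Acyclic.acyclic_map (k + 2) (fun X => hdim X _ (by omega)) _ (hZ _) (acy_cxChain_Z k hdim Y)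
  haveI := quasiIso_comparison F k Y (fun m i hi => hY m i (by omega))
  intro i
  rw [exactAt_iff_isZero_homology]
  exact ((exactAt_iff_isZero_homology _ _).1 (hF i)).of_iso (asIso (homologyMap (comparison F k Y) i)).symm

variable (A)

/-- Turning an isomorphism to a shift around. -/
noncomputable def turn {C : Type*} [Category C] [HasShift C ℤ] {X Y : C} (d : X ⟶ Y⟦(1 : ℤ)⟧)
    [IsIso d] : Y ≅ X⟦(-1 : ℤ)⟧ :=
  (shiftFunctorCompIsoId C (1 : ℤ) (-1) (add_neg_cancel 1)).symm.app Y ≪≫
    (shiftFunctor C (-1 : ℤ)).mapIso (asIso d).symm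

theorem turn_natural {C : Type*} [Category C] [HasShift C ℤ] {X Y X' Y' : C} (d : X ⟶ Y⟦(1 : ℤ)⟧)
    (d' : X' ⟶ Y'⟦(1 : ℤ)⟧) [IsIso d] [IsIso d'] (a : X ⟶ X') (b : Y ⟶ Y') (h : d ≫ b⟦(1 : ℤ)⟧' = a ≫ d') :
    b ≫ (turn d').hom = (turn d).hom ≫ a⟦(-1 : ℤ)⟧' := by
  dsimp [turn]
  have n := (shiftFunctorCompIsoId C (1 : ℤ) (-1) (add_neg_cancel 1)).inv.naturality b
  dsimp at n
  rw [reassoc_of% n, Category.assoc, ← Functor.map_comp, ← Functor.map_comp]
  congr 2
  rw [IsIso.comp_inv_eq, Category.assoc, IsIso.eq_inv_comp]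
  exact h

instance isIso_connecting (Y : CochainComplex A ℤ) (j : ℕ) :
    IsIso (DerivedCategory.triangleOfSESδ ((cxChain Y).ses j)) := by
  refine (Triangle.isZero₂_iff_isIso₃ _
    (DerivedCategory.triangleOfSES_distinguished ((cxChain Y).ses j))).1 ?_
  exact isZero_Q_of_acyclic _ fun i => by
    rw [exactAt_iff_isZero_homology, IsZero.iff_id_eq_zero]
    exact (homologyMap_id _ _).symm.trans
      (((discHomotopy (cxZ Y j)).homologyMap_eq i).trans (homologyMap_zero _ _ _))

/-- The connecting isomorphism of the coresolution. -/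
noncomputable def step (Y : CochainComplex A ℤ) (j : ℕ) :
    DerivedCategory.Q.obj ((cxChain Y).Z j) ≅
      (DerivedCategory.Q.obj ((cxChain Y).Z (j + 1)))⟦(-1 : ℤ)⟧ :=
  @turn (DerivedCategory A) _ _ _ _ (DerivedCategory.triangleOfSESδ ((cxChain Y).ses j)) (isIso_connecting A Y j)

theorem step_natural {Y Y' : CochainComplex A ℤ} (φ : Hom (cxChain Y) (cxChain Y')) (j : ℕ) :
    DerivedCategory.Q.map (φ.u j) ≫ (step A Y' j).hom =
      (step A Y j).hom ≫ (DerivedCategory.Q.map (φ.u (j + 1)))⟦(-1 : ℤ)⟧' :=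
  @turn_natural (DerivedCategory A) _ _ _ _ _ _ _ _ (isIso_connecting A Y j) (isIso_connecting A Y' j) _ _
    (DerivedCategory.triangleOfSESδ_naturality ((cxChain Y).ses j) ((cxChain Y').ses j)
      (ShortComplex.homMk (φ.u j) (φ.v j) (φ.u (j + 1)) (φ.comm_i j).symm (φ.comm_p j).symm))

/-- A complex is the shifted end of its coresolution. -/
noncomputable def coresIso (Y : CochainComplex A ℤ) : ∀ j : ℕ,
    DerivedCategory.Q.obj Y ≅ (DerivedCategory.Q.obj ((cxChain Y).Z j))⟦(-(j : ℤ))⟧
  | 0 => ((shiftFunctorZero' (DerivedCategory A) (-((0 : ℕ) : ℤ)) (by simp)).app _).symm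
  | j + 1 => coresIso Y j ≪≫ (shiftFunctor (DerivedCategory A) (-(j : ℤ))).mapIso (step A Y j) ≪≫
      ((shiftFunctorAdd' (DerivedCategory A) (-1 : ℤ) (-(j : ℤ)) (-((j + 1 : ℕ) : ℤ)) (by push_cast; ring)).app _).symm

theorem coresIso_natural {Y Y' : CochainComplex A ℤ} (f : Y ⟶ Y') (φ : Hom (cxChain Y) (cxChain Y'))
    (h : φ.u 0 = f) : ∀ j : ℕ,
    DerivedCategory.Q.map f ≫ (coresIso A Y' j).hom =
      (coresIso A Y j).hom ≫ (DerivedCategory.Q.map (φ.u j))⟦(-(j : ℤ))⟧'
  | 0 => by
    subst h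
    exact (shiftFunctorZero' (DerivedCategory A) (-((0 : ℕ) : ℤ)) (by simp)).inv.naturality _
  | j + 1 => by
    have ih := coresIso_natural f φ h j
    simp only [coresIso, Iso.trans_hom, Functor.mapIso_hom, Iso.symm_hom, Iso.app_inv, Category.assoc]
    rw [reassoc_of% ih, ← Functor.map_comp_assoc, step_natural, Functor.map_comp_assoc]
    congr 2
    exact (shiftFunctorAdd' (DerivedCategory A) (-1 : ℤ) (-(j : ℤ)) (-((j + 1 : ℕ) : ℤ))
      (by push_cast; ring)).inv.naturality _

/-- The complex at the end, shifted. -/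
noncomputable def endIso (Y : CochainComplex A ℤ) :
    DerivedCategory.Q.obj Y ≅
      DerivedCategory.Q.obj (((cxChain Y).Z (k + 1))⟦(-((k + 1 : ℕ) : ℤ))⟧) :=
  coresIso A Y (k + 1) ≪≫ ((DerivedCategory.Q.commShiftIso (-((k + 1 : ℕ) : ℤ))).app _).symm

theorem endIso_natural {Y Y' : CochainComplex A ℤ} (f : Y ⟶ Y') (φ : Hom (cxChain Y) (cxChain Y'))
    (h : φ.u 0 = f) :
    DerivedCategory.Q.map f ≫ (endIso A k Y').hom =
      (endIso A k Y).hom ≫ DerivedCategory.Q.map ((φ.u (k + 1))⟦(-((k + 1 : ℕ) : ℤ))⟧') := by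
  simp only [endIso, Iso.trans_hom, Iso.symm_hom, Iso.app_inv, Category.assoc]
  rw [reassoc_of% coresIso_natural A f φ h (k + 1)]
  congr 1
  exact (DerivedCategory.Q.commShiftIso (-((k + 1 : ℕ) : ℤ))).inv.naturality _

variable {A}

variable (U : DerivedCategory A ⥤ DerivedCategory B)
  (β : F.mapHomologicalComplex (ComplexShape.up ℤ) ⋙ DerivedCategory.Q ⟶ DerivedCategory.Q ⋙ U)
  (hβ : ∀ K : CochainComplex A ℤ, (∀ m, Acyclic.Acy F (K.X m)) → IsIso (β.app K))

include hβ in
/-- The right derived functor on complexes of objects having only the top derived functor. -/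
theorem exists_theta [(F.rightDerived (k + 1)).Additive]
    (hdim : ∀ (X : A) (i : ℕ), k + 1 < i → IsZero ((F.rightDerived i).obj X)) :
    ∃ θ : ∀ Y : CochainComplex A ℤ, (∀ m, PObj F (k + 1) (Y.X m)) →
      (U.obj (DerivedCategory.Q.obj Y) ≅ (DerivedCategory.Q.obj
        (((F.rightDerived (k + 1)).mapHomologicalComplex (ComplexShape.up ℤ)).obj Y))⟦(-((k + 1 : ℕ) : ℤ))⟧),
    ∀ (Y Y' : CochainComplex A ℤ) (hY : ∀ m, PObj F (k + 1) (Y.X m)) (hY' : ∀ m, PObj F (k + 1) (Y'.X m))
      (f : Y ⟶ Y'), U.map (DerivedCategory.Q.map f) ≫ (θ Y' hY').hom = (θ Y hY).hom ≫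
        (DerivedCategory.Q.map
          (((F.rightDerived (k + 1)).mapHomologicalComplex (ComplexShape.up ℤ)).map f))⟦(-((k + 1 : ℕ) : ℤ))⟧' := by
  let FC := F.mapHomologicalComplex (ComplexShape.up ℤ)
  let s : ℤ := -((k + 1 : ℕ) : ℤ)
  let T := fun Y : CochainComplex A ℤ => ((cxChain Y).Z (k + 1))⟦s⟧
  have hT : ∀ Y, IsIso (β.app (T Y)) := fun Y => hβ _ fun m =>
    (acy_cxChain_Z k hdim Y (m + s)).of_iso (eqToIso rfl)
  have hg : ∀ Y : CochainComplex A ℤ, (∀ m, PObj F (k + 1) (Y.X m)) →
      IsIso (DerivedCategory.Q.map (comparison F k Y)) := fun Y hY => by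
    haveI := quasiIso_comparison F k Y (fun m i hi => hY m i (by omega))
    infer_instance
  let θ : ∀ Y : CochainComplex A ℤ, (∀ m, PObj F (k + 1) (Y.X m)) →
      (U.obj (DerivedCategory.Q.obj Y) ≅ (DerivedCategory.Q.obj
        (((F.rightDerived (k + 1)).mapHomologicalComplex (ComplexShape.up ℤ)).obj Y))⟦s⟧) := fun Y hY =>
    haveI := hT Y
    haveI := hg Y hY
    U.mapIso (endIso A k Y) ≪≫ (asIso (β.app (T Y))).symm ≪≫
      DerivedCategory.Q.mapIso ((FC.commShiftIso s).app _) ≪≫
      (DerivedCategory.Q.commShiftIso s).app _ ≪≫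
      (shiftFunctor (DerivedCategory B) s).mapIso (asIso (DerivedCategory.Q.map (comparison F k Y)))
  refine ⟨θ, fun Y Y' hY hY' f => ?_⟩
  obtain ⟨φ, hφ⟩ := exists_hom (cxChain Y) (cxChain Y') f
  haveI := hT Y
  haveI := hT Y'
  simp only [θ, Iso.trans_hom, Functor.mapIso_hom, Iso.symm_hom, Iso.app_hom, asIso_hom, asIso_inv, Category.assoc]
  rw [← U.map_comp_assoc, endIso_natural A k f φ hφ, U.map_comp_assoc]
  congr 1
  have h1 : U.map (DerivedCategory.Q.map ((φ.u (k + 1))⟦s⟧')) ≫ inv (β.app (T Y')) =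
      inv (β.app (T Y)) ≫ DerivedCategory.Q.map (FC.map ((φ.u (k + 1))⟦s⟧')) := by
    rw [IsIso.comp_inv_eq, Category.assoc, IsIso.eq_inv_comp]
    exact (β.naturality _).symm
  rw [reassoc_of% h1]
  congr 1
  rw [← DerivedCategory.Q.map_comp_assoc]
  erw [(FC.commShiftIso s).hom.naturality (φ.u (k + 1))]
  rw [DerivedCategory.Q.map_comp_assoc]
  congr 1
  dsimp only [Functor.comp_map]
  erw [reassoc_of% (DerivedCategory.Q.commShiftIso s).hom.naturality (FC.map (φ.u (k + 1)))]
  congr 1
  refine ((Functor.map_comp _ _ _).symm.trans (congrArg _ ?_)).trans (Functor.map_comp _ _ _)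
  exact ((DerivedCategory.Q.map_comp _ _).symm.trans
    (congrArg DerivedCategory.Q.map (comparison_natural F k f φ hφ))).trans (DerivedCategory.Q.map_comp _ _)

end Groth.Agent.DCat.CohDimShift

namespace Groth.Agent.DCat.CohDimShift

open InjChain

variable {A : Type u} [Category.{v} A] [Abelian A] [HasDerivedCategory.{w} A] [EnoughInjectives A]
  {B : Type u'} [Category.{v'} B] [Abelian B] [HasDerivedCategory.{w'} B]
  {F : A ⥤ B} [F.Additive] [PreservesFiniteLimits F] (n : ℕ) [(F.rightDerived n).Additive]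
  (hdim : ∀ (X : A) (i : ℕ), n < i → IsZero ((F.rightDerived i).obj X))
  (hP : ∀ X : A, ∃ (Y : A) (p : Y ⟶ X), Epi p ∧ PObj F n Y)

include hdim in
theorem acyclic_G (Y : CochainComplex A ℤ) (hY : ∀ m, PObj F n (Y.X m)) (h : Y.Acyclic) :
    (((F.rightDerived n).mapHomologicalComplex (ComplexShape.up ℤ)).obj Y).Acyclic := by
  obtain _ | k := n
  · intro i
    have hF := Acyclic.acyclic_map (F := F) 1 (fun X => hdim X 1 one_pos) Y h
      (fun m i hi => hdim _ i hi) i
    exact hF.of_iso ((NatIso.mapHomologicalComplex (asIso F.toRightDerivedZero) (ComplexShape.up ℤ)).app Y)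
  · exact acyclic_top k hdim Y hY h

/-- The functor computing the left derived functor of the top derived functor. -/
noncomputable abbrev Gh : HomotopyCategory A (ComplexShape.up ℤ) ⥤ DerivedCategory B :=
  (F.rightDerived n).mapHomotopyCategory (ComplexShape.up ℤ) ⋙ DerivedCategory.Qh

include hP hdim in
theorem exists_resolution_Ho (X : HomotopyCategory A (ComplexShape.up ℤ)) :
    ∃ (X' : HomotopyCategory A (ComplexShape.up ℤ)) (s : X' ⟶ X),
      (∀ m, PObj F n (X'.as.X m)) ∧ HomotopyCategory.quasiIso A (ComplexShape.up ℤ) s := by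
  obtain ⟨Y, r, hY, hr⟩ := exists_resolution hdim hP X.as
  exact ⟨(HomotopyCategory.quotient A _).obj Y, (HomotopyCategory.quotient A _).map r, hY,
    (HomotopyCategory.quotient_map_mem_quasiIso_iff r).2 hr⟩

include hdim in
theorem isIso_Gh ⦃X Y : HomotopyCategory A (ComplexShape.up ℤ)⦄ (s : X ⟶ Y)
    (hX : ∀ m, PObj F n (X.as.X m)) (hY : ∀ m, PObj F n (Y.as.X m))
    (hs : HomotopyCategory.quasiIso A (ComplexShape.up ℤ) s) : IsIso ((Gh (F := F) n).map s) :=
  Acyclic.isIso_Qh_map_map (F := F.rightDerived n) s hs fun f hf => acyclic_G n hdim _ (fun m i hi =>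
    (pObj_biprod (hX (m + 1)) (hY m) i hi).of_iso
      ((F.rightDerived i).mapIso (homotopyCofiber.XIsoBiprod f m (m + 1) rfl))) hf

/-- The comparison between the functor on complexes and on the homotopy category. -/
noncomputable def quotientCompIso {G : A ⥤ B} [G.Additive] :
    HomotopyCategory.quotient A (ComplexShape.up ℤ) ⋙
      (G.mapHomotopyCategory (ComplexShape.up ℤ) ⋙ DerivedCategory.Qh) ≅
      G.mapHomologicalComplex (ComplexShape.up ℤ) ⋙ DerivedCategory.Q :=
  (Functor.associator _ _ _).symm ≪≫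
    Functor.isoWhiskerRight (G.mapHomotopyCategoryFactors (ComplexShape.up ℤ)) _ ≪≫ Functor.associator _ _ _ ≪≫
    Functor.isoWhiskerLeft _ (DerivedCategory.quotientCompQhIso B)

include hP hdim in
theorem hasLeftDerived_G :
    ((F.rightDerived n).mapHomologicalComplex (ComplexShape.up ℤ) ⋙ DerivedCategory.Q).HasLeftDerivedFunctor
      (HomologicalComplex.quasiIso A (ComplexShape.up ℤ)) :=
  haveI : (Gh (F := F) n).HasLeftDerivedFunctor (HomotopyCategory.quasiIso A (ComplexShape.up ℤ)) :=
    hasLeftDerived (P := fun X => ∀ m, PObj F n (X.as.X m)) (exists_resolution_Ho n hdim hP) (isIso_Gh n hdim)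
  hasLeftDerived_precomp (HomotopyCategory.quotient A (ComplexShape.up ℤ))
    (DerivedCategory.quotientCompQhIso A) quotientCompIso _
    (W := HomotopyCategory.quasiIso A (ComplexShape.up ℤ))

include hP hdim in
theorem isIso_counit_G
    [((F.rightDerived n).mapHomologicalComplex (ComplexShape.up ℤ) ⋙ DerivedCategory.Q).HasLeftDerivedFunctor
      (HomologicalComplex.quasiIso A (ComplexShape.up ℤ))] (Y : CochainComplex A ℤ) (hY : ∀ m, PObj F n (Y.X m)) :
    IsIso ((((F.rightDerived n).mapHomologicalComplex (ComplexShape.up ℤ) ⋙ DerivedCategory.Q).totalLeftDerivedCounit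
      DerivedCategory.Q (HomologicalComplex.quasiIso A (ComplexShape.up ℤ))).app Y) := by
  let W := HomotopyCategory.quasiIso A (ComplexShape.up ℤ)
  haveI : (Gh (F := F) n).HasLeftDerivedFunctor W :=
    hasLeftDerived (P := fun X => ∀ m, PObj F n (X.as.X m)) (exists_resolution_Ho n hdim hP) (isIso_Gh n hdim)
  let α := (Gh (F := F) n).totalLeftDerivedCounit DerivedCategory.Qh W
  let LF := (Gh (F := F) n).totalLeftDerived DerivedCategory.Qh W
  haveI hα : IsIso (α.app ((HomotopyCategory.quotient A (ComplexShape.up ℤ)).obj Y)) :=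
    isIso_counit_of_mem (P := fun X => ∀ m, PObj F n (X.as.X m)) (exists_resolution_Ho n hdim hP)
      (isIso_Gh n hdim) α (X := (HomotopyCategory.quotient A (ComplexShape.up ℤ)).obj Y) hY
  let β := Functor.whiskerRight (DerivedCategory.quotientCompQhIso A).inv LF ≫
    (Functor.associator _ _ _).hom ≫ Functor.whiskerLeft (HomotopyCategory.quotient A (ComplexShape.up ℤ)) α ≫
      (quotientCompIso (G := F.rightDerived n)).hom
  haveI hβ : IsIso (β.app Y) :=
    @IsIso.comp_isIso _ _ _ _ _ _ _ inferInstance (@IsIso.comp_isIso _ _ _ _ _ _ _ inferInstance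
      (@IsIso.comp_isIso _ _ _ _ _ _ _ hα inferInstance))
  haveI : LF.IsLeftDerivedFunctor β (HomologicalComplex.quasiIso A (ComplexShape.up ℤ)) :=
    isLeftDerived_precomp (HomotopyCategory.quotient A (ComplexShape.up ℤ)) (DerivedCategory.quotientCompQhIso A)
      (quotientCompIso (G := F.rightDerived n)) _ (W := W) α
  let c := ((F.rightDerived n).mapHomologicalComplex (ComplexShape.up ℤ) ⋙
    DerivedCategory.Q).totalLeftDerivedCounit DerivedCategory.Q (HomologicalComplex.quasiIso A (ComplexShape.up ℤ))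
  let LG := ((F.rightDerived n).mapHomologicalComplex (ComplexShape.up ℤ) ⋙
    DerivedCategory.Q).totalLeftDerived DerivedCategory.Q (HomologicalComplex.quasiIso A (ComplexShape.up ℤ))
  haveI : IsIso (LG.leftDerivedLift c (HomologicalComplex.quasiIso A (ComplexShape.up ℤ)) LF β) :=
    (LG.isLeftDerivedFunctor_iff_isIso_leftDerivedLift c _ LF β).1 ‹_›
  exact IsIso.of_isIso_fac_left (LG.leftDerived_fac_app c
    (HomologicalComplex.quasiIso A (ComplexShape.up ℤ)) LF β Y)

omit [(F.rightDerived n).Additive] in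
include hdim in
theorem isIso_unit_F
    [(F.mapHomologicalComplex (ComplexShape.up ℤ) ⋙ DerivedCategory.Q).HasRightDerivedFunctor
      (HomologicalComplex.quasiIso A (ComplexShape.up ℤ))] (K : CochainComplex A ℤ)
    (hK : ∀ m, Acyclic.Acy F (K.X m)) :
    IsIso (((F.mapHomologicalComplex (ComplexShape.up ℤ) ⋙ DerivedCategory.Q).totalRightDerivedUnit
      DerivedCategory.Q (HomologicalComplex.quasiIso A (ComplexShape.up ℤ))).app K) := by
  let W := HomotopyCategory.quasiIso A (ComplexShape.up ℤ)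
  let Fh := F.mapHomotopyCategory (ComplexShape.up ℤ) ⋙ DerivedCategory.Qh (C := B)
  let P : ObjectProperty (HomotopyCategory A (ComplexShape.up ℤ)) := fun X => ∀ m, Acyclic.Acy F (X.as.X m)
  have hn : ∀ X : A, IsZero ((F.rightDerived (n + 1)).obj X) := fun X => hdim X _ (by omega)
  have hPres : ∀ X, ∃ (X' : HomotopyCategory A (ComplexShape.up ℤ)) (s : X ⟶ X'), P X' ∧ W s := fun X => by
    obtain ⟨J, s, hJ, hs⟩ := Acyclic.exists_model (F := F) n X.as fun m i hi => hdim _ i hi
    exact ⟨(HomotopyCategory.quotient A _).obj J, (HomotopyCategory.quotient A _).map s, hJ,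
      (HomotopyCategory.quotient_map_mem_quasiIso_iff s).2 hs⟩
  have hinv : ∀ ⦃X Y : HomotopyCategory A (ComplexShape.up ℤ)⦄ (s : X ⟶ Y), P X → P Y → W s → IsIso (Fh.map s) :=
    fun X Y s hX hY hs => Acyclic.isIso_Qh_map_map s hs fun f hf =>
      Acyclic.acyclic_map (n + 1) hn _ hf (Acyclic.acy_mappingCone_X f hX hY)
  haveI : Fh.HasRightDerivedFunctor W := hasRightDerived hPres hinv
  let α := Fh.totalRightDerivedUnit DerivedCategory.Qh W
  let RF := Fh.totalRightDerived DerivedCategory.Qh W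
  haveI hα : IsIso (α.app ((HomotopyCategory.quotient A (ComplexShape.up ℤ)).obj K)) :=
    isIso_unit_of_mem hPres hinv α (X := (HomotopyCategory.quotient A (ComplexShape.up ℤ)).obj K) hK
  let β := (quotientCompIso (G := F)).inv ≫
    Functor.whiskerLeft (HomotopyCategory.quotient A (ComplexShape.up ℤ)) α ≫ (Functor.associator _ _ _).inv ≫
      Functor.whiskerRight (DerivedCategory.quotientCompQhIso A).hom RF
  haveI hβ : IsIso (β.app K) :=
    @IsIso.comp_isIso _ _ _ _ _ _ _ inferInstance (@IsIso.comp_isIso _ _ _ _ _ _ _ hα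
      (@IsIso.comp_isIso _ _ _ _ _ _ _ inferInstance inferInstance))
  haveI : RF.IsRightDerivedFunctor β (HomologicalComplex.quasiIso A (ComplexShape.up ℤ)) :=
    isRightDerived_precomp (HomotopyCategory.quotient A (ComplexShape.up ℤ)) (DerivedCategory.quotientCompQhIso A)
      (quotientCompIso (G := F)) _ (W := W) α
  let c := (F.mapHomologicalComplex (ComplexShape.up ℤ) ⋙ DerivedCategory.Q).totalRightDerivedUnit
    DerivedCategory.Q (HomologicalComplex.quasiIso A (ComplexShape.up ℤ))
  let R := (F.mapHomologicalComplex (ComplexShape.up ℤ) ⋙ DerivedCategory.Q).totalRightDerived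
    DerivedCategory.Q (HomologicalComplex.quasiIso A (ComplexShape.up ℤ))
  haveI : IsIso (R.rightDerivedDesc c (HomologicalComplex.quasiIso A (ComplexShape.up ℤ)) RF β) :=
    (R.isRightDerivedFunctor_iff_isIso_rightDerivedDesc c _ RF β).1 ‹_›
  exact IsIso.of_isIso_fac_right (R.rightDerived_fac_app c
    (HomologicalComplex.quasiIso A (ComplexShape.up ℤ)) RF β K)

include hP hdim in
/-- The main theorem. -/
theorem nonempty_iso
    [(F.mapHomologicalComplex (ComplexShape.up ℤ) ⋙ DerivedCategory.Q).HasRightDerivedFunctor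
      (HomologicalComplex.quasiIso A (ComplexShape.up ℤ))]
    [((F.rightDerived n).mapHomologicalComplex (ComplexShape.up ℤ) ⋙ DerivedCategory.Q).HasLeftDerivedFunctor
      (HomologicalComplex.quasiIso A (ComplexShape.up ℤ))] :
    Nonempty ((F.mapHomologicalComplex (ComplexShape.up ℤ) ⋙ DerivedCategory.Q).totalRightDerived DerivedCategory.Q
        (HomologicalComplex.quasiIso A (ComplexShape.up ℤ)) ≅
      ((F.rightDerived n).mapHomologicalComplex (ComplexShape.up ℤ) ⋙ DerivedCategory.Q).totalLeftDerived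
          DerivedCategory.Q (HomologicalComplex.quasiIso A (ComplexShape.up ℤ)) ⋙
        shiftFunctor (DerivedCategory B) (-(n : ℤ))) := by
  let U := (F.mapHomologicalComplex (ComplexShape.up ℤ) ⋙ DerivedCategory.Q).totalRightDerived DerivedCategory.Q
    (HomologicalComplex.quasiIso A (ComplexShape.up ℤ))
  let β := (F.mapHomologicalComplex (ComplexShape.up ℤ) ⋙ DerivedCategory.Q).totalRightDerivedUnit DerivedCategory.Q
    (HomologicalComplex.quasiIso A (ComplexShape.up ℤ))
  have hβ := isIso_unit_F (F := F) n hdim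
  let c := ((F.rightDerived n).mapHomologicalComplex (ComplexShape.up ℤ) ⋙
    DerivedCategory.Q).totalLeftDerivedCounit DerivedCategory.Q (HomologicalComplex.quasiIso A (ComplexShape.up ℤ))
  have hc := fun Y hY => isIso_counit_G (F := F) n hdim hP Y hY
  obtain ⟨θ, hθ⟩ : ∃ θ : ∀ Y : CochainComplex A ℤ, (∀ m, PObj F n (Y.X m)) →
      (U.obj (DerivedCategory.Q.obj Y) ≅ (DerivedCategory.Q.obj
        (((F.rightDerived n).mapHomologicalComplex (ComplexShape.up ℤ)).obj Y))⟦(-(n : ℤ))⟧),
    ∀ (Y Y' : CochainComplex A ℤ) (hY : ∀ m, PObj F n (Y.X m)) (hY' : ∀ m, PObj F n (Y'.X m))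
      (f : Y ⟶ Y'), U.map (DerivedCategory.Q.map f) ≫ (θ Y' hY').hom = (θ Y hY).hom ≫
        (DerivedCategory.Q.map
          (((F.rightDerived n).mapHomologicalComplex (ComplexShape.up ℤ)).map f))⟦(-(n : ℤ))⟧' := by
    obtain _ | k := n
    · have hi : ∀ Y : CochainComplex A ℤ, IsIso (β.app Y) := fun Y => hβ Y fun m i hi => hdim _ i hi
      let i0 := NatIso.mapHomologicalComplex (asIso F.toRightDerivedZero) (ComplexShape.up ℤ)
      refine ⟨fun Y _ =>
        haveI := hi Y
        (asIso (β.app Y)).symm ≪≫ DerivedCategory.Q.mapIso (i0.app Y) ≪≫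
          ((shiftFunctorZero' (DerivedCategory B) (-((0 : ℕ) : ℤ)) (by simp)).app _).symm, fun Y Y' _ _ f => ?_⟩
      haveI := hi Y
      haveI := hi Y'
      have hb : U.map (DerivedCategory.Q.map f) ≫ inv (β.app Y') =
          inv (β.app Y) ≫ DerivedCategory.Q.map ((F.mapHomologicalComplex (ComplexShape.up ℤ)).map f) := by
        rw [IsIso.comp_inv_eq, Category.assoc, IsIso.eq_inv_comp]
        exact (β.naturality f).symm
      simp only [Iso.trans_hom, Iso.symm_hom, asIso_inv, Functor.mapIso_hom, Iso.app_inv, Iso.app_hom, Category.assoc]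
      rw [reassoc_of% hb, ← DerivedCategory.Q.map_comp_assoc, i0.hom.naturality, DerivedCategory.Q.map_comp_assoc]
      congr 2
      exact (shiftFunctorZero' (DerivedCategory B) (-((0 : ℕ) : ℤ)) (by simp)).inv.naturality _
    · exact exists_theta k U β hβ hdim
  refine nonempty_iso_of_resolving (fun Y => ∀ m, PObj F n (Y.X m))
    (fun K => by obtain ⟨Y, r, hY, hr⟩ := exists_resolution hdim hP K; exact ⟨Y, r, hY, hr⟩) U _
    (fun Y hY => θ Y hY ≪≫ (shiftFunctor (DerivedCategory B) (-(n : ℤ))).mapIso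
      (haveI := hc Y hY; (asIso (c.app Y)).symm)) fun Y Y' hY hY' f => ?_
  haveI := hc Y hY
  haveI := hc Y' hY'
  simp only [Iso.trans_hom, Functor.mapIso_hom, Iso.symm_hom, asIso_inv, Category.assoc]
  rw [reassoc_of% hθ Y Y' hY hY' f]
  congr 1
  dsimp only [Functor.comp_map]
  rw [← Functor.map_comp, ← Functor.map_comp]
  congr 1
  rw [IsIso.comp_inv_eq, Category.assoc, IsIso.eq_inv_comp]
  exact (c.naturality f).symm

end Groth.Agent.DCat.CohDimShift
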