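import Mathlib.Algebra.Homology.DerivedCategory.KProjective
import Mathlib.Algebra.Homology.DerivedCategory.TStructure
import Mathlib.Algebra.Homology.DerivedCategory.HomologySequence

/-! Maps out of bounded above complexes of projectives. -/

set_option autoImplicit false
set_option backward.isDefEq.respectTransparency false
set_option backward.defeqAttrib.useBackward true

universe w v u

open CategoryTheory CategoryTheory.Limits DerivedCategory

namespace Groth.Agent.DCat.ProjVanish

variable {A : Type u} [Category.{v} A] [Abelian A] [HasDerivedCategory.{w} A]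
  (P : CochainComplex A ℤ) [P.IsKProjective]

lemma exists_map (L : CochainComplex A ℤ) (φ : Q.obj P ⟶ Q.obj L) :
    ∃ g : P ⟶ L, Q.map g = φ := by
  obtain ⟨f, hf⟩ := (CochainComplex.IsKProjective.Qh_map_bijective P
    ((HomotopyCategory.quotient _ _).obj L)).surjective
    ((quotientCompQhIso A).hom.app P ≫ φ ≫ (quotientCompQhIso A).inv.app L)
  obtain ⟨g, rfl⟩ := (HomotopyCategory.quotient _ _).map_surjective f
  refine ⟨g, ?_⟩
  have h := (quotientCompQhIso A).hom.naturality g
  dsimp at h hf
  rw [hf, Category.assoc, Category.assoc, Iso.inv_hom_id_app] at h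
  rw [Category.comp_id] at h
  exact ((cancel_epi ((quotientCompQhIso A).hom.app P)).1 h).symm

/-- equal in the derived category implies equal up to homotopy -/
lemma quotient_eq_of_Q_eq {L : CochainComplex A ℤ} (f g : P ⟶ L) (h : Q.map f = Q.map g) :
    (HomotopyCategory.quotient _ _).map f = (HomotopyCategory.quotient _ _).map g := by
  apply (CochainComplex.IsKProjective.Qh_map_bijective P _).injective
  have h1 := (quotientCompQhIso A).hom.naturality f
  have h2 := (quotientCompQhIso A).hom.naturality g
  dsimp at h1 h2
  rw [h, ← h2] at h1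
  exact (cancel_mono _).1 h1

theorem hom_eq_zero (K : CochainComplex A ℤ) (n : ℤ) [P.IsStrictlyGE n]
    (hK : ∀ i : ℤ, n ≤ i → IsZero (K.homology i)) (φ : Q.obj P ⟶ Q.obj K) : φ = 0 := by
  have : K.IsLE (n - 1) := by
    rw [CochainComplex.isLE_iff]
    intro i hi
    rw [HomologicalComplex.exactAt_iff_isZero_homology]
    exact hK i (by omega)
  obtain ⟨g, hg⟩ := exists_map P (K.truncLE (n - 1)) (φ ≫ inv (Q.map (K.ιTruncLE (n - 1))))
  have : g = 0 := by
    ext i
    by_cases hi : n ≤ i
    · exact ((K.truncLE (n - 1)).isZero_of_isStrictlyLE (n - 1) i (by omega)).eq_of_tgt _ _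
    · exact (P.isZero_of_isStrictlyGE n i (by omega)).eq_of_src _ _
  rw [this, Functor.map_zero] at hg
  exact (cancel_mono (inv (Q.map (K.ιTruncLE (n - 1))))).1 (by rw [← hg, zero_comp])

end Groth.Agent.DCat.ProjVanish
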