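import Groth.Prelude.Def_DRing2
import Groth.Agent.DCat.Amplitude
import Groth.Agent.DCat.ProjVanish
import Mathlib.Algebra.Category.ModuleCat.AB
import Mathlib.CategoryTheory.Abelian.GrothendieckCategory.EnoughInjectives
import Mathlib.Algebra.Category.ModuleCat.Projective
import Mathlib.CategoryTheory.Triangulated.TStructure.TruncLTGE

/-! Projective amplitude in `D(R)`. -/

set_option autoImplicit false
set_option backward.isDefEq.respectTransparency false
set_option backward.defeqAttrib.useBackward true

universe u

open CategoryTheory CategoryTheory.Limits CategoryTheory.Pretriangulated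
attribute [local instance] HasDerivedCategory.standard

namespace Groth.Agent.DCat.ProjAmp

variable {R : Type u} [CommRing R]

instance enoughInjectives_modR : EnoughInjectives (ModuleCat.{u} R) := inferInstance

/-- Vanishing of maps into all modules in degree `-i`, detected on cohomology. -/
theorem subsingleton_hd (K : Dual.D R) (i : ℤ)
    (h : ∀ (N : Type u) [AddCommGroup N] [Module R N], Subsingleton (DRing.ExtD R K (Dual.inD R N) (-i))) :
    Subsingleton (Dual.HD R K i) := by
  let L := DerivedCategory.Q.objPreimage K
  let e := DerivedCategory.Q.objObjPreimageIso K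
  have hz : IsZero (L.homology i) := Amplitude.isZero_homology_of_forall L i fun E _ φ => by
    have := (Amplitude.to_shift_iff e E (-i)).1 (fun ψ => @Subsingleton.elim _ (h E) ψ 0)
    rw [neg_neg] at this
    exact this φ
  exact ModuleCat.subsingleton_of_isZero (hz.of_iso
    ((DerivedCategory.homologyFunctor (ModuleCat.{u} R) i).mapIso e.symm ≪≫
      (DerivedCategory.homologyFunctorFactors _ i).app L))

/-- If `K` is cohomologically in `[c+1, b]` and has no maps to modules in degree `c`, it has projective
amplitude in `[c+1, b]`. -/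
theorem exists_rep (K : Dual.D R) (c b : ℤ) [K.IsGE (c + 1)] [K.IsLE b]
    (h : ∀ X : ModuleCat.{u} R, ∀ φ : K ⟶ ((DerivedCategory.singleFunctor (ModuleCat.{u} R) 0).obj X)⟦-c⟧, φ = 0) :
    ∃ P : DRing.Cx R, DRing.VanishesOutside P (c + 1) b ∧ (∀ i, Module.Projective R (P.X i)) ∧
      Nonempty (DRing.toD P ≅ K) := by
  obtain ⟨P, hPb, hPk, hP, ⟨e⟩⟩ := Amplitude.exists_kProjective_rep K b
  have : (DerivedCategory.Q.obj P).IsGE (c + 1) := DerivedCategory.TStructure.t.isGE_of_iso e.symm (c + 1)
  have : P.IsGE (c + 1) := (DerivedCategory.isGE_Q_obj_iff P (c + 1)).1 this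
  refine ⟨P.truncGE (c + 1), fun i hi => ?_, fun i => ?_,
    ⟨(asIso (DerivedCategory.Q.map (P.πTruncGE (c + 1)))).symm ≪≫ e⟩⟩
  · rcases hi with hi | hi
    · exact (P.truncGE (c + 1)).isZero_of_isStrictlyGE (c + 1) i hi
    · rcases lt_trichotomy i (c + 1) with hib | rfl | hib
      · exact (P.truncGE (c + 1)).isZero_of_isStrictlyGE (c + 1) i hib
      · exact IsZero.of_epi (P.pOpcycles (c + 1) ≫ (P.truncGEXIsoOpcycles (c + 1)).inv)
          (P.isZero_of_isStrictlyLE b (c + 1) hi)
      · exact (P.isZero_of_isStrictlyLE b i hi).of_iso (P.truncGEXIso (c + 1) i hib)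
  · have : Projective ((P.truncGE (c + 1)).X i) := by
      rcases lt_trichotomy i (c + 1) with hib | rfl | hib
      · exact ((P.truncGE (c + 1)).isZero_of_isStrictlyGE (c + 1) i hib).projective
      · have := hP (c + 1)
        refine Projective.of_iso (P.truncGEXIsoOpcycles (c + 1)).symm (Amplitude.projective_opcycles P c fun X φ => ?_)
        have hh := (Amplitude.to_shift_iff e X (-c)).1 (h X)
        rw [neg_neg] at hh
        exact hh φ
      · exact Projective.of_iso (P.truncGEXIso (c + 1) i hib).symm (hP i)
    exact (IsProjective.iff_projective _).2 (by exact this)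

/-- Maps from a bounded complex of projectives in degrees `≥ n` to objects `< n` vanish. -/
theorem eq_zero_of_rep {K X : Dual.D R} (P : DRing.Cx R) (n b : ℤ) (hP : DRing.VanishesOutside P n b)
    (hPp : ∀ i, Module.Projective R (P.X i)) (e : DRing.toD P ≅ K)
    (hX : ∀ i, n ≤ i → IsZero ((DerivedCategory.homologyFunctor (ModuleCat.{u} R) i).obj X))
    (φ : K ⟶ X) : φ = 0 := by
  have : P.IsStrictlyGE n := (CochainComplex.isStrictlyGE_iff P n).2 fun i hi => hP i (Or.inl hi)
  have : P.IsStrictlyLE b := (CochainComplex.isStrictlyLE_iff P b).2 fun i hi => hP i (Or.inr hi)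
  have hp : ∀ i, Projective (P.X i) := fun i => by
    have := hPp i
    have : Projective (ModuleCat.of R (P.X i)) := inferInstance
    exact this
  have : P.IsKProjective := CochainComplex.isKProjective_of_projective P b
  let L := DerivedCategory.Q.objPreimage X
  let eL := DerivedCategory.Q.objObjPreimageIso X
  rw [← cancel_epi e.hom, ← cancel_mono eL.inv, comp_zero, zero_comp]
  refine ProjVanish.hom_eq_zero P L n (fun i hi => (hX i hi).of_iso ?_) _
  exact ((DerivedCategory.homologyFunctorFactors _ i).app L).symm ≪≫
    (DerivedCategory.homologyFunctor (ModuleCat.{u} R) i).mapIso eL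

end Groth.Agent.DCat.ProjAmp
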