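import Groth.Agent.DCat.PhiEquiv

/-!
# Composite kernels over a noetherian base
-/

set_option autoImplicit false
set_option backward.isDefEq.respectTransparency false
set_option backward.defeqAttrib.useBackward true
set_option linter.style.haveILetI false
set_option linter.unusedVariables false

universe u

open CategoryTheory CategoryTheory.Limits AlgebraicGeometry HomologicalComplex
open Groth.Agent.Dual22Lib

attribute [local instance] HasDerivedCategory.standard

namespace Groth.Agent.DCat.PhiPerf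

theorem lfp_of_noetherian {X Y : Scheme.{u}} (f : X ⟶ Y)
    [LocallyOfFiniteType f] [IsLocallyNoetherian Y] : LocallyOfFinitePresentation f :=
  ⟨fun {U} hU {V} hV e => by
    have : IsNoetherianRing Γ(Y, U) := IsLocallyNoetherian.component_noetherian ⟨U, hU⟩
    algebraize [(f.appLE U V e).hom]
    have := f.finiteType_appLE hU hV e
    exact Algebra.FinitePresentation.of_finiteType.1 this⟩

variable {S X Y Z : Scheme.{u}} (a : X ⟶ S) (b : Y ⟶ S) (c : Z ⟶ S)

/-- Composite kernels of perfect kernels are perfect, and compose the functors. -/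
theorem main [IsNoetherian S] [IsProper a] [Flat a] [IsProper b] [Flat b] [IsProper c] [Flat c]
    (K : CochainComplex (pullback a b).Modules ℤ) (K' : CochainComplex (pullback b c).Modules ℤ)
    (hK : DCoh.IsPerfect (DCoh.toD _ K)) (hK' : DCoh.IsPerfect (DCoh.toD _ K'))
    [DCoh.HasLpull (pullback.fst a b)] [DCoh.HasLTensorCx K] [DCoh.HasRpush (pullback.snd a b)]
    [DCoh.HasLpull (pullback.fst b c)] [DCoh.HasLTensorCx K'] [DCoh.HasRpush (pullback.snd b c)]
    [DCoh.HasLpull (FMK.p12 a b c)] [DCoh.HasLTensorCx ((FMK.cxPull (FMK.p23 a b c)).obj K')]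
    [DCoh.HasRpush (FMK.p13 a b c)] [DCoh.HasLpull (pullback.fst a c)] [DCoh.HasRpush (pullback.snd a c)] :
    DCoh.IsPerfect (FMK.conv a b c K ((FMK.cxPull (FMK.p23 a b c)).obj K')) ∧
      ∀ (N : CochainComplex (pullback a c).Modules ℤ) [DCoh.HasLTensorCx N],
        Nonempty (DCoh.toD _ N ≅ FMK.conv a b c K ((FMK.cxPull (FMK.p23 a b c)).obj K')) →
        Nonempty (ObjectProperty.ι (SGA6.perfP X) ⋙ FMK.phi a c N ≅
          ObjectProperty.ι (SGA6.perfP X) ⋙ FMK.phi a b K ⋙ FMK.phi b c K') := by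
  haveI := lfp_of_noetherian b
  haveI := hasLpull (FMK.p23 a b c)
  obtain ⟨eL⟩ := FlatBC14.nonempty_Lpull_Q (FMK.p23 a b c) K'
  refine ⟨?_, fun N _ hN => ?_⟩
  · haveI : IsProper (FMK.p13 a b c) :=
      MorphismProperty.of_isPullback (ConvBaseChange.isPullback_p13 a b c).flip inferInstance
    haveI : Flat (FMK.p13 a b c) :=
      MorphismProperty.of_isPullback (ConvBaseChange.isPullback_p13 a b c).flip inferInstance
    haveI : LocallyOfFinitePresentation (FMK.p13 a b c) :=
      MorphismProperty.of_isPullback (ConvBaseChange.isPullback_p13 a b c).flip inferInstance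
    obtain ⟨P, hP, ⟨eP⟩⟩ := PullPerf.exists_kflat_rep (DCoh.toD _ ((FMK.cxPull (FMK.p23 a b c)).obj K'))
    haveI := LTensorSheaf.hasLTensorCx P
    obtain ⟨cP⟩ := TensorCongr.nonempty_congr (E := P) (E' := (FMK.cxPull (FMK.p23 a b c)).obj K') eP
    refine PPFlat.pp_flat (FMK.p13 a b c) _ (PCTriangle.perfect_iso (cP.app _) ?_)
    exact PerfTensor.isPerfect_LTensor hP
      (PCTriangle.perfect_iso (eL ≪≫ eP.symm) (PullPerf.isPerfect_Lpull _ _ hK')) _
      (PullPerf.isPerfect_Lpull _ _ hK)
  · obtain ⟨e⟩ := PhiConv.nonempty_phi_comp a b c (Or.inl inferInstance) K K'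
      (PerfLift.isQCohD_perfect hK) (PerfLift.isQCohD_perfect hK') _ ⟨eL.symm⟩ N hN
    exact ⟨Functor.isoWhiskerLeft (ObjectProperty.ιOfLE (P := SGA6.perfP X) (P' := DCoh.IsQCohD)
      fun M hM => PerfLift.isQCohD_perfect hM) e⟩

end Groth.Agent.DCat.PhiPerf
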