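import Groth.Prelude.Def_DerLim
import Mathlib.CategoryTheory.Triangulated.HomologicalFunctor
import Mathlib.CategoryTheory.Abelian.GrothendieckAxioms.Basic
import Mathlib.CategoryTheory.Functor.OfSequence
import Mathlib.CategoryTheory.Limits.Preserves.Shapes.Products
import Mathlib.Algebra.Homology.HomologicalComplexLimits
import Mathlib.Algebra.Homology.HomologicalComplexAbelian
import Mathlib.CategoryTheory.Triangulated.Triangulated
import Mathlib.Algebra.BigOperators.Intervals

/-! Sequential colimits and homotopy colimits. -/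

set_option autoImplicit false
set_option backward.isDefEq.respectTransparency false
set_option backward.defeqAttrib.useBackward true
set_option linter.style.haveILetI false

universe v v' u u'

open CategoryTheory CategoryTheory.Limits CategoryTheory.Pretriangulated

namespace Groth.Agent.DCat

section Abelian

variable {A : Type u} [Category.{v} A] [Abelian A] [HasColimitsOfShape ℕ A]
  (F : ℕ ⥤ A) [HasCoproduct F.obj]

/-- Sequential colimits preserve monomorphisms. -/
def SeqMono (A : Type u) [Category.{v} A] [HasColimitsOfShape ℕ A] : Prop :=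
  ∀ (G G' : ℕ ⥤ A) (u : G ⟶ G'), (∀ N, Mono (u.app N)) → Mono (colim.map u)

lemma seqMono_of_exact [HasExactColimitsOfShape ℕ A] : SeqMono A := fun G G' u hu => by
  haveI : Mono u := NatTrans.mono_of_mono_app u
  exact colim.map_mono u

lemma seqMono_complex {ι : Type*} (c : ComplexShape ι) [HasExactColimitsOfShape ℕ A] :
    SeqMono (HomologicalComplex A c) := fun G G' u hu => by
  haveI : ∀ i, Mono (((colim : (ℕ ⥤ HomologicalComplex A c) ⥤ _).map u).f i) := fun i => by
    let E := HomologicalComplex.eval A c i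
    have hmono : Mono (colim.map (Functor.whiskerRight u E)) :=
      seqMono_of_exact _ _ _ fun N => by
        haveI := hu N
        exact inferInstanceAs (Mono (E.map (u.app N)))
    have e : ((colim : (ℕ ⥤ HomologicalComplex A c) ⥤ _).map u).f i =
        (preservesColimitIso E G).hom ≫ colim.map (Functor.whiskerRight u E) ≫ (preservesColimitIso E G').inv := by
      rw [← cancel_epi (preservesColimitIso E G).inv, Iso.inv_hom_id_assoc]
      refine colimit.hom_ext fun N => ?_
      rw [ι_preservesColimitIso_inv_assoc, colimit.ι_map_assoc, ι_preservesColimitIso_inv]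
      change E.map _ ≫ E.map _ = E.map _ ≫ E.map _
      rw [← E.map_comp, ← E.map_comp, colimit.ι_map]
    rw [e]
    infer_instance
  exact HomologicalComplex.mono_of_mono_f _ inferInstance

/-- The partial sums. -/
noncomputable def partialSums (k : ℕ) : ℕ ⥤ A where
  obj N := ∐ fun i : Fin (N + k) => F.obj i
  map {N M} h := Sigma.desc fun i : Fin (N + k) =>
    Sigma.ι (fun i : Fin (M + k) => F.obj i) ⟨i, by have h1 := leOfHom h; have h2 := i.isLt; omega⟩
  map_id N := Sigma.hom_ext _ _ fun i => by simp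
  map_comp f g := Sigma.hom_ext _ _ fun i => by simp

/-- The cocone of partial sums. -/
noncomputable def partialSumsCocone (k : ℕ) : Cocone (partialSums F k) where
  pt := ∐ F.obj
  ι := { app := fun N => Sigma.desc fun i => Sigma.ι F.obj i
         naturality := fun N M h => Sigma.hom_ext _ _ fun i => by simp [partialSums] }

/-- The partial sums exhaust the coproduct. -/
noncomputable def isColimitPartialSums (k : ℕ) : IsColimit (partialSumsCocone F k) where
  desc s := Sigma.desc fun n =>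
    Sigma.ι (fun i : Fin (n + 1 + k) => F.obj i) ⟨n, by omega⟩ ≫ s.ι.app (n + 1)
  fac s N := Sigma.hom_ext _ _ fun i => by
    simp only [partialSumsCocone, Sigma.ι_desc_assoc, Sigma.ι_desc]
    rcases le_total N ((i : ℕ) + 1) with h | h
    · have e := s.w (homOfLE h)
      rw [← e]
      simp [partialSums]
    · have e := s.w (homOfLE h)
      rw [← e]
      simp [partialSums]
  uniq s m hm := Sigma.hom_ext _ _ fun n => by
    simp only [Sigma.ι_desc, ← hm (n + 1)]
    simp [partialSumsCocone]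

/-- `1 - shift` on partial sums. -/
noncomputable def partialTel : partialSums F 0 ⟶ partialSums F 1 where
  app N := Sigma.desc fun i => Sigma.ι (fun j : Fin (N + 1) => F.obj j) ⟨i, by omega⟩ -
    F.map (homOfLE (Nat.le_succ i)) ≫ Sigma.ι (fun j : Fin (N + 1) => F.obj j) ⟨(i : ℕ) + 1, by omega⟩
  naturality N M h := Sigma.hom_ext _ _ fun i => by
    simp [partialSums, Preadditive.sub_comp]

open Classical in
/-- The projection of a finite sum. -/
noncomputable def partialProj (M : ℕ) (j : Fin M) : (∐ fun i : Fin M => F.obj i) ⟶ F.obj j :=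
  Sigma.desc fun i => if h : i = j then eqToHom (by rw [h]) else 0

omit [HasColimitsOfShape ℕ A] [HasCoproduct F.obj] in
lemma mono_partialTel (N : ℕ) : Mono ((partialTel F).app N) := by
  classical
  refine Preadditive.mono_of_cancel_zero _ fun {Z} z hz => ?_
  have hsum : ∑ i : Fin (N + 0), partialProj F _ i ≫ Sigma.ι (fun j : Fin (N + 0) => F.obj j) i = 𝟙 _ :=
    Sigma.hom_ext _ _ fun i => by
      rw [Preadditive.comp_sum, Finset.sum_eq_single i]
      · simp [partialProj]
      · intro j _ hj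
        simp [partialProj, dif_neg (Ne.symm hj)]
      · simp
  suffices hc : ∀ (m : ℕ) (hm : m < N + 0), z ≫ partialProj F _ ⟨m, hm⟩ = 0 by
    rw [← Category.comp_id z, show 𝟙 ((partialSums F 0).obj N) = _ from hsum.symm, Preadditive.comp_sum]
    exact Finset.sum_eq_zero fun i _ => by rw [← Category.assoc, hc i i.2, zero_comp]
  intro m
  induction m with
  | zero =>
    intro hm
    have h := hz =≫ partialProj F (N + 1) ⟨0, by omega⟩
    rw [zero_comp, Category.assoc] at h
    rw [← h]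
    refine congrArg (z ≫ ·) (Sigma.hom_ext _ _ fun i => ?_)
    simp only [partialTel, partialProj, Sigma.ι_desc, Sigma.ι_desc_assoc, Preadditive.sub_comp, Category.assoc]
    rw [dif_neg (show ¬ (⟨(i : ℕ) + 1, _⟩ : Fin (N + 1)) = ⟨0, _⟩ by simp [Fin.ext_iff]), comp_zero, sub_zero]
    by_cases hi : i = ⟨0, hm⟩
    · subst hi; simp
    · rw [dif_neg hi, dif_neg (by simpa [Fin.ext_iff] using hi)]
  | succ m ih =>
    intro hm
    have h := hz =≫ partialProj F (N + 1) ⟨m + 1, by omega⟩
    rw [zero_comp, Category.assoc] at h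
    have e : (partialTel F).app N ≫ partialProj F (N + 1) ⟨m + 1, by omega⟩ =
        partialProj F _ ⟨m + 1, hm⟩ - partialProj F _ ⟨m, by omega⟩ ≫ F.map (homOfLE (Nat.le_succ m)) := by
      refine Sigma.hom_ext _ _ fun i => ?_
      simp only [partialTel, partialProj, Sigma.ι_desc, Sigma.ι_desc_assoc, Preadditive.sub_comp,
        Preadditive.comp_sub, Category.assoc]
      congr 1
      · by_cases hi : i = ⟨m + 1, hm⟩
        · subst hi; simp
        · rw [dif_neg hi, dif_neg (by simpa [Fin.ext_iff] using hi)]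
      · by_cases hi : i = ⟨m, by omega⟩
        · subst hi; simp
        · rw [dif_neg hi, dif_neg (by simpa [Fin.ext_iff] using hi), comp_zero, zero_comp]
    rw [e, Preadditive.comp_sub, ← Category.assoc, ih (by omega), zero_comp, sub_zero] at h
    exact h

/-- The telescope sequence of a sequential colimit. -/
theorem shortExact_telescope (hA : SeqMono A) :
    ∃ w : (𝟙 (∐ F.obj) - DerLim.shiftMap F.obj (fun n => F.map (homOfLE (Nat.le_succ n)))) ≫
        Sigma.desc (fun n => colimit.ι F n) = 0,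
      (ShortComplex.mk _ _ w).ShortExact := by
  let t := 𝟙 (∐ F.obj) - DerLim.shiftMap F.obj (fun n => F.map (homOfLE (Nat.le_succ n)))
  have ht : ∀ n, Sigma.ι F.obj n ≫ t = Sigma.ι F.obj n - F.map (homOfLE (Nat.le_succ n)) ≫ Sigma.ι F.obj (n + 1) := by
    intro n
    simp [t, DerLim.shiftMap, Preadditive.comp_sub]
  have w : t ≫ Sigma.desc (fun n => colimit.ι F n) = 0 := Sigma.hom_ext _ _ fun n => by
    rw [reassoc_of% ht, Preadditive.sub_comp, Category.assoc, Sigma.ι_desc, Sigma.ι_desc, colimit.w, sub_self, comp_zero]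
  refine ⟨w, ?_⟩
  haveI : Mono t := by
    haveI := hA _ _ (partialTel F) (mono_partialTel F)
    let e₀ := (colimit.isColimit (partialSums F 0)).coconePointUniqueUpToIso (isColimitPartialSums F 0)
    let e₁ := (colimit.isColimit (partialSums F 1)).coconePointUniqueUpToIso (isColimitPartialSums F 1)
    have e : t = e₀.inv ≫ colim.map (partialTel F) ≫ e₁.hom := by
      rw [← cancel_epi e₀.hom, Iso.hom_inv_id_assoc]
      refine colimit.hom_ext fun N => ?_
      have h0 : colimit.ι (partialSums F 0) N ≫ e₀.hom = (partialSumsCocone F 0).ι.app N :=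
        IsColimit.comp_coconePointUniqueUpToIso_hom (colimit.isColimit _) _ N
      have h1 : colimit.ι (partialSums F 1) N ≫ e₁.hom = (partialSumsCocone F 1).ι.app N :=
        IsColimit.comp_coconePointUniqueUpToIso_hom (colimit.isColimit _) _ N
      rw [colimit.ι_map_assoc, h1]
      refine (((Category.assoc _ _ _).symm).trans (congrArg (· ≫ t) h0)).trans ?_
      refine Sigma.hom_ext _ _ fun i => ?_
      simp [partialSumsCocone, partialTel, ht, Preadditive.sub_comp]
    rw [e]
    infer_instance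
  haveI : Mono (ShortComplex.mk _ _ w).f := ‹Mono t›
  have hw : ∀ {Z : A} (g : ∐ F.obj ⟶ Z), t ≫ g = 0 → ∀ n, F.map (homOfLE (Nat.le_succ n)) ≫ Sigma.ι F.obj (n + 1) ≫ g =
      Sigma.ι F.obj n ≫ g := fun {Z} g hg n => by
    have := Sigma.ι F.obj n ≫= hg
    rw [reassoc_of% ht, comp_zero, Preadditive.sub_comp, Category.assoc, sub_eq_zero] at this
    exact this.symm
  haveI : Epi (ShortComplex.mk _ _ w).g := ⟨fun g g' h => colimit.hom_ext fun n => by
    have := Sigma.ι F.obj n ≫= h
    simpa using this⟩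
  let natOfSeq : ∀ {Z : A} (a : ∀ n, F.obj n ⟶ Z), (∀ n, F.map (homOfLE (Nat.le_succ n)) ≫ a (n + 1) = a n) → Cocone F :=
    fun {Z} a ha =>
      { pt := Z
        ι := NatTrans.ofSequence a fun n => by simpa using ha n }
  refine { exact := ShortComplex.exact_of_g_is_cokernel _ (CokernelCofork.IsColimit.ofπ _ _
    (fun {Z} g hg => colimit.desc F (natOfSeq (fun n => Sigma.ι F.obj n ≫ g) (hw g hg)))
    (fun {Z} g hg => Sigma.hom_ext _ _ fun n => by simp [natOfSeq])
    (fun {Z} g hg m hm => colimit.hom_ext fun n => by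
      rw [colimit.ι_desc]
      simpa [natOfSeq] using Sigma.ι F.obj n ≫= hm)) }

end Abelian

variable {D : Type u} [Category.{v} D] [Preadditive D] [HasZeroObject D] [HasShift D ℤ]
  [∀ n : ℤ, (shiftFunctor D n).Additive] [Pretriangulated D]

/-- Homological functors commuting with countable sums turn homotopy colimits into colimits. -/
theorem homological_hocolim {A : Type u'} [Category.{v'} A] [Abelian A] [HasColimitsOfShape ℕ A]
    (hA : SeqMono A) [HasColimitsOfShape (Discrete ℕ) D]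
    (H : D ⥤ A) [H.IsHomological] [PreservesColimitsOfShape (Discrete ℕ) H]
    (K : ℕ → D) (f : ∀ n, K n ⟶ K (n + 1)) (L : D) (i : ∀ n, K n ⟶ L) (hL : DerLim.IsHocolim K f L i) :
    ∃ e : colimit (Functor.ofSequence (fun n => H.map (f n))) ≅ H.obj L,
      ∀ n : ℕ, colimit.ι (Functor.ofSequence (fun n => H.map (f n))) n ≫ e.hom = H.map (i n) := by
  obtain ⟨c, hT⟩ := hL
  let t := 𝟙 (∐ K) - DerLim.shiftMap K f
  let F := Functor.ofSequence (fun n => H.map (f n))
  have hF : ∀ n, F.map (homOfLE (Nat.le_succ n)) = H.map (f n) := fun n => Functor.ofSequence_map_homOfLE_succ _ n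
  haveI : HasCoproduct (fun n => H.obj (K n)) :=
    HasColimit.mk ⟨_, isColimitCofanMkObjOfIsColimit H _ _ (coproductIsCoproduct K)⟩
  let i₀ : H.obj (∐ K) ≅ ∐ (fun n => H.obj (K n)) := PreservesCoproduct.iso H K
  haveI : HasCoproduct F.obj := inferInstanceAs (HasCoproduct fun n => H.obj (K n))
  obtain ⟨w, hS⟩ := shortExact_telescope F hA
  have hι : ∀ n, H.map (Sigma.ι K n) ≫ i₀.hom = Sigma.ι F.obj n := fun n => by
    rw [← ι_comp_sigmaComparison H K n, Category.assoc, ← PreservesCoproduct.inv_hom, Iso.inv_hom_id, Category.comp_id]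
    rfl
  have hι' : ∀ n, Sigma.ι F.obj n ≫ i₀.inv = H.map (Sigma.ι K n) := fun n => by rw [← hι, Category.assoc, i₀.hom_inv_id, Category.comp_id]
  have ht : H.map t = i₀.hom ≫ (𝟙 (∐ F.obj) - DerLim.shiftMap F.obj (fun n => F.map (homOfLE (Nat.le_succ n)))) ≫ i₀.inv := by
    rw [← cancel_epi i₀.inv, Iso.inv_hom_id_assoc]
    refine Sigma.hom_ext _ _ fun n => ?_
    refine ((reassoc_of% (hι' n)) _).trans ?_
    simp only [t, DerLim.shiftMap, Preadditive.sub_comp, Preadditive.comp_sub, Category.id_comp, Sigma.ι_desc_assoc,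
      Functor.map_sub, Functor.map_id, Category.comp_id, Category.assoc, hι', ← H.map_comp, Sigma.ι_desc, hF]
    congr 1
    exact ((congrArg (_ ≫ ·) (Category.id_comp _)).trans (hι' n)).symm
  let j : ∐ F.obj ⟶ H.obj L := i₀.inv ≫ H.map (Sigma.desc i)
  let c₀ : Cocone F :=
    { pt := H.obj L
      ι := NatTrans.ofSequence (fun n => H.map (i n)) fun n => by
        simp only [Functor.const_obj_map, Category.comp_id, hF, ← H.map_comp]
        congr 1
        have hw := Sigma.ι K n ≫= comp_distTriang_mor_zero₁₂ _ hT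
        simp only [DerLim.shiftMap, Triangle.mk_mor₁, Triangle.mk_mor₂, Preadditive.sub_comp, Preadditive.comp_sub,
          Category.id_comp, Sigma.ι_desc, Sigma.ι_desc_assoc, Category.assoc, comp_zero, sub_eq_zero] at hw
        have e' : f n ≫ i (n + 1) = i n := by simpa using hw.symm
        exact (congrArg H.map e').trans (Category.comp_id _).symm }
  let φ := colimit.desc F c₀
  have hjφ : j = Sigma.desc (fun n => colimit.ι F n) ≫ φ := Sigma.hom_ext _ _ fun n => by
    simp only [j, reassoc_of% hι' n, ← H.map_comp, Sigma.ι_desc, Sigma.ι_desc_assoc, φ, colimit.ι_desc]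
    rfl
  have hex := H.map_distinguished_exact _ hT
  have hex' := H.map_distinguished_exact _ (rot_of_distTriang _ hT)
  have hmono : Mono (H.map (t⟦(1 : ℤ)⟧')) := by
    let G := Functor.ofSequence (fun n => H.map ((f n)⟦(1 : ℤ)⟧'))
    have hG : ∀ n, G.map (homOfLE (Nat.le_succ n)) = H.map ((f n)⟦(1 : ℤ)⟧') := fun n =>
      Functor.ofSequence_map_homOfLE_succ _ n
    haveI : HasCoproduct (fun n => (shiftFunctor D (1 : ℤ) ⋙ H).obj (K n)) :=
      HasColimit.mk ⟨_, isColimitCofanMkObjOfIsColimit (shiftFunctor D (1 : ℤ) ⋙ H) _ _ (coproductIsCoproduct K)⟩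
    haveI : HasCoproduct G.obj := inferInstanceAs (HasCoproduct fun n => (shiftFunctor D (1 : ℤ) ⋙ H).obj (K n))
    let i₁ : (shiftFunctor D (1 : ℤ) ⋙ H).obj (∐ K) ≅ ∐ (fun n => (shiftFunctor D (1 : ℤ) ⋙ H).obj (K n)) :=
      PreservesCoproduct.iso (shiftFunctor D (1 : ℤ) ⋙ H) K
    have hι₁ : ∀ n, Sigma.ι G.obj n ≫ i₁.inv = H.map ((Sigma.ι K n)⟦(1 : ℤ)⟧') := fun n =>
      ι_comp_sigmaComparison (shiftFunctor D (1 : ℤ) ⋙ H) K n
    obtain ⟨w', hS'⟩ := shortExact_telescope G hA
    haveI := hS'.mono_f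
    have e : H.map (t⟦(1 : ℤ)⟧') = i₁.hom ≫ (𝟙 (∐ G.obj) - DerLim.shiftMap G.obj (fun n => G.map (homOfLE (Nat.le_succ n)))) ≫ i₁.inv := by
      rw [← cancel_epi i₁.inv, Iso.inv_hom_id_assoc]
      refine Sigma.hom_ext _ _ fun n => ?_
      refine ((reassoc_of% (hι₁ n)) _).trans ?_
      simp only [t, DerLim.shiftMap, Preadditive.sub_comp, Preadditive.comp_sub, Category.id_comp, Sigma.ι_desc_assoc,
        Functor.map_sub, Functor.map_id, Category.comp_id, Category.assoc, hι₁, ← H.map_comp, Sigma.ι_desc, hG,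
        ← Functor.map_comp]
      congr 1
      exact ((congrArg (_ ≫ ·) (Category.id_comp _)).trans (hι₁ n)).symm
    rw [e]
    haveI : Mono (𝟙 (∐ G.obj) - DerLim.shiftMap G.obj (fun n => G.map (homOfLE (Nat.le_succ n)))) := hS'.mono_f
    infer_instance
  have hc : H.map c = 0 := by
    have h0 := congrArg H.map (comp_distTriang_mor_zero₃₁ _ hT)
    simp only [Triangle.mk_mor₁, Triangle.mk_mor₃, H.map_comp, H.map_zero] at h0
    exact zero_of_comp_mono (H.map (t⟦(1 : ℤ)⟧')) h0
  haveI : Epi (H.map (Sigma.desc i)) := hex'.epi_f hc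
  haveI : Epi φ := epi_of_epi_fac hjφ.symm
  haveI := hS.epi_g
  have hjt : H.map t ≫ H.map (Sigma.desc i) = 0 := by
    rw [← H.map_comp, show t ≫ Sigma.desc i = 0 from comp_distTriang_mor_zero₁₂ _ hT, H.map_zero]
  haveI : Epi ((shortComplexOfDistTriangle _ hT).map H).g := ‹Epi (H.map (Sigma.desc i))›
  let hk := hex.gIsCokernel
  obtain ⟨ψ, hψ⟩ := CokernelCofork.IsColimit.desc' hk (i₀.hom ≫ Sigma.desc (fun n => colimit.ι F n)) (by
    change H.map t ≫ _ = 0
    rw [ht]
    simp only [Category.assoc, Iso.inv_hom_id_assoc]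
    exact (congrArg (i₀.hom ≫ ·) w).trans comp_zero)
  change H.map (Sigma.desc i) ≫ ψ = i₀.hom ≫ Sigma.desc (fun n => colimit.ι F n) at hψ
  have h1 : φ ≫ ψ = 𝟙 _ := by
    rw [← cancel_epi (ShortComplex.mk _ _ w).g]
    change Sigma.desc (fun n => colimit.ι F n) ≫ φ ≫ ψ = _
    rw [← reassoc_of% hjφ]
    simp only [j, Category.assoc]
    refine (congrArg (i₀.inv ≫ ·) hψ).trans ?_
    exact (Iso.inv_hom_id_assoc _ _).trans (Category.comp_id _).symm
  have h2 : ψ ≫ φ = 𝟙 _ := (cancel_epi φ).1 ((Category.assoc _ _ _).symm.trans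
    ((congrArg (· ≫ φ) h1).trans ((Category.id_comp _).trans (Category.comp_id _).symm)))
  exact ⟨⟨φ, ψ, h1, h2⟩, fun n => colimit.ι_desc c₀ n⟩

/-- Homotopy colimits may be computed on cofinal subsequences. -/
theorem hocolim_subseq [IsTriangulated D] (F : ℕ ⥤ D) (n : ℕ → ℕ) (hn : StrictMono n)
    [HasCoproduct (fun m : ℕ => F.obj m)] [HasCoproduct (fun i : ℕ => F.obj (n i))]
    (L : D) (ι : ∀ m : ℕ, F.obj m ⟶ L)
    (hL : DerLim.IsHocolim (fun m : ℕ => F.obj m) (fun m : ℕ => F.map (homOfLE (Nat.le_succ m))) L ι)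
    (L' : D) (ι' : ∀ i : ℕ, F.obj (n i) ⟶ L')
    (hL' : DerLim.IsHocolim (fun i : ℕ => F.obj (n i)) (fun i : ℕ => F.map (homOfLE (hn.monotone (Nat.le_succ i)))) L' ι') :
    ∃ e : L' ≅ L, ∀ i : ℕ, ι' i ≫ e.hom = ι (n i) := by
  classical
  obtain ⟨c, hT⟩ := hL
  obtain ⟨c', hT'⟩ := hL'
  let K := fun m : ℕ => F.obj m
  let K' := fun i : ℕ => F.obj (n i)
  let E : ∀ {a b : ℕ}, a ≤ b → (F.obj a ⟶ F.obj b) := fun {a b} h => F.map (homOfLE h)
  have EE : ∀ {a b c : ℕ} (h : a ≤ b) (h' : b ≤ c), E h ≫ E h' = E (h.trans h') := fun h h' => by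
    simp only [E, ← F.map_comp, homOfLE_comp]
  have hex : ∀ k, ∃ j, k ≤ n j := fun k => ⟨k, hn.id_le k⟩
  let J : ℕ → ℕ := fun k => Nat.find (hex k)
  have hJ : ∀ k, k ≤ n (J k) := fun k => Nat.find_spec (hex k)
  have hJn : ∀ i, J (n i) = i := fun i => by
    refine (Nat.find_eq_iff (hex (n i))).2 ⟨le_rfl, fun j hj => not_le.2 (hn hj)⟩
  have hJs : ∀ k, k ≠ n (J k) → J (k + 1) = J k := fun k hk => by
    refine (Nat.find_eq_iff (hex (k + 1))).2 ⟨Nat.succ_le_of_lt (lt_of_le_of_ne (hJ k) hk), fun j hj h => ?_⟩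
    exact Nat.find_min (hex k) hj (Nat.le_of_succ_le h)
  have hJe : ∀ k, k = n (J k) → J (k + 1) = J k + 1 := fun k hk => by
    refine (Nat.find_eq_iff (hex (k + 1))).2 ⟨?_, fun j hj h => ?_⟩
    · have := hn (show J k < J k + 1 by omega); omega
    · have := hn.monotone (Nat.lt_succ_iff.1 hj); omega
  let g : ∀ (a k : ℕ), F.obj a ⟶ ∐ K := fun a k => if h : a ≤ k then E h ≫ Sigma.ι K k else 0
  have hg : ∀ {a b k : ℕ} (h : a ≤ b), b ≤ k → E h ≫ g b k = g a k := fun {a b k} h hb => by
    simp only [g, dif_pos hb, dif_pos (h.trans hb), ← Category.assoc, EE]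
  let φ : ∐ K' ⟶ ∐ K := Sigma.desc fun i => ∑ k ∈ Finset.Ico (n i) (n (i + 1)), g (n i) k
  let ψ : ∐ K' ⟶ ∐ K := Sigma.desc fun i => Sigma.ι K (n i)
  let ρ : ∐ K ⟶ ∐ K' := Sigma.desc fun k => E (hJ k) ≫ Sigma.ι K' (J k)
  let ρ' : ∐ K ⟶ ∐ K' := Sigma.desc fun k => if k = n (J k) then E (hJ k) ≫ Sigma.ι K' (J k) else 0
  let Hm : ∐ K ⟶ ∐ K := Sigma.desc fun k => -∑ m ∈ Finset.Ico k (n (J k)), g k m
  let t : ∐ K ⟶ ∐ K := 𝟙 _ - DerLim.shiftMap K (fun m => E (Nat.le_succ m))
  let t' : ∐ K' ⟶ ∐ K' := 𝟙 _ - DerLim.shiftMap K' (fun i => E (hn.monotone (Nat.le_succ i)))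
  have ht : ∀ k, Sigma.ι K k ≫ t = g k k - g k (k + 1) := fun k => by
    simp [t, g, DerLim.shiftMap, Preadditive.comp_sub, E]
  have hgt : ∀ a m, a ≤ m → g a m ≫ t = g a m - g a (m + 1) := fun a m h => by
    conv_lhs => rw [show g a m = E h ≫ Sigma.ι K m from dif_pos h, Category.assoc, ht, Preadditive.comp_sub,
      hg h le_rfl, hg h (Nat.le_succ m)]
  have ht' : ∀ i, Sigma.ι K' i ≫ t' = Sigma.ι K' i - E (hn.monotone (Nat.le_succ i)) ≫ Sigma.ι K' (i + 1) := fun i => by
    simp [t', DerLim.shiftMap, Preadditive.comp_sub]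
  have htel : ∀ a b, a ≤ b → (∑ m ∈ Finset.Ico a b, g a m) ≫ t = g a a - g a b := fun a b h => by
    rw [Preadditive.sum_comp]
    induction b, h using Nat.le_induction with
    | base => simp
    | succ b hb ih => rw [Finset.sum_Ico_succ_top hb, ih, hgt a b hb]; abel
  have gι : ∀ {a k : ℕ} (h : a ≤ k), g a k = E h ≫ Sigma.ι K k := fun h => dif_pos h
  have gself : ∀ a, g a a = Sigma.ι K a := fun a => by simp [gι (le_refl a), E]
  have hφψ : t' ≫ ψ = φ ≫ t := Sigma.hom_ext _ _ fun i => by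
    rw [reassoc_of% ht', Preadditive.sub_comp, Category.assoc]
    simp only [ψ, φ, Sigma.ι_desc, Sigma.ι_desc_assoc, K']
    rw [htel _ _ (hn.monotone (Nat.le_succ i)), gself, gι (hn.monotone (Nat.le_succ i))]
  have hρ : t ≫ ρ = ρ' ≫ t' := Sigma.hom_ext _ _ fun k => by
    rw [reassoc_of% ht, Preadditive.sub_comp, gι (le_refl k), gι (Nat.le_succ k)]
    simp only [ρ, ρ', Sigma.ι_desc_assoc, Category.assoc, Sigma.ι_desc]
    by_cases hk : k = n (J k)
    · rw [if_pos hk, Category.assoc, ht', Preadditive.comp_sub, ← Category.assoc, ← Category.assoc, ← Category.assoc, EE, EE, EE]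
      generalize_proofs p₁ p₂ p₃
      revert p₂ p₃
      rw [hJe k hk]
      intros
      rfl
    · rw [if_neg hk, zero_comp, ← Category.assoc, ← Category.assoc, EE, EE]
      generalize_proofs p₁ p₂
      revert p₂
      rw [hJs k hk]
      intros
      exact sub_self _
  obtain ⟨e, he₂, he₃⟩ := complete_distinguished_triangle_morphism _ _ hT' hT φ ψ hφψ
  obtain ⟨r, hr₂, hr₃⟩ := complete_distinguished_triangle_morphism _ _ hT hT' ρ' ρ hρ
  dsimp at e r he₂ he₃ hr₂ hr₃
  have hψρ : ψ ≫ ρ = 𝟙 _ := Sigma.hom_ext _ _ fun i => by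
    simp only [ψ, ρ, Sigma.ι_desc_assoc, Sigma.ι_desc, Category.comp_id]
    generalize_proofs p
    revert p
    rw [hJn i]
    intro p
    simp [E, K']
    exact Category.id_comp _
  have hφρ : φ ≫ ρ' = 𝟙 _ := Sigma.hom_ext _ _ fun i => by
    simp only [φ, Sigma.ι_desc_assoc, Preadditive.sum_comp, Category.comp_id]
    have h0 := hn (Nat.lt_succ_self i)
    rw [Finset.sum_eq_single (n i)]
    · rw [gself]
      simp only [ρ', Sigma.ι_desc]
      generalize_proofs p
      revert p
      rw [hJn i]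
      intro p
      simp [E, K']
      exact Category.id_comp _
    · intro k hk hki
      rw [Finset.mem_Ico] at hk
      rw [gι hk.1, Category.assoc]
      simp only [ρ', Sigma.ι_desc]
      rw [if_neg, comp_zero]
      intro hkJ
      have h1 : i < J k := by
        by_contra hle
        have := hn.monotone (not_lt.1 hle)
        omega
      have := hn.monotone (show i + 1 ≤ J k from h1)
      omega
    · intro h
      exact absurd (Finset.mem_Ico.2 ⟨le_rfl, h0⟩) h
  have her : IsIso (e ≫ r) := isIso₃_of_isIso₁₂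
    (Triangle.homMk (Triangle.mk t' (Sigma.desc ι') c') (Triangle.mk t' (Sigma.desc ι') c') (𝟙 _) (𝟙 _) (e ≫ r)
      (by simp) (by
        simp
        rw [← Category.assoc, he₂, Category.assoc, hr₂, ← Category.assoc, hψρ, Category.id_comp])
      (by
        change c' ≫ (𝟙 (∐ K'))⟦(1 : ℤ)⟧' = (e ≫ r) ≫ c'
        rw [Category.assoc, ← hr₃, ← reassoc_of% he₃, ← Functor.map_comp, hφρ])) hT' hT'
    (by dsimp; infer_instance) (by dsimp; infer_instance)
  have hHψ : ρ ≫ ψ - 𝟙 _ = Hm ≫ t := Sigma.hom_ext _ _ fun k => by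
    simp only [Hm, Preadditive.comp_sub, Category.comp_id, Sigma.ι_desc_assoc, Preadditive.neg_comp]
    rw [htel _ _ (hJ k), neg_sub, gself]
    simp [ρ, ψ, gι (hJ k), K, K']
  have hHφ : ρ' ≫ φ - 𝟙 _ = t ≫ Hm := Sigma.hom_ext _ _ fun k => by
    rw [reassoc_of% ht, Preadditive.sub_comp, gι (le_refl k), gι (Nat.le_succ k), Category.assoc, Category.assoc]
    simp only [Hm, ρ', Preadditive.comp_sub, Sigma.ι_desc, Sigma.ι_desc_assoc, Category.comp_id, Preadditive.comp_neg, Preadditive.comp_sum]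
    rw [Finset.sum_congr rfl (fun m hm => hg (le_refl k) (Finset.mem_Ico.1 hm).1),
      Finset.sum_congr rfl (fun m hm => hg (Nat.le_succ k) (Finset.mem_Ico.1 hm).1)]
    by_cases hk : k = n (J k)
    · rw [if_pos hk, show Finset.Ico k (n (J k)) = ∅ from Finset.Ico_eq_empty (by omega), Finset.sum_empty, neg_zero,
        zero_sub, neg_neg, Category.assoc, Sigma.ι_desc]
      rw [Preadditive.comp_sum, Finset.sum_congr rfl (fun m hm => hg (hJ k) (Finset.mem_Ico.1 hm).1)]
      simp only [Nat.succ_eq_add_one]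
      have h2 : n (J k) + 1 ≤ n (J k + 1) := hn (Nat.lt_succ_self (J k))
      rw [hJe k hk, ← hk, Finset.sum_eq_sum_Ico_succ_bot (by omega) (fun m => g k m), gself]
      abel
    · have h2 : k < n (J k) := lt_of_le_of_ne (hJ k) hk
      rw [if_neg hk, zero_comp, hJs k hk, Finset.sum_eq_sum_Ico_succ_bot h2 (fun m => g k m), gself]
      abel
  let s := r ≫ e - 𝟙 L
  have hsc : s ≫ c = 0 := by
    have : s ≫ c = c ≫ (ρ' ≫ φ - 𝟙 _)⟦(1 : ℤ)⟧' := by
      simp only [s, Preadditive.sub_comp, Category.id_comp, Category.assoc, ← he₃, Functor.map_sub, Functor.map_comp,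
        CategoryTheory.Functor.map_id, Preadditive.comp_sub, Category.comp_id]
      rw [← reassoc_of% hr₃]
      congr 1
      exact ((congrArg (c ≫ ·) (CategoryTheory.Functor.map_id _ _)).trans (Category.comp_id _)).symm
    rw [this, hHφ, Functor.map_comp]
    exact (comp_distTriang_mor_zero₃₁_assoc _ hT _).trans zero_comp
  have hps : Sigma.desc ι ≫ s = 0 := by
    simp only [s, Preadditive.comp_sub, Category.comp_id, reassoc_of% hr₂, he₂]
    rw [← Category.assoc ρ, sub_eq_zero]
    have h1 : (ρ ≫ ψ - 𝟙 _) ≫ Sigma.desc ι = 0 := by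
      rw [hHψ, Category.assoc, show t ≫ Sigma.desc ι = 0 from comp_distTriang_mor_zero₁₂ _ hT, comp_zero]
    rwa [Preadditive.sub_comp, Category.id_comp, sub_eq_zero] at h1
  obtain ⟨u, hu⟩ := Triangle.coyoneda_exact₃ _ hT s hsc
  have hss : s ≫ s = 0 := by
    conv_lhs => arg 1; rw [hu]
    rw [Category.assoc]
    exact (congrArg (u ≫ ·) hps).trans comp_zero
  haveI : IsIso (r ≫ e) := ⟨𝟙 L - s, by
    constructor <;>
    · rw [show r ≫ e = 𝟙 L + s from (add_sub_cancel _ _).symm]
      simp only [Preadditive.add_comp, Preadditive.comp_add, Preadditive.sub_comp, Preadditive.comp_sub,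
        Category.id_comp, Category.comp_id, hss]
      abel⟩
  haveI : IsIso e := by
    haveI : Mono e := mono_of_mono_fac (show e ≫ r = e ≫ r from rfl)
    haveI : IsSplitEpi e := IsSplitEpi.mk' ⟨inv (r ≫ e) ≫ r, by simp⟩
    exact isIso_of_mono_of_isSplitEpi e
  refine ⟨asIso e, fun i => ?_⟩
  have := Sigma.ι K' i ≫= he₂
  simp only [ψ, Sigma.ι_desc_assoc, Sigma.ι_desc] at this
  exact this

/-- A map is invertible as soon as it is invertible on maps out of generators. -/
theorem isIso_iff_generators {ι : Type*} (S : ι → D)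
    (hS : ∀ K : D, (∀ (i : ι) (n : ℤ) (f : S i ⟶ K⟦n⟧), f = 0) → IsZero K) {X Y : D} (f : X ⟶ Y) :
    IsIso f ↔ ∀ (i : ι) (n : ℤ), Function.Bijective (fun g : S i ⟶ X⟦n⟧ => g ≫ f⟦n⟧') := by
  constructor
  · intro hf i n
    exact ⟨fun g g' h => (cancel_mono (f⟦n⟧')).1 h, fun g => ⟨g ≫ inv (f⟦n⟧'), by simp⟩⟩
  · intro h
    obtain ⟨C, u, δ, hT⟩ := distinguished_cocone_triangle f
    refine (Triangle.isZero₃_iff_isIso₁ _ hT).1 (hS C fun i n g => ?_)
    have hn := Triangle.shift_distinguished _ hT n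
    have hinj : g ≫ δ⟦n⟧' = 0 := by
      let sc := shiftFunctorComm D 1 n
      have h1 : (g ≫ δ⟦n⟧' ≫ sc.hom.app X) ≫ (f⟦n⟧')⟦(1 : ℤ)⟧' = 0 := by
        have h0 : δ⟦n⟧' ≫ (f⟦(1 : ℤ)⟧')⟦n⟧' = 0 := by
          rw [← Functor.map_comp, show δ ≫ f⟦(1 : ℤ)⟧' = 0 from comp_distTriang_mor_zero₃₁ _ hT, Functor.map_zero]
        simp only [Category.assoc]
        have hsc := sc.hom.naturality f
        dsimp at hsc
        rw [← hsc, reassoc_of% h0, zero_comp, comp_zero]
      have h2 : g ≫ δ⟦n⟧' ≫ sc.hom.app X ≫ ((shiftFunctorAdd' D n 1 (n + 1) rfl).inv.app X) = 0 :=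
        (h i (n + 1)).1 (by
          simp only [Category.assoc, zero_comp]
          rw [← (shiftFunctorAdd' D n 1 (n + 1) rfl).inv.naturality f]
          simp only [Category.assoc] at h1
          dsimp
          rw [reassoc_of% h1, zero_comp])
      rwa [← cancel_mono (sc.hom.app X ≫ (shiftFunctorAdd' D n 1 (n + 1) rfl).inv.app X), zero_comp, Category.assoc]
    obtain ⟨g', hg'⟩ := Triangle.coyoneda_exact₃ _ hn g (by
      change g ≫ (n.negOnePow • δ⟦n⟧' ≫ (shiftFunctorComm D 1 n).hom.app X) = 0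
      rw [Linear.comp_units_smul, reassoc_of% hinj, zero_comp, smul_zero])
    obtain ⟨g'', hg''⟩ := (h i n).2 g'
    rw [hg', ← hg'']
    dsimp
    simp only [Category.assoc, Linear.comp_units_smul]
    rw [← Functor.map_comp, show f ≫ u = 0 from comp_distTriang_mor_zero₁₂ _ hT, Functor.map_zero, comp_zero, smul_zero]

end Groth.Agent.DCat
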