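import Groth.Agent.Dual22Lib.BCMain
import Groth.Agent.Dual22Lib.PullTensorNat
import Groth.Agent.DQCoh.Local
import Groth.Agent.DCat.PullComp
import Groth.Prelude.Def_DualFM

/-!
# Base change of Fourier–Mukai functors
-/

set_option autoImplicit false
set_option backward.isDefEq.respectTransparency false
set_option backward.defeqAttrib.useBackward true
set_option linter.style.haveILetI false
set_option linter.unusedVariables false

universe u

open CategoryTheory CategoryTheory.Limits AlgebraicGeometry HomologicalComplex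
open Groth.Agent.Dual22Lib

attribute [local instance] HasDerivedCategory.standard

namespace Groth.Agent.DCat.PhiBaseChange

section Glue

universe v

variable {C₀ C C' P₀ P P' D D' : Type v} [Category C₀] [Category C] [Category C'] [Category P₀] [Category P]
  [Category P'] [Category D] [Category D']

theorem nonempty_glue (ι : C₀ ⥤ C) (π : C ⥤ C') (p' : C' ⥤ P') (t' : P' ⥤ P') (q' : P' ⥤ D')
    (p : C ⥤ P) (m : P ⥤ P') (t : P ⥤ P) (q : P ⥤ D) (w : D ⥤ D') (ιP : P₀ ⥤ P) (F : C₀ ⥤ P₀)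
    (eF : F ⋙ ιP ≅ ι ⋙ p ⋙ t) (eL : p ⋙ m ≅ π ⋙ p') (eT : t ⋙ m ≅ m ⋙ t')
    (eB : ιP ⋙ q ⋙ w ≅ ιP ⋙ m ⋙ q') :
    Nonempty (ι ⋙ π ⋙ p' ⋙ t' ⋙ q' ≅ ι ⋙ (p ⋙ t ⋙ q) ⋙ w) :=
  ⟨calc
    ι ⋙ π ⋙ p' ⋙ t' ⋙ q' ≅ ι ⋙ (π ⋙ p') ⋙ t' ⋙ q' :=
      Functor.isoWhiskerLeft ι (Functor.associator _ _ _).symm
    _ ≅ ι ⋙ (p ⋙ m) ⋙ t' ⋙ q' := Functor.isoWhiskerLeft ι (Functor.isoWhiskerRight eL.symm _)
    _ ≅ ι ⋙ p ⋙ (m ⋙ t') ⋙ q' :=
      Functor.isoWhiskerLeft ι (Functor.associator _ _ _ ≪≫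
        Functor.isoWhiskerLeft p (Functor.associator _ _ _).symm)
    _ ≅ ι ⋙ p ⋙ (t ⋙ m) ⋙ q' :=
      Functor.isoWhiskerLeft ι (Functor.isoWhiskerLeft p (Functor.isoWhiskerRight eT.symm _))
    _ ≅ (ι ⋙ p ⋙ t) ⋙ m ⋙ q' :=
      Functor.isoWhiskerLeft ι (Functor.isoWhiskerLeft p (Functor.associator _ _ _) ≪≫
        (Functor.associator _ _ _).symm) ≪≫ (Functor.associator _ _ _).symm
    _ ≅ (F ⋙ ιP) ⋙ m ⋙ q' := Functor.isoWhiskerRight eF.symm _
    _ ≅ F ⋙ ιP ⋙ q ⋙ w := Functor.associator _ _ _ ≪≫ Functor.isoWhiskerLeft F eB.symm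
    _ ≅ (ι ⋙ p ⋙ t) ⋙ q ⋙ w := (Functor.associator _ _ _).symm ≪≫ Functor.isoWhiskerRight eF _
    _ ≅ ι ⋙ (p ⋙ t ⋙ q) ⋙ w := Functor.associator _ _ _ ≪≫
      Functor.isoWhiskerLeft ι (Functor.associator _ _ _ ≪≫
        Functor.isoWhiskerLeft p (Functor.associator _ _ _).symm ≪≫ (Functor.associator _ _ _).symm)⟩

end Glue

variable {X Y : Scheme.{u}}

theorem nonempty_Lpull_congr {f g : X ⟶ Y} (h : f = g) [DCoh.HasLpull f] [DCoh.HasLpull g] :
    Nonempty (DCoh.Lpull f ≅ DCoh.Lpull g) := by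
  subst h
  exact ⟨Iso.refl _⟩

/-- A commutative square of derived pullbacks. -/
theorem nonempty_Lpull_square {W Z : Scheme.{u}} (m : W ⟶ Z) (p : Z ⟶ Y) (p' : W ⟶ X) (π : X ⟶ Y)
    (h : m ≫ p = p' ≫ π) [DCoh.HasLpull m] [DCoh.HasLpull p] [DCoh.HasLpull p'] [DCoh.HasLpull π] :
    Nonempty (DCoh.Lpull p ⋙ DCoh.Lpull m ≅ DCoh.Lpull π ⋙ DCoh.Lpull p') := by
  haveI := hasLpull (m ≫ p)
  haveI := hasLpull (p' ≫ π)
  obtain ⟨a⟩ := nonempty_LpullComp m p
  obtain ⟨b⟩ := nonempty_LpullComp p' π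
  obtain ⟨c⟩ := nonempty_Lpull_congr h
  exact ⟨a ≪≫ c ≪≫ b.symm⟩

/-- Derived pullback of `- ⊗^L K`. -/
theorem nonempty_LTensor_Lpull (f : X ⟶ Y) [DCoh.HasLpull f] (K : CochainComplex Y.Modules ℤ) [DCoh.HasLTensorCx K]
    (K' : CochainComplex X.Modules ℤ) [DCoh.HasLTensorCx K']
    (e : Nonempty (DCoh.toD X K' ≅ (DCoh.Lpull f).obj (DCoh.toD Y K))) :
    Nonempty (DCoh.LTensorCx K ⋙ DCoh.Lpull f ≅ DCoh.Lpull f ⋙ DCoh.LTensorCx K') := by
  obtain ⟨e⟩ := e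
  obtain ⟨P, hP, ⟨eP⟩⟩ := PullPerf.exists_kflat_rep (DCoh.toD Y K)
  haveI := LTensorSheaf.hasLTensorCx P
  haveI := LTensorSheaf.hasLTensorCx ((PullTensorNat.pullC f).obj P)
  obtain ⟨a⟩ := TensorCongr.nonempty_congr (E := P) (E' := K) eP
  obtain ⟨b⟩ := TensorCongr.nonempty_congr (E := (PullTensorNat.pullC f).obj P) (E' := K')
    ((PullPerf.lpullIso f hP).symm ≪≫ (DCoh.Lpull f).mapIso eP ≪≫ e.symm)
  obtain ⟨c⟩ := PullTensorNat.nonempty_natIso f hP
  exact ⟨Functor.isoWhiskerRight a.symm _ ≪≫ c ≪≫ Functor.isoWhiskerLeft _ b⟩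

/-- Base change for the derived direct image, as an isomorphism of functors on `D_QCoh`. -/
theorem nonempty_bc {X' Y' : Scheme.{u}} (f : X ⟶ Y) [QuasiCompact f] [QuasiSeparated f] (g : Y' ⟶ Y)
    (f' : X' ⟶ Y') (g' : X' ⟶ X) (hsq : IsPullback g' f' f g) (hflat : Flat f ∨ Flat g)
    [DCoh.HasRpush f] [DCoh.HasLpull g] [DCoh.HasRpush f'] [DCoh.HasLpull g'] :
    Nonempty (ObjectProperty.ι (DCoh.IsQCohD (X := X)) ⋙ DCoh.Rpush f ⋙ DCoh.Lpull g ≅
      ObjectProperty.ι (DCoh.IsQCohD (X := X)) ⋙ DCoh.Lpull g' ⋙ DCoh.Rpush f') := by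
  haveI := hasRpush g
  haveI := hasRpush g'
  obtain ⟨adjg⟩ := nonempty_pullPushAdj g
  obtain ⟨adjg'⟩ := nonempty_pullPushAdj g'
  obtain ⟨e⟩ := BCSquare.exists_e hsq.w
  haveI : ∀ E, IsIso ((Functor.whiskerLeft (ObjectProperty.ι (DCoh.IsQCohD (X := X)))
      (BCAlg.bc adjg adjg' e)).app E) := fun E =>
    BCMain.good_of_flat f g hsq hflat inferInstance inferInstance inferInstance inferInstance inferInstance
      inferInstance adjg adjg' e E.obj E.property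
  haveI := NatIso.isIso_of_isIso_app (Functor.whiskerLeft (ObjectProperty.ι (DCoh.IsQCohD (X := X)))
    (BCAlg.bc adjg adjg' e))
  exact ⟨asIso (Functor.whiskerLeft (ObjectProperty.ι (DCoh.IsQCohD (X := X))) (BCAlg.bc adjg adjg' e))⟩

/-- Base change of Fourier–Mukai functors. -/
theorem nonempty_pull_phi {S S' X Y : Scheme.{u}} (a : X ⟶ S) (b : Y ⟶ S) (g : S' ⟶ S)
    [QuasiCompact a] [QuasiSeparated a] (hflat : Flat g ∨ Flat a)
    (K : CochainComplex (pullback a b).Modules ℤ) (hK : DCoh.IsQCohD (DCoh.toD _ K))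
    (m : pullback (pullback.snd a g) (pullback.snd b g) ⟶ pullback a b)
    (hm₁ : m ≫ pullback.fst a b = pullback.fst (pullback.snd a g) (pullback.snd b g) ≫ pullback.fst a g)
    (hm₂ : m ≫ pullback.snd a b = pullback.snd (pullback.snd a g) (pullback.snd b g) ≫ pullback.fst b g)
    [DCoh.HasLpull (pullback.fst a b)] [DCoh.HasLTensorCx K] [DCoh.HasRpush (pullback.snd a b)]
    [DCoh.HasLpull (pullback.fst a g)] [DCoh.HasLpull (pullback.fst b g)] [DCoh.HasLpull m]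
    (K' : CochainComplex (pullback (pullback.snd a g) (pullback.snd b g)).Modules ℤ)
    (hK' : Nonempty (DCoh.toD _ K' ≅ (DCoh.Lpull m).obj (DCoh.toD _ K)))
    [DCoh.HasLpull (pullback.fst (pullback.snd a g) (pullback.snd b g))] [DCoh.HasLTensorCx K']
    [DCoh.HasRpush (pullback.snd (pullback.snd a g) (pullback.snd b g))] :
    Nonempty (ObjectProperty.ι (DCoh.IsQCohD (X := X)) ⋙ DCoh.Lpull (pullback.fst a g) ⋙
        FMK.phi (pullback.snd a g) (pullback.snd b g) K' ≅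
      ObjectProperty.ι (DCoh.IsQCohD (X := X)) ⋙ FMK.phi a b K ⋙ DCoh.Lpull (pullback.fst b g)) := by
  have hsq : IsPullback m (pullback.snd (pullback.snd a g) (pullback.snd b g)) (pullback.snd a b)
      (pullback.fst b g) := by
    have h := (IsPullback.of_hasPullback (pullback.snd a g) (pullback.snd b g)).paste_horiz
      (IsPullback.of_hasPullback a g)
    rw [← hm₁, ← pullback.condition] at h
    exact IsPullback.of_right h hm₂ (IsPullback.of_hasPullback a b)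
  have hfl : Flat (pullback.snd a b) ∨ Flat (pullback.fst b g) := by
    rcases hflat with h | h
    · exact Or.inr inferInstance
    · exact Or.inl inferInstance
  obtain ⟨eBC⟩ := nonempty_bc (pullback.snd a b) (pullback.fst b g) _ m hsq hfl
  obtain ⟨eT⟩ := nonempty_LTensor_Lpull m K K' hK'
  obtain ⟨eL⟩ := nonempty_Lpull_square m (pullback.fst a b) (pullback.fst (pullback.snd a g) (pullback.snd b g))
    (pullback.fst a g) hm₁
  let F : ObjectProperty.FullSubcategory (DCoh.IsQCohD (X := X)) ⥤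
      ObjectProperty.FullSubcategory (DCoh.IsQCohD (X := pullback a b)) :=
    ObjectProperty.lift _ (ObjectProperty.ι _ ⋙ DCoh.Lpull (pullback.fst a b) ⋙ DCoh.LTensorCx K)
      fun E => DQCoh.isQCohD_LTensorCx K hK _ (DQCoh.isQCohD_Lpull (pullback.fst a b) _ E.property)
  exact nonempty_glue _ _ _ _ _ _ _ _ _ _ _ F (Iso.refl _) eL eT eBC

end Groth.Agent.DCat.PhiBaseChange
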