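import Groth.Agent.DCat.ProjPerf
import Groth.Agent.DCat.ClosedPushD
import Groth.Agent.DCat.RHomLeft
import Groth.Agent.DCat.PullComp
import Groth.Agent.Dual22Lib.PullTensorNat
import Groth.Agent.Dual22Lib.ShSymm
import Groth.Prelude.Def_DualFM
import Mathlib.AlgebraicGeometry.Morphisms.Separated

/-!
# The Fourier–Mukai functor of the diagonal is the identity
-/

set_option autoImplicit false
set_option backward.isDefEq.respectTransparency false
set_option backward.defeqAttrib.useBackward true
set_option linter.style.haveILetI false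
set_option linter.unusedVariables false

universe u

open CategoryTheory CategoryTheory.Limits AlgebraicGeometry HomologicalComplex
open Groth.Agent.SiteTen Groth.Agent.ModStalk

attribute [local instance] HasDerivedCategory.standard
attribute [-instance] Int.instConditionallyCompleteLinearOrder

namespace Groth.Agent.DCat.PhiDiag

variable {X P : Scheme.{u}}

theorem preservesHomology_push (f : X ⟶ P) [IsClosedImmersion f] :
    (Scheme.Modules.pushforward f).PreservesHomology := by
  haveI : PreservesFiniteColimits (Scheme.Modules.pushforward f) := Coherent.preservesFiniteColimits_push f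
  haveI : PreservesFiniteLimits (Scheme.Modules.pushforward f) :=
    haveI := (Scheme.Modules.pullbackPushforwardAdjunction f).rightAdjoint_preservesLimits
      (G := Scheme.Modules.pushforward f)
    inferInstance
  infer_instance

/-- An exact direct image is its own derived functor. -/
theorem nonempty_rpushFac (f : X ⟶ P) [DCoh.HasRpush f] [(Scheme.Modules.pushforward f).PreservesHomology] :
    Nonempty (DerivedCategory.Q ⋙ DCoh.Rpush f ≅ ProjPerf.pushC f ⋙ DerivedCategory.Q) := by
  haveI : ∀ C, IsIso ((ProjPerf.unitD f).app C) := fun C => by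
    obtain ⟨J, s, hJ, hs⟩ := modules_enoughKInj X C
    haveI := hJ
    haveI := hs
    haveI := ProjPerf.isIso_unitD f J
    haveI : IsIso (DerivedCategory.Q.map s) := (DerivedCategory.isIso_Q_map_iff_quasiIso _ s).2 hs
    haveI : QuasiIso ((ProjPerf.pushC f).map s) := inferInstance
    haveI : IsIso (DerivedCategory.Q.map ((ProjPerf.pushC f).map s)) :=
      (DerivedCategory.isIso_Q_map_iff_quasiIso _ _).2 ‹_›
    have e := (ProjPerf.unitD f).naturality s
    simp only [Functor.comp_map] at e
    exact IsIso.of_isIso_fac_right e.symm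
  haveI := NatIso.isIso_of_isIso_app (ProjPerf.unitD f)
  exact ⟨(asIso (ProjPerf.unitD f)).symm⟩

/-- `R(1)_* = 1`. -/
theorem nonempty_Rpush_of_eq_id {g : X ⟶ X} (h : g = 𝟙 X) [DCoh.HasRpush g] :
    Nonempty (DCoh.Rpush g ≅ 𝟭 (DCoh.D X)) := by
  subst h
  haveI := preservesHomology_push (𝟙 X)
  obtain ⟨e⟩ := nonempty_rpushFac (𝟙 X)
  let e' : DerivedCategory.Q ⋙ DCoh.Rpush (𝟙 X) ≅ DerivedCategory.Q :=
    e ≪≫ Functor.isoWhiskerRight (NatIso.mapHomologicalComplex (Scheme.Modules.pushforwardId X) (ComplexShape.up ℤ) ≪≫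
      Functor.mapHomologicalComplexIdIso _ _) _ ≪≫ Functor.leftUnitor _
  letI : Localization.Lifting DerivedCategory.Q (HomologicalComplex.quasiIso X.Modules (ComplexShape.up ℤ))
      DerivedCategory.Q (DCoh.Rpush (𝟙 X)) := ⟨e'⟩
  letI : Localization.Lifting DerivedCategory.Q (HomologicalComplex.quasiIso X.Modules (ComplexShape.up ℤ))
      DerivedCategory.Q (𝟭 (DCoh.D X)) := ⟨Functor.rightUnitor _⟩
  exact ⟨Localization.liftNatIso DerivedCategory.Q (HomologicalComplex.quasiIso X.Modules (ComplexShape.up ℤ))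
    DerivedCategory.Q DerivedCategory.Q _ _ (Iso.refl _)⟩

/-- Functors on `D(O_X)` related by a map to one of them which is invertible on K-flat complexes. -/
theorem nonempty_iso_of_kflat {H : Type (u + 1)} [Category.{u + 1} H] {G₁ G₂ : DCoh.D X ⥤ H}
    (β : DerivedCategory.Q ⋙ G₁ ⟶ DerivedCategory.Q ⋙ G₂)
    (h : ∀ ⦃N⦄, IsKFlatFor (shT X) N → IsIso (β.app N)) : Nonempty (G₁ ≅ G₂) := by
  haveI : ∀ C, IsIso (β.app C) := fun C => by
    obtain ⟨N, c, hN, -, hc, -⟩ := exists_kflat_sheaf C
    haveI := hc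
    haveI := h hN
    haveI : IsIso (DerivedCategory.Q.map c) := (DerivedCategory.isIso_Q_map_iff_quasiIso _ c).2 hc
    have e := β.naturality c
    simp only [Functor.comp_map] at e
    exact IsIso.of_isIso_fac_left e
  haveI := NatIso.isIso_of_isIso_app β
  exact ⟨Localization.liftNatIso DerivedCategory.Q (HomologicalComplex.quasiIso X.Modules (ComplexShape.up ℤ))
    (DerivedCategory.Q ⋙ G₁) (DerivedCategory.Q ⋙ G₂) _ _ (asIso β)⟩

section Generic

universe v₁ u₁

variable {A : Type u₁} [Category.{v₁} A] [Abelian A] (T : A ⥤ A ⥤ A) [T.Additive] [∀ a, (T.obj a).Additive]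
  [∀ (K₁ : CochainComplex A ℤ) (K₂ : CochainComplex A ℤ), CochainComplex.HasMapBifunctor K₁ K₂ T]

theorem flip_single_generic (M : A) [(T.flip.obj M).Additive]
    (Φ : CochainComplex A ℤ ⥤ CochainComplex A ℤ ⥤ CochainComplex A ℤ) (hΦ : Φ = T.map₂CochainComplex) :
    Nonempty (Φ.flip.obj ((single A (ComplexShape.up ℤ) 0).obj M) ≅
      (T.flip.obj M).mapHomologicalComplex (ComplexShape.up ℤ)) := by
  subst hΦ
  exact ⟨(NatIso.ofComponents (fun F => asIso (totSingle T M F))
      fun {F G} f => totSingle_natural T M f).symm⟩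

end Generic

/-- The symmetry, as natural isomorphism. -/
noncomputable def comm (N : X.Modules) : (shT X).flip.obj N ≅ (shT X).obj N :=
  NatIso.ofComponents (fun M => AmpleLib.tensorComm M N) fun {M M'} φ =>
    Dual22Lib.ShSymm.tensorComm_nat₁ φ N

/-- The projection formula for modules, naturally. -/
noncomputable def proj (f : X ⟶ P) [IsClosedImmersion f] (M : X.Modules) :
    (shT P).obj ((Scheme.Modules.pushforward f).obj M) ≅
      Scheme.Modules.pullback f ⋙ (shT X).obj M ⋙ Scheme.Modules.pushforward f :=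
  NatIso.ofComponents (fun N => asIso (ClosedPush.projMap f M N)) fun {N N'} ψ => ClosedPush.projMap_nat₂ f M ψ

/-- `p^* M ⊗ f_* O = f_* M` for a section `f` of `p`. -/
noncomputable def termIso (f : X ⟶ P) [IsClosedImmersion f] (p : P ⟶ X) (h : f ≫ p = 𝟙 X) :
    Scheme.Modules.pullback p ⋙ (shT P).flip.obj ((Scheme.Modules.pushforward f).obj (Coh.structureModule X)) ≅
      Scheme.Modules.pushforward f :=
  Functor.isoWhiskerLeft _ (comm _ ≪≫ proj f _ ≪≫ Functor.isoWhiskerLeft _
      (Functor.isoWhiskerRight ((comm (Coh.structureModule X)).symm ≪≫ RHomLeft.rightUnitIso X) _ ≪≫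
        Functor.leftUnitor _)) ≪≫
    (Functor.associator _ _ _).symm ≪≫
    Functor.isoWhiskerRight (Scheme.Modules.pullbackComp f p ≪≫ Scheme.Modules.pullbackCongr h ≪≫
      Scheme.Modules.pullbackId X) _ ≪≫ Functor.leftUnitor _

/-- `Lp^*(-) ⊗^L f_* O = Rf_*` for a section `f` of `p`. -/
theorem nonempty_pull_tensor (f : X ⟶ P) [IsClosedImmersion f] (p : P ⟶ X) (h : f ≫ p = 𝟙 X)
    [DCoh.HasLpull p] [DCoh.HasRpush f]
    [DCoh.HasLTensorCx ((single P.Modules (ComplexShape.up ℤ) 0).obj
      ((Scheme.Modules.pushforward f).obj (Coh.structureModule X)))] :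
    Nonempty (DCoh.Lpull p ⋙ DCoh.LTensorCx ((single P.Modules (ComplexShape.up ℤ) 0).obj
      ((Scheme.Modules.pushforward f).obj (Coh.structureModule X))) ≅ DCoh.Rpush f) := by
  haveI := preservesHomology_push f
  set N₀ := (Scheme.Modules.pushforward f).obj (Coh.structureModule X)
  haveI : ((shT P).flip.obj N₀).Additive := Dual22Lib.ShSymm.additive_flip_obj N₀
  obtain ⟨eR⟩ := nonempty_rpushFac f
  obtain ⟨eS⟩ := flip_single_generic (shT P) N₀ (DCoh.tensorCx (X := P)) rfl
  let eC : Dual22Lib.PullTensorNat.pullC p ⋙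
      (DCoh.tensorCx (X := P)).flip.obj ((single P.Modules (ComplexShape.up ℤ) 0).obj N₀) ≅ ProjPerf.pushC f :=
    Functor.isoWhiskerLeft _ eS ≪≫ Functor.mapHomologicalComplexCompIso (termIso f p h) (ComplexShape.up ℤ)
  let β₀ := Functor.whiskerRight (Dual22Lib.PullTensorNat.cmpPull p)
      (DCoh.LTensorCx ((single P.Modules (ComplexShape.up ℤ) 0).obj N₀)) ≫
    (Functor.associator _ _ _).hom ≫
    Functor.whiskerLeft (Dual22Lib.PullTensorNat.pullC p)
      (LTensorSheaf.counit ((single P.Modules (ComplexShape.up ℤ) 0).obj N₀))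
  let eD := (Functor.associator (Dual22Lib.PullTensorNat.pullC p) _ DerivedCategory.Q).symm ≪≫
    Functor.isoWhiskerRight eC DerivedCategory.Q ≪≫ eR.symm
  refine nonempty_iso_of_kflat ((Functor.associator _ _ _).inv ≫ β₀ ≫ eD.hom) fun N hN => ?_
  haveI := Dual22Lib.PullTensorNat.isIso_cmpPull_app p hN
  haveI := LTensorSheaf.isIso_counit ((single P.Modules (ComplexShape.up ℤ) 0).obj N₀)
    (PullTot.isKFlatFor_pullback p hN)
  haveI : IsIso (β₀.app N) := by
    simp only [β₀, NatTrans.comp_app, Functor.whiskerRight_app, Functor.whiskerLeft_app]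
    infer_instance
  simp only [NatTrans.comp_app]
  infer_instance

/-- The Fourier–Mukai functor of the diagonal kernel is the identity. -/
theorem nonempty_phi_diag {S X : Scheme.{u}} (a : X ⟶ S) [IsSeparated a]
    (K : CochainComplex (Limits.pullback a a).Modules ℤ) (hK : Nonempty (DCoh.toD _ K ≅ FMK.diagO a))
    [DCoh.HasLpull (Limits.pullback.fst a a)] [DCoh.HasLTensorCx K] [DCoh.HasRpush (Limits.pullback.snd a a)] :
    Nonempty (FMK.phi a a K ≅ 𝟭 (DCoh.D X)) := by
  obtain ⟨hK⟩ := hK
  haveI : IsClosedImmersion (pullback.diagonal a) := IsSeparated.isClosedImmersion_diagonal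
  haveI := hasRpush (pullback.diagonal a)
  haveI := hasRpush (pullback.diagonal a ≫ pullback.snd a a)
  haveI := LTensorSheaf.hasLTensorCx ((single (pullback a a).Modules (ComplexShape.up ℤ) 0).obj
    ((Scheme.Modules.pushforward (pullback.diagonal a)).obj (Coh.structureModule X)))
  obtain ⟨e₁⟩ := TensorCongr.nonempty_congr (E' := (single (pullback a a).Modules (ComplexShape.up ℤ) 0).obj
    ((Scheme.Modules.pushforward (pullback.diagonal a)).obj (Coh.structureModule X)))
    (hK ≪≫ (DerivedCategory.singleFunctorIsoCompQ _ 0).app _)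
  obtain ⟨e₂⟩ := nonempty_pull_tensor (pullback.diagonal a) (pullback.fst a a) (pullback.diagonal_fst a)
  obtain ⟨e₃⟩ := nonempty_RpushComp (pullback.diagonal a) (pullback.snd a a)
  obtain ⟨e₄⟩ := nonempty_Rpush_of_eq_id (pullback.diagonal_snd a)
  exact ⟨Functor.isoWhiskerLeft _ (Functor.isoWhiskerRight e₁ _) ≪≫ (Functor.associator _ _ _).symm ≪≫
    Functor.isoWhiskerRight e₂ _ ≪≫ e₃ ≪≫ e₄⟩

end Groth.Agent.DCat.PhiDiag
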