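import Groth.Agent.Dual22Lib.ProjQCoh
import Mathlib.Algebra.Homology.DerivedCategory.KInjective

/-!
# The projection formula on `D_QCoh` as isomorphisms of functors
-/

set_option autoImplicit false
set_option backward.isDefEq.respectTransparency false
set_option backward.defeqAttrib.useBackward true
set_option linter.style.haveILetI false
set_option linter.unusedVariables false

universe u

open CategoryTheory CategoryTheory.Limits AlgebraicGeometry HomologicalComplex
open Groth.Agent.ModStalk Groth.Agent.DCat.ProjPerf Groth.Agent.Dual22Lib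

attribute [local instance] HasDerivedCategory.standard

namespace Groth.Agent.DCat.ProjNatural

section TotHom

universe v₁ v₂ v₃ v₁' v₂' v₃' u₁ u₂ u₃ u₁' u₂' u₃'

variable {A : Type u₁} [Category.{v₁} A] [Abelian A] {B : Type u₂} [Category.{v₂} B] [Abelian B]
  {C : Type u₃} [Category.{v₃} C] [Abelian C]
  {A' : Type u₁'} [Category.{v₁'} A'] [Abelian A'] {B' : Type u₂'} [Category.{v₂'} B'] [Abelian B']
  {C' : Type u₃'} [Category.{v₃'} C'] [Abelian C']
  (T : A ⥤ B ⥤ C) [T.Additive] [∀ a, (T.obj a).Additive]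
  [∀ (K₁ : CochainComplex A ℤ) (K₂ : CochainComplex B ℤ), CochainComplex.HasMapBifunctor K₁ K₂ T]
  (T' : A' ⥤ B' ⥤ C') [T'.Additive] [∀ a, (T'.obj a).Additive]
  [∀ (K₁ : CochainComplex A' ℤ) (K₂ : CochainComplex B' ℤ), CochainComplex.HasMapBifunctor K₁ K₂ T']
  (F : A' ⥤ A) [F.Additive] (H : B ⥤ B') [H.Additive] (G : C' ⥤ C) [G.Additive]
  (α : ∀ a b, (T.obj (F.obj a)).obj b ⟶ G.obj ((T'.obj a).obj (H.obj b)))

/-- Naturality of `totHom` in the first variable. -/
theorem totHom_natural₁ (hα₁ : ∀ {a a' : A'} (f : a ⟶ a') (b : B),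
    (T.map (F.map f)).app b ≫ α a' b = α a b ≫ G.map ((T'.map f).app (H.obj b)))
    (hα₂ : ∀ (a : A') {b b' : B} (g : b ⟶ b'),
    (T.obj (F.obj a)).map g ≫ α a b' = α a b ≫ G.map ((T'.obj a).map (H.map g)))
    {M M' : CochainComplex A' ℤ} (g : M ⟶ M') (K : CochainComplex B ℤ) :
    totMap₁ T ((F.mapHomologicalComplex (ComplexShape.up ℤ)).map g) K ≫
        TotHom.totHom T T' F H G α hα₁ hα₂ M' K =
      TotHom.totHom T T' F H G α hα₁ hα₂ M K ≫
        (G.mapHomologicalComplex (ComplexShape.up ℤ)).map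
          (totMap₁ T' g ((H.mapHomologicalComplex (ComplexShape.up ℤ)).obj K)) := by
  ext n : 1
  refine mapBifunctor.hom_ext fun p q h => ?_
  dsimp [TotHom.totHom]
  rw [ι_mapBifunctorMap_assoc, TotHom.ι_totHomX_assoc, ← G.map_comp, ι_mapBifunctorMap]
  simp only [id_f, CategoryTheory.Functor.map_id, Category.id_comp]
  erw [TotHom.ι_totHomX]
  rw [G.map_comp]
  exact (Category.assoc _ _ _).symm.trans ((congrArg (· ≫ _) (hα₁ (g.f p) (K.X q))).trans (Category.assoc _ _ _))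

end TotHom

variable {X Y : Scheme.{u}} (f : X ⟶ Y)

theorem Theta_natural₁ {I J : CochainComplex X.Modules ℤ} (g : I ⟶ J) (P : CochainComplex Y.Modules ℤ) :
    totMap₁ (shT Y) ((pushC f).map g) P ≫ Theta f J P =
      Theta f I P ≫ (pushC f).map (totMap₁ (shT X) g ((pullC f).obj P)) :=
  totHom_natural₁ (shT Y) (shT X) (Scheme.Modules.pushforward f) (Scheme.Modules.pullback f)
    (Scheme.Modules.pushforward f) (theta f) (fun φ N => theta_nat₁ f φ N) (fun M {_ _} ψ => theta_nat₂ f M ψ) g P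

/-- Morphisms between K-injective complexes in the derived category. -/
theorem exists_map_eq {A B : CochainComplex X.Modules ℤ} (hB : B.IsKInjective)
    (u : DerivedCategory.Q.obj A ⟶ DerivedCategory.Q.obj B) :
    ∃ t : A ⟶ B, DerivedCategory.Q.map t = u := by
  haveI := hB
  let q := DerivedCategory.quotientCompQhIso X.Modules
  obtain ⟨v, hv⟩ := (CochainComplex.IsKInjective.Qh_map_bijective
    ((HomotopyCategory.quotient _ _).obj A) B).surjective (q.hom.app A ≫ u ≫ q.inv.app B)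
  obtain ⟨t, rfl⟩ := (HomotopyCategory.quotient _ _).map_surjective v
  refine ⟨t, ?_⟩
  have h := q.hom.naturality t
  simp only [Functor.comp_map] at h
  rw [hv] at h
  simpa [cancel_epi] using h.symm

variable [DCoh.HasRpush f] [DCoh.HasLpull f]

omit [DCoh.HasLpull f] in
theorem eta_natural₁ {I J : CochainComplex X.Modules ℤ} (g : I ⟶ J) (P : CochainComplex Y.Modules ℤ) :
    DerivedCategory.Q.map (totMap₁ (shT Y) ((pushC f).map g) P) ≫ eta f J P =
      eta f I P ≫ (DCoh.Rpush f).map (DerivedCategory.Q.map (totMap₁ (shT X) g ((pullC f).obj P))) := by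
  have e := (unitD f).naturality (totMap₁ (shT X) g ((pullC f).obj P))
  simp only [Functor.comp_map] at e
  simp only [eta, Category.assoc]
  rw [← DerivedCategory.Q.map_comp_assoc, Theta_natural₁, DerivedCategory.Q.map_comp, Category.assoc]
  exact congrArg (_ ≫ ·) e

/-- `Rf_*(-) ⊗^L K ≅ Rf_*(- ⊗^L Lf^* K)` on `D_QCoh(X)`. -/
theorem nonempty_proj₁ [QuasiCompact f] [QuasiSeparated f] (K : CochainComplex Y.Modules ℤ)
    (hK : DCoh.IsQCohD (DerivedCategory.Q.obj K)) [DCoh.HasLTensorCx K] (M : CochainComplex X.Modules ℤ)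
    (hM : Nonempty (DerivedCategory.Q.obj M ≅ (DCoh.Lpull f).obj (DerivedCategory.Q.obj K)))
    [DCoh.HasLTensorCx M] :
    Nonempty (ObjectProperty.ι (DCoh.IsQCohD (X := X)) ⋙ DCoh.Rpush f ⋙ DCoh.LTensorCx K ≅
      ObjectProperty.ι (DCoh.IsQCohD (X := X)) ⋙ DCoh.LTensorCx M ⋙ DCoh.Rpush f) := by
  obtain ⟨eM⟩ := hM
  obtain ⟨P, hP, ⟨eP⟩⟩ := PullPerf.exists_kflat_rep (DerivedCategory.Q.obj K)
  haveI := LTensorSheaf.hasLTensorCx P
  haveI := LTensorSheaf.hasLTensorCx ((pullC f).obj P)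
  let c := TensorCongr.fac hP
  let c' := TensorCongr.fac (PullTot.isKFlatFor_pullback f hP)
  let τ₀ : ∀ A : CochainComplex X.Modules ℤ, A.IsKInjective →
      ((DCoh.Rpush f ⋙ DCoh.LTensorCx P).obj (DerivedCategory.Q.obj A) ⟶
        (DCoh.LTensorCx ((pullC f).obj P) ⋙ DCoh.Rpush f).obj (DerivedCategory.Q.obj A)) := fun A hA =>
    haveI := hA
    haveI := isIso_unitD f A
    (DCoh.LTensorCx P).map (inv ((unitD f).app A)) ≫ c.hom.app ((pushC f).obj A) ≫ eta f A P ≫
      (DCoh.Rpush f).map (c'.inv.app A)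
  obtain ⟨τ, hτ⟩ := WeakExact.exists_natTrans DerivedCategory.Q (fun A : CochainComplex X.Modules ℤ => A.IsKInjective)
    (fun E => by
      obtain ⟨J, s, hJ, hs⟩ := modules_enoughKInj X (DerivedCategory.Q.objPreimage E)
      haveI := (DerivedCategory.isIso_Q_map_iff_quasiIso _ s).2 hs
      exact ⟨J, hJ, ⟨(asIso (DerivedCategory.Q.map s)).symm ≪≫ DerivedCategory.Q.objObjPreimageIso E⟩⟩)
    (fun A B hA hB u => by
      obtain ⟨t, ht⟩ := exists_map_eq hB u
      exact ⟨A, 𝟙 A, t, hA, inferInstance, by rw [CategoryTheory.Functor.map_id, Category.id_comp, ht]⟩)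
    (DCoh.Rpush f ⋙ DCoh.LTensorCx P) (DCoh.LTensorCx ((pullC f).obj P) ⋙ DCoh.Rpush f) τ₀ fun A B hA hB s => by
      haveI := hA
      haveI := hB
      haveI := isIso_unitD f A
      haveI := isIso_unitD f B
      have h₁ : (DCoh.Rpush f).map (DerivedCategory.Q.map s) ≫ inv ((unitD f).app B) =
          inv ((unitD f).app A) ≫ DerivedCategory.Q.map ((pushC f).map s) := by
        rw [IsIso.comp_inv_eq, Category.assoc, IsIso.eq_inv_comp]
        exact ((unitD f).naturality s).symm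
      have h₁' := congrArg (DCoh.LTensorCx P).map h₁
      rw [Functor.map_comp, Functor.map_comp] at h₁'
      have h₂ := c.hom.naturality ((pushC f).map s)
      have h₄ := congrArg (DCoh.Rpush f).map (c'.inv.naturality s)
      rw [Functor.map_comp, Functor.map_comp] at h₄
      have h₃ := eta_natural₁ f s P
      show (DCoh.LTensorCx P).map ((DCoh.Rpush f).map (DerivedCategory.Q.map s)) ≫
          (DCoh.LTensorCx P).map (inv ((unitD f).app B)) ≫ c.hom.app _ ≫ eta f B P ≫ _ =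
        ((DCoh.LTensorCx P).map (inv ((unitD f).app A)) ≫ c.hom.app _ ≫ eta f A P ≫ _) ≫
          (DCoh.Rpush f).map ((DCoh.LTensorCx ((pullC f).obj P)).map (DerivedCategory.Q.map s))
      refine (Category.assoc _ _ _).symm.trans ((congrArg (· ≫ _) h₁').trans ((Category.assoc _ _ _).trans ?_))
      simp only [Category.assoc]
      refine congrArg (_ ≫ ·) ?_
      refine (Category.assoc _ _ _).symm.trans ((congrArg (· ≫ _) h₂).trans ((Category.assoc _ _ _).trans
        (congrArg (_ ≫ ·) ?_)))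
      refine (Category.assoc _ _ _).symm.trans ((congrArg (· ≫ _) h₃).trans ((Category.assoc _ _ _).trans
        (congrArg (_ ≫ ·) ?_)))
      exact h₄
  haveI : ∀ E, IsIso ((Functor.whiskerLeft (ObjectProperty.ι (DCoh.IsQCohD (X := X))) τ).app E) := fun E => by
    obtain ⟨J, s, hJ, hs⟩ := modules_enoughKInj X (DerivedCategory.Q.objPreimage E.obj)
    haveI := (DerivedCategory.isIso_Q_map_iff_quasiIso _ s).2 hs
    let e : DerivedCategory.Q.obj J ≅ E.obj :=
      (asIso (DerivedCategory.Q.map s)).symm ≪≫ DerivedCategory.Q.objObjPreimageIso E.obj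
    refine (NatTrans.isIso_app_iff_of_iso τ e).1 ?_
    rw [hτ J hJ]
    haveI := hJ
    haveI := isIso_unitD f J
    haveI := LTensorSheaf.hasLTensorCx J
    haveI := LTensorSheaf.hasLTensorCx ((pushC f).obj J)
    haveI := ProjQCoh.isIso_eta_qcoh f J (DQCoh.isQCohD_of_iso e.symm E.property) hP
      (DQCoh.isQCohD_of_iso eP.symm hK)
    show IsIso ((DCoh.LTensorCx P).map (inv ((unitD f).app J)) ≫ c.hom.app _ ≫ eta f J P ≫
      (DCoh.Rpush f).map (c'.inv.app J))
    infer_instance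
  haveI := NatIso.isIso_of_isIso_app (Functor.whiskerLeft (ObjectProperty.ι (DCoh.IsQCohD (X := X))) τ)
  obtain ⟨a⟩ := TensorCongr.nonempty_congr (E := P) (E' := K) eP
  obtain ⟨b⟩ := TensorCongr.nonempty_congr (E := (pullC f).obj P) (E' := M)
    ((PullPerf.lpullIso f hP).symm ≪≫ (DCoh.Lpull f).mapIso eP ≪≫ eM.symm)
  exact ⟨Functor.isoWhiskerLeft _ (Functor.isoWhiskerLeft _ a.symm) ≪≫
    asIso (Functor.whiskerLeft (ObjectProperty.ι (DCoh.IsQCohD (X := X))) τ) ≪≫
    Functor.isoWhiskerLeft _ (Functor.isoWhiskerRight b _)⟩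

/-- `- ⊗^L Rf_* E ≅ Rf_*(Lf^*(-) ⊗^L E)` on `D_QCoh(Y)`. -/
theorem nonempty_proj₂ [QuasiCompact f] [QuasiSeparated f] (N : CochainComplex Y.Modules ℤ) [DCoh.HasLTensorCx N]
    (E : CochainComplex X.Modules ℤ) (hE : DCoh.IsQCohD (DerivedCategory.Q.obj E)) [DCoh.HasLTensorCx E]
    (hN : Nonempty (DerivedCategory.Q.obj N ≅ (DCoh.Rpush f).obj (DerivedCategory.Q.obj E))) :
    Nonempty (ObjectProperty.ι (DCoh.IsQCohD (X := Y)) ⋙ DCoh.LTensorCx N ≅
      ObjectProperty.ι (DCoh.IsQCohD (X := Y)) ⋙ DCoh.Lpull f ⋙ DCoh.LTensorCx E ⋙ DCoh.Rpush f) := by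
  obtain ⟨eN⟩ := hN
  obtain ⟨I, s, hI, hs⟩ := modules_enoughKInj X E
  haveI := hI
  haveI : IsIso (DerivedCategory.Q.map s) := (DerivedCategory.isIso_Q_map_iff_quasiIso _ s).2 hs
  haveI := LTensorSheaf.hasLTensorCx I
  haveI := LTensorSheaf.hasLTensorCx ((pushC f).obj I)
  haveI := isIso_unitD f I
  let e₁ : DerivedCategory.Q.obj ((pushC f).obj I) ≅ (DCoh.Rpush f).obj (DerivedCategory.Q.obj I) :=
    asIso ((unitD f).app I)
  obtain ⟨τ, hτ⟩ := ProjQCoh.exists_tau f I
  haveI : ∀ K, IsIso ((Functor.whiskerLeft (ObjectProperty.ι (DCoh.IsQCohD (X := Y))) τ).app K) := fun K => by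
    obtain ⟨P, hP, ⟨eP⟩⟩ := PullPerf.exists_kflat_rep K.obj
    refine (NatTrans.isIso_app_iff_of_iso τ eP).1 ?_
    rw [hτ P hP]
    haveI := ProjQCoh.isIso_eta_qcoh f I (DQCoh.isQCohD_of_iso (asIso (DerivedCategory.Q.map s)) hE) hP
      (DQCoh.isQCohD_of_iso eP.symm K.property)
    infer_instance
  haveI := NatIso.isIso_of_isIso_app (Functor.whiskerLeft (ObjectProperty.ι (DCoh.IsQCohD (X := Y))) τ)
  obtain ⟨a⟩ := TensorCongr.nonempty_congr (E := N) (E' := (pushC f).obj I)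
    (eN ≪≫ (DCoh.Rpush f).mapIso (asIso (DerivedCategory.Q.map s)) ≪≫ e₁.symm)
  obtain ⟨b⟩ := TensorCongr.nonempty_congr (E := I) (E' := E) (asIso (DerivedCategory.Q.map s)).symm
  exact ⟨Functor.isoWhiskerLeft _ a ≪≫ asIso (Functor.whiskerLeft (ObjectProperty.ι (DCoh.IsQCohD (X := Y))) τ) ≪≫
    Functor.isoWhiskerLeft _ (Functor.isoWhiskerLeft _ (Functor.isoWhiskerRight b _))⟩

end Groth.Agent.DCat.ProjNatural
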