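import Mathlib.Algebra.Homology.DerivedCategory.Fractions
import Mathlib.Algebra.Homology.DerivedCategory.TStructure
import Mathlib.Algebra.Homology.DerivedCategory.SingleTriangle
import Mathlib.Algebra.Homology.HomotopyCategory.Pretriangulated
import Mathlib.Algebra.Homology.Double
import Mathlib.Algebra.Category.ModuleCat.Abelian
import Mathlib.Algebra.Homology.ShortComplex.ModuleCat
import Mathlib.CategoryTheory.Preadditive.Projective.Basic

/-! Two-term complexes with projective degree `0` term. -/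

set_option autoImplicit false
set_option backward.isDefEq.respectTransparency false
set_option backward.defeqAttrib.useBackward true

universe w v u

open CategoryTheory CategoryTheory.Limits CategoryTheory.Pretriangulated HomologicalComplex DerivedCategory

namespace Groth.Agent.DCat.TwoTerm

variable {C : Type u} [Category.{v} C] [Abelian C]

/-- Maps from `M` (`≤ 0`, projective in degree `0`) to exact complexes `≥ -2` are null-homotopic. -/
theorem homotopy_zero (M E : CochainComplex C ℤ) (hM : ∀ i, 0 < i → IsZero (M.X i)) [Projective (M.X 0)]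
    [E.IsStrictlyGE (-2)] (hE : ∀ i, E.ExactAt i) (f : M ⟶ E) : Nonempty (Homotopy f 0) := by
  have ex0 := (E.exactAt_iff' (i := -1) (j := 0) (k := 1) (by simp) (by simp)).1 (hE 0)
  have ex1 := (E.exactAt_iff' (i := -2) (j := -1) (k := 0) (by simp) (by simp)).1 (hE (-1))
  have ex2 := (E.exactAt_iff' (i := -3) (j := -2) (k := -1) (by simp) (by simp)).1 (hE (-2))
  have hm : Mono (E.d (-2) (-1)) := ex2.mono_g ((E.isZero_of_isStrictlyGE (-2) (-3) (by omega)).eq_of_src _ _)
  obtain ⟨h0, hh0⟩ : ∃ h0 : M.X 0 ⟶ E.X (-1), h0 ≫ E.d (-1) 0 = f.f 0 := by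
    have e : f.f 0 ≫ E.d 0 1 = 0 := by
      rw [f.comm, (hM 1 one_pos).eq_of_tgt (M.d 0 1) 0, zero_comp]
    exact ⟨ex0.liftFromProjective _ e, ex0.liftFromProjective_comp _ e⟩
  obtain ⟨h1, hh1⟩ : ∃ h1 : M.X (-1) ⟶ E.X (-2), h1 ≫ E.d (-2) (-1) = f.f (-1) - M.d (-1) 0 ≫ h0 := by
    have e : (f.f (-1) - M.d (-1) 0 ≫ h0) ≫ E.d (-1) 0 = 0 := by
      rw [Preadditive.sub_comp, Category.assoc, hh0, f.comm, sub_self]
    have : Mono (E.sc' (-2) (-1) 0).f := hm
    exact ⟨ex1.lift _ e, ex1.lift_f _ e⟩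
  let h : ∀ i j, (ComplexShape.up ℤ).Rel j i → (M.X i ⟶ E.X j) := fun i j _ =>
    if a : i = 0 ∧ j = -1 then (M.XIsoOfEq a.1).hom ≫ h0 ≫ (E.XIsoOfEq a.2.symm).hom
    else if b : i = -1 ∧ j = -2 then (M.XIsoOfEq b.1).hom ≫ h1 ≫ (E.XIsoOfEq b.2.symm).hom
    else 0
  suffices f = Homotopy.nullHomotopicMap' h from ⟨(Homotopy.ofEq this).trans (Homotopy.nullHomotopy' h)⟩
  ext i
  rw [Homotopy.nullHomotopicMap'_f (show (ComplexShape.up ℤ).Rel (i - 1) i by simp)
    (show (ComplexShape.up ℤ).Rel i (i + 1) by simp)]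
  by_cases hi : 0 < i
  · exact (hM i hi).eq_of_src _ _
  by_cases hi2 : i < -2
  · exact (E.isZero_of_isStrictlyGE (-2) i hi2).eq_of_tgt _ _
  obtain rfl | rfl | rfl : i = 0 ∨ i = -1 ∨ i = -2 := by omega
  · simp [h, hh0]
  · simp [h, hh1]
  · have e : f.f (-2) = M.d (-2) (-1) ≫ h1 := by
      rw [← cancel_mono (E.d (-2) (-1)), Category.assoc, hh1, Preadditive.comp_sub, d_comp_d_assoc,
        zero_comp, sub_zero, f.comm]
    simp [h, e]

/-- The homotopy category form. -/
theorem eq_zero_of_exact (M E : CochainComplex C ℤ) (hM : ∀ i, 0 < i → IsZero (M.X i)) [Projective (M.X 0)]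
    [E.IsStrictlyGE (-2)] (hE : ∀ i, E.ExactAt i)
    (φ : (HomotopyCategory.quotient C (ComplexShape.up ℤ)).obj M ⟶ (HomotopyCategory.quotient C _).obj E) :
    φ = 0 := by
  obtain ⟨f, rfl⟩ := (HomotopyCategory.quotient _ _).map_surjective φ
  obtain ⟨H⟩ := homotopy_zero M E hM hE f
  rw [HomotopyCategory.eq_of_homotopy _ _ H, Functor.map_zero]

variable [HasDerivedCategory.{w} C]

lemma exactAt_cone {K L : CochainComplex C ℤ} (s : K ⟶ L) [IsIso (Q.map s)] (i : ℤ) :
    (CochainComplex.mappingCone s).ExactAt i := by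
  have h := (Triangle.isZero₃_iff_isIso₁ _ (DerivedCategory.mappingCone_triangle_distinguished s)).2
    (show IsIso (Q.map s) from inferInstance)
  rw [exactAt_iff_isZero_homology]
  exact ((homologyFunctor C i).map_isZero h).of_iso ((homologyFunctorFactors C i).app _).symm

lemma isStrictlyGE_cone {K L : CochainComplex C ℤ} (s : K ⟶ L) [K.IsStrictlyGE (-1)] [L.IsStrictlyGE (-1)] :
    (CochainComplex.mappingCone s).IsStrictlyGE (-2) := by
  rw [CochainComplex.isStrictlyGE_iff]
  intro i hi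
  rw [IsZero.iff_id_eq_zero, ← CochainComplex.mappingCone.id_X s i (i + 1) rfl,
    (K.isZero_of_isStrictlyGE (-1) (i + 1) (by omega)).eq_of_tgt
      ((CochainComplex.mappingCone.fst s).1.v i (i + 1) rfl) 0,
    (L.isZero_of_isStrictlyGE (-1) i (by omega)).eq_of_tgt
      ((CochainComplex.mappingCone.snd s).v i i (add_zero i)) 0, zero_comp, zero_comp, add_zero]

variable {M : CochainComplex C ℤ} (hM : ∀ i, 0 < i → IsZero (M.X i)) [Projective (M.X 0)]

include hM

lemma bijective_comp_qis {K L : CochainComplex C ℤ} (s : K ⟶ L) [K.IsStrictlyGE (-1)]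
    [L.IsStrictlyGE (-1)] [IsIso (Q.map s)] :
    Function.Bijective (fun φ : (HomotopyCategory.quotient C (ComplexShape.up ℤ)).obj M ⟶
      (HomotopyCategory.quotient C _).obj K => φ ≫ (HomotopyCategory.quotient C _).map s) := by
  have := isStrictlyGE_cone s
  have hT := HomotopyCategory.mappingCone_triangleh_distinguished s
  refine ⟨fun a b hab => ?_, fun ψ => ?_⟩
  · rw [← sub_eq_zero]
    obtain ⟨ψ, hψ⟩ := Triangle.coyoneda_exact₂ _ (inv_rot_of_distTriang _ hT) (a - b) (by
      show (a - b) ≫ (HomotopyCategory.quotient C _).map s = 0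
      rw [Preadditive.sub_comp, sub_eq_zero]; exact hab)
    let c := CochainComplex.mappingCone s
    have : (c⟦(-1 : ℤ)⟧).IsStrictlyGE (-2) := by
      have := c.isStrictlyGE_shift (-2) (-1) (-1) (by omega)
      exact (c⟦(-1 : ℤ)⟧).isStrictlyGE_of_ge (-2) (-1) (by omega)
    let e := ((HomotopyCategory.quotient C (ComplexShape.up ℤ)).commShiftIso (-1 : ℤ)).app c
    have hz : ψ ≫ e.inv = 0 := eq_zero_of_exact M (c⟦(-1 : ℤ)⟧) hM (fun i => by
      rw [exactAt_iff_isZero_homology]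
      exact ((exactAt_cone s (-1 + i)).isZero_homology).of_iso
        (((HomologicalComplex.homologyFunctor C (ComplexShape.up ℤ) 0).shiftIso (-1) i (-1 + i) rfl).app c))
      _
    rw [hψ, show ψ = (ψ ≫ e.inv) ≫ e.hom by simp, hz]
    simp
  · obtain ⟨φ, hφ⟩ := Triangle.coyoneda_exact₂ _ hT ψ
      (eq_zero_of_exact M _ hM (exactAt_cone s) _)
    exact ⟨φ, hφ.symm⟩

theorem bijective_Qh (K : CochainComplex C ℤ) [K.IsStrictlyGE (-1)] :
    Function.Bijective (fun φ : (HomotopyCategory.quotient C (ComplexShape.up ℤ)).obj M ⟶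
      (HomotopyCategory.quotient C _).obj K => Qh.map φ) := by
  refine ⟨fun a b hab => ?_, fun φ => ?_⟩
  · obtain ⟨Z, s, hs, fac⟩ := (MorphismProperty.map_eq_iff_postcomp Qh
      (HomotopyCategory.quasiIso C (ComplexShape.up ℤ)) a b).1 hab
    obtain ⟨Z, rfl⟩ := HomotopyCategory.quotient_obj_surjective Z
    obtain ⟨s, rfl⟩ := (HomotopyCategory.quotient _ _).map_surjective s
    rw [← isIso_Qh_map_iff] at hs
    have hQs : IsIso (Q.map s) :=
      (NatIso.isIso_map_iff (quotientCompQhIso C).symm s).2 hs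
    have : (Q.obj Z).IsGE (-1) := TStructure.t.isGE_of_iso (asIso (Q.map s)) (-1)
    have : CochainComplex.IsGE Z (-1) := (isGE_Q_obj_iff Z (-1)).1 this
    have : IsIso (Q.map (s ≫ CochainComplex.πTruncGE Z (-1))) := by
      rw [Functor.map_comp]; infer_instance
    refine (bijective_comp_qis hM (s ≫ CochainComplex.πTruncGE Z (-1))).1 ?_
    dsimp only
    rw [Functor.map_comp, reassoc_of% fac]
  · let e := quotientCompQhIso C
    obtain ⟨L, _, g, s, _, hfac⟩ := left_fac_of_isStrictlyGE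
      (e.inv.app M ≫ φ ≫ e.hom.app K) (-1)
    obtain ⟨ψ, hψ⟩ := (bijective_comp_qis hM s).2 ((HomotopyCategory.quotient C _).map g)
    obtain ⟨p, rfl⟩ := (HomotopyCategory.quotient _ _).map_surjective ψ
    dsimp only at hψ
    refine ⟨(HomotopyCategory.quotient _ _).map p, ?_⟩
    have h1 : Q.map p ≫ Q.map s = Q.map g := by
      have h3 := Qh.congr_map hψ
      rw [Functor.map_comp] at h3
      rw [← cancel_epi (e.hom.app M)]
      have np := e.hom.naturality p
      have ns := e.hom.naturality s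
      have ng := e.hom.naturality g
      dsimp at np ns ng
      rw [← reassoc_of% np, ← ns, reassoc_of% h3, ng]
    have h2 : e.inv.app M ≫ φ ≫ e.hom.app K = Q.map p := by
      rw [hfac, ← h1, Category.assoc, IsIso.hom_inv_id, Category.comp_id]
    have np := e.hom.naturality p
    dsimp at np ⊢
    rw [← cancel_mono (e.hom.app K), np, ← h2, Iso.hom_inv_id_app_assoc]

end Groth.Agent.DCat.TwoTerm

namespace Groth.Agent.DCat.TwoTerm

variable {C : Type u} [Category.{v} C] [Abelian C] [HasDerivedCategory.{w} C]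

/-- `N` placed in degree `-1` is `N[0]⟦1⟧`. -/
noncomputable def extIso (N : C) :
    Q.obj ((CochainComplex.singleFunctor C (-1)).obj N) ≅ ((singleFunctor C 0).obj N)⟦(1 : ℤ)⟧ :=
  ((singleFunctorIsoCompQ C (-1)).app N).symm ≪≫
    (((singleFunctors C).shiftIso 1 (-1) 0 (by omega)).app N).symm

variable {M : CochainComplex C ℤ} (hM : ∀ i, 0 < i → IsZero (M.X i)) [Projective (M.X 0)] {N : C}

include hM

theorem exists_ext (ξ : Q.obj M ⟶ ((singleFunctor C 0).obj N)⟦(1 : ℤ)⟧) :
    ∃ g : M ⟶ (CochainComplex.singleFunctor C (-1)).obj N, ξ = Q.map g ≫ (extIso N).hom := by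
  let e := quotientCompQhIso C
  obtain ⟨φ, hφ⟩ := (bijective_Qh hM ((CochainComplex.singleFunctor C (-1)).obj N)).2
    (e.hom.app M ≫ (ξ ≫ (extIso N).inv) ≫ e.inv.app _)
  obtain ⟨g, rfl⟩ := (HomotopyCategory.quotient _ _).map_surjective φ
  refine ⟨g, ?_⟩
  have ng := e.hom.naturality g
  dsimp at hφ ng
  rw [hφ, Category.assoc, Category.assoc, Iso.inv_hom_id_app] at ng
  have ng2 := (cancel_epi (e.hom.app M)).1 ng
  rw [← ng2]
  simp

theorem ext_eq_zero_iff (g : M ⟶ (CochainComplex.singleFunctor C (-1)).obj N) :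
    Q.map g ≫ (extIso N).hom = 0 ↔
      ∃ h : M.X 0 ⟶ N, g.f (-1) ≫ (singleObjXSelf (ComplexShape.up ℤ) (-1) N).hom = M.d (-1) 0 ≫ h := by
  let T := (CochainComplex.singleFunctor C (-1)).obj N
  have hz : ∀ i : ℤ, i ≠ -1 → IsZero (T.X i) := fun i hi =>
    isZero_single_obj_X (ComplexShape.up ℤ) (-1) N i hi
  constructor
  · intro h
    have h0 : (HomotopyCategory.quotient _ _).map g = 0 := by
      refine (bijective_Qh hM T).1 ?_
      dsimp only
      have ng := (quotientCompQhIso C).hom.naturality g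
      dsimp at ng
      rw [Functor.map_zero, ← cancel_mono ((quotientCompQhIso C).hom.app T), ng,
        (cancel_mono (extIso N).hom).1 (h.trans zero_comp.symm), comp_zero, zero_comp]
    let H := HomotopyCategory.homotopyOfEq g 0 (h0.trans (Functor.map_zero _ _ _).symm)
    refine ⟨H.hom 0 (-1) ≫ (singleObjXSelf (ComplexShape.up ℤ) (-1) N).hom, ?_⟩
    have e := H.comm (-1)
    rw [dNext_eq _ (show (ComplexShape.up ℤ).Rel (-1) 0 by simp),
      prevD_eq _ (show (ComplexShape.up ℤ).Rel (-2) (-1) by simp)] at e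
    rw [e, show T.d (-2) (-1) = 0 from (hz (-2) (by omega)).eq_of_src _ _]
    simp
  · rintro ⟨h, hh⟩
    let hmap : ∀ i j, (ComplexShape.up ℤ).Rel j i → (M.X i ⟶ T.X j) := fun i j _ =>
      if a : i = 0 ∧ j = -1 then (M.XIsoOfEq a.1).hom ≫ h ≫
        (singleObjXSelf (ComplexShape.up ℤ) (-1) N).inv ≫ (T.XIsoOfEq a.2.symm).hom
      else 0
    have eg : g = Homotopy.nullHomotopicMap' hmap := by
      ext i
      by_cases hi : i = -1
      · subst hi
        rw [Homotopy.nullHomotopicMap'_f (show (ComplexShape.up ℤ).Rel (-2) (-1) by simp)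
          (show (ComplexShape.up ℤ).Rel (-1) 0 by simp),
          show T.d (-2) (-1) = 0 from (hz (-2) (by omega)).eq_of_src _ _, comp_zero, add_zero,
          ← cancel_mono (singleObjXSelf (ComplexShape.up ℤ) (-1) N).hom, hh]
        simp only [hmap, and_self, dite_true, XIsoOfEq_rfl, Iso.refl_hom, Category.id_comp, Category.assoc]
        refine congrArg (fun z => M.d (-1) 0 ≫ z) ?_
        have key : ∀ {X Y : C} (i : X ≅ Y) (k : M.X 0 ⟶ Y), k = k ≫ i.inv ≫ 𝟙 X ≫ i.hom := fun i k => by simp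
        exact key (singleObjXSelf (ComplexShape.up ℤ) (-1) N) h
      · exact (hz i hi).eq_of_tgt _ _
    have hq := HomotopyCategory.eq_of_homotopy g 0
      ((Homotopy.ofEq eg).trans (Homotopy.nullHomotopy' hmap))
    rw [Functor.map_zero] at hq
    have ng := (quotientCompQhIso C).hom.naturality g
    dsimp at ng
    rw [hq, Functor.map_zero, zero_comp] at ng
    rw [(cancel_epi ((quotientCompQhIso C).hom.app M)).1 (ng.symm.trans comp_zero.symm), zero_comp]

omit [Projective (M.X 0)] in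
/-- the morphism given by `f : M⁻¹ ⟶ N` -/
theorem exists_hom_single (f : M.X (-1) ⟶ N) (hf : M.d (-2) (-1) ≫ f = 0) :
    ∃ g : M ⟶ (CochainComplex.singleFunctor C (-1)).obj N,
      g.f (-1) ≫ (singleObjXSelf (ComplexShape.up ℤ) (-1) N).hom = f := by
  refine ⟨mkHomToSingle f (fun i hi => ?_), ?_⟩
  · obtain rfl : i = -2 := by simp at hi; omega
    exact hf
  · erw [mkHomToSingle_f]
    simp

end Groth.Agent.DCat.TwoTerm

namespace Groth.Agent.DCat.TwoTerm

variable {R : Type u} [CommRing R]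

open CategoryTheory.ShortComplex in
/-- Elementwise criterion for quasi-isomorphisms. -/
theorem quasiIso_of {S₁ S₂ : ShortComplex (ModuleCat.{u} R)} (φ : S₁ ⟶ S₂)
    (hinj : ∀ x, S₁.g x = 0 → φ.τ₂ x ∈ LinearMap.range S₂.f.hom → x ∈ LinearMap.range S₁.f.hom)
    (hsurj : ∀ y, S₂.g y = 0 → ∃ x, S₁.g x = 0 ∧ y - φ.τ₂ x ∈ LinearMap.range S₂.f.hom) :
    ShortComplex.QuasiIso φ := by
  let γ : LeftHomologyMapData φ S₁.moduleCatLeftHomologyData S₂.moduleCatLeftHomologyData := default
  rw [γ.quasiIso_iff, ConcreteCategory.isIso_iff_bijective]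
  let k : LinearMap.ker S₁.g.hom → LinearMap.ker S₂.g.hom := fun x => γ.φK x
  have hK : ∀ x : LinearMap.ker S₁.g.hom, (k x).1 = φ.τ₂ x.1 :=
    fun x => LinearMap.congr_fun (congrArg ModuleCat.Hom.hom γ.commi) x
  have hH : ∀ x : LinearMap.ker S₁.g.hom,
      γ.φH (Submodule.Quotient.mk x) = Submodule.Quotient.mk (k x) :=
    fun x => ConcreteCategory.congr_hom γ.commπ x
  refine ⟨(injective_iff_map_eq_zero γ.φH.hom).2 fun z hz => ?_, fun z => ?_⟩
  · obtain ⟨x, rfl⟩ := Submodule.Quotient.mk_surjective _ z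
    obtain ⟨w, hw⟩ := (Submodule.Quotient.mk_eq_zero _).1 ((hH x).symm.trans hz)
    obtain ⟨v, hv⟩ := hinj x.1 x.2 ⟨w, (congrArg Subtype.val hw).trans (hK x)⟩
    exact (Submodule.Quotient.mk_eq_zero _).2 ⟨v, Subtype.ext hv⟩
  · obtain ⟨y, rfl⟩ := Submodule.Quotient.mk_surjective _ z
    obtain ⟨x, hx, w, hw⟩ := hsurj y.1 y.2
    refine ⟨Submodule.Quotient.mk (⟨x, hx⟩ : LinearMap.ker S₁.g.hom), ?_⟩
    erw [hH]
    refine ((Submodule.Quotient.eq _).2 ⟨-w, Subtype.ext ?_⟩)
    show S₂.f.hom (-w) = (k (⟨x, hx⟩ : LinearMap.ker S₁.g.hom)).1 - y.1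
    rw [map_neg, hw, hK, neg_sub]

end Groth.Agent.DCat.TwoTerm
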