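import Groth.Agent.DCat.DTenEval
import Groth.Agent.DCat.LTensorModule
import Groth.Agent.DCat.ModGen
import Mathlib.Algebra.Homology.Embedding.StupidTrunc

/-! Cohomological amplitude of derived tensor products and internal homs, and evaluation for pseudo-coherent
complexes. -/

set_option autoImplicit false
set_option backward.isDefEq.respectTransparency false
set_option backward.defeqAttrib.useBackward true
set_option linter.style.haveILetI false

universe u

open CategoryTheory CategoryTheory.Limits MonoidalCategory HomologicalComplex Opposite CategoryTheory.Pretriangulated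

attribute [local instance] HasDerivedCategory.standard

namespace Groth.Agent.DCat

variable {A : Type u} [CommRing A]

lemma isZero_modT_left (K L : ModuleCat.{u} A) (h : IsZero K) : IsZero (((modT A).obj K).obj L) :=
  ((evaluation _ _).obj L).map_isZero ((modT A).map_isZero h)

lemma isZero_tot_X (K L : DRing.Cx A) (n : ℤ)
    (h : ∀ p q : ℤ, p + q = n → IsZero (K.X p) ∨ IsZero (L.X q)) : IsZero ((tot (modT A) K L).X n) := by
  rw [IsZero.iff_id_eq_zero]
  exact mapBifunctor.hom_ext fun p q hpq => IsZero.eq_of_src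
    (by
      rcases h p q hpq with h' | h'
      · exact isZero_modT_left _ _ h'
      · exact ((modT A).obj (K.X p)).map_isZero h') _ _

lemma vanishesAbove_tot {K L : DRing.Cx A} {p q : ℤ} (hK : DRing.VanishesAbove K p) (hL : DRing.VanishesAbove L q) :
    DRing.VanishesAbove (tot (modT A) K L) (p + q) := fun n hn =>
  isZero_tot_X K L n fun i j hij => if h : p < i then Or.inl (hK i h) else Or.inr (hL j (by omega))

lemma isLE_Q_of_vanishesAbove {K : DRing.Cx A} {p : ℤ} (hK : DRing.VanishesAbove K p) :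
    (DerivedCategory.Q.obj K).IsLE p := by
  haveI : CochainComplex.IsStrictlyLE K p := (CochainComplex.isStrictlyLE_iff _ p).2 fun i hi => hK i hi
  infer_instance

lemma exists_kflat_rep_le (X : Dual.D A) (p : ℤ) [X.IsLE p] :
    ∃ P : DRing.Cx A, DRing.VanishesAbove P p ∧ IsKFlatFor (modT A) P ∧ Nonempty (DerivedCategory.Q.obj P ≅ X) := by
  obtain ⟨K, hK, ⟨e⟩⟩ := X.exists_iso_Q_obj_of_isLE p
  obtain ⟨N, c, hN, -, hc, hNb⟩ := exists_kflat_le K p ((CochainComplex.isStrictlyLE_iff K p).1 hK)
  haveI := hc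
  haveI := isIso_Q_map_of_qis c
  exact ⟨N, hNb, hN, ⟨asIso (DerivedCategory.Q.map c) ≪≫ e.symm⟩⟩

section

variable [DTen.HasLTen A]

/-- The derived tensor product of bounded above objects is bounded above. -/
theorem isLE_LTen (X Y : Dual.D A) (p q : ℤ) [X.IsLE p] [Y.IsLE q] :
    ((DTen.LTen₂ A).obj (X, Y)).IsLE (p + q) := by
  obtain ⟨P, hP, hPf, ⟨eP⟩⟩ := exists_kflat_rep_le X p
  obtain ⟨Q', hQ, hQf, ⟨eQ⟩⟩ := exists_kflat_rep_le Y q
  haveI := isIso_ε_of_kflat hPf hQf
  haveI : ((DTen.tensor₂ A).obj (P, Q')).IsLE (p + q) := isLE_Q_of_vanishesAbove (vanishesAbove_tot hP hQ)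
  exact DerivedCategory.TStructure.t.isLE_of_iso ((asIso ((DTen.ε A).app (P, Q'))).symm ≪≫
    (DTen.LTen₂ A).mapIso (Iso.prod eP eQ)) (p + q)

lemma mapsTri_vanish {F : Dual.D A ⥤ Dual.D A} (hF : MapsTri F) {T : Triangle (Dual.D A)}
    (hT : T ∈ distinguishedTriangles) (i : ℤ) (hC : IsZero ((DerivedCategory.homologyFunctor (ModuleCat.{u} A) i).obj (F.obj T.obj₃)))
    (hC' : IsZero ((DerivedCategory.homologyFunctor (ModuleCat.{u} A) i).obj (F.obj T.invRotate.obj₁))) :
    IsIso ((DerivedCategory.homologyFunctor (ModuleCat.{u} A) i).map (F.map T.mor₁)) := by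
  obtain ⟨δ, h₁⟩ := hF T hT
  obtain ⟨δ', h₂⟩ := hF _ (inv_rot_of_distTriang _ hT)
  have e₁ := (DerivedCategory.homologyFunctor (ModuleCat.{u} A) i).map_distinguished_exact _ h₁
  have e₂ := (DerivedCategory.homologyFunctor (ModuleCat.{u} A) i).map_distinguished_exact _ h₂
  haveI : Epi ((DerivedCategory.homologyFunctor (ModuleCat.{u} A) i).map (F.map T.mor₁)) :=
    e₁.epi_f (hC.eq_of_tgt _ _)
  haveI : Mono ((DerivedCategory.homologyFunctor (ModuleCat.{u} A) i).map (F.map T.mor₁)) :=
    e₂.mono_g (hC'.eq_of_src _ _)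
  exact isIso_of_mono_of_epi _

variable [DTen.HasRHom A]

/-- Internal hom from bounded above to bounded below objects is bounded below. -/
theorem isGE_RHomR (K L : Dual.D A) (t n : ℤ) [K.IsLE t] [L.IsGE n] : ((DTen.RHomR A K).obj L).IsGE (n - t) := by
  refine (DerivedCategory.TStructure.t.isGE_iff_orthogonal (n - t - 1) (n - t) (by omega) _).2 fun Y f hY => ?_
  haveI := hY
  refine ((DTen.rhomAdj A K).homEquiv Y L).symm.injective ?_
  haveI : ((DTen.LTen₂ A).obj (Y, K)).IsLE (n - 1) := by
    have := isLE_LTen Y K (n - t - 1) t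
    rwa [show n - t - 1 + t = n - 1 by omega] at this
  have h0 : ∀ g : (DTen.LTen₂ A).obj (Y, K) ⟶ L, g = 0 := fun g =>
    DerivedCategory.TStructure.t.zero g (n - 1) n (by omega)
  exact (h0 _).trans (h0 _).symm

/-- Internal hom into an object of finite injective dimension. -/
theorem isLE_RHomR (X M : Dual.D A) (a b c : ℤ) [X.IsGE c] (hM : DRing.HasInjAmplitudeIn A a b M) :
    ((DTen.RHomR A X).obj M).IsLE (b - c) := by
  obtain ⟨E, hE, hEi, ⟨eE⟩⟩ := hM
  haveI : CochainComplex.IsStrictlyGE E a := (CochainComplex.isStrictlyGE_iff _ a).2 fun i hi => hE i (Or.inl hi)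
  haveI : ∀ n, Injective (E.X n) := fun n => haveI := hEi n; Module.injective_object_of_injective_module (R := A) (E.X n)
  haveI : E.IsKInjective := CochainComplex.isKInjective_of_injective E a
  obtain ⟨X', hX', ⟨eX⟩⟩ := X.exists_iso_Q_obj_of_isGE c
  rw [DerivedCategory.isLE_iff]
  intro i hi
  obtain ⟨L, ⟨eL⟩⟩ : ∃ L, Nonempty (DerivedCategory.Q.obj L ≅ (DTen.RHomR A X).obj M) :=
    ⟨_, ⟨DerivedCategory.Q.objObjPreimageIso _⟩⟩
  refine IsZero.of_iso ?_ ((DerivedCategory.homologyFunctor (ModuleCat.{u} A) i).mapIso eL.symm ≪≫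
    (DerivedCategory.homologyFunctorFactors (ModuleCat.{u} A) i).app L)
  change IsZero (L.homology i)
  rw [← HomologicalComplex.exactAt_iff_isZero_homology,
    HomologicalComplex.exactAt_iff' L (i - 1) i (i + 1) (by simp) (by simp), ShortComplex.moduleCat_exact_iff]
  intro (z : L.X i) (hz : L.d i (i + 1) z = 0)
  let f : ringCx A i ⟶ L := mkHomFromSingle (ModuleCat.ofHom (LinearMap.toSpanSingleton A _ z)) (fun k hk => by
    simp only [ComplexShape.up_Rel] at hk
    subst hk
    refine ModuleCat.hom_ext (LinearMap.ext_ring ?_)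
    change L.d i (i + 1) ((1 : A) • z) = 0
    rw [one_smul, hz])
  have h0 : DerivedCategory.Q.map f ≫ eL.hom = 0 := by
    refine ((DTen.rhomAdj A X).homEquiv _ M).symm.injective ?_
    haveI := isIso_ε_of_left (L := X') (isKFlatFor_unitShift (A := A) i)
    let w : (DTen.LTen₂ A).obj (DerivedCategory.Q.obj (ringCx A i), X) ≅
        DerivedCategory.Q.obj (unitShift A i ⊗ X') :=
      (DTen.LTen₂ A).mapIso (Iso.prod (Iso.refl _) eX) ≪≫ asIso ((DTen.ε A).app (unitShift A i, X'))
    have key : ∀ g : (DTen.LTen₂ A).obj (DerivedCategory.Q.obj (ringCx A i), X) ⟶ M, g = 0 := fun g => by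
      obtain ⟨φ, hφ⟩ := Q_map_surjective (w.inv ≫ g ≫ eE.inv)
      have : φ = 0 := by
        ext1 n
        by_cases hn : b < n
        · exact (hE n (Or.inr hn)).eq_of_tgt _ _
        · refine IsZero.eq_of_src (isZero_tot_X _ _ n fun p q hpq => ?_) _ _
          by_cases hp : p = i
          · exact Or.inr ((CochainComplex.isStrictlyGE_iff X' c).1 hX' q (by omega))
          · exact Or.inl (isZero_single_obj_X _ _ _ _ hp)
      rw [this, Functor.map_zero] at hφ
      rw [← cancel_mono eE.inv, ← cancel_epi w.inv, zero_comp, comp_zero]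
      exact hφ.symm
    exact (key _).trans (key _).symm
  have h1 : DerivedCategory.Q.map f = 0 := by rw [← cancel_mono eL.hom, h0, zero_comp]
  have h2 : HomologicalComplex.homologyMap f i = 0 := by
    have := NatIso.naturality_1 (DerivedCategory.homologyFunctorFactors (ModuleCat.{u} A) i) f
    simpa [h1] using this.symm
  have hz' : (HomologicalComplex.cyclesMap f i ≫ L.homologyπ i) = 0 := by
    rw [← HomologicalComplex.homologyπ_naturality, h2, comp_zero]
  let one : (ringCx A i).X i := (singleObjXSelf (ComplexShape.up ℤ) i (ModuleCat.of A A)).inv (1 : A)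
  have hf : f.f i one = z := by
    simp only [f, one, HomologicalComplex.mkHomFromSingle_f]
    refine (congrArg (fun g => (ConcreteCategory.hom g) (1 : A))
      (Iso.inv_hom_id_assoc (singleObjXSelf (ComplexShape.up ℤ) i (ModuleCat.of A A)) (ModuleCat.ofHom (LinearMap.toSpanSingleton A (L.X i) z)))).trans ?_
    exact one_smul A z
  haveI : IsIso ((ringCx A i).iCycles i) := (ringCx A i).isIso_iCycles i (i + 1) (by simp) (single_obj_d _ _ _ _ _)
  let c : (ringCx A i).cycles i := inv ((ringCx A i).iCycles i) one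
  have hc0 : L.homologyπ i (HomologicalComplex.cyclesMap f i c) = 0 := congrArg (fun g => (ConcreteCategory.hom g) c) hz'
  have hex := ((L.sc i).exact_iff_exact_map_forget₂).1
  have hk : L.iCycles i (HomologicalComplex.cyclesMap f i c) = z := by
    have := congrArg (fun g => (ConcreteCategory.hom g) c) (HomologicalComplex.cyclesMap_i f i)
    simp only [ModuleCat.comp_apply] at this
    rw [this, ← hf]
    congr 1
    exact congrArg (fun g => (ConcreteCategory.hom g) one) (IsIso.inv_hom_id ((ringCx A i).iCycles i))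
  have hker := (ShortComplex.moduleCat_exact_iff (ShortComplex.mk _ _ (L.toCycles_comp_homologyπ (i - 1) i))).1
    (ShortComplex.exact_of_g_is_cokernel _ (L.homologyIsCokernel (i - 1) i (by simp)))
    _ hc0
  obtain ⟨y, hy⟩ := hker
  refine ⟨y, ?_⟩
  rw [← hk]
  exact (congrArg (fun g => (ConcreteCategory.hom g) y) (L.toCycles_i (i - 1) i)).symm.trans (congrArg (L.iCycles i) hy)

variable [DTen.HasLTen₃ A] [DTen.IsSymMonoidal A]

omit [DTen.HasLTen A] [DTen.HasRHom A] [DTen.HasLTen₃ A] [DTen.IsSymMonoidal A] in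
lemma d_eqToHom (E : DRing.Cx A) {p p' q q' : ℤ} (hp : p' = p) (hq : q' = q) (h : E.X p' = E.X p)
    (h' : E.X q' = E.X q) : eqToHom h ≫ E.d p q = E.d p' q' ≫ eqToHom h' := by
  subst hp hq
  simp

/-- The inclusion of the part in degrees `≥ m`. -/
lemma exists_trunc_sub (E : DRing.Cx A) (m b : ℤ) (hb : DRing.VanishesAbove E b) (hE : DRing.TermwiseFiniteFree E) :
    ∃ T : Triangle (Dual.D A), T ∈ distinguishedTriangles ∧ DRing.IsPerfect A T.obj₁ ∧
      T.obj₂ = DerivedCategory.Q.obj E ∧ T.obj₃.IsLE (m - 1) := by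
  let e := ComplexShape.embeddingUpIntGE m
  let P := E.stupidTrunc e
  have hlt : ∀ n, n < m → IsZero (P.X n) := fun n hn => isZero_stupidTrunc_X E e n fun j hj => by
    simp [e, ComplexShape.embeddingUpIntGE] at hj
    omega
  let ι₀ : ∀ n, P.X n ⟶ E.X n := fun n => if h : m ≤ n then
    (E.stupidTruncXIso e (i := (n - m).toNat) (by simp [e, ComplexShape.embeddingUpIntGE]; omega)).hom else 0
  let ι : P ⟶ E :=
    { f := ι₀
      comm' := fun p q hpq => by
        simp only [ComplexShape.up_Rel] at hpq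
        by_cases hp : m ≤ p
        · have hq : m ≤ q := by omega
          simp only [ι₀, dif_pos hp, dif_pos hq, P, HomologicalComplex.stupidTrunc]
          rw [(E.restriction e).extend_d_eq e (i := (p - m).toNat) (j := (q - m).toNat)
            (by simp [e, ComplexShape.embeddingUpIntGE]; omega) (by simp [e, ComplexShape.embeddingUpIntGE]; omega)]
          simp [stupidTruncXIso]
          exact d_eqToHom E (by simp [e, ComplexShape.embeddingUpIntGE]; omega)
            (by simp [e, ComplexShape.embeddingUpIntGE]; omega) _ _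
        · exact (hlt p (by omega)).eq_of_src _ _ }
  have hιiso : ∀ n, m ≤ n → IsIso (ι.f n) := fun n hn => by
    simp only [ι, ι₀, dif_pos hn]
    infer_instance
  haveI : Mono ι := mono_of_mono_f _ fun n => by
    by_cases hn : m ≤ n
    · haveI := hιiso n hn
      infer_instance
    · exact ⟨fun g g' _ => (hlt n (by omega)).eq_of_tgt g g'⟩
  let S := ShortComplex.mk ι (cokernel.π ι) (cokernel.condition ι)
  have hS : S.ShortExact := { exact := ShortComplex.exact_cokernel _ }
  have hP : DRing.IsPerfect A (DerivedCategory.Q.obj P) := by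
    refine ⟨P, m, b, fun n hn => ?_, fun n => ?_, ⟨Iso.refl _⟩⟩
    · rcases hn with hn | hn
      · exact hlt n hn
      · by_cases h : m ≤ n
        · haveI := hιiso n h
          exact (hb n hn).of_iso (asIso (ι.f n))
        · exact hlt n (by omega)
    · by_cases h : m ≤ n
      · haveI := hιiso n h
        haveI := (hE n).1
        haveI := (hE n).2
        exact finite_projective_of_iso (asIso (ι.f n)).symm ⟨inferInstance, inferInstance⟩
      · haveI := ModuleCat.subsingleton_of_isZero (hlt n (by omega))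
        exact ⟨inferInstance, inferInstance⟩
  refine ⟨_, DerivedCategory.triangleOfSES_distinguished hS, hP, rfl, isLE_Q_of_vanishesAbove fun n hn => ?_⟩
  haveI : IsIso ((HomologicalComplex.eval _ (ComplexShape.up ℤ) n).map ι) := hιiso n (by omega)
  exact IsZero.of_iso (isZero_cokernel_of_epi ((HomologicalComplex.eval _ (ComplexShape.up ℤ) n).map ι))
    (PreservesCokernel.iso (HomologicalComplex.eval _ (ComplexShape.up ℤ) n) ι)

/-- `evalHom` is invertible for pseudo-coherent `K`, bounded below `L` and `M` of finite injective dimension. -/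
theorem isIso_evalHom_of_pseudoCoherent {K : Dual.D A} (L M : Dual.D A) (hK : DRing.IsPseudoCoherent' A K)
    (n a b : ℤ) [L.IsGE n] (hM : DRing.HasInjAmplitudeIn A a b M) : IsIso (DTen.evalHom K L M) := by
  let W := (DTen.RHomR A L).obj M
  haveI hW : W.IsLE (b - n) := isLE_RHomR L M a b n hM
  let F := (DTen.LTen A).obj W
  let G : Dual.D A ⥤ Dual.D A := ((DTen.RHom A).flip.obj L).rightOp ⋙ (DTen.RHom A).flip.obj M
  have hG : MapsTri G := fun T hT => (mapsTriOp_RHom M).pair (mapsTriOp_RHom L T hT)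
  have hFle : ∀ (C : Dual.D A) (t : ℤ) [C.IsLE t], (F.obj C).IsLE (b - n + t) := fun C t _ => isLE_LTen W C (b - n) t
  have hGle : ∀ (C : Dual.D A) (t : ℤ) [C.IsLE t], (G.obj C).IsLE (b - n + t) := fun C t _ => by
    haveI : ((DTen.RHomR A C).obj L).IsGE (n - t) := isGE_RHomR C L t n
    have := isLE_RHomR ((DTen.RHomR A C).obj L) M a b (n - t) hM
    rwa [show b - (n - t) = b - n + t by omega] at this
  let η : ∀ K, F.obj K ⟶ G.obj K := fun K => DTen.evalHom K L M
  have nat : ∀ {K K'} (m : K ⟶ K'), F.map m ≫ η K' = η K ≫ G.map m := fun {K K'} m => evalHom_natural L M m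
  obtain ⟨E, bE, hb, hE, ⟨e⟩⟩ := hK
  refine isIso_app_of_iso η nat e.symm ((DerivedCategory.isIso_iff (ModuleCat.{u} A) _).2 fun i => ?_)
  let H := DerivedCategory.homologyFunctor (ModuleCat.{u} A) i
  obtain ⟨T, hT, hP, h2, h3⟩ := exists_trunc_sub E (i + n - b - 1) bE hb hE
  haveI := h3
  haveI : T.invRotate.obj₁.IsLE (i + n - b - 1) := by
    have := DerivedCategory.TStructure.t.isLE_shift T.obj₃ (i + n - b - 1 - 1) (-1) (i + n - b - 1) (by omega)
    exact this
  have van : ∀ (X : Dual.D A), X.IsLE (i - 1) → IsZero (H.obj X) := fun X hX =>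
    DerivedCategory.isZero_of_isLE X (i - 1) i (by omega)
  have key : ∀ {F' : Dual.D A ⥤ Dual.D A}, MapsTri F' →
      (∀ (C : Dual.D A) (t : ℤ) [C.IsLE t], (F'.obj C).IsLE (b - n + t)) → IsIso (H.map (F'.map T.mor₁)) := by
    intro F' hF' hle
    refine mapsTri_vanish hF' hT i (van _ ?_) (van _ ?_)
    · haveI := hle T.obj₃ (i + n - b - 1 - 1)
      exact DerivedCategory.TStructure.t.isLE_of_le _ (b - n + (i + n - b - 1 - 1)) (i - 1) (by omega)
    · haveI := hle T.invRotate.obj₁ (i + n - b - 1)
      exact DerivedCategory.TStructure.t.isLE_of_le _ (b - n + (i + n - b - 1)) (i - 1) (by omega)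
  haveI := key (mapsTri_tensorLeft W) hFle
  haveI := key hG hGle
  haveI : IsIso (η T.obj₁) := isIso_evalHom L M hP
  change IsIso (H.map (η (DerivedCategory.Q.obj E)))
  rw [← h2]
  have sq := congrArg H.map (nat T.mor₁)
  rw [H.map_comp, H.map_comp] at sq
  haveI : IsIso (H.map (η T.obj₁) ≫ H.map (G.map T.mor₁)) := inferInstance
  rw [← sq] at this
  exact IsIso.of_isIso_comp_left (H.map (F.map T.mor₁)) _

end

end Groth.Agent.DCat
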