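import Groth.Prelude.Def_DRing4
import Groth.Agent.DCat.KFlatModule
import Mathlib.Algebra.Homology.HomotopyCategory.KInjective

/-! The tensor-hom adjunction for complexes of modules. -/

set_option autoImplicit false
set_option backward.isDefEq.respectTransparency false
set_option backward.defeqAttrib.useBackward true
set_option linter.style.haveILetI false

universe u

open CategoryTheory CategoryTheory.Limits MonoidalCategory HomologicalComplex CochainComplex.HomComplex

namespace Groth.Agent.DCat

variable {A : Type u} [CommRing A] {X X' P P' I I' : DRing.Cx A}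

/-- Evaluate a cochain-valued map on a term. -/
noncomputable def uncurryTerm (f : X ⟶ DRing.homCx P I) (p q n : ℤ) (h : p + q = n) : X.X p ⊗ P.X q ⟶ I.X n :=
  ModuleCat.ofHom (TensorProduct.lift (LinearMap.mk₂ A
    (fun (x : X.X p) (y : P.X q) => ((f.f p x : Cochain P I p).v q n (by omega)) y)
    (fun x x' y => by
      change (((f.f p (x + x') : Cochain P I p)).v q n (by omega)) y = _
      rw [map_add]
      rfl)
    (fun c x y => by
      change (((f.f p (c • x) : Cochain P I p)).v q n (by omega)) y = _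
      rw [map_smul]
      rfl)
    (fun x y y' => map_add _ y y')
    (fun c x y => map_smul _ c y)))

lemma uncurryTerm_tmul (f : X ⟶ DRing.homCx P I) (p q n : ℤ) (h : p + q = n) (x : X.X p) (y : P.X q) :
    uncurryTerm f p q n h (x ⊗ₜ[A] y) = ((f.f p x : Cochain P I p).v q n (by omega)) y := rfl

lemma homCx_comm (f : X ⟶ DRing.homCx P I) (p p' : ℤ) (x : X.X p) :
    (f.f p' (X.d p p' x) : Cochain P I p') = δ p p' (f.f p x : Cochain P I p) := by
  have := congrArg (fun g => (ConcreteCategory.hom g) x) (f.comm p p')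
  exact this.symm

/-- `Hom(X, Hom•(P, I)) → Hom(X ⊗ P, I)`. -/
noncomputable def uncurryCx (f : X ⟶ DRing.homCx P I) : X ⊗ P ⟶ I where
  f n := mapBifunctorDesc fun p q h => uncurryTerm f p q n h
  comm' n n' hn := by
    refine mapBifunctor.hom_ext fun p q h => ?_
    simp only [ComplexShape.up_Rel] at hn
    have h' : p + q = n := h
    change ιMapBifunctor X P (curriedTensor (ModuleCat.{u} A)) (ComplexShape.up ℤ) p q n h ≫ _ ≫ _ =
      ιMapBifunctor X P (curriedTensor (ModuleCat.{u} A)) (ComplexShape.up ℤ) p q n h ≫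
        (mapBifunctor X P (curriedTensor (ModuleCat.{u} A)) (ComplexShape.up ℤ)).d n n' ≫ _
    rw [ι_mapBifunctorDesc_assoc, mapBifunctor.d_eq, Preadditive.add_comp, Preadditive.comp_add,
      mapBifunctor.ι_D₁_assoc, mapBifunctor.ι_D₂_assoc,
      mapBifunctor.d₁_eq _ _ _ _ (show (ComplexShape.up ℤ).Rel p (p + 1) by simp) _ _ (by simp; omega),
      mapBifunctor.d₂_eq _ _ _ _ _ (show (ComplexShape.up ℤ).Rel q (q + 1) by simp) _ (by simp; omega)]
    simp only [Linear.units_smul_comp, Category.assoc, ι_mapBifunctorDesc]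
    refine ModuleCat.MonoidalCategory.tensor_ext fun x y => ?_
    change I.d n n' (((f.f p x : Cochain P I p).v q n (by omega)) y) =
      (1 : ℤˣ) • ((f.f (p + 1) (X.d p (p + 1) x) : Cochain P I (p + 1)).v q n' (by omega)) y +
        p.negOnePow • (((f.f p x : Cochain P I p).v (q + 1) n' (by omega)) (P.d q (q + 1) y))
    rw [homCx_comm f p (p + 1) x, δ_v p (p + 1) rfl _ q n' (by omega) n (q + 1) (by omega) rfl]
    simp only [one_smul, Int.negOnePow_succ, Units.neg_smul]
    change _ = (I.d n n' (((f.f p x : Cochain P I p).v q n (by omega)) y) +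
      -(p.negOnePow • (((f.f p x : Cochain P I p).v (q + 1) n' (by omega)) (P.d q (q + 1) y)))) + _
    exact (neg_add_cancel_right _ _).symm

lemma ι_uncurryCx (f : X ⟶ DRing.homCx P I) (p q n : ℤ) (h : p + q = n) :
    ιTensorObj X P p q n h ≫ (uncurryCx f).f n = uncurryTerm f p q n h := by
  exact ι_mapBifunctorDesc (K₁ := X) (K₂ := P) (F := curriedTensor (ModuleCat.{u} A)) (c := ComplexShape.up ℤ)
    (f := fun p q h => uncurryTerm f p q n h) p q h

lemma uncurryCx_tmul (f : X ⟶ DRing.homCx P I) (p q n : ℤ) (h : p + q = n) (x : X.X p) (y : P.X q) :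
    (uncurryCx f).f n (ιTensorObj X P p q n h (x ⊗ₜ[A] y)) = ((f.f p x : Cochain P I p).v q n (by omega)) y :=
  congrArg (fun g => (ConcreteCategory.hom g) (x ⊗ₜ[A] y)) (ι_uncurryCx f p q n h)

/-- The cochain attached to an element. -/
noncomputable def curryElem (g : X ⊗ P ⟶ I) (p : ℤ) (x : X.X p) : Cochain P I p :=
  Cochain.mk fun q n h => ModuleCat.ofHom
    { toFun := fun y => g.f n (ιTensorObj X P p q n (by omega) (x ⊗ₜ[A] y))
      map_add' := fun y y' => by rw [TensorProduct.tmul_add, map_add, map_add]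
      map_smul' := fun c y => by rw [TensorProduct.tmul_smul, map_smul, map_smul]; rfl }

lemma curryElem_v (g : X ⊗ P ⟶ I) (p : ℤ) (x : X.X p) (q n : ℤ) (h : q + p = n) (y : P.X q) :
    ((curryElem g p x).v q n h) y = g.f n (ιTensorObj X P p q n (by omega) (x ⊗ₜ[A] y)) := rfl

/-- `Hom(X ⊗ P, I) → Hom(X, Hom•(P, I))`. -/
noncomputable def curryCx (g : X ⊗ P ⟶ I) : X ⟶ DRing.homCx P I where
  f p := ModuleCat.ofHom (Y := Cochain P I p)
    { toFun := curryElem g p
      map_add' := fun x x' => Cochain.ext _ _ fun q n h => ModuleCat.hom_ext (LinearMap.ext fun y => by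
        change ((curryElem g p (x + x')).v q n h) y = ((curryElem g p x).v q n h) y + ((curryElem g p x').v q n h) y
        simp only [curryElem_v, TensorProduct.add_tmul, map_add])
      map_smul' := fun c x => Cochain.ext _ _ fun q n h => ModuleCat.hom_ext (LinearMap.ext fun y => by
        change ((curryElem g p (c • x)).v q n h) y = c • ((curryElem g p x).v q n h) y
        simp only [curryElem_v, ← TensorProduct.smul_tmul', map_smul]) }
  comm' p p' hp := by
    simp only [ComplexShape.up_Rel] at hp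
    refine ModuleCat.hom_ext (LinearMap.ext fun x => Cochain.ext _ _ fun q n h => ModuleCat.hom_ext (LinearMap.ext fun y => ?_))
    change ((δ p p' (curryElem g p x)).v q n h) y = ((curryElem g p' (X.d p p' x)).v q n h) y
    subst hp
    rw [δ_v p (p + 1) rfl _ q n h (n - 1) (q + 1) rfl rfl]
    change I.d (n - 1) n (((curryElem g p x).v q (n - 1) (by omega)) y) +
      (p + 1).negOnePow • (((curryElem g p x).v (q + 1) n (by omega)) (P.d q (q + 1) y)) = _
    simp only [curryElem_v]
    have hc := congrArg (fun k => (ConcreteCategory.hom k) (ιTensorObj X P p q (n - 1) (by omega) (x ⊗ₜ[A] y)))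
      (g.comm (n - 1) n)
    refine (congrArg (· + _) hc).trans ?_
    have hd : ιTensorObj X P p q (n - 1) (by omega) ≫ (X ⊗ P).d (n - 1) n =
        (1 : ℤˣ) • ((X.d p (p + 1) ▷ P.X q) ≫ ιTensorObj X P (p + 1) q n (by omega)) +
          p.negOnePow • ((X.X p ◁ P.d q (q + 1)) ≫ ιTensorObj X P p (q + 1) n (by omega)) := by
      change ιMapBifunctor X P (curriedTensor (ModuleCat.{u} A)) (ComplexShape.up ℤ) p q (n - 1) _ ≫
        (mapBifunctor X P (curriedTensor (ModuleCat.{u} A)) (ComplexShape.up ℤ)).d (n - 1) n = _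
      rw [mapBifunctor.d_eq, Preadditive.comp_add, mapBifunctor.ι_D₁, mapBifunctor.ι_D₂,
        mapBifunctor.d₁_eq _ _ _ _ (show (ComplexShape.up ℤ).Rel p (p + 1) by simp) _ _ (by simp; omega),
        mapBifunctor.d₂_eq _ _ _ _ _ (show (ComplexShape.up ℤ).Rel q (q + 1) by simp) _ (by simp; omega)]
      rfl
    have he := congrArg (fun k => g.f n ((ConcreteCategory.hom k) (x ⊗ₜ[A] y))) hd
    refine (congrArg (· + _) he).trans ?_
    change g.f n ((1 : ℤˣ) • ιTensorObj X P (p + 1) q n _ (X.d p (p + 1) x ⊗ₜ[A] y) +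
      p.negOnePow • ιTensorObj X P p (q + 1) n _ (x ⊗ₜ[A] P.d q (q + 1) y)) + _ = _
    simp only [one_smul, map_add, Int.negOnePow_succ, Units.smul_def, map_zsmul]
    rw [Units.val_neg, neg_smul, add_neg_cancel_right]

lemma curryCx_f (g : X ⊗ P ⟶ I) (p : ℤ) (x : X.X p) :
    ((curryCx g).f p x : Cochain P I p) = curryElem g p x := rfl

/-- The tensor-hom bijection. -/
noncomputable def curryEquiv (X P I : DRing.Cx A) : (X ⟶ DRing.homCx P I) ≃ (X ⊗ P ⟶ I) where
  toFun := uncurryCx
  invFun := curryCx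
  left_inv f := HomologicalComplex.hom_ext _ _ fun p => ModuleCat.hom_ext (LinearMap.ext fun x =>
    Cochain.ext _ _ fun q n h => ModuleCat.hom_ext (LinearMap.ext fun y => by
      change ((curryElem (uncurryCx f) p x).v q n h) y = _
      rw [curryElem_v, uncurryCx_tmul]))
  right_inv g := HomologicalComplex.hom_ext _ _ fun n => mapBifunctor.hom_ext fun p q h => by
    refine ModuleCat.MonoidalCategory.tensor_ext fun x y => ?_
    exact (uncurryCx_tmul (curryCx g) p q n h x y).trans (curryElem_v g p x q n (by simpa [add_comm] using h) y)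

/-- Evaluation `Hom•(P, I) ⊗ P → I`. -/
noncomputable def evCx (P I : DRing.Cx A) : DRing.homCx P I ⊗ P ⟶ I := uncurryCx (𝟙 _)

lemma uncurryCx_eq (f : X ⟶ DRing.homCx P I) : uncurryCx f = f ▷ P ≫ evCx P I := by
  refine HomologicalComplex.hom_ext _ _ fun n => mapBifunctor.hom_ext fun p q h => ?_
  rw [HomologicalComplex.comp_f]
  erw [ι_mapBifunctorMap_assoc, ι_uncurryCx f p q n h, ι_uncurryCx (𝟙 _) p q n h]
  refine ModuleCat.MonoidalCategory.tensor_ext fun x y => ?_
  rfl

/-- Functoriality in the source. -/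
noncomputable def homPre (s : P ⟶ P') (I : DRing.Cx A) : DRing.homCx P' I ⟶ DRing.homCx P I :=
  curryCx (DRing.homCx P' I ◁ s ≫ evCx P' I)

lemma homPre_ev (s : P ⟶ P') (I : DRing.Cx A) :
    homPre s I ▷ P ≫ evCx P I = DRing.homCx P' I ◁ s ≫ evCx P' I := by
  rw [← uncurryCx_eq]
  exact (curryEquiv _ _ _).right_inv _

lemma homPre_apply (s : P ⟶ P') (I : DRing.Cx A) (n : ℤ) (z : Cochain P' I n) :
    ((homPre s I).f n z : Cochain P I n) = (Cochain.ofHom s).comp z (zero_add n) := by
  refine Cochain.ext _ _ fun q m h => ModuleCat.hom_ext (LinearMap.ext fun y => ?_)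
  rw [Cochain.zero_cochain_comp_v, Cochain.ofHom_v]
  change ((curryElem (DRing.homCx P' I ◁ s ≫ evCx P' I) n z).v q m h) y = z.v q m h (s.f q y)
  rw [curryElem_v]
  have : ιTensorObj (DRing.homCx P' I) P n q m (by omega) ≫ (DRing.homCx P' I ◁ s ≫ evCx P' I).f m =
      ((DRing.homCx P' I).X n ◁ s.f q) ≫ uncurryTerm (𝟙 (DRing.homCx P' I)) n q m (by omega) := by
    rw [HomologicalComplex.comp_f]
    erw [ι_mapBifunctorMap_assoc, ι_uncurryCx]
    simp
  exact congrArg (fun g => (ConcreteCategory.hom g) (z ⊗ₜ[A] y)) this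

/-- The hom complex into a fixed complex preserves homotopies. -/
noncomputable def homCxHomotopy (P : DRing.Cx A) {g g' : I ⟶ I'} (H : Homotopy g g') :
    Homotopy (DRing.homCxMap P g) (DRing.homCxMap P g') where
  hom i j := if h : j + 1 = i then ModuleCat.ofHom (X := Cochain P I i) (Y := Cochain P I' j)
      { toFun := fun z => z.comp (Cochain.ofHomotopy H) (show i + (-1) = j by omega)
        map_add' := fun z z' => by simp
        map_smul' := fun c z => by simp }
    else 0
  zero i j h := dif_neg (by simpa using h)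
  comm i := by
    rw [dNext_eq _ (show (ComplexShape.up ℤ).Rel i (i + 1) by simp),
      prevD_eq _ (show (ComplexShape.up ℤ).Rel (i - 1) i by simp), dif_pos rfl, dif_pos (by omega)]
    refine ModuleCat.hom_ext (LinearMap.ext fun (z : Cochain P I i) => ?_)
    change z.comp (Cochain.ofHom g) (add_zero i) = (δ i (i + 1) z).comp (Cochain.ofHomotopy H) (by omega) +
      δ (i - 1) i (z.comp (Cochain.ofHomotopy H) (show i + (-1) = i - 1 by omega)) +
        z.comp (Cochain.ofHom g') (add_zero i)
    rw [δ_comp z (Cochain.ofHomotopy H) (show i + (-1) = i - 1 by omega) (i + 1) 0 i (by omega) rfl (by omega),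
      δ_ofHomotopy, Cochain.comp_sub, Int.negOnePow_neg, Int.negOnePow_one]
    simp only [Units.neg_smul, one_smul]
    abel

/-- `Hom•(P, I)` is K-injective for K-flat `P` and K-injective `I`. -/
theorem isKInjective_homCx (hP : IsKFlatFor (modT A) P) (I : DRing.Cx A) [I.IsKInjective] :
    (DRing.homCx P I).IsKInjective where
  nonempty_homotopy_zero {M} f hM := by
    let g := uncurryCx f
    have hg := CochainComplex.IsKInjective.nonempty_homotopy_zero g (hP M hM)
    obtain ⟨H⟩ := hg
    have e : f = curryCx (𝟙 (M ⊗ P)) ≫ DRing.homCxMap P g := by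
      refine HomologicalComplex.hom_ext _ _ fun p => ModuleCat.hom_ext (LinearMap.ext fun x =>
        Cochain.ext _ _ fun q n h => ModuleCat.hom_ext (LinearMap.ext fun y => ?_))
      change ((f.f p x : Cochain P I p).v q n h) y =
        (((curryElem (𝟙 (M ⊗ P)) p x).comp (Cochain.ofHom g) (add_zero p)).v q n h) y
      rw [Cochain.comp_zero_cochain_v, Cochain.ofHom_v]
      exact (uncurryCx_tmul f p q n (by omega) x y).symm
    have e₀ : (0 : M ⟶ DRing.homCx P I) = curryCx (𝟙 (M ⊗ P)) ≫ DRing.homCxMap P 0 := by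
      refine HomologicalComplex.hom_ext _ _ fun p => ModuleCat.hom_ext (LinearMap.ext fun x => ?_)
      change (0 : Cochain P I p) = (curryElem (𝟙 (M ⊗ P)) p x).comp (Cochain.ofHom 0) (add_zero p)
      rw [Cochain.ofHom_zero, Cochain.comp_zero]
    exact ⟨((Homotopy.ofEq e).trans ((homCxHomotopy P H).compLeft _)).trans (Homotopy.ofEq e₀.symm)⟩

end Groth.Agent.DCat
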