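import Groth.Prelude.Def_DTen3
import Groth.Agent.DCat.HomCxAdj
import Groth.Agent.DCat.DTenCore
import Groth.Agent.DCat.RDUnbounded
import Groth.Agent.DCat.KInjRes
import Groth.Agent.DCat.DerivedLimits
import Mathlib.Algebra.Homology.DerivedCategory.KInjective

/-! The internal hom of `D(A)` is computed by hom complexes. -/

set_option autoImplicit false
set_option backward.isDefEq.respectTransparency false
set_option backward.defeqAttrib.useBackward true
set_option linter.style.haveILetI false

universe u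

open CategoryTheory CategoryTheory.Limits MonoidalCategory HomologicalComplex Opposite

attribute [local instance] HasDerivedCategory.standard

namespace Groth.Agent.DCat

variable {A : Type u} [CommRing A]

lemma Q_map_bijective_quot {X I : DRing.Cx A} [I.IsKInjective] :
    Function.Bijective (fun f : (HomotopyCategory.quotient (ModuleCat.{u} A) (ComplexShape.up ℤ)).obj X ⟶
        (HomotopyCategory.quotient (ModuleCat.{u} A) (ComplexShape.up ℤ)).obj I =>
      (DerivedCategory.quotientCompQhIso (ModuleCat.{u} A)).inv.app X ≫ DerivedCategory.Qh.map f ≫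
        (DerivedCategory.quotientCompQhIso (ModuleCat.{u} A)).hom.app I) :=
  (Iso.homCongr ((DerivedCategory.quotientCompQhIso (ModuleCat.{u} A)).app X)
    ((DerivedCategory.quotientCompQhIso (ModuleCat.{u} A)).app I)).bijective.comp
      (CochainComplex.IsKInjective.Qh_map_bijective _ I)

lemma Q_map_surjective {X I : DRing.Cx A} [I.IsKInjective] (φ : DerivedCategory.Q.obj X ⟶ DerivedCategory.Q.obj I) :
    ∃ f : X ⟶ I, DerivedCategory.Q.map f = φ := by
  obtain ⟨f', hf⟩ := Q_map_bijective_quot.2 φ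
  obtain ⟨f, rfl⟩ := (HomotopyCategory.quotient (ModuleCat.{u} A) (ComplexShape.up ℤ)).map_surjective f'
  refine ⟨f, ?_⟩
  rw [← hf]
  exact ((DerivedCategory.quotientCompQhIso (ModuleCat.{u} A)).inv.app X ≫= 
    (DerivedCategory.quotientCompQhIso (ModuleCat.{u} A)).hom.naturality f).trans (Iso.inv_hom_id_app_assoc _ _ _) |>.symm

lemma homotopy_of_Q_map_eq {X I : DRing.Cx A} [I.IsKInjective] {f g : X ⟶ I}
    (h : DerivedCategory.Q.map f = DerivedCategory.Q.map g) :
    (HomotopyCategory.quotient (ModuleCat.{u} A) (ComplexShape.up ℤ)).map f =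
      (HomotopyCategory.quotient (ModuleCat.{u} A) (ComplexShape.up ℤ)).map g := by
  refine Q_map_bijective_quot.1 ?_
  have e : ∀ k : X ⟶ I, (DerivedCategory.quotientCompQhIso (ModuleCat.{u} A)).inv.app X ≫
      DerivedCategory.Qh.map ((HomotopyCategory.quotient (ModuleCat.{u} A) (ComplexShape.up ℤ)).map k) ≫
        (DerivedCategory.quotientCompQhIso (ModuleCat.{u} A)).hom.app I = DerivedCategory.Q.map k := fun k => by
    exact ((DerivedCategory.quotientCompQhIso (ModuleCat.{u} A)).inv.app X ≫=
      (DerivedCategory.quotientCompQhIso (ModuleCat.{u} A)).hom.naturality k).trans (Iso.inv_hom_id_app_assoc _ _ _)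
  dsimp only
  rw [e, e, h]

variable [DTen.HasLTen A]

/-- The derived evaluation attached to a pair of complexes. -/
noncomputable def evD (P I : DRing.Cx A) :
    (DTen.LTen₂ A).obj (DerivedCategory.Q.obj (DRing.homCx P I), DerivedCategory.Q.obj P) ⟶ DerivedCategory.Q.obj I :=
  (DTen.ε A).app (DRing.homCx P I, P) ≫ DerivedCategory.Q.map (evCx P I)

lemma map_evD (P I : DRing.Cx A) {X : DRing.Cx A} (f : X ⟶ DRing.homCx P I) :
    (DTen.LTen₂ A).map (Prod.mkHom (DerivedCategory.Q.map f) (𝟙 (DerivedCategory.Q.obj P))) ≫ evD P I =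
      (DTen.ε A).app (X, P) ≫ DerivedCategory.Q.map (uncurryCx f) := by
  have e := (DTen.ε A).naturality ((Prod.mkHom f (𝟙 P)) : (X, P) ⟶ (DRing.homCx P I, P))
  dsimp at e
  rw [uncurryCx_eq, evD, Functor.map_comp]
  simp only [MonoidalCategory.whiskerLeft_id, Category.comp_id] at e
  rw [CategoryTheory.Functor.map_id] at e
  rw [reassoc_of% e]

/-- `Hom(X, Hom•(P, I))` in `D(A)` is `Hom(X ⊗^L P, I)`. -/
theorem bijective_evD {P I : DRing.Cx A} [I.IsKInjective] (hP : IsKFlatFor (modT A) P) (X : Dual.D A) :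
    Function.Bijective fun g : X ⟶ DerivedCategory.Q.obj (DRing.homCx P I) =>
      (DTen.LTen₂ A).map (Prod.mkHom g (𝟙 (DerivedCategory.Q.obj P))) ≫ evD P I := by
  haveI := isKInjective_homCx hP I
  obtain ⟨X', hX', ⟨e⟩⟩ := exists_kflat_obj X
  haveI := isIso_ε_of_kflat hX' hP
  have key : ∀ g : X ⟶ DerivedCategory.Q.obj (DRing.homCx P I), ∀ f : X' ⟶ DRing.homCx P I,
      DerivedCategory.Q.map f = e.hom ≫ g →
        (DTen.LTen₂ A).map (Prod.mkHom e.hom (𝟙 (DerivedCategory.Q.obj P))) ≫
          ((DTen.LTen₂ A).map (Prod.mkHom g (𝟙 (DerivedCategory.Q.obj P))) ≫ evD P I) =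
        (DTen.ε A).app (X', P) ≫ DerivedCategory.Q.map (uncurryCx f) := fun g f hf => by
    rw [← map_evD, ← Category.assoc, ← Functor.map_comp, prod_comp]
    dsimp
    rw [Category.comp_id, ← hf]
  haveI : IsIso ((DTen.LTen₂ A).map (Prod.mkHom e.hom (𝟙 (DerivedCategory.Q.obj P)))) := isIso_LTen_map _ _
  constructor
  · intro g g' h
    obtain ⟨f, hf⟩ := Q_map_surjective (e.hom ≫ g)
    obtain ⟨f', hf'⟩ := Q_map_surjective (e.hom ≫ g')
    have h' : DerivedCategory.Q.map (uncurryCx f) = DerivedCategory.Q.map (uncurryCx f') := by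
      rw [← cancel_epi ((DTen.ε A).app (X', P)), ← key g f hf, ← key g' f' hf']
      exact congrArg (_ ≫ ·) h
    rw [← cancel_epi e.hom, ← hf, ← hf']
    have H := homotopy_of_Q_map_eq h'
    have H' : (HomotopyCategory.quotient _ (ComplexShape.up ℤ)).map f =
        (HomotopyCategory.quotient _ (ComplexShape.up ℤ)).map f' := by
      have hcur : ∀ k : X' ⟶ DRing.homCx P I, k = curryCx (𝟙 (X' ⊗ P)) ≫ DRing.homCxMap P (uncurryCx k) := fun k => by
        refine HomologicalComplex.hom_ext _ _ fun p => ModuleCat.hom_ext (LinearMap.ext fun x =>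
          CochainComplex.HomComplex.Cochain.ext _ _ fun q n h => ModuleCat.hom_ext (LinearMap.ext fun y => ?_))
        change ((k.f p x : CochainComplex.HomComplex.Cochain P I p).v q n h) y =
          (((curryElem (𝟙 (X' ⊗ P)) p x).comp (CochainComplex.HomComplex.Cochain.ofHom (uncurryCx k)) (add_zero p)).v q n h) y
        rw [CochainComplex.HomComplex.Cochain.comp_zero_cochain_v, CochainComplex.HomComplex.Cochain.ofHom_v]
        exact (uncurryCx_tmul k p q n (by omega) x y).symm
      rw [hcur f, hcur f', Functor.map_comp, Functor.map_comp]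
      exact congrArg (_ ≫ ·) (HomotopyCategory.eq_of_homotopy _ _
        (homCxHomotopy P (HomotopyCategory.homotopyOfEq _ _ H)))
    have nat : ∀ k : X' ⟶ DRing.homCx P I, DerivedCategory.Q.map k =
        (DerivedCategory.quotientCompQhIso (ModuleCat.{u} A)).inv.app X' ≫
          DerivedCategory.Qh.map ((HomotopyCategory.quotient (ModuleCat.{u} A) (ComplexShape.up ℤ)).map k) ≫
            (DerivedCategory.quotientCompQhIso (ModuleCat.{u} A)).hom.app _ := fun k => by
      exact (((DerivedCategory.quotientCompQhIso (ModuleCat.{u} A)).inv.app X' ≫=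
        (DerivedCategory.quotientCompQhIso (ModuleCat.{u} A)).hom.naturality k).trans (Iso.inv_hom_id_app_assoc _ _ _)).symm
    rw [nat f, nat f', H']
  · intro φ
    obtain ⟨h, hh⟩ := Q_map_surjective (inv ((DTen.ε A).app (X', P)) ≫
      (DTen.LTen₂ A).map (Prod.mkHom e.hom (𝟙 (DerivedCategory.Q.obj P))) ≫ φ)
    refine ⟨e.inv ≫ DerivedCategory.Q.map (curryCx h), ?_⟩
    rw [← cancel_epi ((DTen.LTen₂ A).map (Prod.mkHom e.hom (𝟙 (DerivedCategory.Q.obj P))))]
    refine (key _ (curryCx h) (by rw [e.hom_inv_id_assoc])).trans ?_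
    rw [show uncurryCx (curryCx h) = h from (curryEquiv _ _ _).right_inv h, hh]
    exact IsIso.hom_inv_id_assoc _ _

omit [DTen.HasLTen A] in
lemma enoughKInj_modules : EnoughKInj (ModuleCat.{u} A) := enoughKInj_of_isGrothendieckAbelian

omit [DTen.HasLTen A] in
/-- Representatives by K-injective complexes. -/
lemma exists_kInj_obj (M : Dual.D A) :
    ∃ I : DRing.Cx A, I.IsKInjective ∧ Nonempty (DerivedCategory.Q.obj I ≅ M) := by
  obtain ⟨I, f, hI, hf⟩ := enoughKInj_modules (DerivedCategory.Q.objPreimage M)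
  haveI := isIso_Q_map_of_qis f
  exact ⟨I, hI, ⟨(asIso (DerivedCategory.Q.map f)).symm ≪≫ DerivedCategory.Q.objObjPreimageIso M⟩⟩

/-- `- ⊗^L L` has a right adjoint. -/
theorem hasRHom : DTen.HasRHom A := ⟨fun L => by
  obtain ⟨P, hP, ⟨eL⟩⟩ := exists_kflat_obj L
  haveI hl : (DTen.tensorRightD A (DerivedCategory.Q.obj P)).IsLeftAdjoint := by
    apply Functor.isLeftAdjoint_of_rightAdjointObjIsDefined_eq_top
    ext M
    simp only [Pi.top_apply, Prop.top_eq_true, iff_true]
    obtain ⟨I, hI, ⟨eM⟩⟩ := exists_kInj_obj M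
    rw [Functor.rightAdjointObjIsDefined_iff]
    exact Functor.RepresentableBy.isRepresentable
      { homEquiv := fun {X} => (Equiv.ofBijective _ (bijective_evD hP X)).trans (Iso.homCongr (Iso.refl _) eM)
        homEquiv_comp := fun {X X'} f g => by
          dsimp
          simp only [Category.id_comp]
          rw [← Category.assoc, ← Category.assoc, ← Functor.map_comp, prod_comp]
          dsimp
          rw [Category.comp_id] }
  exact Functor.isLeftAdjoint_of_iso ((DTen.LTen A).flip.mapIso eL)⟩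

end Groth.Agent.DCat
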