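import Groth.Agent.DCat.DCompletion
import Mathlib.Algebra.Homology.DerivedCategory.HomologySequence

/-! Completion of morphisms: amplitude of the cone. -/

set_option autoImplicit false
set_option backward.isDefEq.respectTransparency false
set_option backward.defeqAttrib.useBackward true

universe u

open CategoryTheory CategoryTheory.Limits CategoryTheory.Pretriangulated DerivedCategory
attribute [local instance] HasDerivedCategory.standard

namespace Groth.Agent.DCat.DC

variable {A : Type u} [CommRing A]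

local notation "H" n:max => DerivedCategory.homologyFunctor (ModuleCat A) n

lemma subsingleton_cone {T : Triangle (Dual.D A)} (hT : T ∈ distTriang _) (n : ℤ)
    (h0 : Epi ((H n).map T.mor₁)) (h1 : Mono ((H (n + 1)).map T.mor₁)) :
    Subsingleton (Dual.HD A T.obj₃ n) := by
  refine ModuleCat.subsingleton_of_isZero ?_
  exact (HomologySequence.exact₃ T hT n (n + 1)).isZero_of_both_zeros
    ((HomologySequence.epi_homologyMap_mor₁_iff T hT n).1 h0)
    ((HomologySequence.mono_homologyMap_mor₁_iff T hT n (n + 1)).1 h1)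

lemma epi_of_cone {T : Triangle (Dual.D A)} (hT : T ∈ distTriang _) (n : ℤ)
    (h : Subsingleton (Dual.HD A T.obj₃ n)) : Epi ((H n).map T.mor₁) :=
  (HomologySequence.epi_homologyMap_mor₁_iff T hT n).2
    ((ModuleCat.isZero_of_subsingleton _).eq_of_tgt _ _)

lemma mono_of_cone {T : Triangle (Dual.D A)} (hT : T ∈ distTriang _) (n : ℤ)
    (h : Subsingleton (Dual.HD A T.obj₃ (n - 1))) : Mono ((H n).map T.mor₁) :=
  (HomologySequence.mono_homologyMap_mor₁_iff T hT (n - 1) n (by omega)).2
    ((ModuleCat.isZero_of_subsingleton _).eq_of_src _ _)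

theorem exists_completed_cone (I : Ideal A) [DRing.HasDerivedCompletion I] {K L : Dual.D A} (φ : K ⟶ L) :
    ∃ (Z W : Dual.D A) (m : Z ⟶ W) (v : L ⟶ Z) (w : Z ⟶ K⟦(1 : ℤ)⟧)
      (v' : ((DRing.derivedCompletion I).obj L).obj ⟶ W)
      (w' : W ⟶ (((DRing.derivedCompletion I).obj K).obj)⟦(1 : ℤ)⟧),
      Triangle.mk φ v w ∈ distTriang (Dual.D A) ∧
      Triangle.mk ((DRing.derivedCompletion I).map φ).hom v' w' ∈ distTriang (Dual.D A) ∧ IsCompl I m := by
  obtain ⟨Z, v, w, hZ⟩ := distinguished_cocone_triangle φ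
  obtain ⟨W, v', w', hW⟩ := distinguished_cocone_triangle ((DRing.derivedCompletion I).map φ).hom
  obtain ⟨m, hm⟩ := exists_compl_cone hZ hW (DRing.toDerivedCompletion I K) (DRing.toDerivedCompletion I L)
    (by
      show φ ≫ _ = _ ≫ ((DRing.derivedCompletion I).map φ).hom
      exact (DRing.derivedCompletionAdj I).unit.naturality φ)
    (isCompl_toDerivedCompletion I K) (isCompl_toDerivedCompletion I L)
  exact ⟨Z, W, m, v, w, v', w', hZ, hW, hm⟩

end Groth.Agent.DCat.DC
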