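import Groth.Agent.DCat.DComplete
import Groth.Agent.DCat.DerivedLimits
import Mathlib.Algebra.Homology.DerivedCategory.Linear
import Mathlib.CategoryTheory.Adjunction.Basic
import Mathlib.RingTheory.Ideal.Span
import Mathlib.Algebra.Category.ModuleCat.AB

/-!
Derived completion by hand: for one element `f` the fibre `T` of `(x_m) ↦ (x_m - f x_{m+1})` on `K^ℕ` maps to
`K` with complete cone, and `f` is invertible on `T`; iterate over generators.
-/

set_option autoImplicit false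
set_option backward.isDefEq.respectTransparency false
set_option backward.defeqAttrib.useBackward true

universe u

open CategoryTheory CategoryTheory.Limits CategoryTheory.Pretriangulated
attribute [local instance] HasDerivedCategory.standard

namespace Groth.Agent.DCat.DC

variable {A : Type u} [CommRing A] (f : A)

instance hasProductsD : HasLimitsOfShape (Discrete ℕ) (Dual.D A) :=
  hasProductsOfShape_derived enoughKInj_of_isGrothendieckAbelian ℕ

/-- `f` is invertible on `X`. -/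
def FInv (X : Dual.D A) : Prop := IsIso (f • 𝟙 X)

/-- Complete with respect to `f`. -/
def DCf (L : Dual.D A) : Prop :=
  ∀ (n : ℤ) (φ : (Dual.inD A (Localization.Away f))⟦n⟧ ⟶ L), φ = 0

/-- `Z n L`: no maps from `A⟦n⟧`, i.e. `H^{-n} L = 0`. -/
def Z (n : ℤ) (L : Dual.D A) : Prop := ∀ φ : (Dual.inD A A)⟦n⟧ ⟶ L, φ = 0

variable {f}

lemma eq_zero_of_shift {X L : Dual.D A} {n : ℤ} (h : ∀ φ : X⟦n⟧ ⟶ L, φ = 0) (φ : X ⟶ L⟦-n⟧) : φ = 0 := by
  apply (shiftFunctor (Dual.D A) n).map_injective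
  rw [Functor.map_zero, ← cancel_mono ((shiftFunctorCompIsoId (Dual.D A) (-n) n (by omega)).hom.app L),
    zero_comp]
  exact h _

lemma eq_zero_of_shift' {X L : Dual.D A} {n : ℤ} (h : ∀ φ : X ⟶ L⟦-n⟧, φ = 0) (φ : X⟦n⟧ ⟶ L) : φ = 0 := by
  obtain ⟨ψ, hψ⟩ := (shiftFunctor (Dual.D A) n).map_surjective
    (φ ≫ (shiftFunctorCompIsoId (Dual.D A) (-n) n (by omega)).inv.app L)
  rw [← cancel_mono ((shiftFunctorCompIsoId (Dual.D A) (-n) n (by omega)).inv.app L), ← hψ, h ψ]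
  simp

lemma dcf_iff {L : Dual.D A} : DCf f L ↔ ∀ n : ℤ, Comp (sm (Dual.HD A L n) f) := by
  rw [← forall_subsingleton_iff f L]
  constructor
  · intro h n
    obtain ⟨m, rfl⟩ : ∃ m, n = -m := ⟨-n, by omega⟩
    exact subsingleton_of_forall_eq 0 fun φ => eq_zero_of_shift (h m) φ
  · exact fun h n φ => eq_zero_of_shift' (fun ψ => @Subsingleton.elim _ (h (-n)) _ _) φ

theorem isDerivedComplete_of_generators {I : Ideal A} (s : Set A) (hs : Ideal.span s = I) (L : Dual.D A)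
    (h : ∀ g ∈ s, DCf g L) : DRing.IsDerivedComplete I L := by
  rw [isDerivedComplete_iff]
  intro n
  rw [modDC_iff_le, ← hs, Ideal.span_le]
  exact fun g hg => dcf_iff.1 (h g hg) n

theorem dcf_of_isDerivedComplete {I : Ideal A} {L : Dual.D A} (h : DRing.IsDerivedComplete I L) {g : A}
    (hg : g ∈ I) : DCf g L :=
  dcf_iff.2 fun n => (isDerivedComplete_iff L).1 h n g hg

lemma z_iff (n : ℤ) (L : Dual.D A) : Z n L ↔ Subsingleton (Dual.HD A L (-n)) := by
  let θ := ((DerivedCategory.homologyFunctor (ModuleCat.{u} A) 0).shiftIso (-n) 0 (-n) (by simp)).app L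
  haveI : Projective (ModuleCat.of A A) := ModuleCat.projective_of_free (Module.Basis.singleton Unit A)
  have hb := ProjHomology.bijective_toH (ModuleCat.of A A) (L⟦-n⟧)
  constructor
  · intro h
    refine subsingleton_of_forall_eq 0 fun x => ?_
    obtain ⟨φ, hφ⟩ := hb.2 (ModuleCat.ofHom (LinearMap.toSpanSingleton A _ (θ.inv.hom x)))
    have h0 : φ = 0 := eq_zero_of_shift h φ
    have e := LinearMap.congr_fun (congrArg ModuleCat.Hom.hom hφ) (1 : A)
    rw [h0] at e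
    simp only [ProjHomology.toH, Functor.map_zero, comp_zero] at e
    have e' : θ.inv.hom x = 0 := by simpa using e.symm
    calc x = θ.hom.hom (θ.inv.hom x) := (Iso.inv_hom_id_apply θ x).symm
      _ = 0 := by rw [e', map_zero]
  · intro h φ
    refine eq_zero_of_shift' (fun ψ => hb.1 ?_) φ
    refine ModuleCat.hom_ext (LinearMap.ext fun a => θ.toLinearEquiv.injective ?_)
    exact @Subsingleton.elim _ h _ _

lemma comp_hom (n : ℤ) {L : Dual.D A} (h : DCf f L) :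
    Comp (sm ((Dual.inD A A)⟦n⟧ ⟶ L) f) := by
  haveI : Projective (ModuleCat.of A A) := ModuleCat.projective_of_free (Module.Basis.singleton Unit A)
  let G := DerivedCategory.singleFunctor (ModuleCat.{u} A) 0
  let θ := ((DerivedCategory.homologyFunctor (ModuleCat.{u} A) 0).shiftIso (-n) 0 (-n) (by simp)).app L
  let sh := (shiftFunctorCompIsoId (Dual.D A) (-n) n (by omega)).app L
  let e0 : ((Dual.inD A A) ⟶ L⟦-n⟧) →+ ((Dual.inD A A)⟦n⟧ ⟶ L) :=
    AddMonoidHom.mk' (fun ψ => ψ⟦n⟧' ≫ sh.hom) (fun a b => by simp)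
  have hb0 : Function.Bijective e0 := by
    refine ⟨fun a b hab => ?_, fun φ => ?_⟩
    · exact (shiftFunctor (Dual.D A) n).map_injective ((cancel_mono sh.hom).1 hab)
    · obtain ⟨ψ, hψ⟩ := (shiftFunctor (Dual.D A) n).map_surjective (φ ≫ sh.inv)
      exact ⟨ψ, by simp [e0, hψ]⟩
  let ev : ((Dual.inD A A) ⟶ L⟦-n⟧) →+ Dual.HD A L (-n) :=
    AddMonoidHom.mk' (fun ψ => θ.hom.hom ((ProjHomology.toH (P := ModuleCat.of A A) ψ).hom (1 : A)))
      (fun a b => by simp [ProjHomology.toH])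
  have hbv : Function.Bijective ev := by
    have hb := ProjHomology.bijective_toH (ModuleCat.of A A) (L⟦-n⟧)
    refine ⟨fun a b hab => hb.1 (ModuleCat.hom_ext (LinearMap.ext_ring ?_)), fun x => ?_⟩
    · exact θ.toLinearEquiv.injective hab
    · obtain ⟨φ, hφ⟩ := hb.2 (ModuleCat.ofHom (LinearMap.toSpanSingleton A _ (θ.inv.hom x)))
      refine ⟨φ, ?_⟩
      show θ.hom.hom ((ProjHomology.toH (P := ModuleCat.of A A) φ).hom (1 : A)) = x
      rw [hφ]
      simp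
  have hsm : ∀ ψ, ev (f • ψ) = f • ev ψ := by
    intro ψ
    show θ.hom.hom _ = f • θ.hom.hom _
    have e : f • ψ = G.map (f • 𝟙 (ModuleCat.of A A)) ≫ ψ := by
      rw [G.map_smul, G.map_id, Linear.smul_comp]; exact congrArg (f • ·) (Category.id_comp ψ).symm
    rw [e, ProjHomology.toH_precomp, ← map_smul, Linear.smul_comp, Category.id_comp]
    rfl
  refine comp_equiv ((AddEquiv.ofBijective ev hbv).symm.trans (AddEquiv.ofBijective e0 hb0))
    (fun x => ?_) (dcf_iff.1 h (-n))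
  obtain ⟨ψ, rfl⟩ := hbv.2 x
  have e1 : (f • ev ψ) = ev (f • ψ) := (hsm ψ).symm
  show e0 ((AddEquiv.ofBijective ev hbv).symm (f • ev ψ)) =
    f • e0 ((AddEquiv.ofBijective ev hbv).symm (ev ψ))
  rw [e1]
  have hs : ∀ w, (AddEquiv.ofBijective ev hbv).symm (ev w) = w :=
    (AddEquiv.ofBijective ev hbv).symm_apply_apply
  rw [hs, hs]
  simp [e0]

lemma FInv.bijective {X : Dual.D A} (h : FInv f X) (Y : Dual.D A) :
    Function.Bijective (fun φ : X ⟶ Y => f • φ) := by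
  have : IsIso (f • 𝟙 X) := h
  have e : ∀ φ : X ⟶ Y, f • φ = (f • 𝟙 X) ≫ φ := fun φ => by rw [Linear.smul_comp, Category.id_comp]
  refine ⟨fun a b hab => ?_, fun ψ => ⟨inv (f • 𝟙 X) ≫ ψ, ?_⟩⟩
  · dsimp only at hab
    rw [e, e, cancel_epi] at hab
    exact hab
  · dsimp only
    rw [e, IsIso.hom_inv_id_assoc]

lemma FInv.shift {X : Dual.D A} (h : FInv f X) (n : ℤ) : FInv f (X⟦n⟧) := by
  have : IsIso (f • 𝟙 X) := h
  have e : (shiftFunctor (Dual.D A) n).map (f • 𝟙 X) = f • 𝟙 (X⟦n⟧) := by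
    rw [Functor.map_smul, CategoryTheory.Functor.map_id]
  show IsIso (f • 𝟙 (X⟦n⟧))
  rw [← e]
  infer_instance

lemma finv_away : FInv f (Dual.inD A (Localization.Away f)) := by
  let F := DerivedCategory.singleFunctor (ModuleCat.{u} A) 0
  have : IsIso (f • 𝟙 (ModuleCat.of A (Localization.Away f))) := by
    rw [ConcreteCategory.isIso_iff_bijective]
    have hu : IsUnit (algebraMap A (Localization.Away f) f) := IsLocalization.Away.algebraMap_isUnit f
    convert hu.unit.mulLeft.bijective using 1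
    funext x
    exact Algebra.smul_def f x
  show IsIso (f • 𝟙 (F.obj (ModuleCat.of A (Localization.Away f))))
  rw [← F.map_id, ← F.map_smul]
  infer_instance

section Fib

variable (f) (K : Dual.D A)

/-- the endomorphism of `K^ℕ` -/
noncomputable def dP : (∏ᶜ fun _ : ℕ => K) ⟶ ∏ᶜ fun _ : ℕ => K :=
  Pi.lift fun m => Pi.π (fun _ : ℕ => K) m - f • Pi.π (fun _ : ℕ => K) (m + 1)

variable {f K}

lemma dP_π {Y : Dual.D A} (φ : Y ⟶ ∏ᶜ fun _ : ℕ => K) (m : ℕ) :
    φ ≫ dP f K ≫ Pi.π _ m = φ ≫ Pi.π _ m - f • φ ≫ Pi.π _ (m + 1) := by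
  rw [dP, Pi.lift_π, Preadditive.comp_sub, Linear.comp_smul]

variable {T : Dual.D A} {i : T ⟶ ∏ᶜ fun _ : ℕ => K} {δ : (∏ᶜ fun _ : ℕ => K) ⟶ T⟦(1 : ℤ)⟧}
  (hT : Triangle.mk i (dP f K) δ ∈ distTriang (Dual.D A))

include hT

lemma comp_i_eq {Y : Dual.D A} (χ : Y ⟶ T) (m : ℕ) :
    χ ≫ i ≫ Pi.π _ m = f • χ ≫ i ≫ Pi.π _ (m + 1) := by
  have e0 : i ≫ dP f K = 0 := comp_distTriang_mor_zero₁₂ _ hT
  have e := dP_π (f := f) (χ ≫ i) m
  simp only [Category.assoc, reassoc_of% e0, zero_comp, comp_zero] at e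
  exact sub_eq_zero.1 e.symm

lemma lift_of_compat {Y : Dual.D A} (x : ℕ → (Y ⟶ K)) (hx : ∀ m, x m = f • x (m + 1)) :
    ∃ χ : Y ⟶ T, ∀ m, χ ≫ i ≫ Pi.π _ m = x m := by
  obtain ⟨χ, hχ⟩ := Triangle.coyoneda_exact₂ _ hT (Pi.lift x) (by
    refine Pi.hom_ext _ _ fun m => ?_
    show (Pi.lift x ≫ dP f K) ≫ Pi.π _ m = (0 : Y ⟶ ∏ᶜ fun _ : ℕ => K) ≫ Pi.π _ m
    rw [Category.assoc, dP_π, Pi.lift_π, Pi.lift_π, zero_comp]
    exact sub_eq_zero.2 (hx m))
  exact ⟨χ, fun m => by rw [← Pi.lift_π (f := fun _ : ℕ => K) x m, hχ]; exact (Category.assoc _ _ _).symm⟩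

lemma shift_factor {Y : Dual.D A} (χ : Y ⟶ T) (h : ∀ m, χ ≫ i ≫ Pi.π _ m = 0) :
    ∃ ω : Y⟦(1 : ℤ)⟧ ⟶ ∏ᶜ fun _ : ℕ => K, χ⟦(1 : ℤ)⟧' = ω ≫ δ := by
  have e : χ ≫ i = 0 := Pi.hom_ext _ _ fun m => by rw [Category.assoc, h, zero_comp]
  exact Triangle.coyoneda_exact₁ _ hT (χ⟦(1 : ℤ)⟧') (by
    show χ⟦(1 : ℤ)⟧' ≫ i⟦(1 : ℤ)⟧' = 0
    rw [← Functor.map_comp, e, Functor.map_zero])

theorem bijective_p {X : Dual.D A} (h : FInv f X) :
    Function.Bijective (fun χ : X ⟶ T => χ ≫ i ≫ Pi.π _ 0) := by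
  refine ⟨(injective_iff_map_eq_zero (Preadditive.rightComp X (i ≫ Pi.π _ 0))).2 fun χ hχ => ?_,
    fun ψ => ?_⟩
  · have hz : ∀ m, χ ≫ i ≫ Pi.π _ m = 0 := by
      intro m
      induction m with
      | zero => exact hχ
      | succ m ih => exact (h.bijective K).1 (by dsimp only; rw [← comp_i_eq hT χ m, ih, smul_zero])
    obtain ⟨ω, hω⟩ := shift_factor hT χ hz
    obtain ⟨g, hg⟩ : ∃ g : (X⟦(1 : ℤ)⟧ ⟶ K) → (X⟦(1 : ℤ)⟧ ⟶ K), ∀ y, f • g y = y :=
      ⟨_, fun y => (((h.shift 1).bijective K).2 y).choose_spec⟩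
    let η : ℕ → (X⟦(1 : ℤ)⟧ ⟶ K) := fun m => Nat.rec 0 (fun m e => g (e - ω ≫ Pi.π _ m)) m
    have hη : ω = Pi.lift η ≫ dP f K := Pi.hom_ext _ _ fun m => by
      rw [Category.assoc, dP_π, Pi.lift_π, Pi.lift_π, hg, sub_sub_cancel]
    apply (shiftFunctor (Dual.D A) (1 : ℤ)).map_injective
    rw [Functor.map_zero, hω, hη, Category.assoc]
    erw [comp_distTriang_mor_zero₂₃ _ hT, comp_zero]
  · obtain ⟨g, hg⟩ : ∃ g : (X ⟶ K) → (X ⟶ K), ∀ y, f • g y = y :=
      ⟨_, fun y => ((h.bijective K).2 y).choose_spec⟩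
    obtain ⟨χ, hχ⟩ := lift_of_compat hT (fun m => g^[m] ψ) fun m => by
      rw [Function.iterate_succ_apply', hg]
    exact ⟨χ, hχ 0⟩

theorem finv_fib : FInv f T := by
  have decomp : ∀ {W : Dual.D A} (ω : W ⟶ ∏ᶜ fun _ : ℕ => K),
      ω = ω ≫ dP f K + f • Pi.lift (fun m => ω ≫ Pi.π _ (m + 1)) := by
    intro W ω
    refine Pi.hom_ext _ _ fun m => ?_
    rw [Preadditive.add_comp, Category.assoc, dP_π, Linear.smul_comp, Pi.lift_π, sub_add_cancel]
  have e2 : dP f K ≫ δ = 0 := comp_distTriang_mor_zero₂₃ _ hT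
  have key : ∀ Y : Dual.D A, Function.Bijective (fun χ : Y ⟶ T => f • χ) := by
    intro Y
    refine ⟨(injective_iff_map_eq_zero (DistribSMul.toAddMonoidHom (Y ⟶ T) f)).2 fun χ hχ => ?_, fun χ => ?_⟩
    · have hχ' : f • χ = 0 := hχ
      have hz : ∀ m, χ ≫ i ≫ Pi.π _ m = 0 := fun m => by
        rw [comp_i_eq hT χ m, ← Linear.smul_comp, hχ', zero_comp]
      obtain ⟨ω, hω⟩ := shift_factor hT χ hz
      obtain ⟨η, hη⟩ := Triangle.coyoneda_exact₃ _ hT (f • ω) (by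
        show (f • ω) ≫ δ = 0
        rw [Linear.smul_comp, ← hω, ← Functor.map_smul, hχ', Functor.map_zero])
      have hη' : f • ω = η ≫ dP f K := hη
      apply (shiftFunctor (Dual.D A) (1 : ℤ)).map_injective
      have e3 : (f • Pi.lift (fun m => ω ≫ Pi.π _ (m + 1))) =
          Pi.lift (fun m => η ≫ Pi.π _ (m + 1)) ≫ dP f K := by
        refine Pi.hom_ext _ _ fun m => ?_
        rw [Linear.smul_comp, Pi.lift_π, Category.assoc, dP_π, Pi.lift_π, Pi.lift_π,
          ← Linear.smul_comp, hη', Category.assoc, dP_π]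
      rw [Functor.map_zero, hω, decomp ω, e3, ← Preadditive.add_comp, Category.assoc, e2, comp_zero]
    · obtain ⟨χ', hχ'⟩ := lift_of_compat hT (fun m => χ ≫ i ≫ Pi.π _ (m + 1))
        fun m => comp_i_eq hT χ (m + 1)
      have hz : ∀ m, (χ - f • χ') ≫ i ≫ Pi.π _ m = 0 := fun m => by
        rw [Preadditive.sub_comp, Linear.smul_comp, hχ', ← comp_i_eq hT χ m, sub_self]
      obtain ⟨ω, hω⟩ := shift_factor hT _ hz
      obtain ⟨ρ, hρ⟩ := (shiftFunctor (Dual.D A) (1 : ℤ)).map_surjective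
        (Pi.lift (fun m => ω ≫ Pi.π _ (m + 1)) ≫ δ)
      refine ⟨χ' + ρ, (shiftFunctor (Dual.D A) (1 : ℤ)).map_injective ?_⟩
      rw [show ω ≫ δ = f • ρ⟦(1 : ℤ)⟧' by
        conv_lhs => rw [decomp ω]
        rw [Preadditive.add_comp, Category.assoc, e2, comp_zero, zero_add, Linear.smul_comp, hρ],
        Functor.map_sub, Functor.map_smul, sub_eq_iff_eq_add'] at hω
      rw [hω, Functor.map_smul, Functor.map_add, smul_add]
  obtain ⟨g, hg⟩ := (key T).2 (𝟙 T)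
  exact ⟨g, by rw [Linear.smul_comp, Category.id_comp]; exact hg,
    by rw [Linear.comp_smul, Category.comp_id]; exact hg⟩

lemma z_fib (n : ℤ) (h0 : Z n K) (h1 : Z (n + 1) K) : Z n T := by
  intro χ
  obtain ⟨ω, hω⟩ := shift_factor hT χ fun m => h0 _
  have e : ω = 0 := Pi.hom_ext _ _ fun m => by
    rw [zero_comp, ← cancel_epi ((shiftFunctorAdd' (Dual.D A) n 1 (n + 1) rfl).hom.app (Dual.inD A A)),
      comp_zero]
    exact h1 _
  apply (shiftFunctor (Dual.D A) (1 : ℤ)).map_injective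
  rw [Functor.map_zero, hω, e, zero_comp]

lemma dcf_fib {g : A} (h : DCf g K) : DCf g T := by
  intro n χ
  obtain ⟨ω, hω⟩ := shift_factor hT χ fun m => h n _
  have e : ω = 0 := Pi.hom_ext _ _ fun m => by
    rw [zero_comp, ← cancel_epi ((shiftFunctorAdd' (Dual.D A) n 1 (n + 1) rfl).hom.app
      (Dual.inD A (Localization.Away g))), comp_zero]
    exact h (n + 1) _
  apply (shiftFunctor (Dual.D A) (1 : ℤ)).map_injective
  rw [Functor.map_zero, hω, e, zero_comp]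

end Fib

lemma exists_fib (K : Dual.D A) : ∃ (T : Dual.D A) (i : T ⟶ ∏ᶜ fun _ : ℕ => K)
    (δ : (∏ᶜ fun _ : ℕ => K) ⟶ T⟦(1 : ℤ)⟧), Triangle.mk i (dP f K) δ ∈ distTriang (Dual.D A) :=
  distinguished_cocone_triangle₁ (dP f K)

lemma isZero_of_z {L : Dual.D A} (h : ∀ n, Z n L) : IsZero L := by
  have hz : ∀ n : ℤ, IsZero ((DerivedCategory.homologyFunctor (ModuleCat.{u} A) n).obj L) := fun n => by
    have := (z_iff (-n) L).1 (h (-n))
    rw [neg_neg] at this
    exact ModuleCat.isZero_of_subsingleton _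
  have : IsIso (0 : L ⟶ L) := (DerivedCategory.isIso_iff (ModuleCat.{u} A) (0 : L ⟶ L)).2 fun n =>
    isIso_of_source_target_iso_zero _ (hz n).isoZero (hz n).isoZero
  rw [IsZero.iff_id_eq_zero, ← IsIso.hom_inv_id (0 : L ⟶ L), zero_comp]

theorem eq_zero_of_finv {X L : Dual.D A} (hX : FInv f X) (hL : DCf f L) (φ : X ⟶ L) : φ = 0 := by
  obtain ⟨T, i, δ, hT⟩ := exists_fib (f := f) L
  have hz : IsZero T := isZero_of_z fun n χ => by
    have hc : Comp (sm ((Dual.inD A A)⟦n⟧ ⟶ L) f) := comp_hom n hL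
    have h0 := eq_zero hc (x := fun m => χ ≫ i ≫ Pi.π _ m) (comp_i_eq hT χ)
    obtain ⟨ω, hω⟩ := shift_factor hT χ fun m => congrFun h0 m
    have hc' : Comp (sm (((Dual.inD A A)⟦n⟧)⟦(1 : ℤ)⟧ ⟶ L) f) :=
      comp_equiv (φ := sm ((Dual.inD A A)⟦n + 1⟧ ⟶ L) f)
        { toFun := fun z => ((shiftFunctorAdd' (Dual.D A) n 1 (n + 1) rfl).inv.app _) ≫ z
          invFun := fun z => ((shiftFunctorAdd' (Dual.D A) n 1 (n + 1) rfl).hom.app _) ≫ z
          left_inv := fun z => by simp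
          right_inv := fun z => by simp
          map_add' := fun a b => Preadditive.comp_add _ _ _ _ _ _ }
        (fun z => Linear.comp_smul (R := A) _ _ _
          ((shiftFunctorAdd' (Dual.D A) n 1 (n + 1) rfl).inv.app (Dual.inD A A)) f z) (comp_hom (n + 1) hL)
    obtain ⟨η, hη⟩ := hc'.2 (fun m => ω ≫ Pi.π _ m)
    have e : ω = Pi.lift η ≫ dP f L := Pi.hom_ext _ _ fun m => by
      rw [Category.assoc, dP_π, Pi.lift_π, Pi.lift_π]
      exact (congrFun hη m).symm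
    apply (shiftFunctor (Dual.D A) (1 : ℤ)).map_injective
    rw [Functor.map_zero, hω, e, Category.assoc]
    erw [comp_distTriang_mor_zero₂₃ _ hT, comp_zero]
  obtain ⟨χ, rfl⟩ := (bijective_p hT hX).2 φ
  rw [hz.eq_of_tgt χ 0]
  exact zero_comp


section Completion

variable (f : A)

lemma DCf.shift {L : Dual.D A} (h : DCf f L) (k : ℤ) : DCf f (L⟦k⟧) := by
  intro n φ
  refine eq_zero_of_shift' (fun ψ => ?_) φ
  rw [← cancel_mono ((shiftFunctorAdd' (Dual.D A) k (-n) (k - n) (by omega)).inv.app L), zero_comp]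
  have h' := h (-(k - n))
  have := eq_zero_of_shift h' ((ψ ≫ (shiftFunctorAdd' (Dual.D A) k (-n) (k - n) (by omega)).inv.app L) ≫
    eqToHom (by rw [neg_neg]))
  exact (cancel_mono (eqToHom _)).1 (this.trans zero_comp.symm)

lemma dcf_obj₃ {g : A} {T : Triangle (Dual.D A)} (hT : T ∈ distTriang _) (h1 : DCf g T.obj₁)
    (h2 : DCf g T.obj₂) : DCf g T.obj₃ := by
  intro n φ
  obtain ⟨ψ, rfl⟩ := Triangle.coyoneda_exact₃ _ hT φ ((h1.shift g 1) n _)
  rw [h2 n ψ, zero_comp]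

/-- One step of derived completion. -/
theorem exists_step (K : Dual.D A) : ∃ (C : Dual.D A) (q : K ⟶ C), DCf f C ∧
    (∀ g, DCf g K → DCf g C) ∧
    (∀ L, DCf f L → Function.Bijective (fun φ : C ⟶ L => q ≫ φ)) ∧
    (∀ n : ℤ, Z n K → Z (n - 1) K → Z n C) := by
  obtain ⟨T, i, δ, hT⟩ := exists_fib (f := f) K
  let p := i ≫ Pi.π (fun _ : ℕ => K) 0
  obtain ⟨C, q, w, hC⟩ := distinguished_cocone_triangle p
  have hTi := finv_fib hT
  have hpq : p ≫ q = 0 := comp_distTriang_mor_zero₁₂ _ hC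
  have hwp : w ≫ p⟦(1 : ℤ)⟧' = 0 := comp_distTriang_mor_zero₃₁ _ hC
  refine ⟨C, q, ?_, fun g hg => dcf_obj₃ hC (dcf_fib hT hg) hg, fun L hL => ⟨?_, ?_⟩, ?_⟩
  · intro n φ
    have hX : FInv f ((Dual.inD A (Localization.Away f))⟦n⟧) := finv_away.shift n
    have hw : φ ≫ w = 0 := by
      let e := (shiftFunctorCompIsoId (Dual.D A) (-1) 1 (by omega)).app
        ((Dual.inD A (Localization.Away f))⟦n⟧)
      obtain ⟨χ, hχ⟩ := (shiftFunctor (Dual.D A) (1 : ℤ)).map_surjective (e.hom ≫ φ ≫ w)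
      have h0 : χ ≫ p = 0 := by
        apply (shiftFunctor (Dual.D A) (1 : ℤ)).map_injective
        rw [Functor.map_comp, hχ, Category.assoc, Category.assoc, hwp]
        simp
      have h1 : χ = 0 := (bijective_p hT (hX.shift (-1))).1 (h0.trans zero_comp.symm)
      rw [h1, Functor.map_zero] at hχ
      exact (cancel_epi e.hom).1 (hχ.symm.trans comp_zero.symm)
    obtain ⟨ψ, hψ⟩ := Triangle.coyoneda_exact₃ _ hC φ hw
    obtain ⟨χ, rfl⟩ := (bijective_p hT hX).2 ψ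
    rw [hψ]
    show (χ ≫ p) ≫ q = 0
    rw [Category.assoc, hpq, comp_zero]
  · intro a b hab
    rw [← sub_eq_zero]
    obtain ⟨θ, hθ⟩ := Triangle.yoneda_exact₃ _ hC (a - b) (by
      show q ≫ (a - b) = 0
      rw [Preadditive.comp_sub, sub_eq_zero]; exact hab)
    rw [hθ, eq_zero_of_finv (hTi.shift 1) hL θ, comp_zero]
  · intro ψ
    obtain ⟨φ, hφ⟩ := Triangle.yoneda_exact₂ _ hC ψ (eq_zero_of_finv hTi hL _)
    exact ⟨φ, hφ.symm⟩
  · intro n h0 h1 φ
    have hw : φ ≫ w = 0 := by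
      obtain ⟨χ, hχ⟩ := (shiftFunctor (Dual.D A) (1 : ℤ)).map_surjective
        ((shiftFunctorAdd' (Dual.D A) (n - 1) 1 n (by omega)).inv.app (Dual.inD A A) ≫ φ ≫ w)
      rw [z_fib hT (n - 1) h1 (by rwa [sub_add_cancel]) χ, Functor.map_zero] at hχ
      exact (cancel_epi ((shiftFunctorAdd' (Dual.D A) (n - 1) 1 n (by omega)).inv.app (Dual.inD A A))).1
        (hχ.symm.trans comp_zero.symm)
    obtain ⟨ψ, rfl⟩ := Triangle.coyoneda_exact₃ _ hC φ hw
    rw [h0 ψ, zero_comp]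

/-- `q : K ⟶ C` is a derived completion. -/
def IsCompl (I : Ideal A) {K C : Dual.D A} (q : K ⟶ C) : Prop :=
  DRing.IsDerivedComplete I C ∧
    ∀ L, DRing.IsDerivedComplete I L → Function.Bijective (fun φ : C ⟶ L => q ≫ φ)

theorem exists_iterate (s : List A) : ∀ K : Dual.D A, ∃ (C : Dual.D A) (q : K ⟶ C),
    (∀ g ∈ s, DCf g C) ∧ (∀ g, DCf g K → DCf g C) ∧
    (∀ L, (∀ g ∈ s, DCf g L) → Function.Bijective (fun φ : C ⟶ L => q ≫ φ)) ∧
    (∀ n : ℤ, (∀ m, n - s.length ≤ m → m ≤ n → Z m K) → Z n C) := by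
  induction s with
  | nil =>
    exact fun K => ⟨K, 𝟙 K, by simp, fun _ h => h,
      fun L _ => by simp only [Category.id_comp]; exact Function.bijective_id, fun n h => h n (by simp) le_rfl⟩
  | cons f s ih =>
    intro K
    obtain ⟨C₁, q₁, hf, hp₁, hu₁, hz₁⟩ := exists_step f K
    obtain ⟨C, q, hs, hp, hu, hz⟩ := ih C₁
    refine ⟨C, q₁ ≫ q, ?_, fun g hg => hp g (hp₁ g hg), fun L hL => ?_, fun n h => hz n fun m h1 h2 => ?_⟩
    · intro g hg
      rcases List.mem_cons.1 hg with rfl | hg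
      · exact hp g hf
      · exact hs g hg
    · have e : (fun φ : C ⟶ L => (q₁ ≫ q) ≫ φ) = (fun φ : C₁ ⟶ L => q₁ ≫ φ) ∘ (fun φ => q ≫ φ) :=
        funext fun φ => Category.assoc _ _ _
      rw [e]
      exact (hu₁ L (hL f List.mem_cons_self)).comp (hu L fun g hg => hL g (List.mem_cons_of_mem _ hg))
    · rw [List.length_cons, Nat.cast_succ] at h
      exact hz₁ m (h m (by omega) (by omega)) (h (m - 1) (by omega) (by omega))

theorem exists_compl {I : Ideal A} (s : Finset A) (hs : Ideal.span (↑s : Set A) = I) (K : Dual.D A) :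
    ∃ (C : Dual.D A) (q : K ⟶ C), IsCompl I q ∧
      ∀ n : ℤ, (∀ m, n ≤ m → m ≤ n + s.card → Subsingleton (Dual.HD A K m)) →
        Subsingleton (Dual.HD A C n) := by
  obtain ⟨C, q, hc, -, hu, hz⟩ := exists_iterate s.toList K
  refine ⟨C, q, ⟨isDerivedComplete_of_generators _ hs C fun g hg => hc g (Finset.mem_toList.2 hg),
    fun L hL => hu L fun g hg => dcf_of_isDerivedComplete hL
      (hs ▸ Ideal.subset_span (Finset.mem_toList.1 hg))⟩, fun n h => ?_⟩
  have := (z_iff (-n) C).1 (hz (-n) fun m h1 h2 => (z_iff m K).2 (h (-m) (by omega) (by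
    rw [Finset.length_toList] at h1; omega)))
  rwa [neg_neg] at this

theorem hasDerivedCompletion {I : Ideal A} (hI : I.FG) : DRing.HasDerivedCompletion I := by
  obtain ⟨s, hs⟩ := hI
  choose C q hq _ using exists_compl s hs
  let e : ∀ (K : Dual.D A) (L : DRing.DComp I),
      ((⟨C K, (hq K).1⟩ : DRing.DComp I) ⟶ L) ≃ (K ⟶ (ObjectProperty.ι (DRing.IsDerivedComplete I)).obj L) :=
    fun K L => ((ObjectProperty.fullyFaithfulι (DRing.IsDerivedComplete I)).homEquiv).trans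
      (Equiv.ofBijective _ ((hq K).2 L.1 L.2))
  exact ⟨_, ⟨Adjunction.adjunctionOfEquivLeft (G := ObjectProperty.ι (DRing.IsDerivedComplete I))
    e (fun K L L' g h => (Category.assoc (q K) h.hom g.hom).symm)⟩⟩

theorem isCompl_toDerivedCompletion (I : Ideal A) [DRing.HasDerivedCompletion I] (K : Dual.D A) :
    IsCompl I (DRing.toDerivedCompletion I K) := by
  refine ⟨((DRing.derivedCompletion I).obj K).property, fun L hL => ?_⟩
  let ι := ObjectProperty.ι (DRing.IsDerivedComplete I)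
  have hb := ((ObjectProperty.fullyFaithfulι (DRing.IsDerivedComplete I)).homEquiv
      (X := (DRing.derivedCompletion I).obj K) (Y := ⟨L, hL⟩)).symm.trans
    ((DRing.derivedCompletionAdj I).homEquiv K ⟨L, hL⟩) |>.bijective
  convert hb using 1
  funext φ
  rw [Equiv.trans_apply, Adjunction.homEquiv_unit]
  rfl

variable {I : Ideal A}

theorem IsCompl.exists_iso {K C C' : Dual.D A} {q : K ⟶ C} {q' : K ⟶ C'} (h : IsCompl I q)
    (h' : IsCompl I q') : ∃ e : C ≅ C', q ≫ e.hom = q' := by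
  obtain ⟨a, ha⟩ := (h.2 C' h'.1).2 q'
  obtain ⟨b, hb⟩ := (h'.2 C h.1).2 q
  dsimp only at ha hb
  refine ⟨⟨a, b, (h.2 C h.1).1 ?_, (h'.2 C' h'.1).1 ?_⟩, ha⟩
  · dsimp only; rw [reassoc_of% ha, hb, Category.comp_id]
  · dsimp only; rw [reassoc_of% hb, ha, Category.comp_id]

theorem IsCompl.subsingleton_hd (s : Finset A) (hs : Ideal.span (↑s : Set A) = I) {K C : Dual.D A}
    {q : K ⟶ C} (h : IsCompl I q) (n : ℤ)
    (hK : ∀ m, n ≤ m → m ≤ n + s.card → Subsingleton (Dual.HD A K m)) :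
    Subsingleton (Dual.HD A C n) := by
  obtain ⟨C', q', h', hz⟩ := exists_compl s hs K
  obtain ⟨e, -⟩ := h.exists_iso h'
  have := hz n hK
  exact ((DerivedCategory.homologyFunctor (ModuleCat.{u} A) n).mapIso e).toLinearEquiv.toEquiv.subsingleton

theorem isDerivedComplete_shift {L : Dual.D A} (h : DRing.IsDerivedComplete I L) (k : ℤ) :
    DRing.IsDerivedComplete I (L⟦k⟧) :=
  isDerivedComplete_of_generators (I : Set A) (Ideal.span_eq I) _ fun g hg =>
    (dcf_of_isDerivedComplete h hg).shift g k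

theorem isDerivedComplete_obj₃ {T : Triangle (Dual.D A)} (hT : T ∈ distTriang _)
    (h1 : DRing.IsDerivedComplete I T.obj₁) (h2 : DRing.IsDerivedComplete I T.obj₂) :
    DRing.IsDerivedComplete I T.obj₃ :=
  isDerivedComplete_of_generators (I : Set A) (Ideal.span_eq I) _ fun g hg =>
    dcf_obj₃ hT (dcf_of_isDerivedComplete h1 hg) (dcf_of_isDerivedComplete h2 hg)

theorem IsCompl.bijective_shift {K C : Dual.D A} {q : K ⟶ C} (h : IsCompl I q) (k : ℤ) {L : Dual.D A}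
    (hL : DRing.IsDerivedComplete I L) : Function.Bijective (fun φ : C⟦k⟧ ⟶ L => q⟦k⟧' ≫ φ) := by
  let sh := (shiftFunctorCompIsoId (Dual.D A) (-k) k (by omega)).app L
  have hb := h.2 _ (isDerivedComplete_shift hL (-k))
  refine ⟨fun a b hab => ?_, fun ψ => ?_⟩
  · obtain ⟨a', ha⟩ := (shiftFunctor (Dual.D A) k).map_surjective (a ≫ sh.inv)
    obtain ⟨b', hb'⟩ := (shiftFunctor (Dual.D A) k).map_surjective (b ≫ sh.inv)
    dsimp only at hab
    have : a' = b' := hb.1 ((shiftFunctor (Dual.D A) k).map_injective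
      (by simp only [Functor.map_comp, ha, hb', reassoc_of% hab]))
    rw [← cancel_mono sh.inv, ← ha, ← hb', this]
  · obtain ⟨ψ', hψ⟩ := (shiftFunctor (Dual.D A) k).map_surjective (ψ ≫ sh.inv)
    obtain ⟨φ, hφ⟩ := hb.2 ψ'
    dsimp only at hφ
    refine ⟨φ⟦k⟧' ≫ sh.hom, ?_⟩
    dsimp only
    rw [← Functor.map_comp_assoc, hφ, hψ, Category.assoc, Iso.inv_hom_id, Category.comp_id]

/-- Completion is exact: the cone of the completed map completes the cone. -/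
theorem exists_compl_cone {T T' : Triangle (Dual.D A)} (hT : T ∈ distTriang _) (hT' : T' ∈ distTriang _)
    (a : T.obj₁ ⟶ T'.obj₁) (b : T.obj₂ ⟶ T'.obj₂) (comm : T.mor₁ ≫ b = a ≫ T'.mor₁)
    (ha : IsCompl I a) (hb : IsCompl I b) : ∃ m : T.obj₃ ⟶ T'.obj₃, IsCompl I m := by
  obtain ⟨m, hm₁, hm₂⟩ := complete_distinguished_triangle_morphism T T' hT hT' a b comm
  have hW := isDerivedComplete_obj₃ hT' ha.1 hb.1
  refine ⟨m, hW, fun E hE => ⟨?_, fun θ₀ => ?_⟩⟩
  · intro θ θ' hθθ'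
    rw [← sub_eq_zero]
    have h0 : m ≫ (θ - θ') = 0 := by rw [Preadditive.comp_sub, sub_eq_zero]; exact hθθ'
    generalize θ - θ' = ρ₀ at h0 ⊢
    have h1 : T'.mor₂ ≫ ρ₀ = 0 := (hb.2 E hE).1 (by
      dsimp only; rw [← reassoc_of% hm₁, h0, comp_zero, comp_zero])
    obtain ⟨ρ, rfl⟩ := Triangle.yoneda_exact₃ _ hT' ρ₀ h1
    obtain ⟨σ, hσ⟩ := Triangle.yoneda_exact₂ _ (rot_of_distTriang _ (rot_of_distTriang _ hT))
      (a⟦(1 : ℤ)⟧' ≫ ρ) (by
        show T.mor₃ ≫ _ = 0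
        rw [reassoc_of% hm₂, h0])
    obtain ⟨σ', hσ'⟩ := (hb.bijective_shift 1 hE).2 σ
    dsimp only at hσ'
    have hσ1 : a⟦(1 : ℤ)⟧' ≫ ρ = (-T.mor₁⟦(1 : ℤ)⟧') ≫ σ := hσ
    have hρ : ρ = -(T'.mor₁⟦(1 : ℤ)⟧' ≫ σ') := (ha.bijective_shift 1 hE).1 (by
      dsimp only
      rw [hσ1, Preadditive.neg_comp, Preadditive.comp_neg, ← hσ', ← Functor.map_comp_assoc, comm,
        Functor.map_comp_assoc])
    rw [hρ, Preadditive.comp_neg, ← Category.assoc, comp_distTriang_mor_zero₃₁ _ hT', zero_comp, neg_zero]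
  · obtain ⟨α, hα⟩ := (hb.2 E hE).2 (T.mor₂ ≫ θ₀)
    dsimp only at hα
    have h1 : T'.mor₁ ≫ α = 0 := (ha.2 E hE).1 (by
      dsimp only
      rw [← reassoc_of% comm, hα, comp_zero, ← Category.assoc, comp_distTriang_mor_zero₁₂ _ hT, zero_comp])
    obtain ⟨θ₁, hθ₁⟩ := Triangle.yoneda_exact₂ _ hT' α h1
    obtain ⟨β, hβ⟩ := Triangle.yoneda_exact₃ _ hT (θ₀ - m ≫ θ₁) (by
      rw [Preadditive.comp_sub, sub_eq_zero, reassoc_of% hm₁, ← hθ₁, hα])
    obtain ⟨β', hβ'⟩ := (ha.bijective_shift 1 hE).2 β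
    dsimp only at hβ'
    refine ⟨θ₁ + T'.mor₃ ≫ β', ?_⟩
    dsimp only
    rw [Preadditive.comp_add, ← reassoc_of% hm₂, hβ', ← hβ, add_sub_cancel]

end Completion

end Groth.Agent.DCat.DC
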