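import Groth.Agent.DCat.DTenExact
import Groth.Agent.DCat.DTenTriple
import Mathlib.Algebra.Category.ModuleCat.Biproducts
import Mathlib.LinearAlgebra.FreeModule.Finite.Basic

/-! Dévissage and the evaluation maps. -/

set_option autoImplicit false
set_option backward.isDefEq.respectTransparency false
set_option backward.defeqAttrib.useBackward true
set_option linter.style.haveILetI false

universe u

open CategoryTheory CategoryTheory.Limits MonoidalCategory HomologicalComplex Opposite CategoryTheory.Pretriangulated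

attribute [local instance] HasDerivedCategory.standard

namespace Groth.Agent.DCat

variable {A : Type u} [CommRing A]

lemma IsDistPair.comp {a b c : Dual.D A} {f : a ⟶ b} {g : b ⟶ c} (h : IsDistPair f g) : f ≫ g = 0 := by
  obtain ⟨δ, hδ⟩ := h
  exact comp_distTriang_mor_zero₁₂ _ hδ

lemma IsDistPair.exact {a b c : Dual.D A} {f : a ⟶ b} {g : b ⟶ c} (h : IsDistPair f g) {X : Dual.D A}
    (x : X ⟶ b) (hx : x ≫ g = 0) : ∃ y, x = y ≫ f := by
  obtain ⟨δ, hδ⟩ := h
  exact Triangle.coyoneda_exact₂ _ hδ x hx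

/-- The five lemma for triangle-like sequences. -/
lemma isIso_five {a₁ a₂ a₃ a₄ a₅ b₁ b₂ b₃ b₄ b₅ : Dual.D A}
    {f₁ : a₁ ⟶ a₂} {f₂ : a₂ ⟶ a₃} {f₃ : a₃ ⟶ a₄} {f₄ : a₄ ⟶ a₅}
    {g₁ : b₁ ⟶ b₂} {g₂ : b₂ ⟶ b₃} {g₃ : b₃ ⟶ b₄} {g₄ : b₄ ⟶ b₅}
    (p₁ : IsDistPair f₁ f₂) (p₂ : IsDistPair f₂ f₃) (p₃ : IsDistPair f₃ f₄)
    (q₁ : IsDistPair g₁ g₂) (q₂ : IsDistPair g₂ g₃) (q₃ : IsDistPair g₃ g₄)
    (v₁ : a₁ ⟶ b₁) (v₂ : a₂ ⟶ b₂) (v₃ : a₃ ⟶ b₃) (v₄ : a₄ ⟶ b₄) (v₅ : a₅ ⟶ b₅)
    (c₁ : f₁ ≫ v₂ = v₁ ≫ g₁) (c₂ : f₂ ≫ v₃ = v₂ ≫ g₂) (c₃ : f₃ ≫ v₄ = v₃ ≫ g₃) (c₄ : f₄ ≫ v₅ = v₄ ≫ g₄)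
    [IsIso v₁] [IsIso v₂] [IsIso v₄] [IsIso v₅] : IsIso v₃ := by
  rw [isIso_iff_yoneda_map_bijective]
  intro X
  have hinj : ∀ x : X ⟶ a₃, x ≫ v₃ = 0 → x = 0 := by
    intro x hx
    have h3 : x ≫ f₃ = 0 := by rw [← cancel_mono v₄, Category.assoc, c₃, reassoc_of% hx, zero_comp, zero_comp]
    obtain ⟨y, rfl⟩ := p₂.exact x h3
    rw [Category.assoc, c₂, ← Category.assoc] at hx
    obtain ⟨z, hz⟩ := q₁.exact _ hx
    have : y = (z ≫ inv v₁) ≫ f₁ := by
      rw [← cancel_mono v₂, hz, Category.assoc, Category.assoc, c₁, IsIso.inv_hom_id_assoc]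
    rw [this, Category.assoc, p₁.comp, comp_zero]
  constructor
  · intro x y h
    refine sub_eq_zero.1 (hinj _ ?_)
    rw [Preadditive.sub_comp, sub_eq_zero]
    exact h
  · intro z
    have h4 : (z ≫ g₃ ≫ inv v₄) ≫ f₄ = 0 := by
      rw [← cancel_mono v₅, zero_comp, Category.assoc, c₄]
      simp [q₃.comp]
    obtain ⟨x, hx⟩ := p₃.exact _ h4
    have h3 : (z - x ≫ v₃) ≫ g₃ = 0 := by
      rw [Preadditive.sub_comp, Category.assoc, ← c₃, ← reassoc_of% hx, sub_eq_zero]
      simp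
    obtain ⟨y, hy⟩ := q₂.exact _ h3
    refine ⟨x + (y ≫ inv v₂) ≫ f₂, ?_⟩
    change (x + (y ≫ inv v₂) ≫ f₂) ≫ v₃ = z
    rw [Preadditive.add_comp, Category.assoc, Category.assoc, c₂, IsIso.inv_hom_id_assoc, ← hy]
    abel

/-- Closure under triangles for a covariant comparison. -/
lemma isIso_app_obj₃ {F G : Dual.D A ⥤ Dual.D A} (hF : MapsTri F) (hG : MapsTri G)
    (η : ∀ M, F.obj M ⟶ G.obj M) (nat : ∀ {M M'} (m : M ⟶ M'), F.map m ≫ η M' = η M ≫ G.map m)
    {T : Triangle (Dual.D A)} (hT : T ∈ distinguishedTriangles) (h₁ : IsIso (η T.obj₁)) (h₂ : IsIso (η T.obj₂))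
    (h₄ : IsIso (η (T.obj₁⟦(1 : ℤ)⟧))) (h₅ : IsIso (η (T.obj₂⟦(1 : ℤ)⟧))) : IsIso (η T.obj₃) :=
  isIso_five (hF _ hT) (hF _ (rot_of_distTriang _ hT)) (hF _ (rot_of_distTriang _ (rot_of_distTriang _ hT)))
    (hG _ hT) (hG _ (rot_of_distTriang _ hT)) (hG _ (rot_of_distTriang _ (rot_of_distTriang _ hT)))
    (η T.obj₁) (η T.obj₂) (η T.obj₃) (η (T.obj₁⟦(1 : ℤ)⟧)) (η (T.obj₂⟦(1 : ℤ)⟧))
    (nat T.mor₁) (nat T.mor₂) (nat T.mor₃) (nat T.rotate.rotate.mor₂)

/-- Closure under triangles for a contravariant comparison. -/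
lemma isIso_app_obj₃_op {F G : (Dual.D A)ᵒᵖ ⥤ Dual.D A} (hF : MapsTriOp F) (hG : MapsTriOp G)
    (η : ∀ M, F.obj M ⟶ G.obj M) (nat : ∀ {M M'} (m : M ⟶ M'), F.map m ≫ η M' = η M ≫ G.map m)
    {T : Triangle (Dual.D A)} (hT : T ∈ distinguishedTriangles) (h₁ : IsIso (η (op T.obj₁)))
    (h₂ : IsIso (η (op T.obj₂))) (h₄ : IsIso (η (op (T.obj₁⟦(1 : ℤ)⟧))))
    (h₅ : IsIso (η (op (T.obj₂⟦(1 : ℤ)⟧)))) : IsIso (η (op T.obj₃)) :=
  isIso_five (hF _ (rot_of_distTriang _ (rot_of_distTriang _ hT))) (hF _ (rot_of_distTriang _ hT)) (hF _ hT)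
    (hG _ (rot_of_distTriang _ (rot_of_distTriang _ hT))) (hG _ (rot_of_distTriang _ hT)) (hG _ hT)
    (η (op (T.obj₂⟦(1 : ℤ)⟧))) (η (op (T.obj₁⟦(1 : ℤ)⟧))) (η (op T.obj₃)) (η (op T.obj₂)) (η (op T.obj₁))
    (nat T.rotate.rotate.mor₂.op) (nat T.mor₃.op) (nat T.mor₂.op) (nat T.mor₁.op)

/-- The shifted unit `A[-n]`. -/
noncomputable abbrev unitShift (A : Type u) [CommRing A] (n : ℤ) : DRing.Cx A :=
  (HomologicalComplex.single (ModuleCat.{u} A) (ComplexShape.up ℤ) n).obj (𝟙_ (ModuleCat.{u} A))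

lemma finite_projective_of_iso {X Y : ModuleCat.{u} A} (e : X ≅ Y)
    (h : Module.Finite A X ∧ Module.Projective A X) : Module.Finite A Y ∧ Module.Projective A Y :=
  haveI := h.1
  haveI := h.2
  ⟨Module.Finite.equiv e.toLinearEquiv, Module.Projective.of_equiv e.toLinearEquiv⟩

/-- Dévissage of perfect complexes. -/
theorem devissage (P : ObjectProperty (Dual.D A)) (hiso : ∀ {K L : Dual.D A}, (K ≅ L) → P K → P L)
    (htri : ∀ T ∈ (distinguishedTriangles : Set (Triangle (Dual.D A))), P T.obj₁ → P T.obj₂ →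
      P (T.obj₁⟦(1 : ℤ)⟧) → P (T.obj₂⟦(1 : ℤ)⟧) → P T.obj₃)
    (hretr : ∀ {K L : Dual.D A}, Retract K L → P L → P K)
    (hbase : ∀ n : ℤ, P (DerivedCategory.Q.obj (unitShift A n)))
    {K : Dual.D A} (hK : DRing.IsPerfect A K) : P K := by
  let S : ObjectProperty (Dual.D A) := fun K => ∀ n : ℤ, P (K⟦n⟧)
  have sIso : ∀ {K L : Dual.D A}, (K ≅ L) → S K → S L := fun e h n => hiso ((shiftFunctor _ n).mapIso e) (h n)
  have sShift : ∀ {K : Dual.D A} (m : ℤ), S K → S (K⟦m⟧) := fun {K} m h n =>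
    hiso ((shiftFunctorAdd' _ m n (m + n) rfl).app K) (h (m + n))
  have sThird : ∀ T ∈ (distinguishedTriangles : Set (Triangle (Dual.D A))), S T.obj₁ → S T.obj₂ → S T.obj₃ :=
    fun T hT h₁ h₂ n => htri _ (Triangle.shift_distinguished T hT n) (h₁ n) (h₂ n)
      (hiso ((shiftFunctorAdd' _ n 1 (n + 1) rfl).app T.obj₁) (h₁ (n + 1)))
      (hiso ((shiftFunctorAdd' _ n 1 (n + 1) rfl).app T.obj₂) (h₂ (n + 1)))
  have sMid : ∀ T ∈ (distinguishedTriangles : Set (Triangle (Dual.D A))), S T.obj₁ → S T.obj₃ → S T.obj₂ :=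
    fun T hT h₁ h₃ => sThird _ (inv_rot_of_distTriang _ hT) (sShift (-1) h₃) h₁
  have sUnit : ∀ n, S (DerivedCategory.Q.obj (unitShift A n)) := fun n m =>
    hiso ((DerivedCategory.Q.mapIso
        (((CochainComplex.singleFunctors (ModuleCat.{u} A)).shiftIso m (n - m) n (by omega)).app _)).symm ≪≫
      (DerivedCategory.Q.commShiftIso m).app _) (hbase (n - m))
  have sZero : ∀ {Z : Dual.D A}, IsZero Z → S Z := fun {Z} hZ =>
    sIso ((isZero_zero _).iso hZ) (sThird _ (contractible_distinguished (DerivedCategory.Q.obj (unitShift A 0)))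
      (sUnit 0) (sUnit 0))
  have sRetr : ∀ {K L : Dual.D A}, Retract K L → S L → S K := fun r h n => hretr (r.map (shiftFunctor _ n)) (h n)
  have sSES : ∀ X : ShortComplex (DRing.Cx A), X.ShortExact → S (DerivedCategory.Q.obj X.X₁) →
      S (DerivedCategory.Q.obj X.X₃) → S (DerivedCategory.Q.obj X.X₂) := fun X hX h₁ h₃ =>
    sMid _ (DerivedCategory.triangleOfSES_distinguished hX) h₁ h₃
  have sFree : ∀ (n : ℤ) (m : ℕ), S (DerivedCategory.Q.obj
      ((HomologicalComplex.single (ModuleCat.{u} A) (ComplexShape.up ℤ) n).obj (ModuleCat.of A (Fin m → A)))) := by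
    intro n m
    induction m with
    | zero =>
      exact sZero (Functor.map_isZero _ (Functor.map_isZero _ (ModuleCat.isZero_of_subsingleton _)))
    | succ m ih =>
      let σ := ShortComplex.Splitting.ofHasBinaryBiproduct (ModuleCat.of A A) (ModuleCat.of A (Fin m → A))
      let F := HomologicalComplex.single (ModuleCat.{u} A) (ComplexShape.up ℤ) n
      let E : ModuleCat.of A A ⊞ ModuleCat.of A (Fin m → A) ≅ ModuleCat.of A (Fin (m + 1) → A) :=
        ModuleCat.biprodIsoProd _ _ ≪≫ (Fin.consLinearEquiv A (fun _ : Fin (m + 1) => A)).toModuleIso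
      refine sIso (DerivedCategory.Q.mapIso (F.mapIso E))
        (sSES ((ShortComplex.mk (biprod.inl : ModuleCat.of A A ⟶ ModuleCat.of A A ⊞ ModuleCat.of A (Fin m → A))
          biprod.snd biprod.inl_snd).map F) ?_ (sUnit n) ih)
      exact shortExact_of_degreewise_shortExact _ fun k =>
        ((σ.map F).map (HomologicalComplex.eval _ (ComplexShape.up ℤ) k)).shortExact
  obtain ⟨E, a, b, hE, hEp, ⟨e⟩⟩ := hK
  refine hiso ((shiftFunctorZero (Dual.D A) ℤ).app K) ((sIso e ?_) 0)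
  exact bounded_induction (fun E => S (DerivedCategory.Q.obj E))
    (fun X : ModuleCat.{u} A => Module.Finite A X ∧ Module.Projective A X)
    (fun Z hZ => sZero (Functor.map_isZero _ hZ))
    (fun X hX => by
      haveI := ModuleCat.subsingleton_of_isZero hX
      exact ⟨inferInstance, inferInstance⟩)
    (fun X Y e h => finite_projective_of_iso e h)
    (fun n X h => by
      haveI := h.1
      haveI := h.2
      obtain ⟨m, f, g, -, -, hfg⟩ := Module.Finite.exists_comp_eq_id_of_projective A X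
      let r : Retract X (ModuleCat.of A (Fin m → A)) :=
        ⟨ModuleCat.ofHom g, ModuleCat.ofHom f, ModuleCat.hom_ext hfg⟩
      exact sRetr ((r.map (HomologicalComplex.single (ModuleCat.{u} A) (ComplexShape.up ℤ) n)).map DerivedCategory.Q)
        (sFree n m))
    (fun X hX h₁ h₃ => sSES X (shortExact_of_degreewise_shortExact _ fun k => ((hX k).some).shortExact) h₁ h₃)
    a (b + 1 - a).toNat E (fun n hn => hE n (Or.inl hn)) (fun n hn => hE n (Or.inr (by omega))) hEp

variable [DTen.HasLTen A]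

lemma isKFlatFor_unitShift (n : ℤ) : IsKFlatFor (modT A) (unitShift A n) := by
  haveI : PreservesFiniteLimits ((modT A).flip.obj (𝟙_ (ModuleCat.{u} A))) :=
    @preservesFiniteLimits_flip_of_flat A _ (𝟙_ (ModuleCat.{u} A)) (inferInstanceAs (Module.Flat A A))
  exact isKFlatFor_single n

omit [DTen.HasLTen A] in
lemma exists_unitShift_tensor (n m : ℤ) (h : n + m = 0) :
    Nonempty (unitShift A n ⊗ unitShift A m ≅ unitShift A 0) := by
  let e₁ := ((CochainComplex.singleFunctors (ModuleCat.{u} A)).shiftIso n m 0 (by omega)).app (𝟙_ (ModuleCat.{u} A))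
  let e₂ := ((CochainComplex.singleFunctors (ModuleCat.{u} A)).shiftIso n 0 n (by omega)).app (𝟙_ (ModuleCat.{u} A))
  refine ⟨((modT A).map₂CochainComplex.obj (unitShift A n)).mapIso e₁.symm ≪≫
    (((modT A).map₂CochainComplex.obj (unitShift A n)).commShiftIso n).app _ ≪≫
    (shiftFunctor (DRing.Cx A) n).mapIso (ρ_ (unitShift A n) : unitShift A n ⊗ 𝟙_ (DRing.Cx A) ≅ unitShift A n) ≪≫ e₂⟩

lemma exists_LTen_unitShift (n m : ℤ) (h : n + m = 0) :
    Nonempty ((DTen.LTen₂ A).obj (DerivedCategory.Q.obj (unitShift A n), DerivedCategory.Q.obj (unitShift A m)) ≅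
      DTen.unit A) := by
  haveI := isIso_ε_of_kflat (isKFlatFor_unitShift (A := A) n) (isKFlatFor_unitShift m)
  obtain ⟨e⟩ := exists_unitShift_tensor (A := A) n m h
  exact ⟨asIso ((DTen.ε A).app (unitShift A n, unitShift A m)) ≪≫ DerivedCategory.Q.mapIso e⟩

variable [DTen.HasLTen₃ A] [DTen.IsSymMonoidal A]

lemma associator_natural {a b c a' b' c' : Dual.D A} (f : a ⟶ a') (g : b ⟶ b') (h : c ⟶ c') :
    (DTen.LTen₂ A).map (Prod.mkHom ((DTen.LTen₂ A).map (Prod.mkHom f g)) h) ≫ (DTen.associator a' b' c').hom =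
      (DTen.associator a b c).hom ≫ (DTen.LTen₂ A).map (Prod.mkHom f ((DTen.LTen₂ A).map (Prod.mkHom g h))) := by
  haveI : IsIso ((DTen.assocR A).app (a', b', c')) := (isIso_assoc_legs a' b' c').2
  haveI : IsIso ((DTen.assocR A).app (a, b, c)) := (isIso_assoc_legs a b c).2
  rw [← cancel_mono ((DTen.assocR A).app (a', b', c')), Category.assoc, Category.assoc,
    DTen.associator_hom_assocR]
  have hL := (DTen.assocL A).naturality ((Prod.mkHom f (Prod.mkHom g h)) : (a, b, c) ⟶ (a', b', c'))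
  have hR := (DTen.assocR A).naturality ((Prod.mkHom f (Prod.mkHom g h)) : (a, b, c) ⟶ (a', b', c'))
  dsimp at hL hR
  rw [hL, hR, ← Category.assoc (DTen.associator a b c).hom, DTen.associator_hom_assocR]

/-- Objects with an inverse. -/
lemma isEquivalence_tensorRightD {P P' : Dual.D A} (e : (DTen.LTen₂ A).obj (P, P') ≅ DTen.unit A)
    (e' : (DTen.LTen₂ A).obj (P', P) ≅ DTen.unit A) : (DTen.tensorRightD A P).IsEquivalence := by
  have mk : ∀ {P P' : Dual.D A} (_ : (DTen.LTen₂ A).obj (P, P') ≅ DTen.unit A),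
      DTen.tensorRightD A P ⋙ DTen.tensorRightD A P' ≅ 𝟭 (Dual.D A) := fun {P P'} e =>
    NatIso.ofComponents
      (fun X => DTen.associator X P P' ≪≫ (DTen.LTen₂ A).mapIso (Iso.prod (Iso.refl X) e) ≪≫ DTen.rightUnitor X)
      (fun {X Y} f => by
        have h₁ := associator_natural f (𝟙 P) (𝟙 P')
        have h₂ := (DTen.unitR A).naturality f
        dsimp at h₁ h₂ ⊢
        rw [← Category.assoc, h₁, Category.assoc, Category.assoc]
        congr 1
        rw [← Category.assoc, ← Functor.map_comp, Category.assoc, ← h₂, ← Category.assoc, ← Functor.map_comp]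
        congr 2
        exact Prod.ext ((Category.comp_id f).trans (Category.id_comp f).symm) (by
          dsimp
          rw [show Prod.mkHom (𝟙 P) (𝟙 P') = 𝟙 (P, P') from rfl, CategoryTheory.Functor.map_id, Category.id_comp,
            Category.comp_id]))
  exact (CategoryTheory.Equivalence.mk (DTen.tensorRightD A P) (DTen.tensorRightD A P') (mk e).symm
    (mk e')).isEquivalence_functor

lemma isEquivalence_unitShift (n : ℤ) :
    (DTen.tensorRightD A (DerivedCategory.Q.obj (unitShift A n))).IsEquivalence :=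
  isEquivalence_tensorRightD (exists_LTen_unitShift n (-n) (by omega)).some
    (exists_LTen_unitShift (-n) n (by omega)).some

lemma isEquivalence_tensorLeft (K : Dual.D A) [(DTen.tensorRightD A K).IsEquivalence] :
    ((DTen.LTen A).obj K).IsEquivalence := by
  haveI : ∀ X : Dual.D A × Dual.D A, IsIso ((DTen.symm A).app X) := fun X => isIso_symm_app' X.1 X.2
  let e : DTen.tensorRightD A K ≅ (DTen.LTen A).obj K :=
    NatIso.ofComponents (fun M => asIso ((DTen.symm A).app (K, M)))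
      (fun {M M'} m => (DTen.symm A).naturality ((Prod.mkHom (𝟙 K) m) : (K, M) ⟶ (K, M')))
  exact Functor.isEquivalence_of_iso e

variable [DTen.HasRHom A]

lemma isIso_ev (M : Dual.D A) [(DTen.tensorRightD A M).IsEquivalence] (L : Dual.D A) : IsIso (DTen.ev M L) := by
  haveI : (DTen.RHomR A M).IsEquivalence := (DTen.rhomAdj A M).isEquivalence_right_of_isEquivalence_left
  exact inferInstanceAs (IsIso ((DTen.rhomAdj A M).counit.app L))

lemma evalTen_natural_M (K L : Dual.D A) {M M' : Dual.D A} (g : M' ⟶ M) :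
    (DTen.LTen₂ A).map (Prod.mkHom (𝟙 K) (DTen.RHomMap g L)) ≫ DTen.evalTen K L M' =
      DTen.evalTen K L M ≫ DTen.RHomMap g ((DTen.LTen₂ A).obj (K, L)) := by
  apply ((DTen.rhomAdj A M').homEquiv _ _).symm.injective
  rw [Adjunction.homEquiv_counit, Adjunction.homEquiv_counit, Functor.map_comp, Functor.map_comp,
    Category.assoc, Category.assoc]
  refine Eq.trans (congrArg (_ ≫ ·) (DTen.evalTen_fac K L M')) ?_
  refine Eq.trans ?_ (congrArg (_ ≫ ·) (DTen.RHom_map_ev g _)).symm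
  have h₁ := associator_natural (𝟙 K) (DTen.RHomMap g L) (𝟙 M')
  have h₂ := associator_natural (𝟙 K) (𝟙 ((DTen.RHomR A M).obj L)) g
  have h₃ : (DTen.LTen₂ A).map (Prod.mkHom (DTen.evalTen K L M) (𝟙 M')) ≫
      (DTen.LTen₂ A).map (Prod.mkHom (𝟙 _) g) =
      (DTen.LTen₂ A).map (Prod.mkHom (𝟙 _) g) ≫ (DTen.LTen₂ A).map (Prod.mkHom (DTen.evalTen K L M) (𝟙 M)) := by
    rw [← Functor.map_comp, ← Functor.map_comp]
    simp
  dsimp
  rw [reassoc_of% h₃, DTen.evalTen_fac, DTen.evalTenAux, DTen.evalTenAux]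
  rw [show (𝟙 ((DTen.LTen₂ A).obj (K, (DTen.RHomR A M).obj L))) =
    (DTen.LTen₂ A).map (Prod.mkHom (𝟙 K) (𝟙 ((DTen.RHomR A M).obj L))) from ((DTen.LTen₂ A).map_id _).symm]
  rw [reassoc_of% h₁, reassoc_of% h₂, ← Functor.map_comp, ← Functor.map_comp]
  congr 2
  exact Prod.ext rfl (DTen.RHom_map_ev g L)

lemma evalTen_natural_K (L M : Dual.D A) {K K' : Dual.D A} (f : K ⟶ K') :
    (DTen.LTen₂ A).map (Prod.mkHom f (𝟙 ((DTen.RHomR A M).obj L))) ≫ DTen.evalTen K' L M =
      DTen.evalTen K L M ≫ (DTen.RHomR A M).map ((DTen.LTen₂ A).map (Prod.mkHom f (𝟙 L))) := by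
  apply ((DTen.rhomAdj A M).homEquiv _ _).symm.injective
  rw [Adjunction.homEquiv_counit, Adjunction.homEquiv_counit, Functor.map_comp, Functor.map_comp,
    Category.assoc, Category.assoc, Adjunction.counit_naturality]
  refine Eq.trans (congrArg (_ ≫ ·) (DTen.evalTen_fac K' L M)) ?_
  refine Eq.trans ?_ ((congrArg (· ≫ _) (DTen.evalTen_fac K L M)).symm.trans (Category.assoc _ _ _))
  have h₁ := associator_natural f (𝟙 ((DTen.RHomR A M).obj L)) (𝟙 M)
  dsimp
  rw [DTen.evalTenAux, DTen.evalTenAux, reassoc_of% h₁, Category.assoc, ← Functor.map_comp, ← Functor.map_comp]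
  congr 2
  exact Prod.ext ((Category.comp_id f).trans (Category.id_comp f).symm) (by
    dsimp
    rw [show Prod.mkHom (𝟙 ((DTen.RHomR A M).obj L)) (𝟙 M) = 𝟙 ((DTen.RHomR A M).obj L, M) from rfl,
      CategoryTheory.Functor.map_id, Category.id_comp, Category.comp_id])

lemma evalHom_natural (L M : Dual.D A) {K K' : Dual.D A} (f : K ⟶ K') :
    (DTen.LTen₂ A).map (Prod.mkHom (𝟙 ((DTen.RHomR A L).obj M)) f) ≫ DTen.evalHom K' L M =
      DTen.evalHom K L M ≫ DTen.RHomMap (DTen.RHomMap f L) M := by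
  apply ((DTen.rhomAdj A ((DTen.RHomR A K').obj L)).homEquiv _ _).symm.injective
  rw [Adjunction.homEquiv_counit, Adjunction.homEquiv_counit, Functor.map_comp, Functor.map_comp,
    Category.assoc, Category.assoc]
  refine Eq.trans (congrArg (_ ≫ ·) (DTen.evalHom_fac K' L M)) ?_
  refine Eq.trans ?_ (congrArg (_ ≫ ·) (DTen.RHom_map_ev _ M)).symm
  have h₃ : (DTen.LTen₂ A).map (Prod.mkHom (DTen.evalHom K L M) (𝟙 ((DTen.RHomR A K').obj L))) ≫
      (DTen.LTen₂ A).map (Prod.mkHom (𝟙 _) (DTen.RHomMap f L)) =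
      (DTen.LTen₂ A).map (Prod.mkHom (𝟙 _) (DTen.RHomMap f L)) ≫
        (DTen.LTen₂ A).map (Prod.mkHom (DTen.evalHom K L M) (𝟙 ((DTen.RHomR A K).obj L))) := by
    rw [← Functor.map_comp, ← Functor.map_comp]
    simp
  have h₁ := associator_natural (𝟙 ((DTen.RHomR A L).obj M)) f (𝟙 ((DTen.RHomR A K').obj L))
  have h₂ := associator_natural (𝟙 ((DTen.RHomR A L).obj M)) (𝟙 K) (DTen.RHomMap f L)
  have s₁ := (DTen.symm A).naturality ((Prod.mkHom (𝟙 ((DTen.RHomR A K').obj L)) f) :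
    ((DTen.RHomR A K').obj L, K) ⟶ ((DTen.RHomR A K').obj L, K'))
  have s₂ := (DTen.symm A).naturality ((Prod.mkHom (DTen.RHomMap f L) (𝟙 K)) :
    ((DTen.RHomR A K').obj L, K) ⟶ ((DTen.RHomR A K).obj L, K))
  dsimp at s₁ s₂ ⊢
  rw [reassoc_of% h₃, DTen.evalHom_fac, DTen.evalHomAux, DTen.evalHomAux]
  rw [show (𝟙 ((DTen.LTen₂ A).obj ((DTen.RHomR A L).obj M, K))) =
    (DTen.LTen₂ A).map (Prod.mkHom (𝟙 ((DTen.RHomR A L).obj M)) (𝟙 K)) from ((DTen.LTen₂ A).map_id _).symm]
  rw [reassoc_of% h₁, reassoc_of% h₂, ← Functor.map_comp_assoc, ← Functor.map_comp_assoc]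
  congr 3
  refine Prod.ext rfl ?_
  dsimp
  rw [reassoc_of% s₁, reassoc_of% s₂, DTen.RHom_map_ev]

lemma evalTen_base_M (K L M : Dual.D A) [(DTen.tensorRightD A M).IsEquivalence] : IsIso (DTen.evalTen K L M) := by
  haveI := isIso_ev M L
  haveI : IsIso (DTen.evalTenAux K L M) :=
    @IsIso.comp_isIso _ _ _ _ _ _ _ inferInstance (isIso_LTen_map _ _)
  haveI : IsIso ((DTen.rhomAdj A M).unit.app ((DTen.LTen₂ A).obj (K, (DTen.RHomR A M).obj L))) := inferInstance
  rw [DTen.evalTen]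
  change IsIso ((DTen.rhomAdj A M).homEquiv _ _ (DTen.evalTenAux K L M))
  erw [Adjunction.homEquiv_unit]
  infer_instance

lemma isIso_of_adjunct_bijective {M Y T : Dual.D A} {X₀ : Dual.D A} (t : X₀ ⟶ (DTen.RHomR A M).obj Y)
    (E : Dual.D A ⥤ Dual.D A) [E.IsEquivalence] (hT : X₀ = E.obj T)
    (h : ∀ X : Dual.D A, Function.Bijective fun g : X ⟶ T =>
      (DTen.tensorRightD A M).map (E.map g ≫ eqToHom hT.symm ≫ t) ≫ DTen.ev M Y) : IsIso t := by
  subst hT
  rw [isIso_iff_yoneda_map_bijective]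
  intro X
  let e := E.objObjPreimageIso X
  have key : Function.Bijective fun g : E.objPreimage X ⟶ T => E.map g ≫ t := by
    refine Function.Bijective.of_comp_iff' (((DTen.rhomAdj A M).homEquiv _ Y).symm.bijective) _ |>.1 ?_
    convert h (E.objPreimage X) using 1
    funext g
    simp
    erw [Adjunction.homEquiv_counit, Functor.map_comp, Category.assoc]
    rfl
  have : (fun x : X ⟶ E.obj T => x ≫ t) = (fun y => e.inv ≫ y) ∘ (fun g : E.objPreimage X ⟶ T => E.map g ≫ t) ∘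
      (fun x => E.preimage (e.hom ≫ x)) := by
    funext x
    simp
  rw [this]
  refine Function.Bijective.comp ?_ (key.comp ?_)
  · exact ⟨fun y y' hy => (cancel_epi e.inv).1 hy, fun z => ⟨e.hom ≫ z, by simp⟩⟩
  · refine ⟨fun y y' hy => ?_, fun g => ⟨e.inv ≫ E.map g, by simp⟩⟩
    have := congrArg E.map hy
    simpa using this

lemma evalTen_base_K (K L M : Dual.D A) [(DTen.tensorRightD A K).IsEquivalence] : IsIso (DTen.evalTen K L M) := by
  haveI := isEquivalence_tensorLeft K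
  refine isIso_of_adjunct_bijective _ ((DTen.LTen A).obj K) rfl fun X => ?_
  have key : ∀ g : X ⟶ (DTen.RHomR A M).obj L,
      (DTen.tensorRightD A M).map (((DTen.LTen A).obj K).map g ≫ 𝟙 _ ≫ DTen.evalTen K L M) ≫
          DTen.ev M ((DTen.LTen₂ A).obj (K, L)) =
        (DTen.associator K X M).hom ≫ ((DTen.LTen A).obj K).map ((DTen.tensorRightD A M).map g ≫ DTen.ev M L) := by
    intro g
    rw [Category.id_comp, Functor.map_comp, Category.assoc]
    refine (congrArg (_ ≫ ·) (DTen.evalTen_fac K L M)).trans ?_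
    have h₁ := associator_natural (𝟙 K) g (𝟙 M)
    rw [DTen.evalTenAux, Functor.map_comp]
    dsimp
    rw [reassoc_of% h₁]
  simp only [eqToHom_refl]
  simp only [key]
  exact ((Iso.homCongr (DTen.associator K X M).symm (Iso.refl _)).bijective.comp
    ((Functor.FullyFaithful.ofFullyFaithful ((DTen.LTen A).obj K)).homEquiv.bijective.comp
      ((DTen.rhomAdj A M).homEquiv X L).symm.bijective)).comp Function.bijective_id |> fun h => by
    convert h using 1
    funext g
    simp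
    change _ = ((DTen.LTen A).obj K).map (((DTen.rhomAdj A M).homEquiv X L).symm g)
    rw [Adjunction.homEquiv_counit]
    exact (((DTen.LTen A).obj K).map_comp _ _).symm

lemma evalHom_base (K L M : Dual.D A) [(DTen.tensorRightD A K).IsEquivalence] : IsIso (DTen.evalHom K L M) := by
  refine isIso_of_adjunct_bijective _ (DTen.tensorRightD A K) rfl fun X => ?_
  haveI := isIso_ev K L
  haveI : IsIso ((DTen.symm A).app ((DTen.RHomR A K).obj L, K)) := isIso_symm_app' _ _
  let u : (DTen.LTen₂ A).obj (K, (DTen.RHomR A K).obj L) ≅ L :=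
    asIso ((DTen.symm A).app ((DTen.RHomR A K).obj L, K) ≫ DTen.ev K L)
  have key : ∀ g : X ⟶ (DTen.RHomR A L).obj M,
      (DTen.tensorRightD A ((DTen.RHomR A K).obj L)).map ((DTen.tensorRightD A K).map g ≫ 𝟙 _ ≫ DTen.evalHom K L M) ≫
          DTen.ev ((DTen.RHomR A K).obj L) M =
        ((DTen.associator X K ((DTen.RHomR A K).obj L)).hom ≫ (DTen.LTen₂ A).map (Prod.mkHom (𝟙 X) u.hom)) ≫
          ((DTen.tensorRightD A L).map g ≫ DTen.ev L M) := by
    intro g
    rw [Category.id_comp, Functor.map_comp, Category.assoc]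
    refine (congrArg (_ ≫ ·) (DTen.evalHom_fac K L M)).trans ?_
    have h₁ := associator_natural g (𝟙 K) (𝟙 ((DTen.RHomR A K).obj L))
    rw [DTen.evalHomAux]
    dsimp
    rw [reassoc_of% h₁]
    simp only [Category.assoc]
    congr 1
    rw [← Functor.map_comp_assoc, ← Functor.map_comp_assoc]
    congr 2
    exact Prod.ext ((Category.comp_id g).trans (Category.id_comp g).symm) (by
      dsimp [u]
      rw [show Prod.mkHom (𝟙 K) (𝟙 ((DTen.RHomR A K).obj L)) = 𝟙 (K, (DTen.RHomR A K).obj L) from rfl,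
        CategoryTheory.Functor.map_id, Category.id_comp, Category.comp_id])
  simp only [eqToHom_refl]
  simp only [key]
  haveI : IsIso ((DTen.LTen₂ A).map (Prod.mkHom (𝟙 X) u.hom)) := isIso_LTen_map _ _
  refine Function.Bijective.comp (g := fun z => ((DTen.associator X K ((DTen.RHomR A K).obj L)).hom ≫
    (DTen.LTen₂ A).map (Prod.mkHom (𝟙 X) u.hom)) ≫ z) ?_ ?_
  · exact (Iso.homCongr (asIso ((DTen.associator X K ((DTen.RHomR A K).obj L)).hom ≫
      (DTen.LTen₂ A).map (Prod.mkHom (𝟙 X) u.hom))).symm (Iso.refl _)).bijective |> fun h => by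
        convert h using 1
        funext z
        simp
  · convert ((DTen.rhomAdj A L).homEquiv X M).symm.bijective using 1
    funext g
    simp
    exact ((DTen.rhomAdj A L).homEquiv_counit (g := g)).symm

omit [DTen.HasLTen A] [DTen.HasLTen₃ A] [DTen.IsSymMonoidal A] [DTen.HasRHom A] in
lemma isIso_app_of_retract {C : Type*} [Category C] {F G : C ⥤ Dual.D A} (η : ∀ M, F.obj M ⟶ G.obj M)
    (nat : ∀ {M M'} (m : M ⟶ M'), F.map m ≫ η M' = η M ≫ G.map m) {K L : C} (r : Retract K L)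
    (h : IsIso (η L)) : IsIso (η K) := by
  refine ⟨G.map r.i ≫ inv (η L) ≫ F.map r.r, ?_, ?_⟩
  · rw [← Category.assoc, ← nat, Category.assoc, IsIso.hom_inv_id_assoc, ← F.map_comp, r.retract, F.map_id]
  · rw [Category.assoc, Category.assoc, nat, IsIso.inv_hom_id_assoc, ← G.map_comp, r.retract, G.map_id]

omit [DTen.HasLTen A] [DTen.HasLTen₃ A] [DTen.IsSymMonoidal A] [DTen.HasRHom A] in
lemma isIso_app_of_iso {C : Type*} [Category C] {F G : C ⥤ Dual.D A} (η : ∀ M, F.obj M ⟶ G.obj M)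
    (nat : ∀ {M M'} (m : M ⟶ M'), F.map m ≫ η M' = η M ≫ G.map m) {K L : C} (e : K ≅ L)
    (h : IsIso (η L)) : IsIso (η K) :=
  isIso_app_of_retract η nat e.retract h

/-- `evalTen` is invertible for perfect `M`. -/
theorem isIso_evalTen_M (K L : Dual.D A) {M : Dual.D A} (hM : DRing.IsPerfect A M) :
    IsIso (DTen.evalTen K L M) := by
  let F := (DTen.RHom A).flip.obj L ⋙ (DTen.LTen A).obj K
  let G := (DTen.RHom A).flip.obj ((DTen.LTen₂ A).obj (K, L))
  have hF : MapsTriOp F := fun T hT => (mapsTri_tensorLeft K).pair (mapsTriOp_RHom L T hT)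
  let η : ∀ M, F.obj M ⟶ G.obj M := fun M => DTen.evalTen K L M.unop
  have nat : ∀ {M M'} (m : M ⟶ M'), F.map m ≫ η M' = η M ≫ G.map m := fun {M M'} m => evalTen_natural_M K L m.unop
  exact devissage (fun M => IsIso (η (op M))) (fun e h => isIso_app_of_iso η nat e.op h)
    (fun T hT => isIso_app_obj₃_op hF (mapsTriOp_RHom _) η nat hT)
    (fun r h => isIso_app_of_retract η nat r.op h)
    (fun n => by
      haveI := isEquivalence_unitShift (A := A) n
      exact evalTen_base_M K L _) hM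

/-- `evalTen` is invertible for perfect `K`. -/
theorem isIso_evalTen_K {K : Dual.D A} (L M : Dual.D A) (hK : DRing.IsPerfect A K) :
    IsIso (DTen.evalTen K L M) := by
  let F := DTen.tensorRightD A ((DTen.RHomR A M).obj L)
  let G := DTen.tensorRightD A L ⋙ DTen.RHomR A M
  have hG : MapsTri G := fun T hT => (mapsTri_RHomR M).pair (mapsTri_tensorRightD L T hT)
  let η : ∀ K, F.obj K ⟶ G.obj K := fun K => DTen.evalTen K L M
  have nat : ∀ {K K'} (m : K ⟶ K'), F.map m ≫ η K' = η K ≫ G.map m := fun {K K'} m => evalTen_natural_K L M m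
  exact devissage (fun K => IsIso (η K)) (fun e h => isIso_app_of_iso η nat e.symm h)
    (fun T hT => isIso_app_obj₃ (mapsTri_tensorRightD _) hG η nat hT)
    (fun r h => isIso_app_of_retract η nat r h)
    (fun n => by
      haveI := isEquivalence_unitShift (A := A) n
      exact evalTen_base_K _ L M) hK

/-- `evalHom` is invertible for perfect `K`. -/
theorem isIso_evalHom {K : Dual.D A} (L M : Dual.D A) (hK : DRing.IsPerfect A K) :
    IsIso (DTen.evalHom K L M) := by
  let F := (DTen.LTen A).obj ((DTen.RHomR A L).obj M)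
  let R := (DTen.RHom A).flip.obj L
  let G : Dual.D A ⥤ Dual.D A := R.rightOp ⋙ (DTen.RHom A).flip.obj M
  have hG : MapsTri G := fun T hT => (mapsTriOp_RHom M).pair (mapsTriOp_RHom L T hT)
  let η : ∀ K, F.obj K ⟶ G.obj K := fun K => DTen.evalHom K L M
  have nat : ∀ {K K'} (m : K ⟶ K'), F.map m ≫ η K' = η K ≫ G.map m := fun {K K'} m => evalHom_natural L M m
  exact devissage (fun K => IsIso (η K)) (fun e h => isIso_app_of_iso η nat e.symm h)
    (fun T hT => isIso_app_obj₃ (mapsTri_tensorLeft _) hG η nat hT)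
    (fun r h => isIso_app_of_retract η nat r h)
    (fun n => by
      haveI := isEquivalence_unitShift (A := A) n
      exact evalHom_base _ L M) hK

/-- The curry map is invertible. -/
theorem isIso_curryHom (K L M : Dual.D A) : IsIso (DTen.curryHom K L M) := by
  rw [isIso_iff_yoneda_map_bijective]
  intro X
  let eK := (DTen.rhomAdj A K).homEquiv X ((DTen.RHomR A L).obj M)
  let eL := (DTen.rhomAdj A L).homEquiv ((DTen.LTen₂ A).obj (X, K)) M
  let e := (DTen.rhomAdj A ((DTen.LTen₂ A).obj (K, L))).homEquiv X M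
  have key : ∀ x : X ⟶ (DTen.RHomR A ((DTen.LTen₂ A).obj (K, L))).obj M,
      eL.symm (eK.symm (x ≫ DTen.curryHom K L M)) = (DTen.associator X K L).hom ≫ e.symm x := by
    intro x
    have h₁ := associator_natural x (𝟙 K) (𝟙 L)
    have hid : (DTen.LTen₂ A).map (Prod.mkHom (𝟙 K) (𝟙 L)) = 𝟙 _ := (DTen.LTen₂ A).map_id _
    simp only [eK, eL, e, Adjunction.homEquiv_counit]
    simp only [Functor.map_comp, Category.assoc]
    have hc := DTen.curryHom_fac K L M
    rw [show Prod.mkHom ((DTen.LTen₂ A).map (Prod.mkHom (DTen.curryHom K L M) (𝟙 K)) ≫ DTen.ev K ((DTen.RHomR A L).obj M)) (𝟙 L) =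
      Prod.mkHom ((DTen.LTen₂ A).map (Prod.mkHom (DTen.curryHom K L M) (𝟙 K))) (𝟙 L) ≫
        Prod.mkHom (DTen.ev K ((DTen.RHomR A L).obj M)) (𝟙 L) from by simp, Functor.map_comp, Category.assoc] at hc
    refine (congrArg (_ ≫ ·) hc).trans ?_
    rw [DTen.curryHomAux]
    dsimp
    rw [reassoc_of% h₁, hid]
  refine Function.Bijective.of_comp_iff' ((eK.symm.trans eL.symm).bijective) _ |>.1 ?_
  convert ((Iso.homCongr (DTen.associator X K L).symm (Iso.refl M)).bijective.comp e.symm.bijective) using 1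
  funext x
  simp only [Function.comp_apply, Equiv.coe_fn_mk]
  exact (key x).trans (by simp)

end Groth.Agent.DCat
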