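import Groth.Prelude.Def_DRing4
import Groth.Agent.DCat.HomCxAdj
import Mathlib.CategoryTheory.Functor.Derived.PointwiseRightDerived
import Mathlib.Algebra.Homology.HomotopyCategory.KProjective
import Mathlib.Algebra.Homology.DerivedCategory.KProjective
import Mathlib.Algebra.Category.ModuleCat.Projective

/-! Hom complexes out of K-projective complexes preserve quasi-isomorphisms. -/

set_option autoImplicit false
set_option backward.isDefEq.respectTransparency false
set_option backward.defeqAttrib.useBackward true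
set_option linter.style.haveILetI false

universe u v

open CategoryTheory CategoryTheory.Limits MonoidalCategory HomologicalComplex CochainComplex CochainComplex.HomComplex

attribute [local instance] HasDerivedCategory.standard

namespace Groth.Agent.DCat

variable {A : Type u} [CommRing A]

/-- A quasi-isomorphism criterion on elements. -/
lemma quasiIsoAt_of_elements {ι : Type v} {c : ComplexShape ι} {K L : HomologicalComplex (ModuleCat.{u} A) c}
    (φ : K ⟶ L) (i' i i'' : ι) (hp : c.prev i = i') (hn : c.next i = i'')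
    (surj : ∀ z : L.X i, L.d i i'' z = 0 → ∃ w : K.X i, K.d i i'' w = 0 ∧ ∃ y : L.X i', φ.f i w - z = L.d i' i y)
    (inj : ∀ w : K.X i, K.d i i'' w = 0 → (∃ y : L.X i', φ.f i w = L.d i' i y) → ∃ x : K.X i', K.d i' i x = w) :
    QuasiIsoAt φ i := by
  rw [quasiIsoAt_iff' φ i' i i'' hp hn]
  let f := (shortComplexFunctor' (ModuleCat.{u} A) c i' i i'').map φ
  let γ : ShortComplex.LeftHomologyMapData f (K.sc' i' i i'').moduleCatLeftHomologyData
      (L.sc' i' i i'').moduleCatLeftHomologyData := default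
  rw [γ.quasiIso_iff, ConcreteCategory.isIso_iff_bijective]
  have hπ : ∀ x, γ.φH ((K.sc' i' i i'').moduleCatLeftHomologyData.π x) =
      (L.sc' i' i i'').moduleCatLeftHomologyData.π (γ.φK x) := fun x =>
    congrArg (fun g => (ConcreteCategory.hom g) x) γ.commπ
  have hi : ∀ x, ((γ.φK x).1 : L.X i) = φ.f i x.1 := fun x =>
    congrArg (fun g => (ConcreteCategory.hom g) x) γ.commi
  constructor
  · rw [injective_iff_map_eq_zero]
    intro h hh
    obtain ⟨⟨w, hw⟩, rfl⟩ := Submodule.mkQ_surjective _ h
    have h0 := (hπ ⟨w, hw⟩).symm.trans hh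
    obtain ⟨y, hy⟩ := LinearMap.mem_range.1 ((Submodule.Quotient.mk_eq_zero _).1 h0)
    obtain ⟨x, hx⟩ := inj w hw ⟨y, ((congrArg Subtype.val hy).trans (hi _)).symm⟩
    exact (Submodule.Quotient.mk_eq_zero _).2 (LinearMap.mem_range.2 ⟨x, Subtype.ext hx⟩)
  · intro h
    obtain ⟨⟨z, hz⟩, rfl⟩ := Submodule.mkQ_surjective _ h
    obtain ⟨w, hw, y, hy⟩ := surj z hz
    refine ⟨(K.sc' i' i i'').moduleCatLeftHomologyData.π ⟨w, hw⟩, (hπ _).trans ?_⟩
    refine (Submodule.Quotient.eq _).2 (LinearMap.mem_range.2 ⟨y, Subtype.ext ?_⟩)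
    exact hy.symm.trans (congrArg (· - z) (hi ⟨w, hw⟩).symm)

variable {P X Y : DRing.Cx A}

/-- `Hom•(P, -)` preserves quasi-isomorphisms for K-projective `P`. -/
theorem quasiIso_homCxMap [P.IsKProjective] (f : X ⟶ Y) [QuasiIso f] : QuasiIso (DRing.homCxMap P f) := by
  rw [quasiIso_iff]
  intro n
  haveI : ∀ m : ℤ, QuasiIso (f⟦m⟧') := fun m => by
    have hf : HomologicalComplex.quasiIso (ModuleCat.{u} A) (ComplexShape.up ℤ) f := ‹QuasiIso f›
    exact (MorphismProperty.IsCompatibleWithShift.iff (HomologicalComplex.quasiIso (ModuleCat.{u} A) (ComplexShape.up ℤ)) f m).2 hf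
  have hq : IsIso (DerivedCategory.Qh.map
      ((HomotopyCategory.quotient (ModuleCat.{u} A) (ComplexShape.up ℤ)).map (f⟦n⟧'))) := by
    haveI := (DerivedCategory.isIso_Q_map_iff_quasiIso (C := ModuleCat.{u} A) (f⟦n⟧')).2 (this n)
    exact (NatIso.isIso_map_iff (DerivedCategory.quotientCompQhIso (ModuleCat.{u} A)) (f⟦n⟧')).2 inferInstance
  refine quasiIsoAt_of_elements _ (n - 1) n (n + 1) (by simp) (by simp) ?_ ?_
  · intro (z : Cochain P Y n) hz
    let zc : Cocycle P Y n := Cocycle.mk z (n + 1) rfl hz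
    obtain ⟨β, hβ⟩ := (IsKProjective.Qh_map_bijective P _).2
      (DerivedCategory.Qh.map (CohomologyClass.toHom (CohomologyClass.mk zc)) ≫ inv (DerivedCategory.Qh.map
        ((HomotopyCategory.quotient (ModuleCat.{u} A) (ComplexShape.up ℤ)).map (f⟦n⟧'))))
    obtain ⟨w, hw⟩ := (CohomologyClass.toHom_bijective P X n).2 β
    obtain ⟨w, rfl⟩ := w.mk_surjective
    refine ⟨w.1, w.δ_eq_zero (n + 1), ?_⟩
    have e : CohomologyClass.toHom (CohomologyClass.mk (w.postcomp f)) = CohomologyClass.toHom (CohomologyClass.mk zc) := by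
      apply (IsKProjective.Qh_map_bijective P _).1
      rw [CohomologyClass.toHom_mk (w.postcomp f), Cocycle.equivHomShift_symm_postcomp, Functor.map_comp,
        ← CohomologyClass.toHom_mk w, hw]
      change DerivedCategory.Qh.map (β ≫ _) = _
      rw [Functor.map_comp, hβ, Category.assoc, IsIso.inv_hom_id, Category.comp_id]
    have e' := (CohomologyClass.toHom_bijective P Y n).1 e
    rw [← sub_eq_zero, ← CohomologyClass.mk_sub, CohomologyClass.mk_eq_zero_iff,
      mem_coboundaries_iff _ (n - 1) (by omega)] at e'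
    obtain ⟨y, hy⟩ := e'
    exact ⟨y, hy.symm⟩
  · intro (w : Cochain P X n) hw ⟨(y : Cochain P Y (n - 1)), hy⟩
    let wc : Cocycle P X n := Cocycle.mk w (n + 1) rfl hw
    have h0 : CohomologyClass.toHom (CohomologyClass.mk (wc.postcomp f)) = 0 := by
      rw [CohomologyClass.toHom_mk_eq_zero_iff, mem_coboundaries_iff _ (n - 1) (by omega)]
      exact ⟨y, hy.symm⟩
    rw [CohomologyClass.toHom_mk, Cocycle.equivHomShift_symm_postcomp, Functor.map_comp] at h0
    have h1 : CohomologyClass.toHom (CohomologyClass.mk wc) = 0 := by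
      apply (IsKProjective.Qh_map_bijective P _).1
      have h2 := congrArg DerivedCategory.Qh.map h0
      rw [Functor.map_comp, Functor.map_zero] at h2
      rw [Functor.map_zero, CohomologyClass.toHom_mk]
      rwa [← cancel_mono (DerivedCategory.Qh.map
        ((HomotopyCategory.quotient (ModuleCat.{u} A) (ComplexShape.up ℤ)).map (f⟦n⟧'))), zero_comp]
    rw [CohomologyClass.toHom_mk_eq_zero_iff, mem_coboundaries_iff _ (n - 1) (by omega)] at h1
    exact h1

lemma homCxQ_inverts (P : DRing.Cx A) [P.IsKProjective] :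
    (HomologicalComplex.quasiIso (ModuleCat.{u} A) (ComplexShape.up ℤ)).IsInvertedBy (DRing.homCxQ P) := fun X Y f hf => by
  haveI : QuasiIso f := hf
  haveI := quasiIso_homCxMap (P := P) f
  exact (DerivedCategory.isIso_Q_map_iff_quasiIso (C := ModuleCat.{u} A) (DRing.homCxMap P f)).2 this

/-- `RHom(P, -)` is computed by the hom complex for K-projective `P`. -/
theorem isIso_homCxUnit (P : DRing.Cx A) [P.IsKProjective] [DRing.HasRHomCx P] (L : DRing.Cx A) :
    IsIso (((DRing.homCxQ P).totalRightDerivedUnit DerivedCategory.Q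
      (HomologicalComplex.quasiIso (ModuleCat.{u} A) (ComplexShape.up ℤ))).app L) := by
  haveI : IsIso ((DRing.homCxQ P).totalRightDerivedUnit DerivedCategory.Q
      (HomologicalComplex.quasiIso (ModuleCat.{u} A) (ComplexShape.up ℤ))) :=
    Functor.isIso_of_isRightDerivedFunctor_of_inverts _ _ (homCxQ_inverts P)
  infer_instance

lemma isKProjective_of_vanishesAbove (P : DRing.Cx A) (b : ℤ) (hb : DRing.VanishesAbove P b)
    (hP : ∀ i : ℤ, Module.Projective A (P.X i)) : P.IsKProjective := by
  haveI : P.IsStrictlyLE b := (CochainComplex.isStrictlyLE_iff P b).2 hb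
  haveI : ∀ n : ℤ, Projective (P.X n) := fun n => (IsProjective.iff_projective (P.X n)).1 (hP n)
  exact CochainComplex.isKProjective_of_projective P b

lemma curryEquiv_naturality {X X' P I : DRing.Cx A} (g : X ⟶ X') (f : X' ⟶ DRing.homCx P I) :
    curryEquiv X P I (g ≫ f) = g ▷ P ≫ curryEquiv X' P I f := by
  change uncurryCx (g ≫ f) = g ▷ P ≫ uncurryCx f
  rw [uncurryCx_eq, uncurryCx_eq, comp_whiskerRight, Category.assoc]

/-- The tensor-hom isomorphism of complexes. -/
noncomputable def curryIso (K L M : DRing.Cx A) : DRing.homCx K (DRing.homCx L M) ≅ DRing.homCx (K ⊗ L) M :=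
  Yoneda.ext _ _
    (fun {X} f => (curryEquiv X (K ⊗ L) M).symm ((α_ X K L).inv ≫ curryEquiv _ L M (curryEquiv X K _ f)))
    (fun {X} f => (curryEquiv X K _).symm ((curryEquiv _ L M).symm ((α_ X K L).hom ≫ curryEquiv X (K ⊗ L) M f)))
    (fun {X} f => by simp) (fun {X} f => by simp)
    (fun {X X'} g f => (curryEquiv X' (K ⊗ L) M).injective (by
      simp only [curryEquiv_naturality, Equiv.apply_symm_apply]
      rw [associator_inv_naturality_left_assoc]))

end Groth.Agent.DCat
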