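import Groth.Agent.DCat.DTenHom
import Groth.Agent.DCat.TorTriangle
import Groth.Agent.DCat.LTensorModule

/-! Exactness of the closed structure on `D(A)`. -/

set_option autoImplicit false
set_option backward.isDefEq.respectTransparency false
set_option backward.defeqAttrib.useBackward true
set_option linter.style.haveILetI false

universe u

open CategoryTheory CategoryTheory.Limits MonoidalCategory HomologicalComplex Opposite CategoryTheory.Pretriangulated

attribute [local instance] HasDerivedCategory.standard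

namespace Groth.Agent.DCat

variable {A : Type u} [CommRing A]

/-- Two composable maps which extend to a distinguished triangle. -/
def IsDistPair {a b c : Dual.D A} (f : a ⟶ b) (g : b ⟶ c) : Prop :=
  ∃ h : c ⟶ a⟦(1 : ℤ)⟧, Triangle.mk f g h ∈ distinguishedTriangles

lemma isDistPair_of_mem {T : Triangle (Dual.D A)} (hT : T ∈ distinguishedTriangles) :
    IsDistPair T.mor₁ T.mor₂ := ⟨T.mor₃, hT⟩

lemma IsDistPair.of_iso {a b c a' b' c' : Dual.D A} {f : a ⟶ b} {g : b ⟶ c} {f' : a' ⟶ b'} {g' : b' ⟶ c'}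
    (h : IsDistPair f g) (ea : a ≅ a') (eb : b ≅ b') (ec : c ≅ c')
    (hf : f ≫ eb.hom = ea.hom ≫ f') (hg : g ≫ ec.hom = eb.hom ≫ g') : IsDistPair f' g' := by
  obtain ⟨δ, hδ⟩ := h
  refine ⟨ec.inv ≫ δ ≫ ea.hom⟦(1 : ℤ)⟧', isomorphic_distinguished _ hδ _ (Triangle.isoMk _ _ ea eb ec hf hg ?_).symm⟩
  simp

lemma isDistPair_of_shortExact {S : ShortComplex (DRing.Cx A)} (hS : S.ShortExact) :
    IsDistPair (DerivedCategory.Q.map S.f) (DerivedCategory.Q.map S.g) :=
  ⟨DerivedCategory.triangleOfSESδ hS, DerivedCategory.triangleOfSES_distinguished hS⟩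

/-- A representation of a triangle by a degreewise split sequence of complexes in a class `P` which
contains resolutions and is stable under cones and shifts. -/
lemma exists_ses_rep {P : ObjectProperty (DRing.Cx A)}
    (hcone : ∀ {K L : DRing.Cx A} (φ : K ⟶ L), P K → P L → P (CochainComplex.mappingCone φ))
    (hshift : ∀ K, P K → P (K⟦(1 : ℤ)⟧))
    (hlift : ∀ {K L : Dual.D A} (m : K ⟶ L), ∃ (R Q : DRing.Cx A) (φ : R ⟶ Q) (_ : P R) (_ : P Q)
      (eK : DerivedCategory.Q.obj R ≅ K) (eL : DerivedCategory.Q.obj Q ≅ L),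
      DerivedCategory.Q.map φ ≫ eL.hom = eK.hom ≫ m)
    {T : Triangle (Dual.D A)} (hT : T ∈ distinguishedTriangles) :
    ∃ (S : ShortComplex (DRing.Cx A)) (_ : ∀ n, Nonempty ((S.map (HomologicalComplex.eval _ (ComplexShape.up ℤ) n)).Splitting))
      (_ : P S.X₁) (_ : P S.X₂) (_ : P S.X₃)
      (e₁ : DerivedCategory.Q.obj S.X₁ ≅ T.obj₁) (e₂ : DerivedCategory.Q.obj S.X₂ ≅ T.obj₂)
      (e₃ : DerivedCategory.Q.obj S.X₃ ≅ T.obj₃),
      DerivedCategory.Q.map S.f ≫ e₂.hom = e₁.hom ≫ T.mor₁ ∧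
        DerivedCategory.Q.map S.g ≫ e₃.hom = e₂.hom ≫ T.mor₂ := by
  have hT' := inv_rot_of_distTriang _ hT
  obtain ⟨R, Q, φ, hR, hQ, eK, eL, comm⟩ := hlift T.invRotate.mor₁
  let e := isoTriangleOfIso₁₂ _ _ (DerivedCategory.mappingCone_triangle_distinguished φ) hT' eK eL comm
  let S := CochainComplex.mappingCone.triangleRotateShortComplex φ
  let ce := (shiftEquiv (Dual.D A) (1 : ℤ)).counitIso.app T.obj₃
  have e3 : (DerivedCategory.Q.mapTriangle.obj (CochainComplex.mappingCone.triangle φ)).mor₃ ≫ e.hom.hom₁⟦(1 : ℤ)⟧' =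
      e.hom.hom₃ ≫ T.invRotate.mor₃ := e.hom.comm₃
  refine ⟨S, fun n => ⟨CochainComplex.mappingCone.triangleRotateShortComplexSplitting φ n⟩, hQ, hcone φ hR hQ,
    hshift R hR, Triangle.π₂.mapIso e, Triangle.π₃.mapIso e,
    (DerivedCategory.Q.commShiftIso (1 : ℤ)).app R ≪≫
      (shiftFunctor (Dual.D A) (1 : ℤ)).mapIso (Triangle.π₁.mapIso e) ≪≫ ce, e.hom.comm₂, ?_⟩
  simp only [Iso.trans_hom, Iso.app_hom, Functor.mapIso_hom, Triangle.π₁_map, Triangle.π₃_map]
  have h' := congrArg (· ≫ ce.hom) e3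
  dsimp [S, ce, Triangle.invRotate] at h' ⊢
  simp only [Category.assoc] at h'
  refine h'.trans ?_
  rw [Iso.inv_hom_id_app]
  exact congrArg (e.hom.hom₃ ≫ ·) (Category.comp_id _)

lemma exists_kflat_lift' {K L : Dual.D A} (m : K ⟶ L) :
    ∃ (R Q : DRing.Cx A) (φ : R ⟶ Q) (_ : IsKFlatFor (modT A) R) (_ : IsKFlatFor (modT A) Q)
      (eK : DerivedCategory.Q.obj R ≅ K) (eL : DerivedCategory.Q.obj Q ≅ L),
      DerivedCategory.Q.map φ ≫ eL.hom = eK.hom ≫ m := by
  obtain ⟨Q, hQ, ⟨eL⟩⟩ := exists_kflat_obj L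
  obtain ⟨X', s, hs, g, hg⟩ :=
    DerivedCategory.right_fac ((DerivedCategory.Q.objObjPreimageIso K).hom ≫ m ≫ eL.inv)
  haveI := hs
  obtain ⟨R, c, hR, -, hc, -⟩ := exists_kflat X'
  haveI := hc
  haveI := isIso_Q_map_of_qis c
  refine ⟨R, Q, c ≫ g, hR, hQ, asIso (DerivedCategory.Q.map c) ≪≫ asIso (DerivedCategory.Q.map s) ≪≫
    DerivedCategory.Q.objObjPreimageIso K, eL, ?_⟩
  have h2 : DerivedCategory.Q.map g ≫ eL.hom =
      DerivedCategory.Q.map s ≫ (DerivedCategory.Q.objObjPreimageIso K).hom ≫ m := by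
    rw [show (DerivedCategory.Q.objObjPreimageIso K).hom ≫ m = (inv (DerivedCategory.Q.map s) ≫
      DerivedCategory.Q.map g) ≫ eL.hom from by rw [← hg, Category.assoc, Category.assoc, eL.inv_hom_id,
        Category.comp_id]]
    simp
  simp only [Functor.map_comp, Iso.trans_hom, asIso_hom, Category.assoc, h2]

lemma exists_ses_kflat {T : Triangle (Dual.D A)} (hT : T ∈ distinguishedTriangles) :
    ∃ (S : ShortComplex (DRing.Cx A)) (_ : ∀ n, Nonempty ((S.map (HomologicalComplex.eval _ (ComplexShape.up ℤ) n)).Splitting))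
      (_ : IsKFlatFor (modT A) S.X₁) (_ : IsKFlatFor (modT A) S.X₂) (_ : IsKFlatFor (modT A) S.X₃)
      (e₁ : DerivedCategory.Q.obj S.X₁ ≅ T.obj₁) (e₂ : DerivedCategory.Q.obj S.X₂ ≅ T.obj₂)
      (e₃ : DerivedCategory.Q.obj S.X₃ ≅ T.obj₃),
      DerivedCategory.Q.map S.f ≫ e₂.hom = e₁.hom ≫ T.mor₁ ∧
        DerivedCategory.Q.map S.g ≫ e₃.hom = e₂.hom ≫ T.mor₂ :=
  exists_ses_rep (P := IsKFlatFor (modT A)) (fun φ hK hL => isKFlatFor_cone φ hK hL)
    (fun _ hK => hK.shift 1) exists_kflat_lift' hT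

lemma isKInjective_cone {K L : DRing.Cx A} (φ : K ⟶ L) (hK : K.IsKInjective) (hL : L.IsKInjective) :
    (CochainComplex.mappingCone φ).IsKInjective := by
  rw [CochainComplex.isKInjective_iff_rightOrthogonal] at hK hL ⊢
  exact ObjectProperty.ext_of_isTriangulatedClosed₃ _
    _ (HomotopyCategory.mappingCone_triangleh_distinguished φ) hK hL

lemma exists_kInj_lift {K L : Dual.D A} (m : K ⟶ L) :
    ∃ (R Q : DRing.Cx A) (φ : R ⟶ Q) (_ : R.IsKInjective) (_ : Q.IsKInjective)
      (eK : DerivedCategory.Q.obj R ≅ K) (eL : DerivedCategory.Q.obj Q ≅ L),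
      DerivedCategory.Q.map φ ≫ eL.hom = eK.hom ≫ m := by
  obtain ⟨R, hR, ⟨eK⟩⟩ := exists_kInj_obj K
  obtain ⟨Q, hQ, ⟨eL⟩⟩ := exists_kInj_obj L
  obtain ⟨φ, hφ⟩ := Q_map_surjective (X := R) (I := Q) (eK.hom ≫ m ≫ eL.inv)
  exact ⟨R, Q, φ, hR, hQ, eK, eL, by simp [hφ]⟩

lemma exists_ses_kInj {T : Triangle (Dual.D A)} (hT : T ∈ distinguishedTriangles) :
    ∃ (S : ShortComplex (DRing.Cx A)) (_ : ∀ n, Nonempty ((S.map (HomologicalComplex.eval _ (ComplexShape.up ℤ) n)).Splitting))
      (_ : S.X₁.IsKInjective) (_ : S.X₂.IsKInjective) (_ : S.X₃.IsKInjective)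
      (e₁ : DerivedCategory.Q.obj S.X₁ ≅ T.obj₁) (e₂ : DerivedCategory.Q.obj S.X₂ ≅ T.obj₂)
      (e₃ : DerivedCategory.Q.obj S.X₃ ≅ T.obj₃),
      DerivedCategory.Q.map S.f ≫ e₂.hom = e₁.hom ≫ T.mor₁ ∧
        DerivedCategory.Q.map S.g ≫ e₃.hom = e₂.hom ≫ T.mor₂ :=
  exists_ses_rep (P := fun K => K.IsKInjective) (fun φ hK hL => isKInjective_cone φ hK hL)
    (fun K hK => by haveI : CochainComplex.IsKInjective K := hK; infer_instance) exists_kInj_lift hT

/-- A functor preserving triangles up to the third map. -/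
def MapsTri (F : Dual.D A ⥤ Dual.D A) : Prop :=
  ∀ T ∈ (distinguishedTriangles : Set (Triangle (Dual.D A))), IsDistPair (F.map T.mor₁) (F.map T.mor₂)

/-- A contravariant functor preserving triangles up to the third map. -/
def MapsTriOp (F : (Dual.D A)ᵒᵖ ⥤ Dual.D A) : Prop :=
  ∀ T ∈ (distinguishedTriangles : Set (Triangle (Dual.D A))), IsDistPair (F.map T.mor₂.op) (F.map T.mor₁.op)

lemma MapsTri.pair {F : Dual.D A ⥤ Dual.D A} (hF : MapsTri F) {a b c : Dual.D A} {f : a ⟶ b} {g : b ⟶ c}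
    (h : IsDistPair f g) : IsDistPair (F.map f) (F.map g) := by
  obtain ⟨δ, hδ⟩ := h
  exact hF _ hδ

lemma MapsTriOp.pair {F : (Dual.D A)ᵒᵖ ⥤ Dual.D A} (hF : MapsTriOp F) {a b c : Dual.D A} {f : a ⟶ b} {g : b ⟶ c}
    (h : IsDistPair f g) : IsDistPair (F.map g.op) (F.map f.op) := by
  obtain ⟨δ, hδ⟩ := h
  exact hF _ hδ

section

variable [DTen.HasLTen A]

/-- `- ⊗^L L` preserves triangles. -/
theorem mapsTri_tensorRightD (L : Dual.D A) : MapsTri (DTen.tensorRightD A L) := by
  intro T hT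
  obtain ⟨S, σ, h₁, h₂, h₃, e₁, e₂, e₃, c₁, c₂⟩ := exists_ses_kflat hT
  obtain ⟨P, hP, ⟨eP⟩⟩ := exists_kflat_obj L
  haveI := isIso_ε_of_kflat h₁ hP
  haveI := isIso_ε_of_kflat h₂ hP
  haveI := isIso_ε_of_kflat h₃ hP
  have hS : (S.map ((modT A).map₂CochainComplex.flip.obj P)).ShortExact :=
    shortExact_tot₁_of_split (modT A) S σ P
  let i : ∀ (K : DRing.Cx A) (M : Dual.D A) (e : DerivedCategory.Q.obj K ≅ M) [IsIso ((DTen.ε A).app (K, P))],
      DerivedCategory.Q.obj (K ⊗ P) ≅ (DTen.tensorRightD A L).obj M := fun K M e _ =>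
    (asIso ((DTen.ε A).app (K, P))).symm ≪≫ (DTen.LTen₂ A).mapIso (Iso.prod e eP)
  have nat : ∀ {K K' : DRing.Cx A} {M M' : Dual.D A} (φ : K ⟶ K') (m : M ⟶ M') (e : DerivedCategory.Q.obj K ≅ M)
      (e' : DerivedCategory.Q.obj K' ≅ M') [IsIso ((DTen.ε A).app (K, P))] [IsIso ((DTen.ε A).app (K', P))],
      DerivedCategory.Q.map φ ≫ e'.hom = e.hom ≫ m →
      DerivedCategory.Q.map (totMap₁ (modT A) φ P) ≫ (i K' M' e').hom = (i K M e).hom ≫ (DTen.tensorRightD A L).map m := by
    intro K K' M M' φ m e e' _ _ hc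
    have n := (DTen.ε A).naturality ((Prod.mkHom φ (𝟙 P)) : (K, P) ⟶ (K', P))
    dsimp at n
    simp only [MonoidalCategory.whiskerLeft_id, Category.comp_id] at n
    dsimp [i]
    rw [Category.assoc, IsIso.eq_inv_comp, ← Category.assoc]
    have n' : (DTen.ε A).app (K, P) ≫ DerivedCategory.Q.map (totMap₁ (modT A) φ P) =
        (DTen.LTen₂ A).map (Prod.mkHom (DerivedCategory.Q.map φ) (DerivedCategory.Q.map (𝟙 P))) ≫
          (DTen.ε A).app (K', P) := n.symm
    rw [n', Category.assoc, IsIso.hom_inv_id_assoc, ← Functor.map_comp]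
    erw [← Functor.map_comp]
    congr 1
    exact Prod.ext hc (by dsimp; rw [CategoryTheory.Functor.map_id, Category.id_comp, Category.comp_id])
  exact (isDistPair_of_shortExact hS).of_iso (i S.X₁ T.obj₁ e₁) (i S.X₂ T.obj₂ e₂) (i S.X₃ T.obj₃ e₃)
    (nat S.f T.mor₁ e₁ e₂ c₁) (nat S.g T.mor₂ e₂ e₃ c₂)

/-- `K ⊗^L -` preserves triangles. -/
theorem mapsTri_tensorLeft (K : Dual.D A) : MapsTri ((DTen.LTen A).obj K) := by
  intro T hT
  haveI : ∀ X : Dual.D A × Dual.D A, IsIso ((DTen.symm A).app X) := fun X => isIso_symm_app' X.1 X.2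
  haveI : IsIso (DTen.symm A) := NatIso.isIso_of_isIso_app _
  have nat : ∀ {M M' : Dual.D A} (m : M ⟶ M'),
      (DTen.tensorRightD A K).map m ≫ (DTen.symm A).app (K, M') =
        (DTen.symm A).app (K, M) ≫ ((DTen.LTen A).obj K).map m := fun {M M'} m =>
    (DTen.symm A).naturality ((Prod.mkHom (𝟙 K) m) : (K, M) ⟶ (K, M'))
  exact (mapsTri_tensorRightD K T hT).of_iso (asIso ((DTen.symm A).app (K, T.obj₁)))
    (asIso ((DTen.symm A).app (K, T.obj₂))) (asIso ((DTen.symm A).app (K, T.obj₃))) (nat T.mor₁) (nat T.mor₂)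

variable [DTen.HasRHom A]

/-- The comparison from the hom complex to the internal hom. -/
noncomputable def homθ (P I : DRing.Cx A) :
    DerivedCategory.Q.obj (DRing.homCx P I) ⟶ (DTen.RHomR A (DerivedCategory.Q.obj P)).obj (DerivedCategory.Q.obj I) :=
  DTen.rhomHomEquiv _ _ _ (evD P I)

lemma homθ_ev (P I : DRing.Cx A) :
    (DTen.LTen₂ A).map (Prod.mkHom (homθ P I) (𝟙 (DerivedCategory.Q.obj P))) ≫
      DTen.ev (DerivedCategory.Q.obj P) (DerivedCategory.Q.obj I) = evD P I :=
  ((DTen.rhomAdj A (DerivedCategory.Q.obj P)).homEquiv _ _).left_inv (evD P I)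

theorem isIso_homθ {P I : DRing.Cx A} [I.IsKInjective] (hP : IsKFlatFor (modT A) P) : IsIso (homθ P I) := by
  rw [isIso_iff_yoneda_map_bijective]
  intro X
  refine Function.Bijective.of_comp_iff' (((DTen.rhomAdj A (DerivedCategory.Q.obj P)).homEquiv X
    (DerivedCategory.Q.obj I)).symm.bijective) _ |>.1 ?_
  convert bijective_evD (I := I) hP X using 1
  funext g
  simp only [Function.comp_apply]
  rw [Adjunction.homEquiv_counit, Functor.map_comp, Category.assoc]
  exact congrArg ((DTen.tensorRightD A (DerivedCategory.Q.obj P)).map g ≫ ·) (homθ_ev P I)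

lemma homθ_homPre {P P' : DRing.Cx A} (s : P ⟶ P') (I : DRing.Cx A) :
    homθ P' I ≫ DTen.RHomMap (DerivedCategory.Q.map s) (DerivedCategory.Q.obj I) =
      DerivedCategory.Q.map (homPre s I) ≫ homθ P I := by
  apply ((DTen.rhomAdj A (DerivedCategory.Q.obj P)).homEquiv _ _).symm.injective
  rw [Adjunction.homEquiv_counit, Adjunction.homEquiv_counit, Functor.map_comp, Functor.map_comp,
    Category.assoc, Category.assoc]
  refine Eq.trans (congrArg (_ ≫ ·) (DTen.RHom_map_ev (DerivedCategory.Q.map s) (DerivedCategory.Q.obj I))) ?_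
  refine Eq.trans ?_ (congrArg (_ ≫ ·) (homθ_ev P I)).symm
  refine Eq.trans ?_ (map_evD P I (homPre s I)).symm
  rw [uncurryCx_eq, homPre_ev]
  have key : (DTen.LTen₂ A).map (Prod.mkHom (homθ P' I) (𝟙 (DerivedCategory.Q.obj P))) ≫
      (DTen.LTen₂ A).map (Prod.mkHom (𝟙 ((DTen.RHomR A (DerivedCategory.Q.obj P')).obj (DerivedCategory.Q.obj I)))
        (DerivedCategory.Q.map s)) =
      (DTen.LTen₂ A).map (Prod.mkHom (𝟙 (DerivedCategory.Q.obj (DRing.homCx P' I))) (DerivedCategory.Q.map s)) ≫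
        (DTen.LTen₂ A).map (Prod.mkHom (homθ P' I) (𝟙 (DerivedCategory.Q.obj P'))) := by
    rw [← Functor.map_comp, ← Functor.map_comp]
    simp
  refine ((Category.assoc _ _ _).symm.trans (congrArg (· ≫ _) key)).trans ?_
  rw [Category.assoc, homθ_ev, evD]
  have n := (DTen.ε A).naturality ((Prod.mkHom (𝟙 (DRing.homCx P' I)) s) : (DRing.homCx P' I, P) ⟶ (DRing.homCx P' I, P'))
  dsimp at n
  simp only [MonoidalCategory.id_whiskerRight, Category.id_comp] at n
  rw [CategoryTheory.Functor.map_id] at n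
  rw [Functor.map_comp, reassoc_of% n]

lemma homθ_homCxMap (P : DRing.Cx A) {I I' : DRing.Cx A} (j : I ⟶ I') :
    homθ P I ≫ (DTen.RHomR A (DerivedCategory.Q.obj P)).map (DerivedCategory.Q.map j) =
      DerivedCategory.Q.map (DRing.homCxMap P j) ≫ homθ P I' := by
  apply ((DTen.rhomAdj A (DerivedCategory.Q.obj P)).homEquiv _ _).symm.injective
  rw [Adjunction.homEquiv_counit, Adjunction.homEquiv_counit, Functor.map_comp, Functor.map_comp,
    Category.assoc, Category.assoc, Adjunction.counit_naturality]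
  refine Eq.trans ((Category.assoc _ _ _).symm.trans (congrArg (· ≫ _) (homθ_ev P I))) ?_
  refine Eq.trans ?_ (congrArg (_ ≫ ·) (homθ_ev P I')).symm
  refine Eq.trans ?_ (map_evD P I' (DRing.homCxMap P j)).symm
  rw [evD, Category.assoc, ← Functor.map_comp]
  congr 2
  refine HomologicalComplex.hom_ext _ _ fun n => mapBifunctor.hom_ext fun p q h => ?_
  rw [HomologicalComplex.comp_f]
  erw [reassoc_of% (ι_uncurryCx (𝟙 (DRing.homCx P I)) p q n h), ι_uncurryCx]
  refine ModuleCat.MonoidalCategory.tensor_ext fun (z : CochainComplex.HomComplex.Cochain P I p) y => ?_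
  have h' : p + q = n := h
  change j.f n (z.v q n (by omega) y) = (z.comp (CochainComplex.HomComplex.Cochain.ofHom j) (add_zero p)).v q n (by omega) y
  rw [CochainComplex.HomComplex.Cochain.comp_zero_cochain_v, CochainComplex.HomComplex.Cochain.ofHom_v]
  rfl

omit [DTen.HasLTen A] [DTen.HasRHom A] in
/-- The degreewise splitting of hom complexes into a fixed complex. -/
lemma shortExact_homCx (P : DRing.Cx A) {S : ShortComplex (DRing.Cx A)}
    (σ : ∀ n, Nonempty ((S.map (HomologicalComplex.eval _ (ComplexShape.up ℤ) n)).Splitting))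
    (w : DRing.homCxMap P S.f ≫ DRing.homCxMap P S.g = 0) :
    (ShortComplex.mk (DRing.homCxMap P S.f) (DRing.homCxMap P S.g) w).ShortExact := by
  classical
  let σ' := fun n => (σ n).some
  refine shortExact_of_degreewise_shortExact _ fun n => ShortComplex.Splitting.shortExact
    { r := ModuleCat.ofHom (X := CochainComplex.HomComplex.Cochain P S.X₂ n) (Y := CochainComplex.HomComplex.Cochain P S.X₁ n)
        { toFun := fun z => z.comp (CochainComplex.HomComplex.Cochain.ofHoms fun m => (σ' m).r) (add_zero n)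
          map_add' := fun z z' => by simp
          map_smul' := fun c z => by simp }
      s := ModuleCat.ofHom (X := CochainComplex.HomComplex.Cochain P S.X₃ n) (Y := CochainComplex.HomComplex.Cochain P S.X₂ n)
        { toFun := fun z => z.comp (CochainComplex.HomComplex.Cochain.ofHoms fun m => (σ' m).s) (add_zero n)
          map_add' := fun z z' => by simp
          map_smul' := fun c z => by simp }
      f_r := ?_
      s_g := ?_
      id := ?_ }
  all_goals refine ModuleCat.hom_ext (LinearMap.ext fun z => CochainComplex.HomComplex.Cochain.ext _ _ fun p q h => ?_)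
  · change (((z : CochainComplex.HomComplex.Cochain P S.X₁ n).comp (CochainComplex.HomComplex.Cochain.ofHom S.f) (add_zero n)).comp
      (CochainComplex.HomComplex.Cochain.ofHoms fun m => (σ' m).r) (add_zero n)).v p q h = _
    simp only [CochainComplex.HomComplex.Cochain.comp_zero_cochain_v, CochainComplex.HomComplex.Cochain.ofHom_v,
      CochainComplex.HomComplex.Cochain.ofHoms_v, Category.assoc]
    have := (σ' q).f_r
    dsimp at this
    rw [this, Category.comp_id]
    rfl
  · change (((z : CochainComplex.HomComplex.Cochain P S.X₃ n).comp (CochainComplex.HomComplex.Cochain.ofHoms fun m => (σ' m).s) (add_zero n)).comp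
      (CochainComplex.HomComplex.Cochain.ofHom S.g) (add_zero n)).v p q h = _
    simp only [CochainComplex.HomComplex.Cochain.comp_zero_cochain_v, CochainComplex.HomComplex.Cochain.ofHom_v,
      CochainComplex.HomComplex.Cochain.ofHoms_v, Category.assoc]
    have := (σ' q).s_g
    dsimp at this
    rw [this, Category.comp_id]
    rfl
  · change (((z : CochainComplex.HomComplex.Cochain P S.X₂ n).comp (CochainComplex.HomComplex.Cochain.ofHoms fun m => (σ' m).r) (add_zero n)).comp
      (CochainComplex.HomComplex.Cochain.ofHom S.f) (add_zero n) +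
      ((z : CochainComplex.HomComplex.Cochain P S.X₂ n).comp (CochainComplex.HomComplex.Cochain.ofHom S.g) (add_zero n)).comp
      (CochainComplex.HomComplex.Cochain.ofHoms fun m => (σ' m).s) (add_zero n)).v p q h =
        (z : CochainComplex.HomComplex.Cochain P S.X₂ n).v p q h
    simp only [CochainComplex.HomComplex.Cochain.add_v, CochainComplex.HomComplex.Cochain.comp_zero_cochain_v,
      CochainComplex.HomComplex.Cochain.ofHom_v, CochainComplex.HomComplex.Cochain.ofHoms_v, Category.assoc]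
    rw [← Preadditive.comp_add]
    have := (σ' q).id
    dsimp at this
    rw [this, Category.comp_id]

/-- `RHom(L, -)` preserves triangles. -/
theorem mapsTri_RHomR (L : Dual.D A) : MapsTri (DTen.RHomR A L) := by
  intro T hT
  obtain ⟨P, hP, ⟨eP⟩⟩ := exists_kflat_obj L
  obtain ⟨S, σ, h₁, h₂, h₃, e₁, e₂, e₃, c₁, c₂⟩ := exists_ses_kInj hT
  haveI := h₁
  haveI := h₂
  haveI := h₃
  haveI := isIso_homθ (I := S.X₁) hP
  haveI := isIso_homθ (I := S.X₂) hP
  haveI := isIso_homθ (I := S.X₃) hP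
  have hS := shortExact_homCx P σ (by
    refine HomologicalComplex.hom_ext _ _ fun n => ModuleCat.hom_ext (LinearMap.ext fun (z : CochainComplex.HomComplex.Cochain P S.X₁ n) =>
      CochainComplex.HomComplex.Cochain.ext _ _ fun p q h => ?_)
    change ((z.comp (CochainComplex.HomComplex.Cochain.ofHom S.f) (add_zero n)).comp
      (CochainComplex.HomComplex.Cochain.ofHom S.g) (add_zero n)).v p q h = 0
    simp [← HomologicalComplex.comp_f])
  let j := (DTen.RHom A).mapIso eP.op.symm
  let i : ∀ (I : DRing.Cx A) (M : Dual.D A) (e : DerivedCategory.Q.obj I ≅ M) [IsIso (homθ P I)],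
      DerivedCategory.Q.obj (DRing.homCx P I) ≅ (DTen.RHomR A L).obj M := fun I M e _ =>
    asIso (homθ P I) ≪≫ (DTen.RHomR A (DerivedCategory.Q.obj P)).mapIso e ≪≫ j.app M
  have nat : ∀ {I I' : DRing.Cx A} {M M' : Dual.D A} (φ : I ⟶ I') (m : M ⟶ M') (e : DerivedCategory.Q.obj I ≅ M)
      (e' : DerivedCategory.Q.obj I' ≅ M') [IsIso (homθ P I)] [IsIso (homθ P I')],
      DerivedCategory.Q.map φ ≫ e'.hom = e.hom ≫ m →
      DerivedCategory.Q.map (DRing.homCxMap P φ) ≫ (i I' M' e').hom = (i I M e).hom ≫ (DTen.RHomR A L).map m := by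
    intro I I' M M' φ m e e' _ _ hc
    simp only [i, Iso.trans_hom, asIso_hom, Functor.mapIso_hom, Iso.app_hom, Category.assoc]
    rw [← reassoc_of% (homθ_homCxMap P φ), ← Functor.map_comp_assoc, hc, Functor.map_comp_assoc]
    exact congrArg (_ ≫ _ ≫ ·) (j.hom.naturality m)
  exact (isDistPair_of_shortExact hS).of_iso (i S.X₁ T.obj₁ e₁) (i S.X₂ T.obj₂ e₂) (i S.X₃ T.obj₃ e₃)
    (nat S.f T.mor₁ e₁ e₂ c₁) (nat S.g T.mor₂ e₂ e₃ c₂)

omit [DTen.HasLTen A] [DTen.HasRHom A] in
/-- The degreewise splitting of hom complexes out of a sequence. -/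
lemma shortExact_homPre (I : DRing.Cx A) {S : ShortComplex (DRing.Cx A)}
    (σ : ∀ n, Nonempty ((S.map (HomologicalComplex.eval _ (ComplexShape.up ℤ) n)).Splitting))
    (w : homPre S.g I ≫ homPre S.f I = 0) :
    (ShortComplex.mk (homPre S.g I) (homPre S.f I) w).ShortExact := by
  classical
  let σ' := fun n => (σ n).some
  refine shortExact_of_degreewise_shortExact _ fun n => ShortComplex.Splitting.shortExact
    { r := ModuleCat.ofHom (X := CochainComplex.HomComplex.Cochain S.X₂ I n) (Y := CochainComplex.HomComplex.Cochain S.X₃ I n)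
        { toFun := fun z => (CochainComplex.HomComplex.Cochain.ofHoms fun m => (σ' m).s).comp z (zero_add n)
          map_add' := fun z z' => by simp
          map_smul' := fun c z => by simp }
      s := ModuleCat.ofHom (X := CochainComplex.HomComplex.Cochain S.X₁ I n) (Y := CochainComplex.HomComplex.Cochain S.X₂ I n)
        { toFun := fun z => (CochainComplex.HomComplex.Cochain.ofHoms fun m => (σ' m).r).comp z (zero_add n)
          map_add' := fun z z' => by simp
          map_smul' := fun c z => by simp }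
      f_r := ?_
      s_g := ?_
      id := ?_ }
  all_goals refine ModuleCat.hom_ext (LinearMap.ext fun z => CochainComplex.HomComplex.Cochain.ext _ _ fun p q h => ?_)
  · change ((CochainComplex.HomComplex.Cochain.ofHoms fun m => (σ' m).s).comp
      ((homPre S.g I).f n z : CochainComplex.HomComplex.Cochain S.X₂ I n) (zero_add n)).v p q h = _
    simp only [homPre_apply, CochainComplex.HomComplex.Cochain.zero_cochain_comp_v,
      CochainComplex.HomComplex.Cochain.ofHom_v, CochainComplex.HomComplex.Cochain.ofHoms_v]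
    have := (σ' p).s_g
    dsimp at this
    rw [reassoc_of% this]
    rfl
  · change (((homPre S.f I).f n ((CochainComplex.HomComplex.Cochain.ofHoms fun m => (σ' m).r).comp z (zero_add n)) :
      CochainComplex.HomComplex.Cochain S.X₁ I n)).v p q h = _
    rw [homPre_apply]
    simp only [CochainComplex.HomComplex.Cochain.zero_cochain_comp_v,
      CochainComplex.HomComplex.Cochain.ofHom_v, CochainComplex.HomComplex.Cochain.ofHoms_v]
    have := (σ' p).f_r
    dsimp at this
    rw [reassoc_of% this]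
    rfl
  · change ((show CochainComplex.HomComplex.Cochain S.X₂ I n from
        (homPre S.g I).f n ((CochainComplex.HomComplex.Cochain.ofHoms fun m => (σ' m).s).comp z (zero_add n))) +
      (CochainComplex.HomComplex.Cochain.ofHoms fun m => (σ' m).r).comp
        ((homPre S.f I).f n z : CochainComplex.HomComplex.Cochain S.X₁ I n) (zero_add n)).v p q h =
        (z : CochainComplex.HomComplex.Cochain S.X₂ I n).v p q h
    simp only [homPre_apply, CochainComplex.HomComplex.Cochain.add_v, CochainComplex.HomComplex.Cochain.zero_cochain_comp_v,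
      CochainComplex.HomComplex.Cochain.ofHom_v, CochainComplex.HomComplex.Cochain.ofHoms_v, ← Category.assoc]
    rw [← Preadditive.add_comp]
    have := (σ' p).id
    dsimp at this
    rw [add_comm] at this
    rw [this, Category.id_comp]

/-- `RHom(-, M)` preserves triangles. -/
theorem mapsTriOp_RHom (M : Dual.D A) : MapsTriOp ((DTen.RHom A).flip.obj M) := by
  intro T hT
  obtain ⟨I, hI, ⟨eI⟩⟩ := exists_kInj_obj M
  haveI := hI
  obtain ⟨S, σ, h₁, h₂, h₃, e₁, e₂, e₃, c₁, c₂⟩ := exists_ses_kflat hT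
  haveI := isIso_homθ (I := I) h₁
  haveI := isIso_homθ (I := I) h₂
  haveI := isIso_homθ (I := I) h₃
  have hS := shortExact_homPre I σ (by
    refine HomologicalComplex.hom_ext _ _ fun n => ModuleCat.hom_ext (LinearMap.ext fun (z : CochainComplex.HomComplex.Cochain S.X₃ I n) =>
      CochainComplex.HomComplex.Cochain.ext _ _ fun p q h => ?_)
    change (((homPre S.f I).f n ((homPre S.g I).f n z)) : CochainComplex.HomComplex.Cochain S.X₁ I n).v p q h = 0
    rw [homPre_apply, homPre_apply]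
    simp [← Category.assoc, ← HomologicalComplex.comp_f])
  let i : ∀ (P : DRing.Cx A) (L : Dual.D A) (e : DerivedCategory.Q.obj P ≅ L) [IsIso (homθ P I)],
      DerivedCategory.Q.obj (DRing.homCx P I) ≅ ((DTen.RHom A).flip.obj M).obj (op L) := fun P L e _ =>
    asIso (homθ P I) ≪≫ ((DTen.RHom A).mapIso e.op.symm).app _ ≪≫ ((DTen.RHom A).obj (op L)).mapIso eI
  have nat : ∀ {P P' : DRing.Cx A} {L L' : Dual.D A} (φ : P ⟶ P') (m : L ⟶ L') (e : DerivedCategory.Q.obj P ≅ L)
      (e' : DerivedCategory.Q.obj P' ≅ L') [IsIso (homθ P I)] [IsIso (homθ P' I)],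
      DerivedCategory.Q.map φ ≫ e'.hom = e.hom ≫ m →
      DerivedCategory.Q.map (homPre φ I) ≫ (i P L e).hom = (i P' L' e').hom ≫ ((DTen.RHom A).flip.obj M).map m.op := by
    intro P P' L L' φ m e e' _ _ hc
    have hc' : (DerivedCategory.Q.map φ).op ≫ e.inv.op = e'.inv.op ≫ m.op := by
      rw [← op_comp, ← op_comp]
      congr 1
      rw [← cancel_mono e'.hom, Category.assoc, hc, e.inv_hom_id_assoc, Category.assoc, e'.inv_hom_id, Category.comp_id]
    have hm := congrArg (fun k => ((DTen.RHom A).map k).app (DerivedCategory.Q.obj I)) hc'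
    simp only [Functor.map_comp, NatTrans.comp_app] at hm
    simp only [i, Iso.trans_hom, asIso_hom, Functor.mapIso_hom, Iso.app_hom, Category.assoc, Iso.symm_hom,
      Iso.op_inv, Functor.flip_obj_map]
    rw [← reassoc_of% (homθ_homPre φ I)]
    erw [reassoc_of% hm]
    exact congrArg (_ ≫ _ ≫ ·) (((DTen.RHom A).map m.op).naturality eI.hom).symm
  exact (isDistPair_of_shortExact hS).of_iso (i S.X₃ T.obj₃ e₃) (i S.X₂ T.obj₂ e₂) (i S.X₁ T.obj₁ e₁)
    (nat S.g T.mor₂ e₂ e₃ c₂) (nat S.f T.mor₁ e₁ e₂ c₁)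

end

end Groth.Agent.DCat
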