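import Groth.Agent.DCat.DTenBCPerfect
import Groth.Agent.DRingLib.TorDimAmp
import Groth.Agent.DCat.TotKFlat

/-! Base change of the internal hom out of a pseudo-coherent object along a map of finite tor dimension. -/

set_option autoImplicit false
set_option backward.isDefEq.respectTransparency false
set_option backward.defeqAttrib.useBackward true
set_option linter.style.haveILetI false

universe u

open CategoryTheory CategoryTheory.Limits MonoidalCategory HomologicalComplex Opposite CategoryTheory.Pretriangulated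

attribute [local instance] HasDerivedCategory.standard

namespace Groth.Agent.DCat.DTenBC

variable {R R' : Type u} [CommRing R] [CommRing R'] (φ : R →+* R') [DTen.HasLBase φ]

/-- Derived base change is right t-exact. -/
theorem isLE_LBase (X : Dual.D R) (t : ℤ) [X.IsLE t] : ((DTen.LBase φ).obj X).IsLE t := by
  obtain ⟨P, hPb, hP, ⟨eP⟩⟩ := exists_kflat_rep_le X t
  haveI := isIso_baseCmp φ hP
  haveI : (DerivedCategory.Q.obj ((DTen.extCx φ).obj P)).IsLE t :=
    isLE_Q_of_vanishesAbove fun n hn => (ModuleCat.extendScalars.{u, u, u} φ).map_isZero (hPb n hn)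
  exact DerivedCategory.TStructure.t.isLE_of_iso
    ((asIso ((DTen.baseCmp φ).app P) :
      (DTen.LBase φ).obj (DerivedCategory.Q.obj P) ≅ DerivedCategory.Q.obj ((DTen.extCx φ).obj P)).symm ≪≫ (DTen.LBase φ).mapIso eP) t

/-- The restriction of the unit module is the algebra. -/
theorem amp_algebra {d : ℕ} (hd : letI := φ.toAlgebra; DRing.HasTorDimLE R d R') :
    DRing.HasTorAmplitudeIn R (-((d + 1 : ℕ) : ℤ)) 0 ((DerivedCategory.singleFunctor (ModuleCat.{u} R) 0).obj
      ((ModuleCat.restrictScalars.{u} φ).obj (𝟙_ (ModuleCat.{u} R')))) := by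
  letI := φ.toAlgebra
  exact DRingLib.amp_of_torDimLE R' hd

/-- Base change along a map of tor dimension at most `d`. -/
theorem isGE_LBase {d : ℕ} (hd : letI := φ.toAlgebra; DRing.HasTorDimLE R d R') (X : Dual.D R) (s : ℤ) [X.IsGE s] :
    ((DTen.LBase φ).obj X).IsGE (s - ((d + 1 : ℕ) : ℤ)) := by
  haveI : DTen.HasLTen R := hasLTen R
  obtain ⟨P, hP, ⟨eP⟩⟩ := exists_kflat_obj X
  haveI := isIso_baseCmp φ hP
  suffices h : (DerivedCategory.Q.obj ((DTen.extCx φ).obj P)).IsGE (s - ((d + 1 : ℕ) : ℤ)) from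
    DerivedCategory.TStructure.t.isGE_of_iso
      ((asIso ((DTen.baseCmp φ).app P) :
      (DTen.LBase φ).obj (DerivedCategory.Q.obj P) ≅ DerivedCategory.Q.obj ((DTen.extCx φ).obj P)).symm ≪≫ (DTen.LBase φ).mapIso eP) _
  obtain ⟨Y, hY, ⟨eY⟩⟩ := X.exists_iso_Q_obj_of_isGE s
  obtain ⟨E, hE, hEf, ⟨eE⟩⟩ := amp_algebra φ hd
  have hEk : IsKFlatFor (modT R) E := isKFlatFor_of_vanishesAbove E 0 (fun n hn => hE n (Or.inr hn)) hEf
  let B := (ModuleCat.restrictScalars.{u} φ).obj (𝟙_ (ModuleCat.{u} R'))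
  let S := (HomologicalComplex.single (ModuleCat.{u} R) (ComplexShape.up ℤ) 0).obj B
  haveI := isIso_ε_of_left (L := S) hP
  haveI := isIso_ε_of_right (K := Y) hEk
  let e : DerivedCategory.Q.obj (P ⊗ S) ≅ DerivedCategory.Q.obj (Y ⊗ E) :=
    (asIso ((DTen.ε R).app (P, S))).symm ≪≫
      (DTen.LTen₂ R).mapIso (Iso.prod (eP ≪≫ eY)
        (((DerivedCategory.singleFunctorIsoCompQ (ModuleCat.{u} R) 0).app B).symm ≪≫ eE.symm)) ≪≫
      asIso ((DTen.ε R).app (Y, E))
  have hz : ∀ i, i < s - ((d + 1 : ℕ) : ℤ) → IsZero ((Y ⊗ E : DRing.Cx R).X i) := fun i hi =>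
    isZero_tot_X Y E i fun p q hpq => if h : p < s then
      Or.inl (CochainComplex.isZero_of_isStrictlyGE Y s p h) else Or.inr (hE q (Or.inl (by omega)))
  haveI : CochainComplex.IsStrictlyGE (Y ⊗ E : DRing.Cx R) (s - ((d + 1 : ℕ) : ℤ)) :=
    (CochainComplex.isStrictlyGE_iff _ _).2 hz
  haveI : (DerivedCategory.Q.obj (P ⊗ S)).IsGE (s - ((d + 1 : ℕ) : ℤ)) :=
    DerivedCategory.TStructure.t.isGE_of_iso e.symm _
  rw [DerivedCategory.isGE_iff]
  intro i hi
  rw [isZero_homology_toD_iff]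
  have h₁ : (P ⊗ S : DRing.Cx R).ExactAt i := by
    rw [← isZero_homology_toD_iff]
    exact DerivedCategory.isZero_of_isGE _ (s - ((d + 1 : ℕ) : ℤ)) i hi
  obtain ⟨t⟩ := exists_tot_single_iso (T := modT R) P B
  have h₂ : (((tensorRight B).mapHomologicalComplex (ComplexShape.up ℤ)).obj P).ExactAt i := h₁.of_iso t.symm
  exact ((exactAt_tensor_ext_iff φ P (𝟙_ (ModuleCat.{u} R')) i).2 h₂).of_iso
    (Hom.isoOfComponents (fun n => ρ_ _) (fun p q _ => (rightUnitor_naturality _).symm))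

variable [DTen.HasLTen R] [DTen.HasLTen R'] [DTen.HasResTen φ] [DTen.ResLegIso φ] [DTen.HasRHom R] [DTen.HasRHom R']

/-- The homology of a functor vanishing on low objects does not see the truncation. -/
theorem isIso_homology_map {A : Type u} [CommRing A] {F : (Dual.D R)ᵒᵖ ⥤ Dual.D A}
    (hF : ∀ T ∈ (distinguishedTriangles : Set (Triangle (Dual.D R))), IsDistPair (F.map T.mor₂.op) (F.map T.mor₁.op))
    (c : ℤ) (hle : ∀ (C : Dual.D R) (t : ℤ) [C.IsLE t], (F.obj (op C)).IsGE (c - t))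
    {T : Triangle (Dual.D R)} (hT : T ∈ distinguishedTriangles) (m i : ℤ) [T.obj₃.IsLE m] (hm : i + m + 1 < c) :
    IsIso ((DerivedCategory.homologyFunctor (ModuleCat.{u} A) i).map (F.map T.mor₁.op)) := by
  let H := DerivedCategory.homologyFunctor (ModuleCat.{u} A) i
  haveI : T.invRotate.obj₁.IsLE (m + 1) :=
    DerivedCategory.TStructure.t.isLE_shift T.obj₃ m (-1) (m + 1) (by omega)
  have z : ∀ (C : Dual.D R) (t : ℤ), C.IsLE t → t ≤ m + 1 → IsZero (H.obj (F.obj (op C))) := fun C t _ ht => by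
    haveI := hle C t
    exact DerivedCategory.isZero_of_isGE _ (c - t) i (by omega)
  obtain ⟨δ, h₁⟩ := hF T hT
  obtain ⟨δ', h₂⟩ := hF _ (inv_rot_of_distTriang _ hT)
  haveI : Mono (H.map (F.map T.mor₁.op)) :=
    (H.map_distinguished_exact _ h₁).mono_g ((z T.obj₃ m inferInstance (by omega)).eq_of_src _ _)
  haveI : Epi (H.map (F.map T.mor₁.op)) :=
    (H.map_distinguished_exact _ h₂).epi_f ((z T.invRotate.obj₁ (m + 1) inferInstance le_rfl).eq_of_tgt _ _)
  exact isIso_of_mono_of_epi _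

/-- Base change of the internal hom out of a pseudo-coherent object, finite tor dimension. -/
theorem isIso_bc_of_pseudoCoherent {d : ℕ} (hd : letI := φ.toAlgebra; DRing.HasTorDimLE R d R') {K : Dual.D R}
    (M : Dual.D R) (hK : DRing.IsPseudoCoherent' R K) (n : ℤ) [M.IsGE n] : IsIso (bc φ K M) := by
  let F : (Dual.D R)ᵒᵖ ⥤ Dual.D R' := (DTen.RHom R).flip.obj M ⋙ DTen.LBase φ
  let G : (Dual.D R)ᵒᵖ ⥤ Dual.D R' := (DTen.LBase φ).op ⋙ (DTen.RHom R').flip.obj ((DTen.LBase φ).obj M)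
  let η : ∀ K, F.obj K ⟶ G.obj K := fun K => bc φ K.unop M
  have nat : ∀ {K K'} (m : K ⟶ K'), F.map m ≫ η K' = η K ≫ G.map m := fun {K K'} m => bc_natural φ M m.unop
  let c : ℤ := n - ((d + 1 : ℕ) : ℤ)
  haveI := isGE_LBase φ hd M n
  have hFge : ∀ (C : Dual.D R) (t : ℤ) [C.IsLE t], (F.obj (op C)).IsGE (c - t) := fun C t _ => by
    haveI := isGE_RHomR C M t n
    have := isGE_LBase φ hd ((DTen.RHomR R C).obj M) (n - t)
    rwa [show n - t - ((d + 1 : ℕ) : ℤ) = c - t by omega] at this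
  have hGge : ∀ (C : Dual.D R) (t : ℤ) [C.IsLE t], (G.obj (op C)).IsGE (c - t) := fun C t _ => by
    haveI := isLE_LBase φ C t
    exact isGE_RHomR ((DTen.LBase φ).obj C) ((DTen.LBase φ).obj M) t c
  haveI := hasLTen₃ R
  haveI := hasLTen₃ R'
  haveI := DualLib.isSymMonoidal (A := R)
  haveI := DualLib.isSymMonoidal (A := R')
  obtain ⟨E, bE, hb, hE, ⟨e⟩⟩ := hK
  refine isIso_app_of_iso (K := op K) (L := op (DerivedCategory.Q.obj E)) η nat e.op ?_
  rw [DerivedCategory.isIso_iff]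
  intro i
  obtain ⟨T, hT, hP, h2, h3⟩ := exists_trunc_sub E (c - i - 1) bE hb hE
  haveI := h3
  let H := DerivedCategory.homologyFunctor (ModuleCat.{u} R') i
  haveI := isIso_homology_map (A := R') (fun T hT => pair_source φ M hT) c hFge hT (c - i - 1 - 1) i (by omega)
  haveI := isIso_homology_map (A := R')
    (fun T hT => pair_op_comp (mapsTriOp_RHom ((DTen.LBase φ).obj M)) _ (isDistPair_LBase φ (isDistPair_of_mem hT)))
    c hGge hT (c - i - 1 - 1) i (by omega)
  haveI : IsIso (η (op T.obj₁)) := isIso_bc φ M hP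
  change IsIso (H.map (η (op (DerivedCategory.Q.obj E))))
  rw [← h2]
  have sq := congrArg H.map (nat T.mor₁.op)
  rw [H.map_comp, H.map_comp] at sq
  haveI : IsIso (H.map (η (op T.obj₂)) ≫ H.map (G.map T.mor₁.op)) := by
    rw [← sq]; infer_instance
  exact IsIso.of_isIso_comp_right _ (H.map (G.map T.mor₁.op))

end Groth.Agent.DCat.DTenBC
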