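import Groth.Agent.Dual22Lib.BCModule
import Groth.Agent.Dual22Lib.WeakExact
import Groth.Agent.Dual22Lib.PerfectTor
import Groth.Agent.DCat.LocGen
import Groth.Agent.DCat.RHomExist
import Mathlib.Algebra.Category.ModuleCat.ChangeOfRings
import Mathlib.CategoryTheory.Triangulated.Adjunction

/-!
# Base change of restriction of scalars for tor independent squares of rings
-/

set_option autoImplicit false
set_option backward.isDefEq.respectTransparency false
set_option backward.defeqAttrib.useBackward true
set_option linter.style.haveILetI false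
set_option linter.unusedVariables false
set_option synthInstance.maxHeartbeats 100000

universe u

open CategoryTheory CategoryTheory.Limits CategoryTheory.Pretriangulated
open Groth.Agent.Dual22Lib Groth.Agent.Dual22Lib.WeakExact

attribute [local instance] HasDerivedCategory.standard
attribute [-instance] Int.instConditionallyCompleteLinearOrder

namespace Groth.Agent.DCat.TrivBCTor

variable {A B C D : Type u} [CommRing A] [CommRing B] [CommRing C] [CommRing D]

theorem preservesCoproducts_restrictD (φ : A →+* B) (J : Type u) :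
    PreservesColimitsOfShape (Discrete J) (DRing.restrictD φ) := by
  haveI : PreservesColimitsOfShape (Discrete J) ((ModuleCat.restrictScalars.{u} φ).mapHomologicalComplex (ComplexShape.up ℤ)) :=
    haveI := (ModuleCat.restrictCoextendScalarsAdj φ).leftAdjoint_preservesColimits
    inferInstance
  haveI := RHomExist.preservesCoproducts_Q (A := ModuleCat.{u} A) J
  haveI : PreservesColimitsOfShape (Discrete J) (DerivedCategory.Q ⋙ DRing.restrictD φ) :=
    preservesColimitsOfShape_of_natIso (ModuleCat.restrictScalars.{u} φ).mapDerivedCategoryFactors.symm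
  exact RHomExist.preservesCoproducts_of_fac (DRing.restrictD φ) J

/-- The base change map is invertible on all of `D(C)`. -/
theorem isIso_bc (φ : A →+* B) (ψ : A →+* C) (φ' : C →+* D) (ψ' : B →+* D) (hsq : ψ'.comp φ = φ'.comp ψ)
    (hpush : letI := φ.toAlgebra; letI := ψ.toAlgebra; letI := φ'.toAlgebra; letI := ψ'.toAlgebra;
      letI := (ψ'.comp φ).toAlgebra
      haveI : IsScalarTower A B D := IsScalarTower.of_algebraMap_eq' rfl
      haveI : IsScalarTower A C D := IsScalarTower.of_algebraMap_eq' hsq
      Algebra.IsPushout A B C D)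
    [DRing.HasLBaseChange φ] [DRing.HasLBaseChange φ']
    (htor : BCModule.TorZero φ ((ModuleCat.restrictScalars.{u} ψ).obj (ModuleCat.of C C)))
    (adj : DRing.LBaseChange φ ⊣ DRing.restrictD φ) (adj' : DRing.LBaseChange φ' ⊣ DRing.restrictD φ')
    (e : DRing.restrictD φ' ⋙ DRing.restrictD ψ ≅ DRing.restrictD ψ' ⋙ DRing.restrictD φ) (K : Dual.D C) :
    IsIso ((BCAlg.bc adj adj' e).app K) := by
  letI := adj.leftAdjointCommShift ℤ
  haveI : adj.CommShift ℤ := adj.commShift_of_rightAdjoint ℤ
  haveI := adj.isTriangulated_leftAdjoint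
  letI := adj'.leftAdjointCommShift ℤ
  haveI : adj'.CommShift ℤ := adj'.commShift_of_rightAdjoint ℤ
  haveI := adj'.isTriangulated_leftAdjoint
  let F := DRing.restrictD ψ ⋙ DRing.LBaseChange φ
  let G := DRing.LBaseChange φ' ⋙ DRing.restrictD ψ'
  let τ : F ⟶ G := BCAlg.bc adj adj' e
  have hF : TriExact F := (triExact_of_isTriangulated _).comp (triExact_of_isTriangulated _)
  have hG : TriExact G := (triExact_of_isTriangulated _).comp (triExact_of_isTriangulated _)
  haveI := preservesCoproducts_restrictD ψ
  haveI := preservesCoproducts_restrictD ψ'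
  haveI := adj.leftAdjoint_preservesColimits
  haveI := adj'.leftAdjoint_preservesColimits
  refine IsoShifts.app (τ := τ) (DCat.localizing_induction (IsoShifts τ) (fun a h => h.of_iso a)
    (fun T hT h₁ h₂ => IsoShifts.cone hF hG hT h₁ h₂) (fun κ Z c hc h n => ?_) (fun m => ?_) K)
  · let sh := shiftFunctor (Dual.D C) n
    let c' : Cofan fun k => (Z k)⟦n⟧ := Cofan.mk (c.pt⟦n⟧) fun k => (c.inj k)⟦n⟧'
    have hc' : IsColimit c' := (Cofan.isColimitMapCoconeEquiv _ _ _).1 (isColimitOfPreserves sh hc)
    exact WeakExact.isIso_app_of_isColimit τ c' (isColimitOfPreserves F hc') (isColimitOfPreserves G hc') fun k => h k n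
  · let SC := (DerivedCategory.singleFunctor (ModuleCat.{u} C) 0).obj (ModuleCat.of C C)
    have h0 : IsoShifts τ SC := fun n => by
      have fs : ∀ (R : Type u) [CommRing R], (shiftFunctor (Dual.D R) n).FullyFaithful := fun R _ =>
        (shiftEquiv (Dual.D R) n).fullyFaithfulFunctor
      exact (BCAlg.isIso_bc_conj_iff (fs _) (fs _) (fs _) (fs _) adj adj'
        ((DRing.restrictD ψ).commShiftIso n) ((DRing.restrictD ψ').commShiftIso n)
        ((DRing.LBaseChange φ).commShiftIso n) ((DRing.restrictD φ).commShiftIso n)
        ((DRing.LBaseChange φ').commShiftIso n) ((DRing.restrictD φ').commShiftIso n) e _).2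
        (BCModule.isIso_bc_single φ ψ φ' ψ' hsq hpush htor _ _ _)
    refine (h0.shift (-m)).of_iso ?_
    exact (shiftFunctor _ (-m)).mapIso (((SingleFunctors.evaluation _ _ 0).mapIso
        (DerivedCategory.singleFunctorsPostcompQIso (ModuleCat.{u} C))).app (ModuleCat.of C C)) ≪≫
      ((DerivedCategory.Q.commShiftIso (-m)).app _).symm ≪≫
      DerivedCategory.Q.mapIso (((CochainComplex.singleFunctors (ModuleCat.{u} C)).shiftIso (-m) m 0 (by omega)).app
        (ModuleCat.of C C))

end Groth.Agent.DCat.TrivBCTor

namespace Groth.Agent.DCat.TrivBCTor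

/-- The statement for algebra instances. -/
theorem isIso_bc_algebra (R A R' A' : Type u) [CommRing R] [CommRing A] [CommRing R'] [CommRing A']
    [Algebra R A] [Algebra R R'] [Algebra A A'] [Algebra R' A'] [Algebra R A'] [IsScalarTower R A A'] [IsScalarTower R R' A']
    [Algebra.IsPushout R A R' A'] (htor : ∀ p : ℕ, 1 ≤ p → Subsingleton (DRing.Tor R p A R'))
    [DRing.HasLBaseChange (algebraMap R R')] [DRing.HasLBaseChange (algebraMap A A')]
    (adjρ : DRing.LBaseChange (algebraMap R R') ⊣ DRing.restrictD (algebraMap R R'))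
    (adjα : DRing.LBaseChange (algebraMap A A') ⊣ DRing.restrictD (algebraMap A A'))
    (e : DRing.restrictD (algebraMap A A') ⋙ DRing.restrictD (algebraMap R A) ≅
      DRing.restrictD (algebraMap R' A') ⋙ DRing.restrictD (algebraMap R R')) (K : Dual.D A) :
    IsIso ((BCAlg.bc adjρ adjα e).app K) := by
  have hsq : (algebraMap R' A').comp (algebraMap R R') = (algebraMap A A').comp (algebraMap R A) := by
    rw [← IsScalarTower.algebraMap_eq, ← IsScalarTower.algebraMap_eq]
  refine isIso_bc _ _ _ _ hsq ?_ (fun i hi => ?_) adjρ adjα e K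
  · have e₁ : (algebraMap R R').toAlgebra = ‹Algebra R R'› := Algebra.algebra_ext _ _ fun _ => rfl
    have e₂ : (algebraMap R A).toAlgebra = ‹Algebra R A› := Algebra.algebra_ext _ _ fun _ => rfl
    have e₃ : (algebraMap A A').toAlgebra = ‹Algebra A A'› := Algebra.algebra_ext _ _ fun _ => rfl
    have e₄ : (algebraMap R' A').toAlgebra = ‹Algebra R' A'› := Algebra.algebra_ext _ _ fun _ => rfl
    have e₅ : ((algebraMap R' A').comp (algebraMap R R')).toAlgebra = ‹Algebra R A'› :=
      Algebra.algebra_ext _ _ fun r => (IsScalarTower.algebraMap_apply R R' A' r).symm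
    convert (Algebra.IsPushout.symm (inferInstance : Algebra.IsPushout R A R' A') : Algebra.IsPushout R R' A A') using 1
  · have h := htor i hi
    obtain ⟨t⟩ := PerfectTor.tor_comm i (ModuleCat.of R A) (ModuleCat.of R R')
    haveI h' : Subsingleton (DRing.Tor R i R' A) := t.symm.toEquiv.subsingleton
    have e₁ : (algebraMap R R').toModule = (inferInstance : Module R R') :=
      Module.ext' _ _ fun r x => (Algebra.smul_def r x).symm
    have e₂ : ((ModuleCat.restrictScalars.{u} (algebraMap R A)).obj (ModuleCat.of A A)).isModule =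
        (inferInstance : Module R A) :=
      Module.ext' _ _ fun r x => (Algebra.smul_def r (show A from x)).symm
    show Subsingleton (@DRing.Tor R _ i R' A _ (algebraMap R R').toModule _
      ((ModuleCat.restrictScalars.{u} (algebraMap R A)).obj (ModuleCat.of A A)).isModule)
    rw [e₁, e₂]
    exact h'

end Groth.Agent.DCat.TrivBCTor
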