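import Groth.Agent.DCat.DTenBC

/-! Base change of the internal hom out of a perfect object. -/

set_option autoImplicit false
set_option backward.isDefEq.respectTransparency false
set_option backward.defeqAttrib.useBackward true
set_option linter.style.haveILetI false

universe u

open CategoryTheory CategoryTheory.Limits MonoidalCategory HomologicalComplex Opposite CategoryTheory.Pretriangulated

attribute [local instance] HasDerivedCategory.standard

namespace Groth.Agent.DCat.DTenBC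

variable {R R' : Type u} [CommRing R] [CommRing R'] (φ : R →+* R') [DTen.HasLBase φ]

/-- Derived base change preserves triangles. -/
theorem isDistPair_LBase {a b c : Dual.D R} {f : a ⟶ b} {g : b ⟶ c} (h : IsDistPair f g) :
    IsDistPair ((DTen.LBase φ).map f) ((DTen.LBase φ).map g) := by
  letI := (DTen.baseAdj φ).leftAdjointCommShift ℤ
  haveI := Adjunction.commShift_of_rightAdjoint (DTen.baseAdj φ) ℤ
  haveI := (DTen.baseAdj φ).isTriangulated_leftAdjoint
  obtain ⟨δ, hδ⟩ := h
  exact isDistPair_of_mem ((DTen.LBase φ).map_distinguished _ hδ)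

/-- Base change of a shifted unit. -/
theorem nonempty_LBase_unitShift (n : ℤ) :
    Nonempty ((DTen.LBase φ).obj (DerivedCategory.Q.obj (unitShift R n)) ≅
      DerivedCategory.Q.obj (unitShift R' n)) := by
  haveI : DTen.HasLTen R := hasLTen R
  haveI := isIso_baseCmp φ (isKFlatFor_unitShift (A := R) n)
  exact ⟨asIso ((DTen.baseCmp φ).app (unitShift R n)) ≪≫ DerivedCategory.Q.mapIso
    ((HomologicalComplex.singleMapHomologicalComplex (ModuleCat.extendScalars.{u, u, u} φ) (ComplexShape.up ℤ) n).app _ ≪≫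
      (HomologicalComplex.single (ModuleCat.{u} R') (ComplexShape.up ℤ) n).mapIso
        (Functor.Monoidal.εIso (ModuleCat.extendScalars.{u, u, u} φ)).symm)⟩

variable [DTen.HasLTen R] [DTen.HasLTen R'] [DTen.HasResTen φ] [DTen.ResLegIso φ] [DTen.HasRHom R] [DTen.HasRHom R']

/-- `bcRHom` with its instance argument supplied. -/
noncomputable def bc (K M : Dual.D R) :
    (DTen.LBase φ).obj ((DTen.RHomR R K).obj M) ⟶ (DTen.RHomR R' ((DTen.LBase φ).obj K)).obj ((DTen.LBase φ).obj M) :=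
  haveI := isIso_rhomBC φ K ((DTen.LBase φ).obj M)
  DTen.bcRHom φ K M

lemma bc_ev (K M : Dual.D R) :
    splitMap φ ((DTen.RHomR R K).obj M) K ≫
        (DTen.tensorRightD R' ((DTen.LBase φ).obj K)).map (bc φ K M) ≫
          DTen.ev ((DTen.LBase φ).obj K) ((DTen.LBase φ).obj M) =
      (DTen.LBase φ).map (DTen.ev K M) :=
  haveI := isIso_rhomBC φ K ((DTen.LBase φ).obj M)
  bcRHom_ev φ K M

/-- Naturality of `bcRHom` in the source. -/
theorem bc_natural (M : Dual.D R) {K K' : Dual.D R} (g : K' ⟶ K) :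
    (DTen.LBase φ).map (DTen.RHomMap g M) ≫ bc φ K' M =
      bc φ K M ≫ DTen.RHomMap ((DTen.LBase φ).map g) ((DTen.LBase φ).obj M) := by
  apply ((DTen.rhomAdj R' ((DTen.LBase φ).obj K')).homEquiv _ _).symm.injective
  rw [Adjunction.homEquiv_counit, Adjunction.homEquiv_counit, Functor.map_comp, Functor.map_comp, Category.assoc,
    Category.assoc]
  haveI := isIso_splitMap φ ((DTen.RHomR R K).obj M) K'
  refine (cancel_epi (splitMap φ ((DTen.RHomR R K).obj M) K')).1 ?_
  have n₁ := splitMap_natural φ (DTen.RHomMap g M) (𝟙 K')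
  have n₂ := splitMap_natural φ (𝟙 ((DTen.RHomR R K).obj M)) g
  rw [CategoryTheory.Functor.map_id] at n₁ n₂
  have b₁ := bc_ev φ K' M
  have b₂ := bc_ev φ K M
  have e₁ : (DTen.LTen₂ R).map (Prod.mkHom (DTen.RHomMap g M) (𝟙 K')) ≫ DTen.ev K' M =
      (DTen.LTen₂ R).map (Prod.mkHom (𝟙 _) g) ≫ DTen.ev K M := DTen.RHom_map_ev g M
  have e₂ : (DTen.LTen₂ R').map (Prod.mkHom (DTen.RHomMap ((DTen.LBase φ).map g) ((DTen.LBase φ).obj M)) (𝟙 _)) ≫
      DTen.ev ((DTen.LBase φ).obj K') ((DTen.LBase φ).obj M) =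
      (DTen.LTen₂ R').map (Prod.mkHom (𝟙 _) ((DTen.LBase φ).map g)) ≫
        DTen.ev ((DTen.LBase φ).obj K) ((DTen.LBase φ).obj M) := DTen.RHom_map_ev _ _
  refine ((reassoc_of% n₁) _).symm.trans ?_
  refine (congrArg (_ ≫ ·) b₁).trans ?_
  rw [← Functor.map_comp]
  refine (congrArg (DTen.LBase φ).map e₁).trans ?_
  rw [Functor.map_comp, ← b₂, ← Category.assoc, n₂, Category.assoc]
  congr 1
  refine Eq.trans ?_ (congrArg (_ ≫ ·) e₂).symm
  rw [← Category.assoc, ← Category.assoc]
  congr 1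
  refine ((DTen.LTen₂ R').map_comp _ _).symm.trans (Eq.trans ?_ ((DTen.LTen₂ R').map_comp _ _))
  congr 1
  exact Prod.ext (by simp) (by simp)

omit [DTen.HasLBase φ] [DTen.HasLTen R] [DTen.HasLTen R'] [DTen.HasResTen φ] [DTen.ResLegIso φ] [DTen.HasRHom R]
  [DTen.HasRHom R'] in
/-- Dévissage for a comparison of contravariant functors into another derived category. -/
theorem isIso_app_perfect (F G : (Dual.D R)ᵒᵖ ⥤ Dual.D R') (η : ∀ K, F.obj K ⟶ G.obj K)
    (nat : ∀ {K K'} (m : K ⟶ K'), F.map m ≫ η K' = η K ≫ G.map m)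
    (pF : ∀ T ∈ (distinguishedTriangles : Set (Triangle (Dual.D R))), IsDistPair (F.map T.mor₂.op) (F.map T.mor₁.op))
    (pG : ∀ T ∈ (distinguishedTriangles : Set (Triangle (Dual.D R))), IsDistPair (G.map T.mor₂.op) (G.map T.mor₁.op))
    (base : ∀ n : ℤ, IsIso (η (op (DerivedCategory.Q.obj (unitShift R n))))) {K : Dual.D R}
    (hK : DRing.IsPerfect R K) : IsIso (η (op K)) :=
  devissage (fun K => IsIso (η (op K))) (fun e h => isIso_app_of_iso η nat e.op h)
    (fun T hT h₁ h₂ h₄ h₅ =>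
      isIso_five (pF _ (rot_of_distTriang _ (rot_of_distTriang _ hT))) (pF _ (rot_of_distTriang _ hT)) (pF _ hT)
        (pG _ (rot_of_distTriang _ (rot_of_distTriang _ hT))) (pG _ (rot_of_distTriang _ hT)) (pG _ hT)
        (η (op (T.obj₂⟦(1 : ℤ)⟧))) (η (op (T.obj₁⟦(1 : ℤ)⟧))) (η (op T.obj₃)) (η (op T.obj₂)) (η (op T.obj₁))
        (nat T.rotate.rotate.mor₂.op) (nat T.mor₃.op) (nat T.mor₂.op) (nat T.mor₁.op))
    (fun r h => isIso_app_of_retract η nat r.op h) base hK

/-- The case of an object with invertible tensor product. -/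
theorem isIso_bc_of_isEquivalence (K M : Dual.D R) [(DTen.tensorRightD R K).IsEquivalence]
    [(DTen.tensorRightD R' ((DTen.LBase φ).obj K)).IsEquivalence] : IsIso (bc φ K M) := by
  haveI := hasLTen₃ R
  haveI := hasLTen₃ R'
  haveI := DualLib.isSymMonoidal (A := R)
  haveI := DualLib.isSymMonoidal (A := R')
  haveI := isIso_ev K M
  haveI := isIso_ev ((DTen.LBase φ).obj K) ((DTen.LBase φ).obj M)
  haveI := isIso_splitMap φ ((DTen.RHomR R K).obj M) K
  haveI h₁ : IsIso ((DTen.tensorRightD R' ((DTen.LBase φ).obj K)).map (bc φ K M) ≫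
      DTen.ev ((DTen.LBase φ).obj K) ((DTen.LBase φ).obj M)) := IsIso.of_isIso_fac_left (bc_ev φ K M)
  haveI h₂ : IsIso ((DTen.tensorRightD R' ((DTen.LBase φ).obj K)).map (bc φ K M)) :=
    IsIso.of_isIso_comp_right _ (DTen.ev ((DTen.LBase φ).obj K) ((DTen.LBase φ).obj M))
  exact isIso_of_fully_faithful (DTen.tensorRightD R' ((DTen.LBase φ).obj K)) (bc φ K M)

/-- The case of shifted units. -/
theorem isIso_bc_unitShift (M : Dual.D R) (n : ℤ) : IsIso (bc φ (DerivedCategory.Q.obj (unitShift R n)) M) := by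
  haveI := hasLTen₃ R
  haveI := hasLTen₃ R'
  haveI := DualLib.isSymMonoidal (A := R)
  haveI := DualLib.isSymMonoidal (A := R')
  haveI := isEquivalence_unitShift (A := R) n
  haveI := isEquivalence_unitShift (A := R') n
  obtain ⟨e⟩ := nonempty_LBase_unitShift φ n
  haveI : (DTen.tensorRightD R' ((DTen.LBase φ).obj (DerivedCategory.Q.obj (unitShift R n)))).IsEquivalence :=
    Functor.isEquivalence_of_iso ((DTen.LTen R').flip.mapIso e).symm
  exact isIso_bc_of_isEquivalence φ _ M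

/-- The image of a triangle under `K ↦ L RHom(K, M)`. -/
theorem pair_source (M : Dual.D R) {T : Triangle (Dual.D R)} (hT : T ∈ distinguishedTriangles) :
    IsDistPair (((DTen.RHom R).flip.obj M ⋙ DTen.LBase φ).map T.mor₂.op)
      (((DTen.RHom R).flip.obj M ⋙ DTen.LBase φ).map T.mor₁.op) :=
  isDistPair_LBase φ (mapsTriOp_RHom M T hT)

omit [DTen.HasLBase φ] [DTen.HasLTen R] [DTen.HasLTen R'] [DTen.HasResTen φ] [DTen.ResLegIso φ] [DTen.HasRHom R]
  [DTen.HasRHom R'] in
/-- Composition of a triangle-preserving contravariant functor with a functor preserving a pair. -/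
theorem pair_op_comp {G : (Dual.D R')ᵒᵖ ⥤ Dual.D R'} (hG : MapsTriOp G) (L : Dual.D R ⥤ Dual.D R')
    {a b c : Dual.D R} {f : a ⟶ b} {g : b ⟶ c} (h : IsDistPair (L.map f) (L.map g)) :
    IsDistPair ((L.op ⋙ G).map g.op) ((L.op ⋙ G).map f.op) := by
  obtain ⟨δ, hδ⟩ := h
  exact hG (Triangle.mk (L.map f) (L.map g) δ) hδ

/-- Base change of the internal hom out of a perfect object. -/
theorem isIso_bc {K : Dual.D R} (M : Dual.D R) (hK : DRing.IsPerfect R K) : IsIso (bc φ K M) :=
  isIso_app_perfect ((DTen.RHom R).flip.obj M ⋙ DTen.LBase φ)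
    ((DTen.LBase φ).op ⋙ (DTen.RHom R').flip.obj ((DTen.LBase φ).obj M))
    (fun K => bc φ K.unop M) (fun {K K'} m => bc_natural φ M m.unop)
    (fun _ hT => pair_source φ M hT) (fun _ hT => pair_op_comp (mapsTriOp_RHom _) _ (isDistPair_LBase φ (isDistPair_of_mem hT))) (fun n => isIso_bc_unitShift φ M n) hK

/-- `DTen.bcRHom` out of a perfect object is invertible. -/
theorem isIso_bcRHom (K M : Dual.D R) [IsIso (DTen.rhomBC φ K ((DTen.LBase φ).obj M))]
    (hK : DRing.IsPerfect R K) : IsIso (DTen.bcRHom φ K M) :=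
  isIso_bc φ M hK

end Groth.Agent.DCat.DTenBC
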