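import Groth.Prelude.Def_CohDer
import Mathlib.CategoryTheory.Triangulated.Generators
import Mathlib.CategoryTheory.Limits.Preserves.Shapes.Products

/-! Compact objects and finite envelopes. -/

set_option autoImplicit false
set_option backward.isDefEq.respectTransparency false
set_option backward.defeqAttrib.useBackward true
set_option linter.style.haveILetI false

universe v u

open CategoryTheory CategoryTheory.Limits CategoryTheory.Pretriangulated

namespace Groth.Agent.DCat

variable {D : Type u} [Category.{v} D] [Preadditive D] [HasCoproducts.{v} D]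

open Classical in
/-- The idempotent onto a finite subsum. -/
noncomputable def finProj {κ : Type v} (X : κ → D) (s : Finset κ) : ∐ X ⟶ ∐ X :=
  Sigma.desc fun k => if k ∈ s then Sigma.ι X k else 0

open Classical in
lemma ι_finProj {κ : Type v} (X : κ → D) (s : Finset κ) (k : κ) :
    Sigma.ι X k ≫ finProj X s = if k ∈ s then Sigma.ι X k else 0 := Sigma.ι_desc _ _

open Classical in
/-- The projection to a summand. -/
noncomputable def coordProj {κ : Type v} (X : κ → D) (i : κ) : ∐ X ⟶ X i :=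
  Sigma.desc fun k => if h : k = i then eqToHom (congrArg X h) else 0

lemma ι_coordProj {κ : Type v} (X : κ → D) (i : κ) : Sigma.ι X i ≫ coordProj X i = 𝟙 _ := by
  simp [coordProj]

lemma finProj_eq_sum {κ : Type v} (X : κ → D) (s : Finset κ) :
    finProj X s = ∑ i ∈ s, coordProj X i ≫ Sigma.ι X i := by
  classical
  refine Sigma.hom_ext _ _ fun k => ?_
  rw [ι_finProj, Preadditive.comp_sum]
  by_cases hk : k ∈ s
  · rw [if_pos hk, Finset.sum_eq_single k]
    · rw [reassoc_of% ι_coordProj X k]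
    · intro i _ hi
      simp [coordProj, dif_neg (Ne.symm hi)]
    · exact fun h => absurd hk h
  · rw [if_neg hk, Finset.sum_eq_zero]
    intro i hi
    simp [coordProj, dif_neg (show ¬ k = i from fun h => hk (h ▸ hi))]

lemma finProj_comp {κ : Type v} (X : κ → D) {s t : Finset κ} (h : s ⊆ t) :
    finProj X s ≫ finProj X t = finProj X s := by
  classical
  refine Sigma.hom_ext _ _ fun k => ?_
  rw [← Category.assoc, ι_finProj]
  split_ifs with hk
  · rw [ι_finProj, if_pos (h hk)]
  · exact zero_comp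

/-- Every map into a sum lands in a finite subsum. -/
def FinFac (K : D) : Prop :=
  ∀ (κ : Type v) (X : κ → D) (α : K ⟶ ∐ X), ∃ s : Finset κ, α ≫ finProj X s = α

theorem isCompactObject_iff (K : D) : CohDer.IsCompactObject K ↔ FinFac K := by
  classical
  have happ : ∀ {κ : Type v} (X : κ → D) (i : κ) (f : K ⟶ X i),
      CohDer.homSumToHomCoprod K X (DirectSum.of _ i f) = f ≫ Sigma.ι X i := fun X i f => by
    simp only [CohDer.homSumToHomCoprod]
    erw [DirectSum.toAddMonoid_of]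
    rfl
  constructor
  · intro h κ X α
    obtain ⟨z, rfl⟩ := (h κ X).2 α
    refine ⟨z.support, ?_⟩
    have e : CohDer.homSumToHomCoprod K X z = ∑ i ∈ z.support, z i ≫ Sigma.ι X i := by
      conv_lhs => rw [← DirectSum.sum_support_of z, map_sum]
      exact Finset.sum_congr rfl fun i _ => happ X i _
    rw [e, Preadditive.sum_comp]
    refine Finset.sum_congr rfl fun i hi => ?_
    rw [Category.assoc, ι_finProj, if_pos hi]
  · intro h κ X
    refine ⟨?_, fun α => ?_⟩
    · rw [injective_iff_map_eq_zero]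
      intro z hz
      refine DFinsupp.ext fun i => ?_
      have e : CohDer.homSumToHomCoprod K X z ≫ coordProj X i = z i := by
        conv_lhs => rw [← DirectSum.sum_support_of z, map_sum, Preadditive.sum_comp]
        rw [Finset.sum_eq_single i]
        · rw [happ, Category.assoc, ι_coordProj, Category.comp_id]
        · intro j _ hj
          rw [happ]
          simp [coordProj, dif_neg hj]
        · intro hi
          rw [DFinsupp.notMem_support_iff.1 hi]
          simp
      rw [← e, hz, zero_comp]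
      rfl
    · obtain ⟨s, hs⟩ := h κ X α
      refine ⟨∑ i ∈ s, DirectSum.of (fun i => K ⟶ X i) i (α ≫ coordProj X i), ?_⟩
      rw [map_sum]
      conv_rhs => rw [← hs, finProj_eq_sum, Preadditive.comp_sum]
      exact Finset.sum_congr rfl fun i _ => (happ X i _).trans (Category.assoc _ _ _)

lemma FinFac.of_iso {K K' : D} (h : FinFac K) (e : K ≅ K') : FinFac K' := fun κ X α => by
  obtain ⟨s, hs⟩ := h κ X (e.hom ≫ α)
  exact ⟨s, by rwa [← cancel_epi e.hom, ← Category.assoc]⟩

variable [HasZeroObject D] [HasShift D ℤ] [∀ n : ℤ, (shiftFunctor D n).Additive]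

lemma FinFac.shift {K : D} (h : FinFac K) (m : ℤ) : FinFac (K⟦m⟧) := fun κ X α => by
  classical
  let F := shiftFunctor D m
  let X' : κ → D := fun k => (X k)⟦-m⟧
  let iX : ∀ k, F.obj (X' k) ≅ X k := fun k => (shiftFunctorCompIsoId D (-m) m (by omega)).app (X k)
  let Φ : F.obj (∐ X') ≅ ∐ X := PreservesCoproduct.iso F X' ≪≫ Limits.Sigma.mapIso iX
  have hι : ∀ k, F.map (Sigma.ι X' k) ≫ Φ.hom = (iX k).hom ≫ Sigma.ι X k := fun k => by
    simp only [Φ, Iso.trans_hom]
    rw [← Category.assoc, ← ι_comp_sigmaComparison F X' k, Category.assoc (Sigma.ι _ k),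
      ← PreservesCoproduct.inv_hom F X', Iso.inv_hom_id, Category.comp_id]
    exact Sigma.ι_map (fun n => (iX n).hom) k
  obtain ⟨α', hα'⟩ := F.map_surjective (α ≫ Φ.inv)
  obtain ⟨s, hs⟩ := h κ X' α'
  refine ⟨s, ?_⟩
  have hp : F.map (finProj X' s) ≫ Φ.hom = Φ.hom ≫ finProj X s := by
    rw [← cancel_epi (PreservesCoproduct.iso F X').inv]
    refine Sigma.hom_ext _ _ fun k => ?_
    rw [PreservesCoproduct.inv_hom, ι_comp_sigmaComparison_assoc, ι_comp_sigmaComparison_assoc,
      ← F.map_comp_assoc, reassoc_of% hι k, ι_finProj, ι_finProj]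
    split_ifs
    · exact hι k
    · rw [F.map_zero, zero_comp, comp_zero]
  rw [show α = F.map α' ≫ Φ.hom by rw [hα', Category.assoc, Φ.inv_hom_id, Category.comp_id],
    Category.assoc, ← hp, ← F.map_comp_assoc, hs]

variable [Pretriangulated D]

lemma FinFac.of_fibre {T : Triangle D} (hT : T ∈ distTriang D) (h₂ : FinFac T.obj₂) (h₃ : FinFac T.obj₃) :
    FinFac T.obj₁ := fun κ X α => by
  classical
  obtain ⟨s, hs⟩ := h₃.shift (-1) κ X (T.invRotate.mor₁ ≫ α)
  have h0 : T.invRotate.mor₁ ≫ (α - α ≫ finProj X s) = 0 := by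
    rw [Preadditive.comp_sub, ← Category.assoc, sub_eq_zero]
    exact hs.symm
  obtain ⟨β, hβ⟩ := Triangle.yoneda_exact₂ _ (inv_rot_of_distTriang _ hT) (α - α ≫ finProj X s) h0
  obtain ⟨t, ht⟩ := h₂ κ X β
  refine ⟨s ∪ t, ?_⟩
  have e : α = α ≫ finProj X s + T.mor₁ ≫ β :=
    (sub_eq_iff_eq_add'.1 hβ)
  conv_lhs => rw [e, ← ht]
  simp only [Preadditive.add_comp, Category.assoc]
  rw [finProj_comp X Finset.subset_union_left, finProj_comp X Finset.subset_union_right]
  conv_rhs => rw [e, ← ht]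

lemma FinFac.of_ext {T : Triangle D} (hT : T ∈ distTriang D) (h₁ : FinFac T.obj₁) (h₃ : FinFac T.obj₃) :
    FinFac T.obj₂ :=
  FinFac.of_fibre (rot_of_distTriang _ hT) h₃ (h₁.shift 1)

lemma finFac_of_isZero {K : D} (hK : IsZero K) : FinFac K := fun κ X _ => ⟨∅, hK.eq_of_src _ _⟩

/-- Compact objects form a triangulated subcategory. -/
theorem isTriangulated_compact : ObjectProperty.IsTriangulated (fun K : D => CohDer.IsCompactObject K) := by
  haveI : ObjectProperty.IsStableUnderShift (fun K : D => CohDer.IsCompactObject K) ℤ :=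
    ⟨fun n => ⟨fun K (hK : CohDer.IsCompactObject K) =>
      (isCompactObject_iff _).2 (((isCompactObject_iff _).1 hK).shift n)⟩⟩
  haveI : ObjectProperty.IsTriangulatedClosed₂ (fun K : D => CohDer.IsCompactObject K) :=
    ObjectProperty.IsTriangulatedClosed₂.mk fun T hT h₁ h₃ =>
      ObjectProperty.le_isoClosure _ _ ((isCompactObject_iff _).2
        (FinFac.of_ext hT ((isCompactObject_iff _).1 h₁) ((isCompactObject_iff _).1 h₃)))
  haveI : ObjectProperty.ContainsZero (fun K : D => CohDer.IsCompactObject K) :=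
    ⟨⟨_, isZero_zero D, (isCompactObject_iff _).2 (finFac_of_isZero (isZero_zero D))⟩⟩
  constructor

variable [IsTriangulated D] {ι : Type v} (E : ι → D)

/-- The envelope of a finite subfamily. -/
abbrev env (s : Finset ι) : ObjectProperty D := ObjectProperty.triangEnvelope (fun Y : D => ∃ i ∈ s, Y = E i)

omit [HasCoproducts.{v} D] in
lemma env_mono {s t : Finset ι} (h : s ⊆ t) : env E s ≤ env E t :=
  ObjectProperty.monotone_triangEnvelope fun _ ⟨i, hi, e⟩ => ⟨i, h hi, e⟩

/-- `φ` factors through a finite envelope. -/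
def EnvFac {C Z : D} (φ : C ⟶ Z) : Prop :=
  ∃ (s : Finset ι) (E' : D) (g : C ⟶ E') (h : E' ⟶ Z), s.Nonempty ∧ env E s E' ∧ FinFac E' ∧ g ≫ h = φ

variable {E}

omit [HasCoproducts.{v} D] in
lemma isTriangulated_env {s : Finset ι} (hs : s.Nonempty) : (env E s).IsTriangulated := by
  obtain ⟨i, hi⟩ := hs
  haveI : ObjectProperty.Nonempty (fun Y : D => ∃ i ∈ s, Y = E i) := ⟨⟨E i, i, hi, rfl⟩⟩
  infer_instance

lemma EnvFac.add {C Z : D} {φ φ' : C ⟶ Z} (h : EnvFac E φ) (h' : EnvFac E φ') : EnvFac E (φ + φ') := by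
  classical
  obtain ⟨s, E', g, q, hs, hE, hF, rfl⟩ := h
  obtain ⟨s', E'', g', q', hs', hE', hF', rfl⟩ := h'
  haveI := isTriangulated_env (E := E) (hs.mono (Finset.subset_union_left (s₂ := s')))
  refine ⟨s ∪ s', E' ⊞ E'', biprod.lift g g', biprod.desc q q', hs.mono Finset.subset_union_left, ?_,
    FinFac.of_ext (binaryBiproductTriangle_distinguished E' E'') hF hF', biprod.lift_desc⟩
  exact ObjectProperty.ext_of_isTriangulatedClosed₂ _ _ (binaryBiproductTriangle_distinguished E' E'')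
    (env_mono E Finset.subset_union_left _ hE) (env_mono E Finset.subset_union_right _ hE')

variable [Nonempty ι] (hc : ∀ i, CohDer.IsCompactObject (E i))
include hc

lemma envFac_zero {C Z : D} : EnvFac E (0 : C ⟶ Z) :=
  let i := Classical.arbitrary ι
  ⟨{i}, E i, 0, 0, Finset.singleton_nonempty i, ObjectProperty.le_triangEnvelope _ _ ⟨i, by simp, rfl⟩,
    (isCompactObject_iff _).1 (hc i), zero_comp⟩

lemma envFac_sum {C : D} (hC : FinFac C) {κ : Type v} (a : κ → ι) (m : κ → ℤ)
    (φ : C ⟶ ∐ fun k => (E (a k))⟦m k⟧) : EnvFac E φ := by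
  classical
  obtain ⟨t, ht⟩ := hC κ _ φ
  rw [← ht, finProj_eq_sum, Preadditive.comp_sum]
  refine Finset.sum_induction _ (EnvFac E) (fun _ _ h h' => h.add h') (envFac_zero hc) fun k _ => ?_
  haveI := isTriangulated_env (E := E) (Finset.singleton_nonempty (a k))
  exact ⟨{a k}, _, φ ≫ coordProj _ k, Sigma.ι (fun k => (E (a k))⟦m k⟧) k, Finset.singleton_nonempty _,
    (env E {a k}).le_shift (m k) _ (ObjectProperty.le_triangEnvelope _ _ ⟨a k, by simp, rfl⟩),
    ((isCompactObject_iff _).1 (hc _)).shift _, Category.assoc _ _ _⟩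

omit [Nonempty ι] hc in
lemma EnvFac.shift_target {W : D} (hW : ∀ C, FinFac C → ∀ φ : C ⟶ W, EnvFac E φ) (n : ℤ) (C : D) (hC : FinFac C)
    (φ : C ⟶ W⟦n⟧) : EnvFac E φ := by
  let i := (shiftFunctorCompIsoId D n (-n) (by omega)).app W
  obtain ⟨s, E', g, q, hs, hE, hF, hgq⟩ := hW _ (hC.shift (-n)) (φ⟦-n⟧' ≫ i.hom)
  haveI := isTriangulated_env (E := E) hs
  let jC := (shiftFunctorCompIsoId D (-n) n (by omega)).app C
  refine ⟨s, E'⟦n⟧, jC.inv ≫ g⟦n⟧', q⟦n⟧', hs, (env E s).le_shift n _ hE, hF.shift n, ?_⟩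
  rw [Category.assoc, ← Functor.map_comp, hgq, Functor.map_comp, Iso.inv_comp_eq]
  have := (shiftFunctorCompIsoId D (-n) n (by omega)).hom.naturality φ
  dsimp at this
  simp only [i, jC, Iso.app_hom]
  rw [shift_shiftFunctorCompIsoId_hom_app]
  exact this

omit [Nonempty ι] hc in
lemma EnvFac.of_triangle {T : Triangle D} (hT : T ∈ distTriang D)
    (h₁ : ∀ C, FinFac C → ∀ φ : C ⟶ T.obj₁, EnvFac E φ) (h₃ : ∀ C, FinFac C → ∀ φ : C ⟶ T.obj₃, EnvFac E φ)
    (C : D) (hC : FinFac C) (φ : C ⟶ T.obj₂) : EnvFac E φ := by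
  classical
  obtain ⟨s, W', c, d, hs, hW, hWF, hcd⟩ := h₃ C hC (φ ≫ T.mor₂)
  obtain ⟨C', u, w, hu⟩ := distinguished_cocone_triangle₁ c
  obtain ⟨g, hg⟩ := Triangle.coyoneda_exact₂ _ hT (u ≫ φ) (by
    rw [Category.assoc, ← hcd, ← Category.assoc,
      show u ≫ c = 0 from comp_distTriang_mor_zero₁₂ _ hu, zero_comp])
  obtain ⟨s', E', g₁, g₂, hs', hE', hEF, hgg⟩ := h₁ C' (FinFac.of_fibre hu hC hWF) g
  let v := biprod.lift g₁ u
  obtain ⟨E'', e, δ, hv⟩ := distinguished_cocone_triangle v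
  obtain ⟨ψ, hψ⟩ := Triangle.yoneda_exact₂ _ hv (biprod.desc (g₂ ≫ T.mor₁) (-φ)) (by
    simp [v, ← hg, reassoc_of% hgg])
  have h23 := rot_of_distTriang _ (binaryBiproductTriangle_distinguished E' C)
  let o := Triangulated.someOctahedron (show v ≫ biprod.snd = u from biprod.lift_snd _ _) hv h23 hu
  haveI := isTriangulated_env (E := E) (hs.mono (Finset.subset_union_left (s₂ := s')))
  refine ⟨s ∪ s', E'', -(biprod.inr ≫ e), ψ, hs.mono Finset.subset_union_left, ?_, ?_, ?_⟩
  · exact ObjectProperty.ext_of_isTriangulatedClosed₁ _ _ o.mem (env_mono E Finset.subset_union_left _ hW)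
      ((env E (s ∪ s')).le_shift 1 _ (env_mono E Finset.subset_union_right _ hE'))
  · exact FinFac.of_fibre o.mem hWF (hEF.shift 1)
  · dsimp at hψ
    rw [Preadditive.neg_comp, Category.assoc, ← hψ, biprod.inr_desc, neg_neg]

/-- Maps from compact objects into cellular objects factor through finite envelopes. -/
theorem envFac_tower (K : ℕ → D) (f : ∀ n, K n ⟶ K (n + 1))
    (h0 : ∃ (κ : Type v) (a : κ → ι) (m : κ → ℤ), Nonempty (K 0 ≅ ∐ (fun k => (E (a k))⟦m k⟧)))
    (hstep : ∀ n, ∃ (κ : Type v) (a : κ → ι) (m : κ → ℤ) (y : (∐ fun k => (E (a k))⟦m k⟧) ⟶ K n)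
      (z : K (n + 1) ⟶ (∐ fun k => (E (a k))⟦m k⟧)⟦(1 : ℤ)⟧), Triangle.mk y (f n) z ∈ distTriang D)
    (n : ℕ) : ∀ C, FinFac C → ∀ φ : C ⟶ K n, EnvFac E φ := by
  induction n with
  | zero =>
    intro C hC φ
    obtain ⟨κ, a, m, ⟨e⟩⟩ := h0
    obtain ⟨s, E', g, q, hs, hE, hF, hgq⟩ := envFac_sum hc hC a m (φ ≫ e.hom)
    exact ⟨s, E', g, q ≫ e.inv, hs, hE, hF, by simp [reassoc_of% hgq]⟩
  | succ n ih =>
    obtain ⟨κ, a, m, y, z, hT⟩ := hstep n
    exact EnvFac.of_triangle (rot_of_distTriang _ hT) ih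
      (EnvFac.shift_target (fun C hC φ => envFac_sum hc hC a m φ) 1)

end Groth.Agent.DCat
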