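import Groth.Agent.DCat.InjChain
import Mathlib.Algebra.Homology.Factorizations.CM5b
import Mathlib.Algebra.Homology.HomotopyCategory.HomComplex
import Mathlib.Algebra.Homology.HomotopyCategory.Pretriangulated
import Mathlib.Algebra.Homology.HomologicalComplexAbelian
import Mathlib.Algebra.Homology.HomologySequenceLemmas

/-!
Coresolutions of complexes by contractible complexes of injectives, and the comparison with the
termwise application of a right derived functor.
-/

set_option autoImplicit false
set_option backward.isDefEq.respectTransparency false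

universe v v' u u'

open CategoryTheory CategoryTheory.Limits HomologicalComplex
open scoped ZeroObject

namespace Groth.Agent.DCat.InjChain

variable {A : Type u} [Category.{v} A] [Abelian A]

open CochainComplex.HomComplex in
/-- Contractible complexes with injective terms are injective. -/
theorem injective_of_contractible (J : CochainComplex A ℤ) (hJ : ∀ n, Injective (J.X n))
    (h : Homotopy (𝟙 J) 0) : Injective J := by
  refine ⟨fun {X Y} f i _ => ?_⟩
  obtain ⟨z, hz⟩ := Cochain.equivHomotopy _ _ h
  rw [Cochain.ofHom_zero, add_zero] at hz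
  let c : Cochain X J (-1) := (Cochain.ofHom f).comp z (zero_add (-1))
  have hc : δ (-1) 0 c = Cochain.ofHom f := by
    rw [δ_ofHom_comp, ← hz, ← Cochain.ofHom_comp, Category.comp_id]
  let e : Cochain Y J (-1) := Cochain.mk fun p q hpq =>
    @Injective.factorThru A _ (J.X q) (X.X p) (Y.X p) (hJ q) (c.v p q hpq) (i.f p) inferInstance
  have he : (Cochain.ofHom i).comp e (zero_add (-1)) = c := by
    ext p q hpq
    rw [Cochain.zero_cochain_comp_v, Cochain.ofHom_v]
    exact @Injective.comp_factorThru A _ (J.X q) (X.X p) (Y.X p) (hJ q) (c.v p q hpq) (i.f p) inferInstance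
  refine ⟨Cocycle.homOf (Cocycle.mk (δ (-1) 0 e) 1 (zero_add 1) (δ_δ _ _ _ _)), ?_⟩
  apply (Cochain.ofHom_injective)
  rw [Cochain.ofHom_comp, Cocycle.cochain_ofHom_homOf_eq_coe]
  refine Eq.trans ?_ hc
  rw [← he, δ_ofHom_comp]
  rfl

theorem acyclic_third {S : ShortComplex (CochainComplex A ℤ)} (hS : S.ShortExact) (h₁ : S.X₁.Acyclic)
    (h₂ : S.X₂.Acyclic) : S.X₃.Acyclic := fun i => by
  rw [exactAt_iff_isZero_homology]
  exact (hS.homology_exact₃ i (i + 1) (by simp)).isZero_X₂
    (((exactAt_iff_isZero_homology _ _).1 (h₂ i)).eq_of_src _ _)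
    (((exactAt_iff_isZero_homology _ _).1 (h₁ (i + 1))).eq_of_tgt _ _)

theorem quasiIso_g_of_acyclic {S : ShortComplex (CochainComplex A ℤ)} (hS : S.ShortExact)
    (h : S.X₁.Acyclic) : QuasiIso S.g := by
  rw [quasiIso_iff]
  intro i
  rw [quasiIsoAt_iff_isIso_homologyMap]
  have : Mono (homologyMap S.g i) :=
    (hS.homology_exact₂ i).mono_g (((exactAt_iff_isZero_homology _ _).1 (h i)).eq_of_src _ _)
  have : Epi (homologyMap S.g i) :=
    (hS.homology_exact₃ i (i + 1) (by simp)).epi_f (((exactAt_iff_isZero_homology _ _).1 (h (i + 1))).eq_of_tgt _ _)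
  exact isIso_of_mono_of_epi _

variable [EnoughInjectives A]

/-- The contractible complex of injectives receiving a complex. -/
noncomputable def disc (K : CochainComplex A ℤ) : CochainComplex A ℤ :=
  CochainComplex.mappingCone (𝟙 (CochainComplex.cm5b.I K))

noncomputable def toDisc (K : CochainComplex A ℤ) : K ⟶ disc K :=
  CochainComplex.cm5b.i (0 : K ⟶ (0 : CochainComplex A ℤ)) ≫ biprod.fst

instance mono_toDisc (K : CochainComplex A ℤ) : Mono (toDisc K) := by
  refine HomologicalComplex.mono_of_mono_f _ fun n => ?_
  have e : (toDisc K).f n ≫ (CochainComplex.mappingCone.snd (𝟙 (CochainComplex.cm5b.I K))).v n n (add_zero n) =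
      Injective.ι (K.X n) := by
    rw [toDisc, HomologicalComplex.comp_f, Category.assoc]
    exact CochainComplex.cm5b.i_f_comp _ n
  exact mono_of_mono_fac e

theorem injective_disc_X (K : CochainComplex A ℤ) (n : ℤ) : Injective ((disc K).X n) :=
  inferInstanceAs (Injective ((CochainComplex.mappingCone (𝟙 (CochainComplex.cm5b.I K))).X n))

noncomputable def discHomotopy (K : CochainComplex A ℤ) : Homotopy (𝟙 (disc K)) 0 :=
  CochainComplex.mappingCone.homotopyToZeroOfId _

/-- The terms of the coresolution. -/
noncomputable def cxZ (Y : CochainComplex A ℤ) : ℕ → CochainComplex A ℤ :=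
  fun k => Nat.rec Y (fun _ K => cokernel (toDisc K)) k

/-- The coresolution of a complex. -/
noncomputable def cxChain (Y : CochainComplex A ℤ) : Chain (CochainComplex A ℤ) where
  Z := cxZ Y
  J k := disc (cxZ Y k)
  i k := toDisc _
  p k := cokernel.π (toDisc (cxZ Y k))
  w k := cokernel.condition _
  ses k := { exact := ShortComplex.exact_cokernel _ }
  inj k := injective_of_contractible _ (injective_disc_X _) (discHomotopy _)

theorem cxChain_zero (Y : CochainComplex A ℤ) : (cxChain Y).Z 0 = Y := rfl

/-- The coresolution in a fixed degree. -/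
noncomputable def evalChain (Y : CochainComplex A ℤ) (m : ℤ) : Chain A where
  Z k := ((cxChain Y).Z k).X m
  J k := ((cxChain Y).J k).X m
  i k := ((cxChain Y).i k).f m
  p k := ((cxChain Y).p k).f m
  w k := by rw [← comp_f, (cxChain Y).w k, zero_f]
  ses k := ((cxChain Y).ses k).map_of_exact (HomologicalComplex.eval A (ComplexShape.up ℤ) m)
  inj k := injective_disc_X (cxZ Y k) m

/-- The differential as a morphism of coresolutions. -/
noncomputable def dHom (Y : CochainComplex A ℤ) (m m' : ℤ) : Hom (evalChain Y m) (evalChain Y m') where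
  u k := ((cxChain Y).Z k).d m m'
  v k := ((cxChain Y).J k).d m m'
  comm_i k := ((cxChain Y).i k).comm m m'
  comm_p k := ((cxChain Y).p k).comm m m'

/-- A morphism of coresolutions in a fixed degree. -/
noncomputable def evalHom {Y Y' : CochainComplex A ℤ} (φ : Hom (cxChain Y) (cxChain Y')) (m : ℤ) :
    Hom (evalChain Y m) (evalChain Y' m) where
  u k := (φ.u k).f m
  v k := (φ.v k).f m
  comm_i k := by
    have := congrArg (fun t => Hom.f t m) (φ.comm_i k)
    simpa [evalChain] using this
  comm_p k := by
    have := congrArg (fun t => Hom.f t m) (φ.comm_p k)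
    simpa [evalChain] using this

variable {B : Type u'} [Category.{v'} B] [Abelian B] (F : A ⥤ B) [F.Additive] [PreservesFiniteLimits F]
  (k : ℕ) [(F.rightDerived (k + 1)).Additive]

set_option quotPrecheck false
local notation "FC" => F.mapHomologicalComplex (ComplexShape.up ℤ)
local notation "GC" => (F.rightDerived (k + 1)).mapHomologicalComplex (ComplexShape.up ℤ)

/-- The comparison map. -/
noncomputable def comparison (Y : CochainComplex A ℤ) :
    (FC).obj ((cxChain Y).Z (k + 1)) ⟶ (GC).obj Y where
  f m := cokernel.π (F.map ((evalChain Y m).p k)) ≫ toRightDerived F k (evalChain Y m) (Iso.refl (Y.X m))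
  comm' m m' hm := by
    have h := toRightDerived_natural F k (c := evalChain Y m) (d := evalChain Y m') (Iso.refl (Y.X m))
      (Iso.refl (Y.X m')) (dHom Y m m') (Y.d m m') ((Category.comp_id _).trans (Category.id_comp _).symm)
    refine ((Category.assoc _ _ _).trans ((congrArg (cokernel.π (F.map ((evalChain Y m).p k)) ≫ ·) h.symm).trans
      (π_valMap_assoc F (dHom Y m m') k _)))

theorem comparison_natural {Y Y' : CochainComplex A ℤ} (f : Y ⟶ Y') (φ : Hom (cxChain Y) (cxChain Y'))
    (h : φ.u 0 = f) :
    (FC).map (φ.u (k + 1)) ≫ comparison F k Y' = comparison F k Y ≫ (GC).map f := by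
  ext m
  have e := toRightDerived_natural F k (c := evalChain Y m) (d := evalChain Y' m) (Iso.refl (Y.X m))
    (Iso.refl (Y'.X m)) (evalHom φ m) (f.f m) (by
      subst h
      exact (Category.comp_id _).trans (Category.id_comp _).symm)
  exact ((Category.assoc _ _ _).trans ((congrArg (cokernel.π (F.map ((evalChain Y m).p k)) ≫ ·) e.symm).trans
      (π_valMap_assoc F (evalHom φ m) k _))).symm

instance epi_comparison_f (Y : CochainComplex A ℤ) (m : ℤ) : Epi ((comparison F k Y).f m) := by
  have : Epi (toRightDerived F k (evalChain Y m) (Iso.refl (Y.X m))) := inferInstance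
  exact epi_comp _ _

theorem acyclic_map_disc (K : CochainComplex A ℤ) : ((FC).obj (disc K)).Acyclic := fun j => by
  rw [exactAt_iff_isZero_homology, IsZero.iff_id_eq_zero]
  have := (F.mapHomotopy (discHomotopy K)).homologyMap_eq j
  simpa using this

/-- Exactness after `F` below the interesting degree. -/
theorem acyclic_map_Z (Y : CochainComplex A ℤ)
    (hY : ∀ (m : ℤ) (i : ℕ), i ≤ k → IsZero ((F.rightDerived i).obj (Y.X m))) (j : ℕ) (hj : j ≤ k) :
    ((FC).obj ((cxChain Y).Z j)).Acyclic := by
  induction j with
  | zero =>
    intro m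
    rw [exactAt_iff]
    refine ShortComplex.exact_of_isZero_X₂ _ ?_
    exact (hY m 0 (Nat.zero_le _)).of_iso ((asIso F.toRightDerivedZero).app _)
  | succ j ih =>
    let S := ShortComplex.mk ((FC).map ((cxChain Y).i j)) ((FC).map ((cxChain Y).p j))
      (by rw [← Functor.map_comp, (cxChain Y).w, Functor.map_zero])
    have hS : S.ShortExact := by
      refine HomologicalComplex.shortExact_of_degreewise_shortExact S fun m => ?_
      let T := ShortComplex.mk _ _ ((evalChain Y m).w j)
      have hT := (evalChain Y m).ses j
      have := hT.mono_f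
      have hex : (T.map F).Exact ∧ Mono (T.map F).f :=
        (ShortComplex.exact_and_mono_f_iff_f_is_kernel _).2 ⟨KernelFork.mapIsLimit _ hT.fIsKernel F⟩
      have he : Epi (T.map F).g := by
        have hz : IsZero (val F (evalChain Y m) j) :=
          (hY m (j + 1) hj).of_iso (asIso (toRightDerived F j (evalChain Y m) (Iso.refl (Y.X m))))
        exact Preadditive.epi_of_isZero_cokernel _ hz
      exact { exact := hex.1, mono_f := hex.2, epi_g := he }
    exact acyclic_third hS (ih (by omega)) (acyclic_map_disc F _)

/-- The comparison is a quasi-isomorphism for complexes killed by the lower derived functors. -/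
theorem quasiIso_comparison (Y : CochainComplex A ℤ)
    (hY : ∀ (m : ℤ) (i : ℕ), i ≤ k → IsZero ((F.rightDerived i).obj (Y.X m))) :
    QuasiIso (comparison F k Y) := by
  have : Epi (comparison F k Y) := HomologicalComplex.epi_of_epi_f _ fun m => inferInstance
  let c := comparison F k Y
  have w : (FC).map ((cxChain Y).p k) ≫ c = 0 := by
    ext m
    dsimp [c, comparison]
    exact (cokernel.condition_assoc _ _).trans zero_comp
  let q : (FC).obj ((cxChain Y).J k) ⟶ kernel c := kernel.lift _ _ w
  let S := ShortComplex.mk ((FC).map ((cxChain Y).i k)) q (by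
    rw [← cancel_mono (kernel.ι c), Category.assoc, kernel.lift_ι, ← Functor.map_comp, (cxChain Y).w,
      Functor.map_zero, zero_comp])
  have hS : S.ShortExact := by
    refine HomologicalComplex.shortExact_of_degreewise_shortExact S fun m => ?_
    let T := ShortComplex.mk _ _ ((evalChain Y m).w k)
    have hT := (evalChain Y m).ses k
    have := hT.mono_f
    have hex : (T.map F).Exact ∧ Mono (T.map F).f :=
      (ShortComplex.exact_and_mono_f_iff_f_is_kernel _).2 ⟨KernelFork.mapIsLimit _ hT.fIsKernel F⟩
    let E := HomologicalComplex.eval B (ComplexShape.up ℤ) m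
    have hqm : q.f m ≫ (kernel.ι c).f m = F.map ((evalChain Y m).p k) :=
      congrArg (fun t => Hom.f t m) (kernel.lift_ι c _ w)
    have hex' : ((ShortComplex.mk q (kernel.ι c ≫ c) (by rw [kernel.condition, comp_zero])).X₂.X m) =
        ((kernel c).X m) := rfl
    have he : Epi (q.f m) := by
      have hK : (ShortComplex.mk ((kernel.ι c).f m) (c.f m)
          (by rw [← comp_f, kernel.condition, zero_f])).Exact :=
        (ShortComplex.exact_kernel c).map E
      have hP : (ShortComplex.mk (F.map ((evalChain Y m).p k)) (c.f m)
          (congrArg (fun t => Hom.f t m) w)).Exact := by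
        refine (ShortComplex.exact_iff_of_epi_of_isIso_of_mono
          (S₁ := ShortComplex.mk (F.map ((evalChain Y m).p k)) (cokernel.π _) (cokernel.condition _))
          (S₂ := ShortComplex.mk (F.map ((evalChain Y m).p k)) (c.f m) _)
          { τ₁ := 𝟙 _, τ₂ := 𝟙 _, τ₃ := toRightDerived F k (evalChain Y m) (Iso.refl (Y.X m))
            comm₂₃ := (Category.id_comp _) }).1 (ShortComplex.exact_cokernel _)
      rw [Preadditive.epi_iff_cancel_zero]
      intro W t ht
      have hι : Mono ((kernel.ι c).f m) := inferInstanceAs (Mono (E.map (kernel.ι c)))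
      obtain ⟨T', π, hπ, x, hx⟩ := hP.exact_up_to_refinements ((kernel.ι c).f m)
        (by rw [← comp_f, kernel.condition, zero_f])
      have : π = x ≫ q.f m := by
        rw [← cancel_mono ((kernel.ι c).f m), Category.assoc, hqm]
        exact hx
      rw [← cancel_epi π, comp_zero, this, Category.assoc, ht, comp_zero]
    exact
      { exact := by
          refine (ShortComplex.exact_iff_of_epi_of_isIso_of_mono
            (S₁ := S.map E) (S₂ := T.map F)
            { τ₁ := 𝟙 _, τ₂ := 𝟙 _, τ₃ := (kernel.ι c).f m
              comm₁₂ := (Category.id_comp _).trans (Category.comp_id _).symm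
              comm₂₃ := ((Category.id_comp _).trans hqm.symm) }).2 hex.1
        mono_f := hex.2
        epi_g := he }
  have hker : (kernel c).Acyclic := acyclic_third hS (acyclic_map_Z F k Y hY k le_rfl) (acyclic_map_disc F _)
  exact quasiIso_g_of_acyclic (S := ShortComplex.mk (kernel.ι c) c (kernel.condition c))
    { exact := ShortComplex.exact_kernel c } hker

end Groth.Agent.DCat.InjChain
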