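import Groth.Agent.DCat.KInjRes
import Mathlib.CategoryTheory.Abelian.GrothendieckCategory.EnoughInjectives
import Mathlib.CategoryTheory.SmallObject.Basic

/-! Functorial K-injective resolutions in Grothendieck abelian categories. -/

set_option autoImplicit false
set_option backward.isDefEq.respectTransparency false
set_option backward.defeqAttrib.useBackward true
set_option linter.style.haveILetI false

universe v u

open CategoryTheory CategoryTheory.Limits HomologicalComplex MorphismProperty ZeroObject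

namespace Groth.Agent.DCat

variable {A : Type u} [Category.{v} A] [Abelian A] [IsGrothendieckAbelian.{v} A]

/-- Every complex maps by a degreewise mono quasi-isomorphism to a K-injective complex with injective
terms. -/
theorem kInj_of_factorizationData {M : CochainComplex A ℤ} (T : CochainComplex A ℤ)
    (hT : ∀ {X Y : CochainComplex A ℤ} (p : X ⟶ Y), (smallMonos T).rlp p →
      ∀ {U V : CochainComplex A ℤ} (i : U ⟶ V) [Mono i], (cokernel i).Acyclic → HasLiftingProperty i p)
    (F : MapFactorizationData (smallMonos T).rlp.llp (smallMonos T).rlp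
      (0 : M ⟶ (0 : CochainComplex A ℤ))) :
    F.Z.IsKInjective ∧ QuasiIso F.i ∧ (∀ n, Mono (F.i.f n)) ∧ ∀ n, Injective (F.Z.X n) := by
  let I := F.Z
  have hlift : ∀ (S : ShortComplex (CochainComplex A ℤ)), S.ShortExact → S.X₃.Acyclic →
      ∀ φ : S.X₁ ⟶ I, ∃ ψ : S.X₂ ⟶ I, S.f ≫ ψ = φ := by
    intro S hS hC φ
    have := hS.mono_f
    have hc : (cokernel S.f).Acyclic := acyclic_of_iso
      (hS.gIsCokernel.coconePointUniqueUpToIso (colimit.isColimit _)) hC
    have := hT F.p F.hp S.f hc
    have sq : CommSq φ S.f F.p (0 : S.X₂ ⟶ (0 : CochainComplex A ℤ)) :=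
      ⟨(isZero_zero _).eq_of_tgt _ _⟩
    exact ⟨sq.lift, sq.fac_left⟩
  haveI hK : I.IsKInjective := isKInjective_of_lifting I hlift
  have hInj : ∀ n, Injective (I.X n) := injective_of_lifting I hlift
  have hmono : ∀ n, Mono (F.i.f n) := by
    intro n
    let J := Injective.under (M.X n)
    let n' := n - 1
    have hn : n' + 1 = n := by omega
    clear_value n'
    subst hn
    let D := HomologicalComplex.double (𝟙 J) (rel_succ' n')
    have hD : (smallMonos T).rlp (0 : D ⟶ (0 : CochainComplex A ℤ)) := by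
      rintro _ _ _ ⟨s⟩
      refine ⟨fun {a b} _ => ?_⟩
      let a₁ := a.f (n' + 1) ≫ (doubleXIso₁ (𝟙 J) (rel_succ' n') (by omega)).hom
      obtain ⟨ψ, hψ⟩ := exists_toDisk J n' (Injective.factorThru a₁ (s.2.1.arrow.f (n' + 1)))
      refine ⟨⟨{ l := ψ, fac_left := ?_, fac_right := (isZero_zero _).eq_of_tgt _ _ }⟩⟩
      apply toDisk_ext
      rw [comp_f, Category.assoc, hψ, Injective.comp_factorThru]
    obtain ⟨g, hg⟩ := exists_toDisk J n' (Injective.ι (M.X (n' + 1)))
    haveI := F.hi (0 : D ⟶ (0 : CochainComplex A ℤ)) hD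
    have sq : CommSq g F.i (0 : D ⟶ (0 : CochainComplex A ℤ)) (0 : F.Z ⟶ (0 : CochainComplex A ℤ)) :=
      ⟨(isZero_zero _).eq_of_tgt _ _⟩
    have e : F.i.f (n' + 1) ≫ (sq.lift.f (n' + 1) ≫ (doubleXIso₁ (𝟙 J) (rel_succ' n') (by omega)).hom) =
        Injective.ι (M.X (n' + 1)) := by
      rw [← comp_f_assoc, sq.fac_left, hg]
    exact mono_of_mono_fac e
  haveI : Mono F.i := mono_of_mono_f _ hmono
  refine ⟨hK, ?_, hmono, hInj⟩
  let S := ShortComplex.mk F.i (cokernel.π F.i) (cokernel.condition _)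
  have hS : S.ShortExact := { exact := ShortComplex.exact_cokernel _ }
  have hC : S.X₃.Acyclic := by
    intro m
    refine exactAt_of_kernel_cokernel _ (n := m - 1) (l := m + 1) (by omega) rfl ?_
    let C := S.X₃
    refine injective_jointly_mono ?_
    intro J _ χ
    rw [Category.assoc]
    let u : C.X m ⟶ J := cokernel.π (C.d (m - 1) m) ≫ χ
    have hu : C.d (m - 1) m ≫ u = 0 := by simp [u]
    have hrel : ∀ i, (ComplexShape.up ℤ).Rel i m → S.X₂.d i m ≫ S.g.f m ≫ u = 0 := by
      intro i hi
      obtain rfl : i = m - 1 := by simp at hi; omega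
      rw [← Hom.comm_assoc, hu, comp_zero]
    haveI := F.hi _ (rlp_projection T J m)
    let b : S.X₂ ⟶ (single A (ComplexShape.up ℤ) m).obj J := mkHomToSingle (S.g.f m ≫ u) hrel
    have sq : CommSq (0 : M ⟶ _) F.i (projection J m) b := ⟨by
      rw [zero_comp]
      apply to_single_hom_ext
      rw [comp_f, zero_f, mkHomToSingle_f]
      change 0 = S.f.f m ≫ (S.g.f m ≫ u) ≫ _
      rw [Category.assoc, ← comp_f_assoc, S.zero, zero_f, zero_comp]⟩
    let ψ := sq.lift.f (m + 1) ≫ (doubleXIso₁ (𝟙 J) (rel_succ' m) (by omega)).hom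
    have hψ : S.f.f (m + 1) ≫ ψ = 0 := by
      change F.i.f (m + 1) ≫ _ = 0
      rw [← comp_f_assoc, sq.fac_left, zero_f, zero_comp]
    have hex : (S.map (HomologicalComplex.eval A (ComplexShape.up ℤ) (m + 1))).Exact := hS.exact.map _
    haveI : Epi (S.map (HomologicalComplex.eval A (ComplexShape.up ℤ) (m + 1))).g :=
      inferInstanceAs (Epi (S.g.f (m + 1)))
    have hkey : C.d m (m + 1) ≫ hex.desc ψ hψ = u := by
      rw [← cancel_epi (S.g.f m), Hom.comm_assoc]
      erw [hex.g_desc ψ hψ]
      exact d_comp_toDisk_projection J m sq.lift b sq.fac_right (S.g.f m ≫ u)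
        (mkHomToSingle_f (S.g.f m ≫ u) hrel)
    change kernel.ι (C.d m (m + 1)) ≫ cokernel.π (C.d (m - 1) m) ≫ χ = 0
    change kernel.ι (C.d m (m + 1)) ≫ u = 0
    rw [← hkey, kernel.condition_assoc, zero_comp]
  exact (hS.quasiIso_f_of_acyclic hC)


/-- Functorial K-injective resolutions: degreewise mono quasi-isomorphisms into K-injective complexes
with injective terms. -/
theorem exists_kInj_functor :
    ∃ (N : CochainComplex A ℤ ⥤ CochainComplex A ℤ) (j : 𝟭 _ ⟶ N),
      ∀ M, (N.obj M).IsKInjective ∧ QuasiIso (j.app M) ∧ (∀ n, Mono ((j.app M).f n)) ∧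
        ∀ n, Injective ((N.obj M).X n) := by
  obtain ⟨T, hT⟩ := exists_small_test (isSeparator_separator A)
    (isSeparator_separator (CochainComplex A ℤ))
  let D := MorphismProperty.functorialFactorizationData (smallMonos T).rlp.llp (smallMonos T).rlp
  let G : CochainComplex A ℤ ⥤ Arrow (CochainComplex A ℤ) :=
    { obj := fun M => Arrow.mk (0 : M ⟶ (0 : CochainComplex A ℤ))
      map := fun f => Arrow.homMk f (𝟙 _) ((isZero_zero _).eq_of_tgt _ _) }
  refine ⟨G ⋙ D.Z,
    { app := fun M => D.i.app (G.obj M)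
      naturality := fun M M' f => D.i.naturality (G.map f) }, fun M => ?_⟩
  exact kInj_of_factorizationData T (fun {X Y} p hp {U V} i _ hc => hT p hp i hc)
    (D.factorizationData (0 : M ⟶ (0 : CochainComplex A ℤ)))

end Groth.Agent.DCat
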