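import Groth.Agent.DCat.SmallGen
import Mathlib.Algebra.Homology.GrothendieckAbelian
import Mathlib.Algebra.Homology.HomologicalComplexAbelian
import Mathlib.Algebra.Homology.Double
import Mathlib.Algebra.Homology.HomologySequence
import Mathlib.Algebra.Homology.Refinements

/-! Small acyclic subcomplexes of acyclic complexes in a Grothendieck abelian category. -/

set_option autoImplicit false
set_option backward.isDefEq.respectTransparency false
set_option backward.defeqAttrib.useBackward true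

universe w v u

open CategoryTheory CategoryTheory.Limits HomologicalComplex

namespace Groth.Agent.DCat

variable {A : Type u} [Category.{v} A] [Abelian A] [IsGrothendieckAbelian.{v} A]

lemma exactAt_of_kernel_cokernel (K : CochainComplex A ℤ) {n m l : ℤ} (hnm : n + 1 = m)
    (hml : m + 1 = l) (h : kernel.ι (K.d m l) ≫ cokernel.π (K.d n m) = 0) : K.ExactAt m := by
  rw [K.exactAt_iff' n m l (by simp; omega) (by simp; omega),
    ShortComplex.exact_iff_kernel_ι_comp_cokernel_π_zero]
  exact h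

section Union

variable {Q : CochainComplex A ℤ} {J : Type v} [LinearOrder J] [Nonempty J]
  {E : J → Subobject Q} {U : Subobject Q}

/-- The cocone of a union. -/
noncomputable def unionCocone (hE : Monotone E) (hU : U = ⨆ j, E j) :
    Cocone (hE.functor ⋙ Subobject.representative (X := Q) ⋙ MonoOver.forget Q) where
  pt := Over.mk U.arrow
  ι :=
    { app := fun j => Over.homMk (Subobject.ofLE (E j) U (hU ▸ le_iSup E j))
        (Subobject.ofLE_arrow _)
      naturality := fun j j' g => by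
        ext1
        dsimp
        rw [Category.comp_id, ← cancel_mono U.arrow, Category.assoc, Subobject.ofLE_arrow]
        simp
        exact Over.w _ }

/-- A union is the colimit of its members. -/
noncomputable def unionColimit (hE : Monotone E) (hU : U = ⨆ j, E j) :
    IsColimit ((Over.forget Q).mapCocone (unionCocone hE hU)) :=
  haveI : Mono (unionCocone hE hU).pt.hom := inferInstanceAs (Mono U.arrow)
  IsGrothendieckAbelian.isColimitMapCoconeOfSubobjectMkEqISup
    (hE.functor ⋙ Subobject.representative (X := Q)) (unionCocone hE hU) (by simp [unionCocone, hU])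

/-- To vanish on (a test object over) a union it suffices to vanish on each member. -/
lemma eq_zero_of_union (hE : Monotone E) (hU : U = ⨆ j, E j) (n : ℤ) {X Y : A}
    (f : X ⟶ (U : CochainComplex A ℤ).X n) (h : X ⟶ Y)
    (hh : ∀ (j : J) ⦃T : A⦄ (x : T ⟶ X) (y : T ⟶ (E j : CochainComplex A ℤ).X n),
      y ≫ (Subobject.ofLE (E j) U (hU ▸ le_iSup E j)).f n = x ≫ f → x ≫ h = 0) : h = 0 := by
  haveI : IsConnected J := IsFiltered.isConnected J
  have hc' := isColimitOfPreserves (HomologicalComplex.eval A (ComplexShape.up ℤ) n)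
    (unionColimit hE hU)
  exact eq_zero_of_pullback hc' f h fun j => hh j _ _ pullback.condition

/-- A union whose transition maps kill homology is acyclic. -/
lemma acyclic_union (hE : Monotone E) (hU : U = ⨆ j, E j)
    (h : ∀ j, ∃ (j' : J) (hj : E j ≤ E j'), ∀ n m l : ℤ, n + 1 = m → m + 1 = l →
      kernel.ι ((E j : CochainComplex A ℤ).d m l) ≫ (Subobject.ofLE _ _ hj).f m ≫
        cokernel.π ((E j' : CochainComplex A ℤ).d n m) = 0) :
    (U : CochainComplex A ℤ).Acyclic := by
  intro m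
  refine exactAt_of_kernel_cokernel _ (n := m - 1) (l := m + 1) (by omega) rfl ?_
  refine eq_zero_of_union hE hU m (kernel.ι _) _ fun j T x y hy => ?_
  obtain ⟨j', hj, hjj⟩ := h j
  have hy' : y ≫ (E j : CochainComplex A ℤ).d m (m + 1) = 0 := by
    rw [← cancel_mono ((Subobject.ofLE (E j) U (hU ▸ le_iSup E j)).f (m + 1)), Category.assoc,
      ← Hom.comm, reassoc_of% hy, kernel.condition, comp_zero, zero_comp]
  have e : (Subobject.ofLE (E j) U (hU ▸ le_iSup E j)) =
      Subobject.ofLE _ _ hj ≫ Subobject.ofLE (E j') U (hU ▸ le_iSup E j') :=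
    (Subobject.ofLE_comp_ofLE _ _ _ _ _).symm
  rw [← reassoc_of% hy, e, comp_f, Category.assoc]
  let π' := cokernel.desc ((E j' : CochainComplex A ℤ).d (m - 1) m)
    ((Subobject.ofLE (E j') U (hU ▸ le_iSup E j')).f m ≫
      cokernel.π ((U : CochainComplex A ℤ).d (m - 1) m))
    (by rw [← Hom.comm_assoc, cokernel.condition, comp_zero])
  rw [← cokernel.π_desc ((E j' : CochainComplex A ℤ).d (m - 1) m)
    ((Subobject.ofLE (E j') U (hU ▸ le_iSup E j')).f m ≫
      cokernel.π ((U : CochainComplex A ℤ).d (m - 1) m))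
    (by rw [← Hom.comm_assoc, cokernel.condition, comp_zero]),
    ← kernel.lift_ι _ y hy', Category.assoc, reassoc_of% hjj (m - 1) m (m + 1) (by omega) rfl,
    zero_comp, comp_zero]

end Union

variable (G : A) (G' : CochainComplex A ℤ)

lemma rel_succ (n : ℤ) : (ComplexShape.up ℤ).Rel n (n + 1) := by simp

/-- The disk on `G` in degrees `n`, `n + 1`. -/
noncomputable abbrev disk (n : ℤ) : CochainComplex A ℤ :=
  HomologicalComplex.double (𝟙 G) (rel_succ n)

/-- Index type of the next step. -/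
noncomputable def NextIdx (K : Type v) : Type v :=
  K ⊕ Σ (n : ℤ), Shrink.{v} (Subobject ((∐ fun _ : K => G').X (n + 1))) × (G' ⟶ disk G n)

variable {G G'}
variable (hG : IsSeparator G) (hG' : IsSeparator G')

include hG hG'

/-- One step: enlarge a small subcomplex so that its cycles become boundaries. -/
lemma exists_step {Q : CochainComplex A ℤ} (hQ : Q.Acyclic) {K : Type v} (E : Subobject Q)
    (hE : Gen G' K (E : CochainComplex A ℤ)) :
    ∃ (E' : Subobject Q) (h : E ≤ E'), Gen G' (NextIdx G G' K) (E' : CochainComplex A ℤ) ∧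
      ∀ n m l : ℤ, n + 1 = m → m + 1 = l →
        kernel.ι ((E : CochainComplex A ℤ).d m l) ≫ (Subobject.ofLE _ _ h).f m ≫
          cokernel.π ((E' : CochainComplex A ℤ).d n m) = 0 := by
  obtain ⟨q, hq⟩ := hE.exists_epi
  obtain ⟨g, hg⟩ := hE
  have key : ∀ n : ℤ, ∃ (P : A) (p : P ⟶ kernel ((E : CochainComplex A ℤ).d (n + 1) (n + 1 + 1))) (_ : Epi p)
      (x : P ⟶ Q.X n), p ≫ kernel.ι _ ≫ E.arrow.f (n + 1) = x ≫ Q.d n (n + 1) := by
    intro n
    exact ((Q.exactAt_iff' n (n + 1) (n + 1 + 1) (by simp) (by simp)).1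
      (hQ (n + 1))).exact_up_to_refinements
      (kernel.ι ((E : CochainComplex A ℤ).d (n + 1) (n + 1 + 1)) ≫ E.arrow.f (n + 1))
      (by dsimp; rw [Category.assoc, Hom.comm, kernel.condition_assoc, zero_comp])
  choose P p hp x hx using key
  have key₂ : ∀ n : ℤ, ∃ s : Shrink.{v} (Subobject ((∐ fun _ : K => G').X (n + 1))) → (G ⟶ P n),
      ∀ ⦃Z : A⦄ (h : _ ⟶ Z), (∀ t, s t ≫ p n ≫ h = 0) → h = 0 := fun n =>
    exists_small_lift hG (p n) (kernel.ι _) (q.f (n + 1))
  choose s hs using key₂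
  let ψ : ∀ n : ℤ, Shrink.{v} (Subobject ((∐ fun _ : K => G').X (n + 1))) → (disk G n ⟶ Q) :=
    fun n t => mkHomFromDouble (rel_succ n) (by omega) (s n t ≫ x n)
      (s n t ≫ x n ≫ Q.d n (n + 1)) (by simp) (by simp)
  let Φ : NextIdx G G' K → (G' ⟶ Q) := fun i => match i with
    | .inl k => g k ≫ E.arrow
    | .inr ⟨n, t, e⟩ => e ≫ ψ n t
  obtain ⟨E', hE', ha, -⟩ := exists_gen_subobject G' Φ
  have hle : E ≤ E' := by
    have e : E.arrow ≫ cokernel.π E'.arrow = 0 := hg _ fun k => by
      obtain ⟨a, ha⟩ := ha (.inl k)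
      rw [reassoc_of% (show g k ≫ E.arrow = a ≫ E'.arrow from ha.symm), cokernel.condition, comp_zero]
    exact Subobject.le_of_comm (Abelian.monoLift E'.arrow E.arrow e) (Abelian.monoLift_comp _ _ _)
  refine ⟨E', hle, hE', ?_⟩
  intro n m l hnm hml
  subst hnm hml
  refine hs n _ fun t => ?_
  have e : ψ n t ≫ cokernel.π E'.arrow = 0 := eq_zero_of_separator hG' _ fun e => by
    obtain ⟨a, ha⟩ := ha (.inr ⟨n, t, e⟩)
    rw [reassoc_of% (show e ≫ ψ n t = a ≫ E'.arrow from ha.symm), cokernel.condition, comp_zero]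
  obtain ⟨a, ha'⟩ : ∃ a, a ≫ E'.arrow = ψ n t := ⟨_, Abelian.monoLift_comp _ _ e⟩
  have ha₀ : ((doubleXIso₀ (𝟙 G) (rel_succ n)).inv ≫ a.f n) ≫ E'.arrow.f n = s n t ≫ x n := by
    rw [Category.assoc, ← comp_f, ha']
    simp [ψ]
  have : s n t ≫ p n ≫ kernel.ι _ ≫ (Subobject.ofLE E E' hle).f (n + 1) =
      ((doubleXIso₀ (𝟙 G) (rel_succ n)).inv ≫ a.f n) ≫ (E' : CochainComplex A ℤ).d n (n + 1) := by
    rw [← cancel_mono (E'.arrow.f (n + 1))]
    simp only [Category.assoc, ← Hom.comm]
    rw [← comp_f, Subobject.ofLE_arrow, hx, ← Category.assoc, ← ha₀, Category.assoc, Category.assoc]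
  rw [reassoc_of% this, cokernel.condition, comp_zero, comp_zero]

/-- A nonzero acyclic complex contains a nonzero acyclic subcomplex of bounded size. -/
lemma exists_small_acyclic :
    ∃ K : Type v, ∀ (Q : CochainComplex A ℤ), Q.Acyclic → ¬ IsZero Q →
      ∃ E : Subobject Q, E.arrow ≠ 0 ∧ (E : CochainComplex A ℤ).Acyclic ∧
        Gen G' K (E : CochainComplex A ℤ) := by
  let I : ℕ → Type v := fun k => Nat.rec PUnit (fun _ T => NextIdx G G' T) k
  refine ⟨Σ k : ULift.{v} ℕ, I k.down, fun Q hQ hQ0 => ?_⟩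
  obtain ⟨φ, hφ⟩ : ∃ φ : G' ⟶ Q, φ ≠ 0 := by
    by_contra! h
    exact hQ0 ((IsZero.iff_id_eq_zero Q).2 (eq_zero_of_separator hG' _ fun f => by simp [h f]))
  obtain ⟨E₀, hE₀, ha, -⟩ := exists_gen_subobject G' (fun _ : PUnit.{v + 1} => φ)
  choose next hnext hgen hzero using fun (k : ℕ) (E : { E : Subobject Q // Gen G' (I k) (E : CochainComplex A ℤ) }) =>
    exists_step hG hG' hQ E.1 E.2
  let E : ∀ k, { E : Subobject Q // Gen G' (I k) (E : CochainComplex A ℤ) } := fun k =>
    Nat.rec ⟨E₀, hE₀⟩ (fun k E => ⟨next k E, hgen k E⟩) k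
  let E' : ULift.{v} ℕ → Subobject Q := fun k => (E k.down).1
  have hmono : Monotone E' := fun a b h =>
    monotone_nat_of_le_succ (f := fun k => (E k).1) (fun k => hnext k (E k)) h
  have hU : ∀ j, E' j ≤ ⨆ j, E' j := le_iSup E'
  choose g hg using fun k => (E k).2
  obtain ⟨U, hU₁, ha₁, hU₂⟩ := exists_gen_subobject G'
    (fun i : (Σ k : ULift.{v} ℕ, I k.down) => g i.1.down i.2 ≫ (E' i.1).arrow)
  have hUeq : U = ⨆ j, E' j := by
    refine le_antisymm (hU₂ _ fun i => ⟨g i.1.down i.2 ≫ Subobject.ofLE _ _ (hU i.1), ?_⟩)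
      (iSup_le fun j => ?_)
    · rw [Category.assoc, Subobject.ofLE_arrow]
    · have e : (E' j).arrow ≫ cokernel.π U.arrow = 0 := hg j.down _ fun k => by
        obtain ⟨a, ha⟩ := ha₁ ⟨j, k⟩
        rw [← reassoc_of% ha, cokernel.condition, comp_zero]
      exact Subobject.le_of_comm (Abelian.monoLift U.arrow _ e) (Abelian.monoLift_comp _ _ _)
  refine ⟨U, ?_, acyclic_union hmono hUeq fun j => ⟨⟨j.down + 1⟩, hnext _ (E j.down),
    hzero _ (E j.down)⟩, hU₁⟩
  intro h0
  obtain ⟨a, ha⟩ := ha PUnit.unit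
  apply hφ
  rw [← ha, ← Subobject.ofLE_arrow (hUeq ▸ le_iSup E' ⟨0⟩ : E₀ ≤ U), h0, comp_zero, comp_zero]

end Groth.Agent.DCat
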