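import Groth.Prelude.Def_DTen4
import Groth.Agent.DCat.DTenCore
import Groth.Agent.DCat.DerivedAdj

/-! Derived base change as a left adjoint. -/

set_option autoImplicit false
set_option backward.isDefEq.respectTransparency false
set_option backward.defeqAttrib.useBackward true
set_option linter.style.haveILetI false

universe u

open CategoryTheory CategoryTheory.Limits MonoidalCategory HomologicalComplex

attribute [local instance] HasDerivedCategory.standard

namespace Groth.Agent.DCat

variable {R A : Type u} [CommRing R] [CommRing A] (φ : R →+* A)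

/-- Adjunct maps along base change of a K-flat complex are bijective. -/
theorem bijective_baseγ [DTen.HasLBase φ] {K : DRing.Cx R} (hK : IsKFlatFor (modT R) K) (N : Dual.D A) :
    Function.Bijective fun f : DerivedCategory.Q.obj ((DTen.extCx φ).obj K) ⟶ N =>
      (DTen.baseγ φ).app K ≫ (DRing.restrictD φ).map f := by
  haveI := hasLBaseChange φ
  let W₁ := HomotopyCategory.quasiIso (ModuleCat.{u} R) (ComplexShape.up ℤ)
  let W₂ := HomotopyCategory.quasiIso (ModuleCat.{u} A) (ComplexShape.up ℤ)
  let adj := adjHot (ComplexShape.up ℤ) (ModuleCat.extendRestrictScalarsAdj.{u, u, u} φ)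
  let α := (DRing.baseChangeKh φ).totalLeftDerivedCounit DerivedCategory.Qh W₁
  let rs := ModuleCat.restrictScalars.{u} φ
  let β : rs.mapHomotopyCategory (ComplexShape.up ℤ) ⋙ DerivedCategory.Qh ⟶
      DerivedCategory.Qh ⋙ DRing.restrictD φ := rs.mapDerivedCategoryFactorsh.inv
  have hW₂ : ∀ X : HomotopyCategory (ModuleCat.{u} A) (ComplexShape.up ℤ),
      ∃ (X' : HomotopyCategory (ModuleCat.{u} A) (ComplexShape.up ℤ)) (s : X ⟶ X'),
        (⊤ : ObjectProperty (HomotopyCategory (ModuleCat.{u} A) (ComplexShape.up ℤ))) X' ∧ W₂ s :=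
    fun X => ⟨X, 𝟙 X, trivial, W₂.id_mem X⟩
  have hF : ∀ ⦃X Y : HomotopyCategory (ModuleCat.{u} A) (ComplexShape.up ℤ)⦄ (s : X ⟶ Y),
      (⊤ : ObjectProperty _) X → (⊤ : ObjectProperty _) Y → W₂ s →
        IsIso ((rs.mapHomotopyCategory (ComplexShape.up ℤ) ⋙ DerivedCategory.Qh).map s) := fun X Y s _ _ hs => by
    haveI := Localization.inverts DerivedCategory.Qh W₂ s hs
    exact (NatIso.isIso_map_iff rs.mapDerivedCategoryFactorsh s).1
      (inferInstanceAs (IsIso ((DRing.restrictD φ).map (DerivedCategory.Qh.map s))))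
  haveI : (DRing.restrictD φ).IsRightDerivedFunctor β W₂ :=
    isRightDerived_of_isIso hW₂ hF β fun _ _ => inferInstance
  have hG' : ∀ ⦃X Y : HomotopyCategory (ModuleCat.{u} R) (ComplexShape.up ℤ)⦄ (s : X ⟶ Y),
      kflatR R X → kflatR R Y → W₁ s → IsIso ((DRing.baseChangeKh φ ⋙ DRing.restrictD φ).map s) :=
    fun X Y s hX hY hs => by
      haveI := isIso_baseChangeKh_of_kflat φ s hX hY hs
      exact Functor.map_isIso _ ((DRing.baseChangeKh φ).map s)
  haveI : (DRing.LBaseChange φ ⋙ DRing.restrictD φ).IsLeftDerivedFunctor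
      ((Functor.associator _ _ _).inv ≫ Functor.whiskerRight α _) W₁ :=
    isLeftDerived_of_isIso exists_kflatR hG' _ fun X hX => by
      haveI := isIso_counit_of_mem exists_kflatR (isIso_baseChangeKh_of_kflat φ) α hX
      dsimp
      infer_instance
  have hF' : ∀ ⦃X Y : HomotopyCategory (ModuleCat.{u} A) (ComplexShape.up ℤ)⦄ (s : X ⟶ Y),
      (⊤ : ObjectProperty _) X → (⊤ : ObjectProperty _) Y → W₂ s →
        IsIso (((rs.mapHomotopyCategory (ComplexShape.up ℤ) ⋙ DerivedCategory.Qh) ⋙ DRing.LBaseChange φ).map s) :=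
    fun X Y s hX hY hs => by
      haveI := hF s hX hY hs
      exact Functor.map_isIso _ ((rs.mapHomotopyCategory (ComplexShape.up ℤ) ⋙ DerivedCategory.Qh).map s)
  haveI : (DRing.restrictD φ ⋙ DRing.LBaseChange φ).IsRightDerivedFunctor
      (Functor.whiskerRight β (DRing.LBaseChange φ) ≫ (Functor.associator _ _ _).hom) W₂ :=
    isRightDerived_of_isIso hW₂ hF' _ fun X _ => by
      dsimp
      infer_instance
  let D : DRing.LBaseChange φ ⊣ DRing.restrictD φ := adj.derived W₁ W₂ α β
  let qR := HomotopyCategory.quotient (ModuleCat.{u} R) (ComplexShape.up ℤ)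
  let eR := (DerivedCategory.quotientCompQhIso (ModuleCat.{u} R)).app K
  let eA := (DerivedCategory.quotientCompQhIso (ModuleCat.{u} A)).app ((DTen.extCx φ).obj K)
  haveI := isIso_counit_of_mem exists_kflatR (isIso_baseChangeKh_of_kflat φ) α (X := qR.obj K) hK
  have hη := adj.derivedη_fac_app W₁ (L₂ := DerivedCategory.Qh) α β (qR.obj K)
  have key : (D.unit.app (DerivedCategory.Qh.obj (qR.obj K)) ≫ (DRing.restrictD φ).map (α.app (qR.obj K))) ≫
      (DRing.restrictD φ).map eA.hom = eR.hom ≫ (DTen.baseγ φ).app K := by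
    refine (congrArg (· ≫ _) hη).trans ?_
    have hb : β.app (((ModuleCat.extendScalars φ).mapHomotopyCategory (ComplexShape.up ℤ)).obj (qR.obj K)) ≫
        (DRing.restrictD φ).map eA.hom =
        (DerivedCategory.quotientCompQhIso (ModuleCat.{u} R)).hom.app ((DTen.resCx φ).obj ((DTen.extCx φ).obj K)) ≫
          (DTen.resFactors φ).inv.app ((DTen.extCx φ).obj K) := by
      refine (cancel_epi (rs.mapDerivedCategoryFactorsh.hom.app
        ((HomotopyCategory.quotient _ (ComplexShape.up ℤ)).obj ((DTen.extCx φ).obj K)))).1 ?_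
      erw [← Category.assoc, Iso.hom_inv_id_app, rs.mapDerivedCategoryFactorsh_hom_app]
      refine (Category.id_comp _).trans ?_
      change (DRing.restrictD φ).map eA.hom = ((DRing.restrictD φ).map eA.hom ≫ rs.mapDerivedCategoryFactors.hom.app _ ≫
          (DerivedCategory.quotientCompQhIso (ModuleCat.{u} R)).inv.app ((DTen.resCx φ).obj ((DTen.extCx φ).obj K)) ≫
            DerivedCategory.Qh.map (𝟙 ((HomotopyCategory.quotient _ (ComplexShape.up ℤ)).obj
              ((DTen.resCx φ).obj ((DTen.extCx φ).obj K))))) ≫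
        (DerivedCategory.quotientCompQhIso (ModuleCat.{u} R)).hom.app ((DTen.resCx φ).obj ((DTen.extCx φ).obj K)) ≫
          rs.mapDerivedCategoryFactors.inv.app _
      rw [CategoryTheory.Functor.map_id]
      erw [Category.comp_id]
      simp only [Category.assoc]
      erw [show (DerivedCategory.quotientCompQhIso (ModuleCat.{u} R)).hom.app ((DTen.resCx φ).obj ((DTen.extCx φ).obj K)) = 𝟙 _ from rfl,
        Category.id_comp, Iso.hom_inv_id_app, Category.comp_id]
    rw [Category.assoc]
    refine (congrArg (DerivedCategory.Qh.map (adj.unit.app (qR.obj K)) ≫ ·) hb).trans ?_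
    refine (Category.assoc _ _ _).symm.trans ((congrArg (· ≫ _) ?_).trans (Category.assoc _ _ _))
    exact (DerivedCategory.quotientCompQhIso (ModuleCat.{u} R)).hom.naturality ((DTen.unitCx φ).app K)
  let e : (DerivedCategory.Q.obj ((DTen.extCx φ).obj K) ⟶ N) ≃
      (DerivedCategory.Q.obj K ⟶ (DRing.restrictD φ).obj N) :=
    (Iso.homCongr eA.symm (Iso.refl N)).trans ((Iso.homCongr (asIso (α.app (qR.obj K))).symm (Iso.refl N)).trans
      ((D.homEquiv _ N).trans (Iso.homCongr eR (Iso.refl _))))
  convert e.bijective using 1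
  funext f
  refine (cancel_epi eR.hom).1 ?_
  rw [← Category.assoc, ← key]
  simp [e]
  refine Eq.trans ?_ (D.homEquiv_unit _ N _).symm
  simp [Iso.homCongr]
  rfl

/-- Derived base change is computed termwise on K-flat complexes. -/
theorem isIso_baseCmp [DTen.HasLBase φ] {K : DRing.Cx R} (hK : IsKFlatFor (modT R) K) :
    IsIso ((DTen.baseCmp φ).app K) := by
  rw [isIso_iff_coyoneda_map_bijective]
  intro N
  refine Function.Bijective.of_comp_iff' (((DTen.baseAdj φ).homEquiv (DerivedCategory.Q.obj K) N).bijective) _ |>.1 ?_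
  convert bijective_baseγ φ hK N using 1
  funext f
  simp only [Function.comp_apply, Adjunction.homEquiv_unit, Functor.map_comp]
  rw [← Category.assoc, DTen.baseCmp_fac]

end Groth.Agent.DCat
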