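import Groth.Prelude.Def_DTen5
import Groth.Agent.DCat.DTenEval
import Groth.Agent.DCat.DTenBase
import Groth.Agent.DCat.ExtKFlat
import Mathlib.Algebra.Category.ModuleCat.Monoidal.Adjunction
import Groth.Agent.DualLib.Biduality

/-! Base change of the internal hom of `D(R)`. -/

set_option autoImplicit false
set_option backward.isDefEq.respectTransparency false
set_option backward.defeqAttrib.useBackward true
set_option linter.style.haveILetI false

universe u

open CategoryTheory CategoryTheory.Limits MonoidalCategory HomologicalComplex Opposite CategoryTheory.Pretriangulated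

attribute [local instance] HasDerivedCategory.standard

namespace Groth.Agent.DCat.DTenBC

variable {R R' : Type u} [CommRing R] [CommRing R'] (φ : R →+* R')

/-- Extension of scalars commutes with total tensor products. -/
noncomputable def extTensor (N L : DRing.Cx R) :
    (DTen.extCx φ).obj (N ⊗ L) ≅ (DTen.extCx φ).obj N ⊗ (DTen.extCx φ).obj L :=
  haveI : PreservesColimitsOfSize.{0, 0} (ModuleCat.extendScalars.{u, u, u} φ) :=
    (ModuleCat.extendRestrictScalarsAdj.{u, u, u} φ).leftAdjoint_preservesColimits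
  mapTotIso (modT R) (modT R') (ModuleCat.extendScalars.{u, u, u} φ) (ModuleCat.extendScalars.{u, u, u} φ)
    (ModuleCat.extendScalars.{u, u, u} φ)
    (fun a b => (Functor.Monoidal.μIso (ModuleCat.extendScalars.{u, u, u} φ) a b).symm)
    (fun f b => (Functor.OplaxMonoidal.δ_natural_left (F := ModuleCat.extendScalars.{u, u, u} φ) f b).symm)
    (fun a _ _ g => (Functor.OplaxMonoidal.δ_natural_right (F := ModuleCat.extendScalars.{u, u, u} φ) a g).symm) N L

lemma mod_key (M N : ModuleCat.{u} R) :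
    ((ModuleCat.extendRestrictScalarsAdj.{u, u, u} φ).unit.app M ⊗ₘ
        (ModuleCat.extendRestrictScalarsAdj.{u, u, u} φ).unit.app N) ≫
      DTen.resTen₀app φ ((ModuleCat.extendScalars.{u, u, u} φ).obj M) ((ModuleCat.extendScalars.{u, u, u} φ).obj N) =
      (ModuleCat.extendRestrictScalarsAdj.{u, u, u} φ).unit.app (M ⊗ N) ≫
        (ModuleCat.restrictScalars.{u} φ).map (Functor.Monoidal.μIso (ModuleCat.extendScalars.{u, u, u} φ) M N).inv := by
  rw [DTen.resTen₀app_eq_μ]
  exact ((ModuleCat.extendRestrictScalarsAdj.{u, u, u} φ).unit_app_tensor_comp_map_δ M N).symm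

lemma ι_extTensor (P K : DRing.Cx R) (p q n : ℤ) (h : p + q = n) :
    (ModuleCat.extendScalars.{u, u, u} φ).map
        (HomologicalComplex.ιTensorObj P K p q n h) ≫ (extTensor φ P K).hom.f n =
      (Functor.Monoidal.μIso (ModuleCat.extendScalars.{u, u, u} φ) (P.X p) (K.X q)).inv ≫
        HomologicalComplex.ιTensorObj ((DTen.extCx φ).obj P) ((DTen.extCx φ).obj K) p q n h := by
  haveI : PreservesColimitsOfSize.{0, 0} (ModuleCat.extendScalars.{u, u, u} φ) :=
    (ModuleCat.extendRestrictScalarsAdj.{u, u, u} φ).leftAdjoint_preservesColimits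
  exact ι_mapTotHom (modT R) (modT R') (ModuleCat.extendScalars.{u, u, u} φ) (ModuleCat.extendScalars.{u, u, u} φ)
    (ModuleCat.extendScalars.{u, u, u} φ)
    (fun a b => (Functor.Monoidal.μIso (ModuleCat.extendScalars.{u, u, u} φ) a b).symm) P K p q n h

lemma cx_key (P K : DRing.Cx R) :
    (DTen.tensorT R).map (Prod.mkHom ((DTen.unitCx φ).app P) ((DTen.unitCx φ).app K)) ≫
        DTen.resTenCx φ ((DTen.extCx φ).obj P) ((DTen.extCx φ).obj K) =
      (DTen.unitCx φ).app (P ⊗ K) ≫ (DTen.resCx φ).map (extTensor φ P K).hom := by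
  dsimp
  rw [← MonoidalCategory.tensorHom_def]
  change HomologicalComplex.mapBifunctorMap ((DTen.unitCx φ).app P) ((DTen.unitCx φ).app K) _ _ ≫ _ = _
  refine HomologicalComplex.hom_ext _ _ (fun n => HomologicalComplex.mapBifunctor.hom_ext (fun p q h => ?_))
  haveI : PreservesColimitsOfSize.{0, 0} (ModuleCat.extendScalars.{u, u, u} φ) :=
    (ModuleCat.extendRestrictScalarsAdj.{u, u, u} φ).leftAdjoint_preservesColimits
  rw [HomologicalComplex.comp_f, HomologicalComplex.comp_f]
  refine (HomologicalComplex.ι_mapBifunctorMap_assoc _ _ (curriedTensor (ModuleCat.{u} R)) (ComplexShape.up ℤ) p q n h _).trans ?_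
  have h₂ := DTen.ι_resTenCx φ ((DTen.extCx φ).obj P) ((DTen.extCx φ).obj K) p q n h
  refine (congrArg (fun z => ((curriedTensor (ModuleCat.{u} R)).map (((DTen.unitCx φ).app P).f p)).app (K.X q) ≫
    ((curriedTensor (ModuleCat.{u} R)).obj _).map (((DTen.unitCx φ).app K).f q) ≫ z) h₂).trans ?_
  refine Eq.trans ?_ (Category.assoc _ _ _)
  refine Eq.trans ?_ (congrArg (· ≫ _) ((ModuleCat.extendRestrictScalarsAdj.{u, u, u} φ).unit.naturality
    (HomologicalComplex.ιMapBifunctor P K (curriedTensor (ModuleCat.{u} R)) (ComplexShape.up ℤ) p q n h)).symm)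
  have h₄ : (ModuleCat.restrictScalars.{u} φ).map ((ModuleCat.extendScalars.{u, u, u} φ).map
        (HomologicalComplex.ιMapBifunctor P K (curriedTensor (ModuleCat.{u} R)) (ComplexShape.up ℤ) p q n h)) ≫
      ((DTen.resCx φ).map (extTensor φ P K).hom).f n =
      (ModuleCat.restrictScalars.{u} φ).map (Functor.Monoidal.μIso (ModuleCat.extendScalars.{u, u, u} φ)
        (P.X p) (K.X q)).inv ≫
      (ModuleCat.restrictScalars.{u} φ).map
        (HomologicalComplex.ιTensorObj ((DTen.extCx φ).obj P) ((DTen.extCx φ).obj K) p q n h) :=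
    ((ModuleCat.restrictScalars.{u} φ).map_comp _ _).symm.trans
      ((congrArg (ModuleCat.restrictScalars.{u} φ).map (ι_extTensor φ P K p q n h)).trans
        ((ModuleCat.restrictScalars.{u} φ).map_comp _ _))
  refine Eq.trans ?_ (Category.assoc _ _ _).symm
  refine Eq.trans ?_ (congrArg (_ ≫ ·) h₄).symm
  refine Eq.trans ?_ ((congrArg (· ≫ _) (mod_key φ (P.X p) (K.X q))).trans (Category.assoc _ _ _))
  rw [MonoidalCategory.tensorHom_def]
  simp only [Category.assoc]
  rfl

variable [DTen.HasLTen R] [DTen.HasLTen R'] [DTen.HasLBase φ] [DTen.HasResTen φ] [DTen.ResLegIso φ]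

/-- The lax comparison `X ⊗ K ⟶ res (LX ⊗ LK)`. -/
noncomputable def laxMap (X K : Dual.D R) :
    (DTen.LTen₂ R).obj (X, K) ⟶
      (DRing.restrictD φ).obj ((DTen.LTen₂ R').obj ((DTen.LBase φ).obj X, (DTen.LBase φ).obj K)) :=
  (DTen.LTen₂ R).map (Prod.mkHom ((DTen.baseAdj φ).unit.app X) ((DTen.baseAdj φ).unit.app K)) ≫
    (DTen.resPF φ).app ((DTen.LBase φ).obj X, (DTen.LBase φ).obj K)

lemma laxMap_natural {X X' K K' : Dual.D R} (f : X ⟶ X') (g : K ⟶ K') :
    (DTen.LTen₂ R).map (Prod.mkHom f g) ≫ laxMap φ X' K' =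
      laxMap φ X K ≫ (DRing.restrictD φ).map
        ((DTen.LTen₂ R').map (Prod.mkHom ((DTen.LBase φ).map f) ((DTen.LBase φ).map g))) := by
  have h := (DTen.resPF φ).naturality
    ((Prod.mkHom ((DTen.LBase φ).map f) ((DTen.LBase φ).map g)) :
      ((DTen.LBase φ).obj X, (DTen.LBase φ).obj K) ⟶ ((DTen.LBase φ).obj X', (DTen.LBase φ).obj K'))
  have hf := (DTen.baseAdj φ).unit.naturality f
  have hg := (DTen.baseAdj φ).unit.naturality g
  dsimp only [Functor.id_map, Functor.comp_map, Functor.prod] at h hf hg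
  rw [laxMap, laxMap, Category.assoc]
  refine Eq.trans ?_ (congrArg (_ ≫ ·) h)
  rw [← Functor.map_comp_assoc]
  erw [← Functor.map_comp_assoc]
  congr 2
  exact Prod.ext hf hg

/-- `L(X ⊗ K) ⟶ LX ⊗ LK`. -/
noncomputable def splitMap (X K : Dual.D R) :
    (DTen.LBase φ).obj ((DTen.LTen₂ R).obj (X, K)) ⟶
      (DTen.LTen₂ R').obj ((DTen.LBase φ).obj X, (DTen.LBase φ).obj K) :=
  ((DTen.baseAdj φ).homEquiv _ _).symm (laxMap φ X K)

lemma splitMap_natural {X X' K K' : Dual.D R} (f : X ⟶ X') (g : K ⟶ K') :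
    (DTen.LBase φ).map ((DTen.LTen₂ R).map (Prod.mkHom f g)) ≫ splitMap φ X' K' =
      splitMap φ X K ≫ (DTen.LTen₂ R').map (Prod.mkHom ((DTen.LBase φ).map f) ((DTen.LBase φ).map g)) := by
  rw [splitMap, splitMap, ← Adjunction.homEquiv_naturality_left_symm, ← Adjunction.homEquiv_naturality_right_symm,
    laxMap_natural]

/-- The transpose of `splitMap`. -/
lemma homEquiv_splitMap (X K : Dual.D R) :
    (DTen.baseAdj φ).homEquiv _ _ (splitMap φ X K) = laxMap φ X K :=
  Equiv.apply_symm_apply _ _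

lemma splitMap_fac (P K : DRing.Cx R) :
    splitMap φ (DerivedCategory.Q.obj P) (DerivedCategory.Q.obj K) ≫
        (DTen.LTen₂ R').map (Prod.mkHom ((DTen.baseCmp φ).app P) ((DTen.baseCmp φ).app K)) ≫
          (DTen.ε R').app ((DTen.extCx φ).obj P, (DTen.extCx φ).obj K) =
      (DTen.LBase φ).map ((DTen.ε R).app (P, K)) ≫ (DTen.baseCmp φ).app (P ⊗ K) ≫
        DerivedCategory.Q.map (extTensor φ P K).hom := by
  apply ((DTen.baseAdj φ).homEquiv _ _).injective
  rw [Adjunction.homEquiv_naturality_right, homEquiv_splitMap, Adjunction.homEquiv_naturality_left,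
    Adjunction.homEquiv_unit, Functor.map_comp, Functor.map_comp, ← Category.assoc ((DTen.baseAdj φ).unit.app _)]
  erw [DTen.baseCmp_fac]
  refine (cancel_mono ((DTen.resFactors φ).hom.app ((DTen.tensorT R').obj
    ((DTen.extCx φ).obj P, (DTen.extCx φ).obj K)))).1 ?_
  have hR := (DTen.resFactors φ).hom.naturality (extTensor φ P K).hom
  have hn := (DTen.resPF φ).naturality
    ((Prod.mkHom ((DTen.baseCmp φ).app P) ((DTen.baseCmp φ).app K)) :
      ((DTen.LBase φ).obj (DerivedCategory.Q.obj P), (DTen.LBase φ).obj (DerivedCategory.Q.obj K)) ⟶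
        (DerivedCategory.Q.obj ((DTen.extCx φ).obj P), DerivedCategory.Q.obj ((DTen.extCx φ).obj K)))
  have hA : (DTen.resPF φ).app ((DTen.QQ R').obj ((DTen.extCx φ).obj P, (DTen.extCx φ).obj K)) ≫
      (DRing.restrictD φ).map ((DTen.ε R').app ((DTen.extCx φ).obj P, (DTen.extCx φ).obj K)) ≫
        (DTen.resFactors φ).hom.app ((DTen.tensorT R').obj ((DTen.extCx φ).obj P, (DTen.extCx φ).obj K)) =
      (DTen.resβA φ).app ((DTen.extCx φ).obj P, (DTen.extCx φ).obj K) :=
    DTen.resPF_fac φ ((DTen.extCx φ).obj P, (DTen.extCx φ).obj K)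
  have hε := (DTen.ε R).naturality ((Prod.mkHom ((DTen.unitCx φ).app P) ((DTen.unitCx φ).app K)) :
    (P, K) ⟶ ((DTen.resCx φ).obj ((DTen.extCx φ).obj P), (DTen.resCx φ).obj ((DTen.extCx φ).obj K)))
  dsimp only [Functor.id_map, Functor.comp_map, Functor.comp_obj, Functor.id_obj] at hR hn hA hε
  rw [laxMap]
  simp only [Category.assoc]
  erw [← reassoc_of% hn, hA]
  simp only [DTen.resβA]
  rw [DTen.baseγ]
  dsimp only
  simp only [Category.assoc]
  erw [hR, Iso.inv_hom_id_app_assoc, ← Functor.map_comp, ← cx_key]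
  simp only [Functor.map_comp]
  erw [← reassoc_of% hε]
  rw [← Functor.map_comp_assoc]
  erw [← Functor.map_comp_assoc]
  congr 2
  refine Prod.ext ?_ ?_ <;> dsimp <;> erw [DTen.baseCmp_fac] <;>
    simp [DTen.baseγ]

/-- Derived base change is monoidal. -/
theorem isIso_splitMap (X K : Dual.D R) : IsIso (splitMap φ X K) := by
  obtain ⟨P, hP, ⟨eP⟩⟩ := exists_kflat_obj X
  obtain ⟨L, hL, ⟨eL⟩⟩ := exists_kflat_obj K
  haveI := isIso_baseCmp φ hP
  haveI := isIso_baseCmp φ hL
  haveI := isIso_baseCmp φ (isKFlatFor_tensor hP hL)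
  haveI := isIso_ε_of_left (L := L) hP
  haveI := isIso_ε_of_left (L := (DTen.extCx φ).obj L) (isKFlatFor_ext φ hP)
  haveI : IsIso ((DTen.LTen₂ R').map (Prod.mkHom ((DTen.baseCmp φ).app P) ((DTen.baseCmp φ).app L))) :=
    isIso_LTen_map _ _
  haveI h₀ : IsIso (splitMap φ (DerivedCategory.Q.obj P) (DerivedCategory.Q.obj L)) :=
    IsIso.of_isIso_fac_right (splitMap_fac φ P L)
  haveI : IsIso ((DTen.LTen₂ R).map (Prod.mkHom eP.hom eL.hom)) := isIso_LTen_map _ _
  haveI : IsIso ((DTen.LTen₂ R').map (Prod.mkHom ((DTen.LBase φ).map eP.hom) ((DTen.LBase φ).map eL.hom))) :=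
    isIso_LTen_map _ _
  exact IsIso.of_isIso_fac_left (splitMap_natural φ eP.hom eL.hom)

variable [DTen.HasRHom R] [DTen.HasRHom R']

/-- Adjunct of `g` along `rhomBC`. -/
lemma core_eq (K : Dual.D R) (M : Dual.D R') {X : Dual.D R}
    (h : (DTen.LBase φ).obj X ⟶ (DTen.RHomR R' ((DTen.LBase φ).obj K)).obj M) :
    (DTen.tensorRightD R K).map ((DTen.baseAdj φ).unit.app X ≫ (DRing.restrictD φ).map h) ≫ DTen.rhomBCCore φ K M =
      laxMap φ X K ≫ (DRing.restrictD φ).map
        ((DTen.tensorRightD R' ((DTen.LBase φ).obj K)).map h ≫ DTen.ev ((DTen.LBase φ).obj K) M) := by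
  have hn := (DTen.resPF φ).naturality ((Prod.mkHom h (𝟙 ((DTen.LBase φ).obj K))) :
    ((DTen.LBase φ).obj X, (DTen.LBase φ).obj K) ⟶
      ((DTen.RHomR R' ((DTen.LBase φ).obj K)).obj M, (DTen.LBase φ).obj K))
  dsimp only [Functor.comp_map, Functor.prod] at hn
  rw [DTen.rhomBCCore, laxMap, Functor.map_comp, Functor.map_comp, Category.assoc, Category.assoc]
  erw [← reassoc_of% hn]
  simp only [← Category.assoc]
  congr 2
  refine Eq.trans (Category.assoc _ _ _) ?_
  refine Eq.trans (congrArg (_ ≫ ·) ((DTen.LTen₂ R).map_comp (Prod.mkHom ((DRing.restrictD φ).map h) (𝟙 K))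
    (Prod.mkHom (𝟙 _) ((DTen.baseAdj φ).unit.app K))).symm) ?_
  refine Eq.trans ((DTen.LTen₂ R).map_comp (Prod.mkHom ((DTen.baseAdj φ).unit.app X) (𝟙 K)) _).symm ?_
  refine Eq.trans ?_ ((DTen.LTen₂ R).map_comp _ _)
  congr 1
  exact Prod.ext (by simp) (by simp)

/-- The comparison map of internal homs is invertible. -/
theorem isIso_rhomBC (K : Dual.D R) (M : Dual.D R') : IsIso (DTen.rhomBC φ K M) := by
  rw [isIso_iff_yoneda_map_bijective]
  intro X
  haveI := isIso_splitMap φ X K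
  let e₁ := (DTen.baseAdj φ).homEquiv X ((DTen.RHomR R' ((DTen.LBase φ).obj K)).obj M)
  let e₂ := (DTen.rhomAdj R K).homEquiv X ((DRing.restrictD φ).obj M)
  let e₃ := (DTen.rhomAdj R' ((DTen.LBase φ).obj K)).homEquiv ((DTen.LBase φ).obj X) M
  let e₄ := (DTen.baseAdj φ).homEquiv ((DTen.LTen₂ R).obj (X, K)) M
  have key : ∀ h, e₂.symm (e₁ h ≫ DTen.rhomBC φ K M) = e₄ (splitMap φ X K ≫ e₃.symm h) := by
    intro h
    simp only [e₁, e₂, e₃, e₄]
    erw [Adjunction.homEquiv_naturality_right, homEquiv_splitMap, Adjunction.homEquiv_counit,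
      Adjunction.homEquiv_counit, Adjunction.homEquiv_unit]
    rw [Functor.map_comp, Category.assoc]
    erw [DTen.rhomBC_fac, core_eq]
  refine (Function.Bijective.of_comp_iff (f := fun x => x ≫ DTen.rhomBC φ K M) e₁.bijective).1 ?_
  refine (Function.Bijective.of_comp_iff' e₂.symm.bijective _).1 ?_
  have : Function.Bijective fun z : (DTen.LTen₂ R').obj ((DTen.LBase φ).obj X, (DTen.LBase φ).obj K) ⟶ M =>
      splitMap φ X K ≫ z :=
    ⟨fun _ _ hz => (cancel_epi (splitMap φ X K)).1 hz, fun z => ⟨inv (splitMap φ X K) ≫ z, by simp⟩⟩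
  convert e₄.bijective.comp (this.comp e₃.symm.bijective) using 1
  funext h
  exact key h

/-- `bcRHom` is adjunct to the base change of evaluation. -/
lemma bcRHom_ev (K M : Dual.D R) [IsIso (DTen.rhomBC φ K ((DTen.LBase φ).obj M))] :
    splitMap φ ((DTen.RHomR R K).obj M) K ≫
        (DTen.tensorRightD R' ((DTen.LBase φ).obj K)).map (DTen.bcRHom φ K M) ≫
          DTen.ev ((DTen.LBase φ).obj K) ((DTen.LBase φ).obj M) =
      (DTen.LBase φ).map (DTen.ev K M) := by
  apply ((DTen.baseAdj φ).homEquiv _ _).injective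
  rw [Adjunction.homEquiv_naturality_right, homEquiv_splitMap]
  erw [← core_eq φ K ((DTen.LBase φ).obj M) (DTen.bcRHom φ K M)]
  rw [DTen.bcRHom_fac, Adjunction.homEquiv_unit]
  rw [← DTen.rhomBC_fac φ K ((DTen.LBase φ).obj M), ← Functor.map_comp_assoc, Category.assoc, IsIso.inv_hom_id,
    Category.comp_id]
  exact ((DTen.rhomAdj R K).counit.naturality ((DTen.baseAdj φ).unit.app M)).trans
    ((DTen.baseAdj φ).unit.naturality (DTen.ev K M))

end Groth.Agent.DCat.DTenBC
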