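import Groth.Prelude.Def_DTen6
import Groth.Agent.DCat.LTensorModule
import Groth.Agent.DCat.ExtKFlat
import Groth.Agent.DCat.DTenTriple
import Groth.Agent.DCat.DTenBC
import Mathlib.RingTheory.LocalProperties.Submodule
import Mathlib.RingTheory.Localization.BaseChange
import Mathlib.Algebra.Category.ModuleCat.Descent

/-! Tor amplitude of a restricted complex is local on the maximal ideals of the larger ring. -/

set_option autoImplicit false
set_option backward.isDefEq.respectTransparency false
set_option backward.defeqAttrib.useBackward true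
set_option linter.style.haveILetI false

universe u

open CategoryTheory CategoryTheory.Limits MonoidalCategory HomologicalComplex
open scoped TensorProduct

attribute [local instance] HasDerivedCategory.standard

namespace Groth.Agent.DCat.AmpLocal

/-- `- ⊗^L M` through a K-flat resolution of `M`. -/
theorem isZero_ltensor_iff_tot {R : Type u} [CommRing R] (X : DRing.Cx R) (M : ModuleCat.{u} R) {F : DRing.Cx R}
    (hF : IsKFlatFor (modT R) F)
    (π : F ⟶ (HomologicalComplex.single (ModuleCat.{u} R) (ComplexShape.up ℤ) 0).obj M) [QuasiIso π]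
    [DRing.HasLTensor R M] (i : ℤ) :
    IsZero ((DerivedCategory.homologyFunctor (ModuleCat.{u} R) i).obj ((DRing.LTensor R M).obj (DRing.toD X))) ↔
      (tot (modT R) X F).ExactAt i := by
  obtain ⟨P, c, hP, -, hc, -⟩ := exists_kflat X
  haveI := hc
  haveI := isIso_Q_map_of_qis c
  rw [isZero_ltensor_iff M hP (asIso (DerivedCategory.Q.map c)) i]
  obtain ⟨t⟩ := exists_tot_single_iso (T := modT R) P M
  haveI h₁ : QuasiIso (c ▷ F) := quasiIso_whiskerRight hF c
  haveI : QuasiIso (π ▷ P) := quasiIso_whiskerRight hP π
  haveI h₂ : QuasiIso (P ◁ π) := by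
    rw [whiskerLeft_braid]
    infer_instance
  have hh : ∀ {K L : DRing.Cx R} (f : K ⟶ L) [QuasiIso f], K.ExactAt i ↔ L.ExactAt i := fun {K L} f _ =>
    exactAt_iff_of_quasiIsoAt f i
  exact (Iff.intro (fun h => h.of_iso t) fun h => h.of_iso t.symm).trans
    ((hh (P ◁ π)).symm.trans (hh (c ▷ F)))

section

variable (A B : Type u) [CommRing A] [CommRing B] [Algebra A B] (m : Ideal B) [m.IsPrime]

local notation "p" => m.comap (algebraMap A B)
local notation "Ap" => Localization.AtPrime (m.comap (algebraMap A B))
local notation "Bm" => Localization.AtPrime m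

/-- Localizing `K ⊗ F`. -/
theorem nonempty_loc_tot (K : DRing.Cx B) (F : DRing.Cx A) :
    Nonempty ((DRing.restrictCx (Localization.localRingHom (m.comap (algebraMap A B)) m (algebraMap A B) rfl)).obj
        ((DTen.extCx (algebraMap B (Localization.AtPrime m))).obj
          (tot (modT B) K ((DTen.extCx (algebraMap A B)).obj F))) ≅
      tot (modT (Localization.AtPrime (m.comap (algebraMap A B))))
        ((DRing.restrictCx (Localization.localRingHom (m.comap (algebraMap A B)) m (algebraMap A B) rfl)).obj
          ((DTen.extCx (algebraMap B (Localization.AtPrime m))).obj K))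
        ((DTen.extCx (algebraMap A (Localization.AtPrime (m.comap (algebraMap A B))))).obj F)) := by
  let φ := Localization.localRingHom (m.comap (algebraMap A B)) m (algebraMap A B) rfl
  let γA := algebraMap A (Localization.AtPrime (m.comap (algebraMap A B)))
  let γB := algebraMap B (Localization.AtPrime m)
  have h : γB.comp (algebraMap A B) = φ.comp γA := RingHom.ext fun x =>
    (Localization.localRingHom_to_map _ m (algebraMap A B) rfl x).symm
  let i₁ : (DTen.extCx γB).obj ((DTen.extCx (algebraMap A B)).obj F) ≅ (DTen.extCx φ).obj ((DTen.extCx γA).obj F) :=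
    (DTen.extCompCx (algebraMap A B) γB).app F ≪≫ eqToIso (by rw [h]) ≪≫ ((DTen.extCompCx γA φ).app F).symm
  exact ⟨(DRing.restrictCx φ).mapIso (DTenBC.extTensor γB K _ ≪≫ whiskerLeftIso ((DTen.extCx γB).obj K) i₁) ≪≫
    totExtIso φ ((DTen.extCx γB).obj K) ((DTen.extCx γA).obj F)⟩

end

/-- A complex is exact where all localizations at maximal ideals are. -/
theorem exactAt_of_localization {B : Type u} [CommRing B] (T : DRing.Cx B) (i : ℤ)
    (h : ∀ (m : Ideal B) [m.IsMaximal], ((DTen.extCx (algebraMap B (Localization.AtPrime m))).obj T).ExactAt i) :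
    T.ExactAt i := by
  rw [exactAt_iff_isZero_homology]
  refine @ModuleCat.isZero_of_subsingleton _ _ _ ?_
  refine Module.subsingleton_of_localization_maximal (R := B)
    (fun m _ => Localization.AtPrime m ⊗[B] (T.homology i : Type u))
    (fun m _ => TensorProduct.mk B (Localization.AtPrime m) _ 1) fun m _ => ?_
  haveI : PreservesFiniteLimits (ModuleCat.extendScalars.{u, u, u} (algebraMap B (Localization.AtPrime m))) :=
    ModuleCat.preservesFiniteLimits_extendScalars_of_flat (RingHom.flat_algebraMap_iff.2 inferInstance)
  haveI : PreservesFiniteColimits (ModuleCat.extendScalars.{u, u, u} (algebraMap B (Localization.AtPrime m))) :=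
    haveI : PreservesColimitsOfSize.{0, 0} (ModuleCat.extendScalars.{u, u, u} (algebraMap B (Localization.AtPrime m))) :=
      (ModuleCat.extendRestrictScalarsAdj.{u, u, u} (algebraMap B (Localization.AtPrime m))).leftAdjoint_preservesColimits
    inferInstance
  have hz : IsZero ((ModuleCat.extendScalars.{u, u, u} (algebraMap B (Localization.AtPrime m))).obj (T.homology i)) :=
    (((exactAt_iff_isZero_homology _ _).1 (h m)).of_iso
      ((T.sc i).mapHomologyIso (ModuleCat.extendScalars.{u, u, u} (algebraMap B (Localization.AtPrime m)))).symm)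
  let e : ((ModuleCat.restrictScalars.{u} (algebraMap B (Localization.AtPrime m))).obj
      (ModuleCat.of (Localization.AtPrime m) (Localization.AtPrime m))) ≃ₗ[B] Localization.AtPrime m :=
    { Equiv.refl _ with
      map_add' := fun _ _ => rfl
      map_smul' := fun r x => (Algebra.smul_def r (show Localization.AtPrime m from x)).symm }
  have h₀ : Subsingleton (((ModuleCat.restrictScalars.{u} (algebraMap B (Localization.AtPrime m))).obj
      (ModuleCat.of (Localization.AtPrime m) (Localization.AtPrime m))) ⊗[B] (T.homology i : Type u)) :=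
    ModuleCat.subsingleton_of_isZero hz
  exact (TensorProduct.congr e.symm (LinearEquiv.refl B (T.homology i : Type u))).toEquiv.subsingleton

/-- Tor amplitude of a restricted complex is local. -/
theorem flatAmp_of_local (A B : Type u) [CommRing A] [CommRing B] [Algebra A B] (K : DRing.Cx B) (a b : ℤ)
    (h3 : ∀ (m : Ideal B) [m.IsMaximal],
      DRing.HasTorAmplitudeIn (Localization.AtPrime (m.comap (algebraMap A B))) a b
        (DRing.toD ((DRing.restrictCx (Localization.localRingHom (m.comap (algebraMap A B)) m (algebraMap A B) rfl)).obj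
          (((ModuleCat.extendScalars.{u, u, u} (algebraMap B (Localization.AtPrime m))).mapHomologicalComplex
            (ComplexShape.up ℤ)).obj K)))) :
    DRing.HasTorAmplitudeIn A a b (DRing.toD ((DRing.restrictCx (algebraMap A B)).obj K)) := by
  haveI : ∀ M : ModuleCat.{u} A, DRing.HasLTensor A M := fun M => hasLTensor M
  refine flatAmp_of_vanish fun M i hi => ?_
  obtain ⟨F, π, hF, -, hπ, -⟩ := exists_kflat ((HomologicalComplex.single (ModuleCat.{u} A) (ComplexShape.up ℤ) 0).obj M)
  haveI := hπ
  rw [isZero_ltensor_iff_tot _ M hF π i]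
  have hT : (tot (modT B) K ((DTen.extCx (algebraMap A B)).obj F)).ExactAt i := by
    refine exactAt_of_localization _ i fun m _ => ?_
    let φ := Localization.localRingHom (m.comap (algebraMap A B)) m (algebraMap A B) rfl
    let γA := algebraMap A (Localization.AtPrime (m.comap (algebraMap A B)))
    haveI : PreservesFiniteLimits (ModuleCat.extendScalars.{u, u, u} γA) :=
      ModuleCat.preservesFiniteLimits_extendScalars_of_flat (RingHom.flat_algebraMap_iff.2 inferInstance)
    haveI : PreservesFiniteColimits (ModuleCat.extendScalars.{u, u, u} γA) :=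
      haveI : PreservesColimitsOfSize.{0, 0} (ModuleCat.extendScalars.{u, u, u} γA) :=
        (ModuleCat.extendRestrictScalarsAdj.{u, u, u} γA).leftAdjoint_preservesColimits
      inferInstance
    let σ := (HomologicalComplex.singleMapHomologicalComplex (ModuleCat.extendScalars.{u, u, u} γA)
      (ComplexShape.up ℤ) 0).app M
    let π' : (DTen.extCx γA).obj F ⟶ (HomologicalComplex.single _ (ComplexShape.up ℤ) 0).obj
        ((ModuleCat.extendScalars.{u, u, u} γA).obj M) := (DTen.extCx γA).map π ≫ σ.hom
    haveI : QuasiIso π' := by
      haveI : QuasiIso ((DTen.extCx γA).map π) := quasiIso_map_of_preservesHomology π _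
      exact quasiIso_comp _ _
    haveI := hasLTensor ((ModuleCat.extendScalars.{u, u, u} γA).obj M)
    obtain ⟨e⟩ := nonempty_loc_tot A B m K F
    have hz := (isZero_ltensor_iff_tot _ _ (isKFlatFor_ext γA hF) π' i).1
      (vanish_of_flatAmp (h3 m) ((ModuleCat.extendScalars.{u, u, u} γA).obj M) hi)
    have hres := hz.of_iso e.symm
    rw [exactAt_iff] at hres ⊢
    exact (ShortComplex.exact_map_iff_of_faithful _ (ModuleCat.restrictScalars.{u} φ)).1 hres
  have h' := hT
  rw [exactAt_iff] at h'
  have h'' : ((DRing.restrictCx (algebraMap A B)).obj (tot (modT B) K ((DTen.extCx (algebraMap A B)).obj F))).ExactAt i := by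
    rw [exactAt_iff]
    exact h'.map (ModuleCat.restrictScalars.{u} (algebraMap A B))
  exact h''.of_iso (totExtIso (algebraMap A B) K F)

end Groth.Agent.DCat.AmpLocal
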