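import Groth.Agent.DCat.KFlatQis
import Groth.Agent.DCat.TotMap
import Groth.Agent.DCat.RHomLeft
import Mathlib.Algebra.Homology.HomotopyCategory.KInjective
import Mathlib.Algebra.Homology.HomotopyCategory.DegreewiseSplit

/-! Maps between total complexes induced by maps of biadditive functors; degreewise splittings. -/

set_option autoImplicit false
set_option backward.isDefEq.respectTransparency false
set_option backward.defeqAttrib.useBackward true
set_option linter.style.haveILetI false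

universe v₁ v₂ v₃ u₁ u₂ u₃ v₁' v₂' v₃' u₁' u₂' u₃'

open CategoryTheory CategoryTheory.Limits HomologicalComplex

namespace Groth.Agent.DCat.TotHom

section Split

variable {A : Type u₁} [Category.{v₁} A] [Abelian A] {B : Type u₂} [Category.{v₂} B] [Abelian B]
  {C : Type u₃} [Category.{v₃} C] [Abelian C]
  (T : A ⥤ B ⥤ C) [T.Additive] [∀ a, (T.obj a).Additive]
  [∀ (K₁ : CochainComplex A ℤ) (K₂ : CochainComplex B ℤ), CochainComplex.HasMapBifunctor K₁ K₂ T]

/-- A summand inclusion is invertible if the other summands vanish. -/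
theorem isIso_ι_of_isZero (K : CochainComplex A ℤ) (L : CochainComplex B ℤ) (p q n : ℤ) (h : p + q = n)
    (hz : ∀ p' q' : ℤ, p' + q' = n → q' ≠ q → IsZero ((T.obj (K.X p')).obj (L.X q'))) :
    IsIso (ιMapBifunctor K L T (ComplexShape.up ℤ) p q n h) := by
  let r : (tot T K L).X n ⟶ (T.obj (K.X p)).obj (L.X q) := mapBifunctorDesc fun p' q' h' =>
    if e : q' = q then eqToHom (by
      subst e
      have h₁ : p' + q' = n := h'
      rw [show p' = p by omega]) else 0
  refine ⟨r, ?_, mapBifunctor.hom_ext fun p' q' h' => ?_⟩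
  · rw [ι_mapBifunctorDesc, dif_pos rfl]
    rfl
  · rw [ι_mapBifunctorDesc_assoc, Category.comp_id]
    have h₁ : p' + q' = n := h'
    by_cases e : q' = q
    · subst e
      obtain rfl : p' = p := by omega
      simp
    · exact (hz p' q' h₁ e).eq_of_src _ _

/-- Tensoring a degreewise split sequence on the right is degreewise split. -/
theorem nonempty_splitting_tot₂ (K : CochainComplex A ℤ) (S : ShortComplex (CochainComplex B ℤ))
    (hS : ∀ n, Nonempty ((S.map (eval B (ComplexShape.up ℤ) n)).Splitting)) (n : ℤ) :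
    Nonempty (((S.map (T.map₂CochainComplex.obj K)).map (eval C (ComplexShape.up ℤ) n)).Splitting) := by
  let σ := fun n => (hS n).some
  refine ⟨
    { r := mapBifunctorDesc fun p q h =>
        (T.obj (K.X p)).map (σ q).r ≫ ιMapBifunctor K S.X₁ T (ComplexShape.up ℤ) p q n h
      s := mapBifunctorDesc fun p q h =>
        (T.obj (K.X p)).map (σ q).s ≫ ιMapBifunctor K S.X₂ T (ComplexShape.up ℤ) p q n h
      f_r := mapBifunctor.hom_ext fun p q h => ?_
      s_g := mapBifunctor.hom_ext fun p q h => ?_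
      id := mapBifunctor.hom_ext fun p q h => ?_ }⟩
  · dsimp
    rw [ι_mapBifunctorMap_assoc]
    have := (σ q).f_r
    dsimp at this
    simp [← Functor.map_comp_assoc, this]
  · dsimp
    rw [ι_mapBifunctorDesc_assoc, Category.assoc, ι_mapBifunctorMap]
    have := (σ q).s_g
    dsimp at this
    simp [← Functor.map_comp_assoc, this]
  · dsimp
    have := (σ q).id
    dsimp at this
    simp only [Preadditive.comp_add, ι_mapBifunctorDesc_assoc, ι_mapBifunctorMap_assoc, ι_mapBifunctorMap, ι_mapBifunctorDesc,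
      Category.assoc, id_f, CategoryTheory.Functor.map_id, NatTrans.id_app, Category.id_comp, Category.comp_id]
    rw [← Functor.map_comp_assoc, ← Functor.map_comp_assoc, ← Preadditive.add_comp, ← Functor.map_add, this,
      CategoryTheory.Functor.map_id, Category.id_comp]

/-- An extension, degreewise split, of K-injective complexes is K-injective. -/
theorem isKInjective_of_splitting (S : ShortComplex (CochainComplex A ℤ))
    (σ : ∀ n, (S.map (eval A (ComplexShape.up ℤ) n)).Splitting)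
    [CochainComplex.IsKInjective S.X₁] [CochainComplex.IsKInjective S.X₃] : CochainComplex.IsKInjective S.X₂ := by
  rw [CochainComplex.isKInjective_iff_rightOrthogonal]
  refine ObjectProperty.ext_of_isTriangulatedClosed₂ _
    (CochainComplex.trianglehOfDegreewiseSplit S σ) ?_
    (CochainComplex.IsKInjective.rightOrthogonal S.X₁) (CochainComplex.IsKInjective.rightOrthogonal S.X₃)
  rw [HomotopyCategory.distinguished_iff_iso_trianglehOfDegreewiseSplit]
  exact ⟨_, σ, ⟨Iso.refl _⟩⟩

/-- Tensoring with a unit placed in one degree keeps K-injectivity. -/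
theorem isKInjective_tot_single {A : Type u₁} [Category.{v₁} A] [Abelian A] (T : A ⥤ A ⥤ A) [T.Additive]
    [∀ a, (T.obj a).Additive] [∀ (K₁ : CochainComplex A ℤ) (K₂ : CochainComplex A ℤ), CochainComplex.HasMapBifunctor K₁ K₂ T]
    (M : A) (e : T.flip.obj M ≅ 𝟭 A) (I : CochainComplex A ℤ) [I.IsKInjective] (k : ℤ) :
    CochainComplex.IsKInjective (tot T I ((single A (ComplexShape.up ℤ) k).obj M)) := by
  obtain ⟨e₁⟩ := RHomLeft.flip_single_generic T M e T.map₂CochainComplex rfl
  obtain ⟨e₂⟩ := RHomLeft.flip_shift_generic T T.map₂CochainComplex rfl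
    ((single A (ComplexShape.up ℤ) 0).obj M) (-k)
  let i₁ : I⟦-k⟧ ≅ tot T I (((single A (ComplexShape.up ℤ) 0).obj M)⟦-k⟧) :=
    (shiftFunctor _ (-k)).mapIso (e₁.app I).symm ≪≫ (e₂.app I).symm
  exact CochainComplex.isKInjective_of_iso (i₁ ≪≫ (T.map₂CochainComplex.obj I).mapIso
    (((CochainComplex.singleFunctors A).shiftIso (-k) k 0 (by omega)).app M))

/-- K-injectivity of tensor products with bounded complexes. -/
theorem isKInjective_tot_of_bounded (I : CochainComplex A ℤ) (Q : B → Prop)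
    (hQ₀ : ∀ b, IsZero b → Q b) (hQe : ∀ b b', (b ≅ b') → Q b → Q b')
    {A₂ : Type u₁} [Category.{v₁} A₂] [Abelian A₂] (T₂ : A ⥤ B ⥤ A₂) [T₂.Additive] [∀ a, (T₂.obj a).Additive]
    [∀ (K₁ : CochainComplex A ℤ) (K₂ : CochainComplex B ℤ), CochainComplex.HasMapBifunctor K₁ K₂ T₂]
    (hQ : ∀ k b, Q b → CochainComplex.IsKInjective (tot T₂ I ((single B (ComplexShape.up ℤ) k).obj b)))
    (K : CochainComplex B ℤ)
    (a : ℤ) (m : ℕ) (h₁ : ∀ n, n < a → IsZero (K.X n)) (h₂ : ∀ n, a + (m : ℤ) ≤ n → IsZero (K.X n))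
    (hK : ∀ i, Q (K.X i)) : CochainComplex.IsKInjective (tot T₂ I K) :=
  DCat.bounded_induction (fun K => CochainComplex.IsKInjective (tot T₂ I K)) Q
    (fun K hK => ⟨fun {L} φ _ => ⟨Homotopy.ofEq (((T₂.map₂CochainComplex.obj I).map_isZero hK).eq_of_tgt _ _)⟩⟩)
    hQ₀ hQe hQ
    (fun S hS h₁ h₃ => @isKInjective_of_splitting _ _ _ (S.map (T₂.map₂CochainComplex.obj I))
      (fun n => (nonempty_splitting_tot₂ T₂ I S hS n).some) h₁ h₃) a m K h₁ h₂ hK

/-- The extension step. -/
theorem isKInjective_tot_of_splitting {A₂ : Type u₁} [Category.{v₁} A₂] [Abelian A₂] (T₂ : A ⥤ B ⥤ A₂) [T₂.Additive]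
    [∀ a, (T₂.obj a).Additive]
    [∀ (K₁ : CochainComplex A ℤ) (K₂ : CochainComplex B ℤ), CochainComplex.HasMapBifunctor K₁ K₂ T₂]
    (I : CochainComplex A ℤ) (S : ShortComplex (CochainComplex B ℤ))
    (hS : ∀ n, Nonempty ((S.map (eval B (ComplexShape.up ℤ) n)).Splitting))
    (h₁ : CochainComplex.IsKInjective (tot T₂ I S.X₁)) (h₃ : CochainComplex.IsKInjective (tot T₂ I S.X₃)) :
    CochainComplex.IsKInjective (tot T₂ I S.X₂) :=
  @isKInjective_of_splitting _ _ _ (S.map (T₂.map₂CochainComplex.obj I))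
    (fun n => (nonempty_splitting_tot₂ T₂ I S hS n).some) h₁ h₃

end Split

section Comparison

variable {A : Type u₁} [Category.{v₁} A] [Abelian A] {B : Type u₂} [Category.{v₂} B] [Abelian B]
  {C : Type u₃} [Category.{v₃} C] [Abelian C]
  {A' : Type u₁'} [Category.{v₁'} A'] [Abelian A'] {B' : Type u₂'} [Category.{v₂'} B'] [Abelian B']
  {C' : Type u₃'} [Category.{v₃'} C'] [Abelian C']
  (T : A ⥤ B ⥤ C) [T.Additive] [∀ a, (T.obj a).Additive]
  [∀ (K₁ : CochainComplex A ℤ) (K₂ : CochainComplex B ℤ), CochainComplex.HasMapBifunctor K₁ K₂ T]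
  (T' : A' ⥤ B' ⥤ C') [T'.Additive] [∀ a, (T'.obj a).Additive]
  [∀ (K₁ : CochainComplex A' ℤ) (K₂ : CochainComplex B' ℤ), CochainComplex.HasMapBifunctor K₁ K₂ T']
  (F : A' ⥤ A) [F.Additive] (H : B ⥤ B') [H.Additive] (G : C' ⥤ C) [G.Additive]
  (α : ∀ a b, (T.obj (F.obj a)).obj b ⟶ G.obj ((T'.obj a).obj (H.obj b)))
  (hα₁ : ∀ {a a' : A'} (f : a ⟶ a') (b : B),
    (T.map (F.map f)).app b ≫ α a' b = α a b ≫ G.map ((T'.map f).app (H.obj b)))
  (hα₂ : ∀ (a : A') {b b' : B} (g : b ⟶ b'),
    (T.obj (F.obj a)).map g ≫ α a b' = α a b ≫ G.map ((T'.obj a).map (H.map g)))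

/-- The map on a term. -/
noncomputable def totHomX (M : CochainComplex A' ℤ) (K : CochainComplex B ℤ) (n : ℤ) :
    (tot T ((F.mapHomologicalComplex (ComplexShape.up ℤ)).obj M) K).X n ⟶
      G.obj ((tot T' M ((H.mapHomologicalComplex (ComplexShape.up ℤ)).obj K)).X n) :=
  mapBifunctorDesc fun p q h => α (M.X p) (K.X q) ≫
    G.map (ιMapBifunctor M ((H.mapHomologicalComplex (ComplexShape.up ℤ)).obj K) T' (ComplexShape.up ℤ) p q n h)

omit [G.Additive] in
@[reassoc]
lemma ι_totHomX (M : CochainComplex A' ℤ) (K : CochainComplex B ℤ) (p q n : ℤ) (h : p + q = n) :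
    ιMapBifunctor ((F.mapHomologicalComplex (ComplexShape.up ℤ)).obj M) K T (ComplexShape.up ℤ) p q n h ≫
        totHomX T T' F H G α M K n =
      α (M.X p) (K.X q) ≫
        G.map (ιMapBifunctor M ((H.mapHomologicalComplex (ComplexShape.up ℤ)).obj K) T' (ComplexShape.up ℤ) p q n h) :=
  ι_mapBifunctorDesc _ _ _ _

include hα₁ hα₂ in
/-- The map `F M ⊗ K → G (M ⊗' H K)`. -/
noncomputable def totHom (M : CochainComplex A' ℤ) (K : CochainComplex B ℤ) :
    tot T ((F.mapHomologicalComplex (ComplexShape.up ℤ)).obj M) K ⟶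
      (G.mapHomologicalComplex (ComplexShape.up ℤ)).obj (tot T' M ((H.mapHomologicalComplex (ComplexShape.up ℤ)).obj K)) where
  f := totHomX T T' F H G α M K
  comm' n n' hn := mapBifunctor.hom_ext fun p q h => by
    dsimp
    have h' : p + q = n := h
    rw [ι_totHomX_assoc, ← G.map_comp, mapBifunctor.d_eq, mapBifunctor.d_eq]
    simp only [Preadditive.comp_add, Functor.map_add, Preadditive.add_comp, mapBifunctor.ι_D₁,
      mapBifunctor.ι_D₂, mapBifunctor.ι_D₁_assoc, mapBifunctor.ι_D₂_assoc, ComplexShape.up_Rel] at hn ⊢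
    rw [mapBifunctor.d₁_eq _ _ _ _ (show (ComplexShape.up ℤ).Rel p (p + 1) from rfl) _ _
        (by simp; omega),
      mapBifunctor.d₂_eq _ _ _ _ _ (show (ComplexShape.up ℤ).Rel q (q + 1) from rfl) _
        (by simp; omega),
      mapBifunctor.d₁_eq _ _ _ _ (show (ComplexShape.up ℤ).Rel p (p + 1) from rfl) _ _
        (by simp; omega),
      mapBifunctor.d₂_eq _ _ _ _ _ (show (ComplexShape.up ℤ).Rel q (q + 1) from rfl) _
        (by simp; omega)]
    simp only [Functor.map_zsmul, Units.smul_def, Preadditive.zsmul_comp, Preadditive.comp_zsmul, G.map_comp,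
      Category.assoc, ι_totHomX, Functor.mapHomologicalComplex_obj_d, reassoc_of% hα₁]
    exact congrArg₂ (· + ·) rfl (congrArg _ ((Category.assoc _ _ _).symm.trans
      ((congrArg (· ≫ _) (hα₂ (M.X p) (K.d q (q + 1))).symm).trans (Category.assoc _ _ _))))

/-- Naturality in the second variable. -/
lemma totHom_natural₂ (hα₁' : ∀ {a a' : A'} (f : a ⟶ a') (b : B),
    (T.map (F.map f)).app b ≫ α a' b = α a b ≫ G.map ((T'.map f).app (H.obj b)))
    (hα₂' : ∀ (a : A') {b b' : B} (g : b ⟶ b'),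
    (T.obj (F.obj a)).map g ≫ α a b' = α a b ≫ G.map ((T'.obj a).map (H.map g)))
    (M : CochainComplex A' ℤ) {K K' : CochainComplex B ℤ} (g : K ⟶ K') :
    totMap₂ T ((F.mapHomologicalComplex (ComplexShape.up ℤ)).obj M) g ≫
        totHom T T' F H G α hα₁' hα₂' M K' =
      totHom T T' F H G α hα₁' hα₂' M K ≫
        (G.mapHomologicalComplex (ComplexShape.up ℤ)).map
          (totMap₂ T' M ((H.mapHomologicalComplex (ComplexShape.up ℤ)).map g)) := by
  ext n : 1
  refine mapBifunctor.hom_ext fun p q h => ?_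
  dsimp [totHom]
  rw [ι_mapBifunctorMap_assoc, ι_totHomX_assoc, ← G.map_comp, ι_mapBifunctorMap]
  simp only [id_f, CategoryTheory.Functor.map_id, NatTrans.id_app, Category.id_comp]
  erw [ι_totHomX]
  rw [G.map_comp]
  exact (Category.assoc _ _ _).symm.trans ((congrArg (· ≫ _) (hα₂' (M.X p) (g.f q))).trans (Category.assoc _ _ _))

/-- On a bounded complex the map is invertible after `R` if it is so on the terms. -/
theorem isIso_map_totHom {D : Type u₂'} [Category.{v₂'} D] [Abelian D] (R : C ⥤ D) [R.Additive] (Q : B → Prop)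
    (hQ₀ : ∀ b, IsZero b → Q b) (hQe : ∀ b b', (b ≅ b') → Q b → Q b')
    (hQ : ∀ a b, Q b → IsIso (R.map (α a b))) (M : CochainComplex A' ℤ) (K : CochainComplex B ℤ)
    (a : ℤ) (m : ℕ) (h₁ : ∀ n, n < a → IsZero (K.X n)) (h₂ : ∀ n, a + (m : ℤ) ≤ n → IsZero (K.X n))
    (hK : ∀ i, Q (K.X i))
    (hα₁' : ∀ {a a' : A'} (f : a ⟶ a') (b : B),
      (T.map (F.map f)).app b ≫ α a' b = α a b ≫ G.map ((T'.map f).app (H.obj b)))
    (hα₂' : ∀ (a : A') {b b' : B} (g : b ⟶ b'),
      (T.obj (F.obj a)).map g ≫ α a b' = α a b ≫ G.map ((T'.obj a).map (H.map g))) (n : ℤ) :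
    IsIso (R.map ((totHom T T' F H G α hα₁' hα₂' M K).f n)) := by
  let S₀ := (F.mapHomologicalComplex (ComplexShape.up ℤ)).obj M
  let P : CochainComplex B ℤ → Prop := fun K => ∀ n, IsIso (R.map ((totHom T T' F H G α hα₁' hα₂' M K).f n))
  refine DCat.bounded_induction P Q
    (fun K hK n => ?_) hQ₀ hQe (fun k N hN n => ?_) (fun S hS h₁' h₃' n => ?_) a m K h₁ h₂ hK n
  · refine IsZero.isIso ?_ ?_ _
    · exact R.map_isZero ((HomologicalComplex.eval _ _ n).map_isZero ((T.map₂CochainComplex.obj S₀).map_isZero hK))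
    · exact R.map_isZero (G.map_isZero ((HomologicalComplex.eval _ _ n).map_isZero
        ((T'.map₂CochainComplex.obj M).map_isZero ((H.mapHomologicalComplex (ComplexShape.up ℤ)).map_isZero hK))))
  · let K := (single B (ComplexShape.up ℤ) k).obj N
    let K' := (H.mapHomologicalComplex (ComplexShape.up ℤ)).obj K
    have hn : (n - k) + k = n := by omega
    have hz : ∀ q, q ≠ k → IsZero (K.X q) := fun q hq => isZero_single_obj_X (ComplexShape.up ℤ) k N q hq
    haveI := isIso_ι_of_isZero T S₀ K (n - k) k n hn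
      fun p' q' _ hq => (T.obj (S₀.X p')).map_isZero (hz q' hq)
    haveI := isIso_ι_of_isZero T' M K' (n - k) k n hn
      fun p' q' _ hq => (T'.obj (M.X p')).map_isZero (H.map_isZero (hz q' hq))
    haveI : IsIso (R.map (α (M.X (n - k)) (K.X k))) :=
      hQ _ _ (hQe _ _ (singleObjXSelf (ComplexShape.up ℤ) k N).symm hN)
    have e : R.map (ιMapBifunctor S₀ K T (ComplexShape.up ℤ) (n - k) k n hn) ≫
          R.map ((totHom T T' F H G α hα₁' hα₂' M K).f n) =
        R.map (α (M.X (n - k)) (K.X k)) ≫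
          R.map (G.map (ιMapBifunctor M K' T' (ComplexShape.up ℤ) (n - k) k n hn)) := by
      rw [← R.map_comp, ← R.map_comp]
      exact congrArg R.map (ι_totHomX T T' F H G α M K (n - k) k n hn)
    exact IsIso.of_isIso_fac_left e
  · obtain ⟨σ₁⟩ := nonempty_splitting_tot₂ T S₀ S hS n
    obtain ⟨σ₂⟩ := nonempty_splitting_tot₂ T' M (S.map (H.mapHomologicalComplex (ComplexShape.up ℤ)))
      (fun q => ⟨(hS q).some.map H⟩) n
    have e₁ := (σ₁.map R).shortExact
    have e₂ := (σ₂.map (G ⋙ R)).shortExact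
    let φ : ((S.map (T.map₂CochainComplex.obj S₀)).map (eval C (ComplexShape.up ℤ) n)).map R ⟶
        (((S.map (H.mapHomologicalComplex (ComplexShape.up ℤ))).map (T'.map₂CochainComplex.obj M)).map
          (eval C' (ComplexShape.up ℤ) n)).map (G ⋙ R) :=
      { τ₁ := R.map ((totHom T T' F H G α hα₁' hα₂' M S.X₁).f n)
        τ₂ := R.map ((totHom T T' F H G α hα₁' hα₂' M S.X₂).f n)
        τ₃ := R.map ((totHom T T' F H G α hα₁' hα₂' M S.X₃).f n)
        comm₁₂ := (R.map_comp _ _).symm.trans ((congrArg R.map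
          (congr_hom (totHom_natural₂ T T' F H G α hα₁' hα₂' M S.f) n)).symm.trans (R.map_comp _ _))
        comm₂₃ := (R.map_comp _ _).symm.trans ((congrArg R.map
          (congr_hom (totHom_natural₂ T T' F H G α hα₁' hα₂' M S.g) n)).symm.trans (R.map_comp _ _)) }
    haveI : IsIso φ.τ₁ := h₁' n
    haveI : IsIso φ.τ₃ := h₃' n
    exact ShortComplex.isIso₂_of_shortExact_of_isIso₁₃ φ e₁ e₂

end Comparison

end Groth.Agent.DCat.TotHom
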