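import Groth.Agent.DCat.RHomExist
import Groth.Agent.DCat.TotHom
import Mathlib.Algebra.Homology.BifunctorAssociator

/-! Naturality of the associator of total complexes; commutation of descended functors. -/

set_option autoImplicit false
set_option backward.isDefEq.respectTransparency false
set_option backward.defeqAttrib.useBackward true
set_option linter.style.haveILetI false

open CategoryTheory CategoryTheory.Limits HomologicalComplex

namespace Groth.Agent.DCat.AssocNat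

section Twist

universe v v' w w'

variable {C : Type w} [Category.{v} C] {D : Type w'} [Category.{v'} D] (L : C ⥤ D) (W : MorphismProperty C)
  [L.IsLocalization W] {a b b' : C ⥤ C} (γ : b ⟶ b') {S B B' : D ⥤ D}
  (eS : L ⋙ S ≅ a ⋙ L) (eB : L ⋙ B ≅ b ⋙ L) (eB' : L ⋙ B' ≅ b' ⋙ L)
  (κ : a ⋙ b ≅ b ⋙ a) (κ' : a ⋙ b' ≅ b' ⋙ a) (γh : B ⟶ B')

/-- The comparison on the source. -/
noncomputable def srcIso : L ⋙ (S ⋙ B) ≅ a ⋙ b ⋙ L :=
  (Functor.associator _ _ _).symm ≪≫ Functor.isoWhiskerRight eS B ≪≫ Functor.associator _ _ _ ≪≫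
    Functor.isoWhiskerLeft a eB

/-- The comparison on the target. -/
noncomputable def tgtIso : L ⋙ (B ⋙ S) ≅ b ⋙ a ⋙ L :=
  (Functor.associator _ _ _).symm ≪≫ Functor.isoWhiskerRight eB S ≪≫ Functor.associator _ _ _ ≪≫
    Functor.isoWhiskerLeft b eS

/-- Two functors which commute before localization commute after it. -/
noncomputable def sigma : S ⋙ B ≅ B ⋙ S :=
  letI : Localization.Lifting L W (a ⋙ b ⋙ L) (S ⋙ B) := ⟨srcIso L eS eB⟩
  letI : Localization.Lifting L W (b ⋙ a ⋙ L) (B ⋙ S) := ⟨tgtIso L eS eB⟩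
  Localization.liftNatIso L W (a ⋙ b ⋙ L) (b ⋙ a ⋙ L) (S ⋙ B) (B ⋙ S)
    ((Functor.associator _ _ _).symm ≪≫ Functor.isoWhiskerRight κ L ≪≫ Functor.associator _ _ _)

theorem sigma_app (c : C) : (sigma L W eS eB κ).hom.app (L.obj c) =
    B.map (eS.hom.app c) ≫ eB.hom.app (a.obj c) ≫ L.map (κ.hom.app c) ≫ eS.inv.app (b.obj c) ≫
      S.map (eB.inv.app c) := by
  simp [sigma, srcIso, tgtIso]

/-- The commutation is natural in the second functor. -/
theorem sigma_nat (hγ' : Functor.whiskerLeft L γh ≫ eB'.hom = eB.hom ≫ Functor.whiskerRight γ L)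
    (hκ' : Functor.whiskerLeft a γ ≫ κ'.hom = κ.hom ≫ Functor.whiskerRight γ a) :
    Functor.whiskerLeft S γh ≫ (sigma L W eS eB' κ').hom =
      (sigma L W eS eB κ).hom ≫ Functor.whiskerRight γh S := by
  have hγ : ∀ c, γh.app (L.obj c) ≫ eB'.hom.app c = eB.hom.app c ≫ L.map (γ.app c) := fun c => congr_app hγ' c
  have hκ : ∀ c, γ.app (a.obj c) ≫ κ'.hom.app c = κ.hom.app c ≫ a.map (γ.app c) := fun c => congr_app hκ' c
  refine Localization.natTrans_ext L W fun c => ?_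
  simp only [NatTrans.comp_app, Functor.whiskerLeft_app, Functor.whiskerRight_app, sigma_app, Category.assoc, Functor.comp_obj]
  rw [← γh.naturality_assoc, reassoc_of% (hγ (a.obj c)), ← L.map_comp_assoc, hκ, L.map_comp_assoc]
  have hi : eB.inv.app c ≫ γh.app (L.obj c) = L.map (γ.app c) ≫ eB'.inv.app c := by
    rw [← cancel_mono (eB'.hom.app c), Category.assoc, hγ, Category.assoc, Iso.inv_hom_id_app,
      Iso.inv_hom_id_app_assoc]
    exact (Category.comp_id _).symm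
  rw [← S.map_comp, hi, S.map_comp]
  have hn := eS.inv.naturality (γ.app c)
  dsimp at hn ⊢
  rw [reassoc_of% hn]

end Twist

section Assoc

universe v₀ u₀

variable {C₀ : Type u₀} [Category.{v₀} C₀] [Abelian C₀] (T : C₀ ⥤ C₀ ⥤ C₀) [T.Additive] [∀ a, (T.obj a).Additive]
  [∀ (K₁ : CochainComplex C₀ ℤ) (K₂ : CochainComplex C₀ ℤ), CochainComplex.HasMapBifunctor K₁ K₂ T]
  (α : bifunctorComp₁₂ T T ≅ bifunctorComp₂₃ T T)
  [∀ (A B C : CochainComplex C₀ ℤ), HasGoodTrifunctor₁₂Obj T T A B C (ComplexShape.up ℤ) (ComplexShape.up ℤ)]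
  [∀ (A B C : CochainComplex C₀ ℤ),
    HasGoodTrifunctor₂₃Obj T T A B C (ComplexShape.up ℤ) (ComplexShape.up ℤ) (ComplexShape.up ℤ)]

/-- The associativity isomorphism is natural. -/
theorem assoc_natural {A A' B B' C C' : CochainComplex C₀ ℤ} (f : A ⟶ A') (g : B ⟶ B') (h : C ⟶ C') :
    mapBifunctorMap (mapBifunctorMap f g T (ComplexShape.up ℤ)) h T (ComplexShape.up ℤ) ≫
        (mapBifunctorAssociator α A' B' C' (ComplexShape.up ℤ) (ComplexShape.up ℤ) (ComplexShape.up ℤ)).hom =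
      (mapBifunctorAssociator α A B C (ComplexShape.up ℤ) (ComplexShape.up ℤ) (ComplexShape.up ℤ)).hom ≫
        mapBifunctorMap f (mapBifunctorMap g h T (ComplexShape.up ℤ)) T (ComplexShape.up ℤ) := by
  ext j : 1
  refine mapBifunctor₁₂.hom_ext fun i₁ i₂ i₃ hj => ?_
  simp only [HomologicalComplex.comp_f]
  change _ ≫ _ ≫ (mapBifunctorAssociatorX α A' B' C' _ _ _ j).hom =
    _ ≫ (mapBifunctorAssociatorX α A B C _ _ _ j).hom ≫ _
  have hj' : i₁ + (i₂ + i₃) = j := by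
    change i₁ + i₂ + i₃ = j at hj
    omega
  rw [ι_mapBifunctorAssociatorX_hom_assoc,
    mapBifunctor₁₂.ι_eq _ _ _ _ _ _ _ i₁ i₂ i₃ (i₁ + i₂) j rfl hj,
    mapBifunctor₂₃.ι_eq _ _ _ _ _ (ComplexShape.up ℤ) _ _ i₁ i₂ i₃ (i₂ + i₃) j rfl hj']
  simp only [Category.assoc, ι_mapBifunctorMap_assoc, ι_mapBifunctorMap]
  rw [← NatTrans.comp_app_assoc, ← Functor.map_comp, ι_mapBifunctorMap, Functor.map_comp, Functor.map_comp,
    NatTrans.comp_app, NatTrans.comp_app]
  simp only [Category.assoc]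
  have n₀ := (T.map (ιMapBifunctor A' B' T (ComplexShape.up ℤ) i₁ i₂ (i₁ + i₂) rfl)).naturality (h.f i₃)
  rw [← reassoc_of% n₀]
  have e₁ := mapBifunctor₁₂.ι_eq T T A' B' C' (ComplexShape.up ℤ) (ComplexShape.up ℤ) i₁ i₂ i₃ (i₁ + i₂) j rfl hj
  erw [← reassoc_of% e₁]
  rw [ι_mapBifunctorAssociatorX_hom,
    mapBifunctor₂₃.ι_eq _ _ _ _ _ (ComplexShape.up ℤ) _ _ i₁ i₂ i₃ (i₂ + i₃) j rfl hj']
  have n₁ := congr_app (congr_app (α.hom.naturality (f.f i₁)) (B.X i₂)) (C.X i₃)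
  have n₂ := congr_app ((α.hom.app (A'.X i₁)).naturality (g.f i₂)) (C.X i₃)
  have n₃ := ((α.hom.app (A'.X i₁)).app (B'.X i₂)).naturality (h.f i₃)
  dsimp at n₁ n₂ n₃ ⊢
  rw [reassoc_of% n₃, reassoc_of% n₂, reassoc_of% n₁]
  refine congrArg (_ ≫ ·) ?_
  rw [← Functor.map_comp_assoc, ← Functor.map_comp_assoc, (T.map (f.f i₁)).naturality_assoc]
  refine congrArg (_ ≫ ·) ?_
  rw [← Functor.map_comp_assoc, ι_mapBifunctorMap]
  simp

/-- Naturality in the middle variable. -/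
theorem assoc_natural₂ (A : CochainComplex C₀ ℤ) {B B' : CochainComplex C₀ ℤ} (g : B ⟶ B') (C : CochainComplex C₀ ℤ) :
    (T.map₂CochainComplex.flip.obj C).map ((T.map₂CochainComplex.obj A).map g) ≫
        (mapBifunctorAssociator α A B' C (ComplexShape.up ℤ) (ComplexShape.up ℤ) (ComplexShape.up ℤ)).hom =
      (mapBifunctorAssociator α A B C (ComplexShape.up ℤ) (ComplexShape.up ℤ) (ComplexShape.up ℤ)).hom ≫
        (T.map₂CochainComplex.obj A).map ((T.map₂CochainComplex.flip.obj C).map g) :=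
  assoc_natural T α (𝟙 A) g (𝟙 C)

/-- Naturality in the last variable. -/
theorem assoc_natural₃ (A B : CochainComplex C₀ ℤ) {C C' : CochainComplex C₀ ℤ} (g : C ⟶ C') :
    (T.map₂CochainComplex.flip.map g).app ((T.map₂CochainComplex.obj A).obj B) ≫
        (mapBifunctorAssociator α A B C' (ComplexShape.up ℤ) (ComplexShape.up ℤ) (ComplexShape.up ℤ)).hom =
      (mapBifunctorAssociator α A B C (ComplexShape.up ℤ) (ComplexShape.up ℤ) (ComplexShape.up ℤ)).hom ≫
        (T.map₂CochainComplex.obj A).map ((T.map₂CochainComplex.flip.map g).app B) := by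
  refine Eq.trans ?_ (assoc_natural T α (𝟙 A) (𝟙 B) g)
  have e : mapBifunctorMap (𝟙 A) (𝟙 B) T (ComplexShape.up ℤ) = 𝟙 ((T.map₂CochainComplex.obj A).obj B) :=
    (T.map₂CochainComplex.obj A).map_id B
  rw [e]
  rfl

/-- Associativity as a commutation of `A ⊗ -` and `- ⊗ C`. -/
noncomputable def comm (A C : CochainComplex C₀ ℤ) :
    T.map₂CochainComplex.obj A ⋙ T.map₂CochainComplex.flip.obj C ≅
      T.map₂CochainComplex.flip.obj C ⋙ T.map₂CochainComplex.obj A :=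
  NatIso.ofComponents
    (fun B => mapBifunctorAssociator α A B C (ComplexShape.up ℤ) (ComplexShape.up ℤ) (ComplexShape.up ℤ))
    fun g => assoc_natural₂ T α A g C

theorem comm_nat (A : CochainComplex C₀ ℤ) {C C' : CochainComplex C₀ ℤ} (g : C ⟶ C') (B : CochainComplex C₀ ℤ) :
    (T.map₂CochainComplex.flip.map g).app ((T.map₂CochainComplex.obj A).obj B) ≫ (comm T α A C').hom.app B =
      (comm T α A C).hom.app B ≫ (T.map₂CochainComplex.obj A).map ((T.map₂CochainComplex.flip.map g).app B) :=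
  assoc_natural₃ T α A B g


/-- `comm` for any functor equal to the action on complexes. -/
noncomputable def commOf (Φ : CochainComplex C₀ ℤ ⥤ CochainComplex C₀ ℤ ⥤ CochainComplex C₀ ℤ)
    (hΦ : Φ = T.map₂CochainComplex) (A C : CochainComplex C₀ ℤ) : Φ.obj A ⋙ Φ.flip.obj C ≅ Φ.flip.obj C ⋙ Φ.obj A :=
  eqToIso (by rw [hΦ]) ≪≫ comm T α A C ≪≫ eqToIso (by rw [hΦ])

theorem commOf_nat (Φ : CochainComplex C₀ ℤ ⥤ CochainComplex C₀ ℤ ⥤ CochainComplex C₀ ℤ)
    (hΦ : Φ = T.map₂CochainComplex) (A : CochainComplex C₀ ℤ) {C C' : CochainComplex C₀ ℤ} (g : C ⟶ C')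
    (B : CochainComplex C₀ ℤ) :
    (Φ.flip.map g).app ((Φ.obj A).obj B) ≫ (commOf T α Φ hΦ A C').hom.app B =
      (commOf T α Φ hΦ A C).hom.app B ≫ (Φ.obj A).map ((Φ.flip.map g).app B) := by
  subst hΦ
  simpa [commOf] using comm_nat T α A g B

/-- `commOf` with its naturality. -/
noncomputable def commPair (Φ : CochainComplex C₀ ℤ ⥤ CochainComplex C₀ ℤ ⥤ CochainComplex C₀ ℤ)
    (hΦ : Φ = T.map₂CochainComplex) (A : CochainComplex C₀ ℤ) :
    { κ : ∀ C : CochainComplex C₀ ℤ, Φ.obj A ⋙ Φ.flip.obj C ≅ Φ.flip.obj C ⋙ Φ.obj A //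
      ∀ (C C' : CochainComplex C₀ ℤ) (g : C ⟶ C'),
        Functor.whiskerLeft (Φ.obj A) (Φ.flip.map g) ≫ (κ C').hom =
          (κ C).hom ≫ Functor.whiskerRight (Φ.flip.map g) (Φ.obj A) } :=
  ⟨commOf T α Φ hΦ A, fun _ _ g => NatTrans.ext (funext fun B => commOf_nat T α Φ hΦ A g B)⟩

end Assoc

section Tot

universe v₁ u₁

variable {C₀ : Type u₁} [Category.{v₁} C₀] [Abelian C₀] [HasDerivedCategory C₀] (T : C₀ ⥤ C₀ ⥤ C₀) [T.Additive]
  [∀ a, (T.obj a).Additive]
  [∀ (K₁ : CochainComplex C₀ ℤ) (K₂ : CochainComplex C₀ ℤ), CochainComplex.HasMapBifunctor K₁ K₂ T]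
  (Φ : CochainComplex C₀ ℤ ⥤ CochainComplex C₀ ℤ ⥤ CochainComplex C₀ ℤ)

/-- Tensoring with a complex which preserves quasi-isomorphisms descends to the derived category. -/
theorem inverts_of_tot (hΦ : Φ = T.map₂CochainComplex) (A : CochainComplex C₀ ℤ)
    (hA : ∀ {N E : CochainComplex C₀ ℤ} (f : N ⟶ E) [QuasiIso f], QuasiIso (totMap₂ T A f)) :
    (HomologicalComplex.quasiIso C₀ (ComplexShape.up ℤ)).IsInvertedBy (Φ.obj A ⋙ DerivedCategory.Q) := by
  subst hΦ
  intro Y Y' f hf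
  haveI := (HomologicalComplex.mem_quasiIso_iff _).1 hf
  exact Localization.inverts DerivedCategory.Q (HomologicalComplex.quasiIso C₀ (ComplexShape.up ℤ))
    (totMap₂ T A f) ((HomologicalComplex.mem_quasiIso_iff _).2 (hA f))

omit [HasDerivedCategory C₀] in
/-- The action on maps is `totMap₂`. -/
theorem quasiIso_map_of_tot (hΦ : Φ = T.map₂CochainComplex) {B₀ : Type*} [Category B₀] [Abelian B₀]
    (F : CochainComplex C₀ ℤ ⥤ CochainComplex B₀ ℤ) (A : CochainComplex C₀ ℤ) {N E : CochainComplex C₀ ℤ} (f : N ⟶ E)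
    (h : QuasiIso (F.map (totMap₂ T A f))) : QuasiIso (F.map ((Φ.obj A).map f)) := by
  subst hΦ
  exact h

omit [HasDerivedCategory C₀] in
/-- Tensoring keeps degreewise split sequences split. -/
theorem splitting_of_tot (hΦ : Φ = T.map₂CochainComplex) (A : CochainComplex C₀ ℤ) [(Φ.obj A).PreservesZeroMorphisms]
    (S : ShortComplex (CochainComplex C₀ ℤ))
    (hS : ∀ n, Nonempty ((S.map (HomologicalComplex.eval C₀ (ComplexShape.up ℤ) n)).Splitting)) (n : ℤ) :
    Nonempty (((S.map (Φ.obj A)).map (HomologicalComplex.eval C₀ (ComplexShape.up ℤ) n)).Splitting) := by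
  subst hΦ
  exact TotHom.nonempty_splitting_tot₂ T A S hS n

end Tot

end Groth.Agent.DCat.AssocNat
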