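import Mathlib.Algebra.Homology.DerivedCategory.TStructure
import Mathlib.Algebra.Homology.DerivedCategory.HomologySequence
import Mathlib.Algebra.Homology.SingleHomology
import Mathlib.CategoryTheory.Triangulated.TStructure.TruncLTGE
import Mathlib.Algebra.Homology.DerivedCategory.SingleTriangle

/-! Dévissage of bounded objects of a derived category along their cohomology objects. -/

set_option autoImplicit false
set_option backward.isDefEq.respectTransparency false
set_option backward.defeqAttrib.useBackward true
set_option linter.style.haveILetI false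

universe w v u

open CategoryTheory CategoryTheory.Limits CategoryTheory.Pretriangulated DerivedCategory

namespace Groth.Agent.BoundedDevissage17

variable {A : Type u} [Category.{v} A] [Abelian A] [HasDerivedCategory.{w} A]

/-- An object with bounded cohomology lies in a property closed under extensions containing its
cohomology objects. -/
theorem prop_of_homology (P : DerivedCategory A → Prop) (hiso : ∀ {K L : DerivedCategory A}, (K ≅ L) → P K → P L)
    (hzero : ∀ K, IsZero K → P K)
    (hext : ∀ T ∈ (distinguishedTriangles : Set (Triangle (DerivedCategory A))), P T.obj₁ → P T.obj₃ → P T.obj₂) :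
    ∀ (k : ℕ) (a : ℤ) (K : DerivedCategory A), K.IsGE a → K.IsLE (a - 1 + k) →
      (∀ i : ℤ, P ((singleFunctor A i).obj ((homologyFunctor A i).obj K))) → P K := by
  intro k
  induction k with
  | zero =>
    intro a K ha hb _
    haveI := ha
    haveI := hb
    refine hzero K ?_
    rw [IsZero.iff_id_eq_zero]
    exact TStructure.t.zero (𝟙 K) (a - 1 + ((0 : ℕ) : ℤ)) a (by omega)
  | succ k ih =>
    intro a K ha hb h
    haveI := ha
    haveI := hb
    let b : ℤ := a + k
    haveI : K.IsLE b := by rwa [show b = a - 1 + ((k + 1 : ℕ) : ℤ) by simp only [b]; omega]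
    let t := TStructure.t (C := A)
    have hT := t.triangleLTGE_distinguished b K
    let HF := fun i : ℤ => homologyFunctor A i
    haveI h1 : ((t.truncLT b).obj K).IsLE (b - 1) := t.isLE_truncLT_obj K b (b - 1) (by omega)
    haveI h3 : ((t.truncGE b).obj K).IsGE b := t.isGE_truncGE_obj K b b (by omega)
    have hiso₂ : ∀ j, b ≤ j → IsIso ((homologyFunctor A j).map ((t.truncGEπ b).app K)) := fun j hj => by
      haveI : Epi ((homologyFunctor A j).map ((t.truncGEπ b).app K)) :=
        (HomologySequence.epi_homologyMap_mor₂_iff _ hT j (j + 1) rfl).2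
          ((isZero_of_isLE ((t.truncLT b).obj K) (b - 1) (j + 1) (by omega)).eq_of_tgt _ _)
      haveI : Mono ((homologyFunctor A j).map ((t.truncGEπ b).app K)) :=
        (HomologySequence.mono_homologyMap_mor₂_iff _ hT j).2
          ((isZero_of_isLE ((t.truncLT b).obj K) (b - 1) j (by omega)).eq_of_src _ _)
      exact isIso_of_mono_of_epi _
    have hiso₁ : ∀ j, j < b → IsIso ((homologyFunctor A j).map ((t.truncLTι b).app K)) := fun j hj => by
      haveI : Epi ((homologyFunctor A j).map ((t.truncLTι b).app K)) :=
        (HomologySequence.epi_homologyMap_mor₁_iff _ hT j).2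
          ((isZero_of_isGE ((t.truncGE b).obj K) b j hj).eq_of_tgt _ _)
      haveI : Mono ((homologyFunctor A j).map ((t.truncLTι b).app K)) :=
        (HomologySequence.mono_homologyMap_mor₁_iff _ hT (j - 1) j (by omega)).2
          ((isZero_of_isGE ((t.truncGE b).obj K) b (j - 1) (by omega)).eq_of_src _ _)
      exact isIso_of_mono_of_epi _
    haveI h3' : ((t.truncGE b).obj K).IsLE b := by
      rw [isLE_iff]
      intro j hj
      haveI := hiso₂ j (by omega)
      exact IsZero.of_iso (isZero_of_isLE K b j hj) (asIso ((homologyFunctor A j).map ((t.truncGEπ b).app K))).symm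
    haveI h1' : ((t.truncLT b).obj K).IsGE a := by
      rw [isGE_iff]
      intro i hi
      haveI := hiso₁ i (by omega)
      exact IsZero.of_iso (isZero_of_isGE K a i hi) (asIso ((homologyFunctor A i).map ((t.truncLTι b).app K)))
    refine hext _ hT (ih a _ h1' ?_ fun i => ?_) ?_
    · exact t.isLE_of_le _ (b - 1) _ (by omega)
    · by_cases hib : i < b
      · haveI := hiso₁ i hib
        exact hiso ((singleFunctor A i).mapIso
          (asIso ((homologyFunctor A i).map ((t.truncLTι b).app K))).symm) (h i)
      · exact hzero _ (Functor.map_isZero _ (isZero_of_isLE ((t.truncLT b).obj K) (b - 1) i (by omega)))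
    · haveI := hiso₂ b le_rfl
      obtain ⟨M, ⟨eM⟩⟩ := exists_iso_singleFunctor_obj_of_isGE_of_isLE ((t.truncGE b).obj K) b
      let eH : M ≅ (homologyFunctor A b).obj K :=
        (HomologicalComplex.singleObjHomologySelfIso (ComplexShape.up ℤ) b M).symm ≪≫
          ((homologyFunctorFactors A b).app _).symm ≪≫
          (homologyFunctor A b).mapIso (eM ≪≫ (singleFunctorIsoCompQ A b).app M).symm ≪≫
          (asIso ((homologyFunctor A b).map ((t.truncGEπ b).app K))).symm
      exact hiso ((singleFunctor A b).mapIso eH.symm ≪≫ eM.symm) (h b)

end Groth.Agent.BoundedDevissage17
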