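import Groth.Agent.DCat.CompactRing17
import Groth.Agent.DCat.BoundedDevissage17
import Groth.Prelude.Def_W4stkfunctorsequivp2Beil
import Mathlib.RingTheory.MvPolynomial.Basic
import Mathlib.RingTheory.MvPolynomial.Homogeneous
import Mathlib.RingTheory.Noetherian.Basic
import Mathlib.RingTheory.Noetherian.Orzech
import Mathlib.RingTheory.PrincipalIdealDomain
import Mathlib.RingTheory.Finiteness.Basic
import Mathlib.Algebra.Algebra.RestrictScalars

/-! Compact objects over the Beilinson algebra. -/

set_option autoImplicit false
set_option backward.isDefEq.respectTransparency false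
set_option backward.defeqAttrib.useBackward true
set_option linter.style.haveILetI false
set_option linter.unusedSectionVars false

universe u

open CategoryTheory CategoryTheory.Limits CategoryTheory.Pretriangulated MvPolynomial
open Groth.Agent.CompactRing17

attribute [local instance] HasDerivedCategory.standard

namespace Groth.Agent.Beilinson17

section Generic

variable {k : Type u} [Field k] {R : Type u} [Ring R] [Algebra k R] {n : ℕ} {e : Fin (n + 1) → R}

/-- A finite-dimensional algebra with a complete family of idempotents which is triangular with scalar corners. -/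
structure Tri (k : Type u) [Field k] {R : Type u} [Ring R] [Algebra k R] {n : ℕ} (e : Fin (n + 1) → R) : Prop where
  fin : Module.Finite k R
  idem : ∀ j, e j * e j = e j
  sum_eq_one : ∑ j, e j = 1
  tri : ∀ {j l : Fin (n + 1)}, j < l → ∀ r, e l * r * e j = 0
  corner : ∀ j r, ∃ c : k, e j * r * e j = algebraMap k R c * e j

theorem isNoetherianRing (hA : Tri k e) : IsNoetherianRing R := by
  haveI := hA.fin
  haveI : IsNoetherian k R := isNoetherian_of_isNoetherianRing_of_finite k R
  exact isNoetherian_of_tower k inferInstance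

/-- Compact modules. -/
def CptM (M : ModuleCat.{u} R) : Prop :=
  Cpt ((DerivedCategory.singleFunctor (ModuleCat.{u} R) 0).obj M)

theorem cptM_of_isZero {M : ModuleCat.{u} R} (h : IsZero M) : CptM M :=
  Cpt.of_isZero (Functor.map_isZero _ h)

theorem cptM_ext {M : Type u} [AddCommGroup M] [Module R M] (N : Submodule R M)
    (h₁ : CptM (ModuleCat.of R N)) (h₃ : CptM (ModuleCat.of R (M ⧸ N))) : CptM (ModuleCat.of R M) := by
  let S : ShortComplex (ModuleCat.{u} R) := ShortComplex.mk (ModuleCat.ofHom N.subtype)
    (ModuleCat.ofHom N.mkQ) (ModuleCat.hom_ext (by ext x; simp))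
  have hS : S.ShortExact :=
    { exact := (ShortComplex.ShortExact.moduleCat_exact_iff_function_exact S).2 (LinearMap.exact_subtype_mkQ N)
      mono_f := (ModuleCat.mono_iff_injective _).2 N.injective_subtype
      epi_g := (ModuleCat.epi_iff_surjective _).2 N.mkQ_surjective }
  exact Cpt.ext hS.singleTriangle_distinguished h₁ h₃

theorem cptM_ring : CptM (ModuleCat.of R R) :=
  Cpt.of_iso ((DerivedCategory.singleFunctorIsoCompQ (ModuleCat.{u} R) 0).app _).symm (cpt_gen 0)

/-- The projective `R e_j`. -/
noncomputable abbrev colMod (e : Fin (n + 1) → R) (j : Fin (n + 1)) : Submodule R R :=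
  LinearMap.range (LinearMap.toSpanSingleton R R (e j))

theorem cptM_colMod (hA : Tri k e) (j : Fin (n + 1)) : CptM (ModuleCat.of R (colMod e j)) := by
  refine Cpt.of_retract (Retract.map ⟨ModuleCat.ofHom (colMod e j).subtype,
    ModuleCat.ofHom ((LinearMap.toSpanSingleton R R (e j)).rangeRestrict), ?_⟩ _) cptM_ring
  refine ModuleCat.hom_ext (LinearMap.ext fun x => Subtype.ext ?_)
  obtain ⟨r, hr⟩ := LinearMap.mem_range.1 x.2
  change (x : R) • e j = (x : R)
  rw [← hr]
  change (r * e j) * e j = r * e j
  rw [mul_assoc, hA.idem]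


/-- Finitely generated modules are compact. -/
theorem cptM_of_finite (hA : Tri k e) : ∀ (j : ℕ) (M : Type u) [AddCommGroup M] [Module R M] [Module.Finite R M],
    (∀ l : Fin (n + 1), j ≤ (l : ℕ) → ∀ x : M, e l • x = 0) → CptM (ModuleCat.of R M) := by
  haveI := isNoetherianRing hA
  intro j
  induction j with
  | zero =>
    intro M _ _ _ h
    haveI : Subsingleton M := subsingleton_of_forall_eq 0 fun x => by
      rw [← one_smul R x, ← hA.sum_eq_one, Finset.sum_smul]
      exact Finset.sum_eq_zero fun l _ => h l (Nat.zero_le _) x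
    exact cptM_of_isZero (ModuleCat.isZero_of_subsingleton _)
  | succ j ih =>
    intro M _ _ _ h
    by_cases hj : j < n + 1
    swap
    · exact ih M fun l hl => absurd l.2 (by omega)
    let J : Fin (n + 1) := ⟨j, hj⟩
    suffices key : ∀ (m : ℕ) (M : Type u) [AddCommGroup M] [Module R M] [Module.Finite R M] (v : Fin m → M),
        (∀ l : Fin (n + 1), j + 1 ≤ (l : ℕ) → ∀ x : M, e l • x = 0) →
        (∀ a, e J • v a = v a) →
        (∀ x : M, ∃ c : Fin m → k, e J • x = ∑ a, algebraMap k R (c a) • v a) →
        CptM (ModuleCat.of R M) by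
      letI : Module k M := Module.compHom M (algebraMap k R)
      haveI : IsScalarTower k R M := IsScalarTower.of_algebraMap_smul fun _ _ => rfl
      haveI := hA.fin
      haveI : Module.Finite k M := Module.Finite.trans R M
      obtain ⟨m, g, hg⟩ := Module.Finite.exists_fin (R := k) (M := M)
      refine key m M (fun a => e J • g a) h (fun a => by rw [← mul_smul, hA.idem]) fun x => ?_
      obtain ⟨c, hc⟩ := (Submodule.mem_span_range_iff_exists_fun k).1 (hg ▸ Submodule.mem_top (x := x))
      refine ⟨c, ?_⟩
      rw [← hc, Finset.smul_sum]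
      refine Finset.sum_congr rfl fun a _ => ?_
      show e J • algebraMap k R (c a) • g a = _
      rw [← mul_smul, ← mul_smul, Algebra.commutes]
    intro m
    induction m with
    | zero =>
      intro M _ _ _ v hl _ hsp
      refine ih M fun l hlj x => ?_
      rcases Nat.lt_or_ge j (l : ℕ) with h' | h'
      · exact hl l h' x
      · obtain rfl : l = J := Fin.ext (le_antisymm h' hlj)
        obtain ⟨c, hc⟩ := hsp x
        simpa using hc
    | succ m ihm =>
      intro M _ _ _ v hl hv hsp
      let ψ : colMod e J →ₗ[R] M := (LinearMap.toSpanSingleton R M (v 0)).comp (colMod e J).subtype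
      let N : Submodule R M := LinearMap.range ψ
      haveI : Module.Finite R N := Module.Finite.of_fg (IsNoetherian.noetherian N)
      have hvN : v 0 ∈ N := ⟨⟨e J, 1, one_smul _ _⟩, hv 0⟩
      refine cptM_ext N ?_ ?_
      · by_cases hv0 : v 0 = 0
        · haveI : Subsingleton N := subsingleton_of_forall_eq 0 fun x => Subtype.ext (by
            obtain ⟨y, hy⟩ := x.2
            rw [← hy]
            show (y : R) • v 0 = 0
            rw [hv0, smul_zero])
          exact cptM_of_isZero (ModuleCat.isZero_of_subsingleton _)
        haveI : Module.Finite R (LinearMap.ker ψ) := Module.Finite.of_fg (IsNoetherian.noetherian _)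
        have hker : CptM (ModuleCat.of R (LinearMap.ker ψ)) := by
          refine ih _ fun l hlj x => Subtype.ext (Subtype.ext ?_)
          obtain ⟨r, hr⟩ := LinearMap.mem_range.1 x.1.2
          have hr' : ((x.1 : R)) = r * e J := hr.symm
          show e l * (x.1 : R) = 0
          rw [hr', ← mul_assoc]
          rcases Nat.lt_or_ge j (l : ℕ) with h' | h'
          · exact hA.tri (show J < l from h') r
          · obtain rfl : l = J := Fin.ext (le_antisymm h' hlj)
            obtain ⟨c, hc⟩ := hA.corner J r
            have hx : (x.1 : R) • v 0 = 0 := x.2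
            have h0 : algebraMap k R c • v 0 = 0 := by
              have := congrArg (fun z => e J • z) hx
              simp only [smul_zero] at this
              rw [← mul_smul, hr', ← mul_assoc, hc, mul_smul, hv] at this
              exact this
            rw [hc]
            by_cases hc0 : c = 0
            · rw [hc0, map_zero, zero_mul]
            · refine absurd ?_ hv0
              have := congrArg (fun z => algebraMap k R c⁻¹ • z) h0
              simpa [← mul_smul, ← map_mul, inv_mul_cancel₀ hc0] using this
        let S : ShortComplex (ModuleCat.{u} R) := ShortComplex.mk (ModuleCat.ofHom (LinearMap.ker ψ).subtype)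
          (ModuleCat.ofHom ψ.rangeRestrict) (ModuleCat.hom_ext (LinearMap.ext fun x => Subtype.ext x.2))
        have hS : S.ShortExact :=
          { exact := (ShortComplex.ShortExact.moduleCat_exact_iff_function_exact S).2 (fun x => by
              refine ⟨fun hx => ⟨⟨x, congrArg Subtype.val hx⟩, rfl⟩, ?_⟩
              rintro ⟨y, rfl⟩
              exact Subtype.ext y.2)
            mono_f := (ModuleCat.mono_iff_injective _).2 (Submodule.injective_subtype _)
            epi_g := (ModuleCat.epi_iff_surjective _).2 ψ.surjective_rangeRestrict }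
        exact Cpt.cone hS.singleTriangle_distinguished (cptM_colMod hA J) (hker.shift 1)
      · refine ihm (M ⧸ N) (fun a => N.mkQ (v a.succ)) (fun l hlj x => ?_) (fun a => ?_) fun x => ?_
        · obtain ⟨y, rfl⟩ := N.mkQ_surjective x
          rw [← map_smul, hl l hlj, map_zero]
        · rw [← map_smul, hv]
        · obtain ⟨y, rfl⟩ := N.mkQ_surjective x
          obtain ⟨c, hc⟩ := hsp y
          refine ⟨fun a => c a.succ, ?_⟩
          rw [← map_smul, hc, Fin.sum_univ_succ, map_add, map_sum]
          have : N.mkQ (algebraMap k R (c 0) • v 0) = 0 :=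
            (Submodule.Quotient.mk_eq_zero N).2 (N.smul_mem _ hvN)
          rw [this, zero_add]
          simp only [map_smul]

/-- Finitely generated cohomology, almost all zero. -/
def FinH (K : DerivedCategory (ModuleCat.{u} R)) : Prop :=
  (∀ i : ℤ, Module.Finite R ((DerivedCategory.homologyFunctor (ModuleCat.{u} R) i).obj K)) ∧
    Set.Finite {i : ℤ | ¬ IsZero ((DerivedCategory.homologyFunctor (ModuleCat.{u} R) i).obj K)}

theorem cpt_of_finH (hA : Tri k e) {K : DerivedCategory (ModuleCat.{u} R)} (h : FinH K) : Cpt K := by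
  obtain ⟨⟨b, hb⟩, ⟨a, ha⟩⟩ := h.2.bddAbove, h.2.bddBelow
  haveI hga : K.IsGE a := (DerivedCategory.isGE_iff _ _).2 fun i hi => by
    by_contra hz
    exact absurd (ha hz) (by omega)
  have hlb : K.IsLE (a - 1 + ((b - a + 1).toNat : ℕ)) := (DerivedCategory.isLE_iff _ _).2 fun i hi => by
    by_contra hz
    have := hb hz
    omega
  refine BoundedDevissage17.prop_of_homology Cpt (fun e h => h.of_iso e) (fun _ hz => Cpt.of_isZero hz)
    (fun _ hT h₁ h₃ => Cpt.ext hT h₁ h₃) _ a K hga hlb fun i => ?_
  haveI := h.1 i
  exact Cpt.of_iso (((DerivedCategory.singleFunctors (ModuleCat.{u} R)).shiftIso (-i) i 0 (by omega)).app _)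
    ((cptM_of_finite hA (n + 1) _ fun l hl => absurd l.2 (by omega)).shift (-i))

theorem finite_exact (hA : Tri k e) {S : ShortComplex (ModuleCat.{u} R)} (hS : S.Exact) (h₁ : Module.Finite R S.X₁)
    (h₃ : Module.Finite R S.X₃) : Module.Finite R S.X₂ := by
  haveI := isNoetherianRing hA
  haveI : IsNoetherian R S.X₁ := isNoetherian_of_isNoetherianRing_of_finite R _
  haveI : IsNoetherian R S.X₃ := isNoetherian_of_isNoetherianRing_of_finite R _
  haveI : IsNoetherian R S.X₂ :=
    isNoetherian_of_range_eq_ker S.f.hom S.g.hom ((ShortComplex.moduleCat_exact_iff_range_eq_ker S).1 hS)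
  infer_instance

theorem finH_of_cpt (hA : Tri k e) {K : DerivedCategory (ModuleCat.{u} R)} (h : Cpt K) : FinH K := by
  haveI := isNoetherianRing hA
  let P : ObjectProperty (DerivedCategory (ModuleCat.{u} R)) := FinH
  let H := fun i : ℤ => DerivedCategory.homologyFunctor (ModuleCat.{u} R) i
  have hzero : ∀ L, IsZero L → P L := fun L hL =>
    ⟨fun i => by
      haveI := ModuleCat.subsingleton_of_isZero ((H i).map_isZero hL)
      exact inferInstanceAs (Module.Finite R ((H i).obj L)),
    Set.Finite.subset Set.finite_empty fun i hi => hi ((H i).map_isZero hL)⟩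
  have hret : ∀ {L L' : DerivedCategory (ModuleCat.{u} R)}, Retract L L' → P L' → P L := fun {L L'} r hL =>
    ⟨fun i => by
      haveI := hL.1 i
      haveI : Epi ((r.map (H i)).r) := SplitEpi.epi ⟨(r.map (H i)).i, (r.map (H i)).retract⟩
      exact Module.Finite.of_surjective ((r.map (H i)).r).hom ((ModuleCat.epi_iff_surjective _).1 inferInstance),
    hL.2.subset fun i hi hz => hi (IsZero.of_mono ((r.map (H i)).i) hz)⟩
  haveI : P.IsClosedUnderIsomorphisms := ⟨fun e h => hret ⟨e.inv, e.hom, e.inv_hom_id⟩ h⟩
  haveI : P.IsStableUnderRetracts := ⟨fun r h => hret r h⟩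
  haveI : P.IsStableUnderShift ℤ :=
    { isStableUnderShiftBy := fun a => ⟨fun L hL =>
        ⟨fun i => by
          haveI : Module.Finite R ↑(((H 0).shift (a + i)).obj L) := hL.1 (a + i)
          exact Module.Finite.equiv (((H 0).shiftIso a i (a + i) rfl).app L).symm.toLinearEquiv,
        (hL.2.image fun i => i - a).subset fun i hi =>
          ⟨a + i, fun hz => hi (hz.of_iso (((H 0).shiftIso a i (a + i) rfl).app L)), by ring⟩⟩⟩ }
  haveI : P.IsTriangulatedClosed₂ := ObjectProperty.IsTriangulatedClosed₂.mk' fun T hT h₁ h₃ =>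
    ⟨fun i => finite_exact hA (DerivedCategory.HomologySequence.exact₂ T hT i) (h₁.1 i) (h₃.1 i),
    (h₁.2.union h₃.2).subset fun i hi => by
      by_contra hc
      simp only [Set.mem_union, Set.mem_setOf_eq, not_or, not_not] at hc
      exact hi ((DerivedCategory.HomologySequence.exact₂ T hT i).isZero_of_both_zeros
        (hc.1.eq_of_src _ _) (hc.2.eq_of_tgt _ _))⟩
  haveI : P.ContainsZero := { exists_zero := ⟨_, isZero_zero _, hzero _ (isZero_zero _)⟩ }
  haveI : P.IsTriangulated := { }
  refine @prop_of_compact R _ (smallD R) (DerivedCategory (ModuleCat.{u} R)) _ _ _ _ _ _ (cmpD R) _ _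
    (isEquivalence_cmpD R) P _ _ _ (fun m => ?_) K h
  refine ObjectProperty.prop_of_iso P ((cmpDIso R).app (DCat.ringCx R m)).symm ?_
  let e' : ∀ i, (H i).obj (DerivedCategory.Q.obj (DCat.ringCx R m)) ≅ (DCat.ringCx R m).homology i :=
    fun i => (DerivedCategory.homologyFunctorFactors (ModuleCat.{u} R) i).app _
  have hz : ∀ i, i ≠ m → IsZero ((H i).obj (DerivedCategory.Q.obj (DCat.ringCx R m))) := fun i hi =>
    IsZero.of_iso ((HomologicalComplex.exactAt_iff_isZero_homology _ _).1
      (HomologicalComplex.exactAt_single_obj _ m _ _ hi)) (e' i)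
  refine ⟨fun i => ?_, (Set.finite_singleton m).subset fun i hi => by_contra fun h' => hi (hz i h')⟩
  by_cases hi : i = m
  · subst hi
    exact Module.Finite.equiv (e' i ≪≫ HomologicalComplex.singleObjHomologySelfIso _ _ _).symm.toLinearEquiv
  · haveI := ModuleCat.subsingleton_of_isZero (hz i hi)
    exact inferInstanceAs (Module.Finite R ((H i).obj (DerivedCategory.Q.obj (DCat.ringCx R m))))

theorem finite_iff (hA : Tri k e) (M : ModuleCat.{u} R) : Module.Finite k (RestrictScalars k R M) ↔ Module.Finite R M := by
  haveI := hA.fin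
  letI : Module k M := Module.compHom M (algebraMap k R)
  haveI : IsScalarTower k R M := IsScalarTower.of_algebraMap_smul fun _ _ => rfl
  let E : RestrictScalars k R M ≃ₗ[k] M :=
    { RestrictScalars.addEquiv k R M with map_smul' := fun c x => RestrictScalars.addEquiv_map_smul k R M c x }
  constructor
  · intro h
    haveI : Module.Finite k M := Module.Finite.equiv E
    exact Module.Finite.of_restrictScalars_finite k R M
  · intro h
    haveI : Module.Finite k M := Module.Finite.trans R M
    exact Module.Finite.equiv E.symm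

open Opposite in
/-- Compact objects over a triangular algebra. -/
theorem compact_iff (hA : Tri k e) (K : DerivedCategory (ModuleCat.{u} R)) :
    (∀ J : Type u, PreservesColimitsOfShape (Discrete J) (preadditiveCoyoneda.obj (op K))) ↔
      ((∀ i : ℤ, Module.Finite k (RestrictScalars k R ((DerivedCategory.homologyFunctor (ModuleCat.{u} R) i).obj K))) ∧
        Set.Finite {i : ℤ | Nontrivial ((DerivedCategory.homologyFunctor (ModuleCat.{u} R) i).obj K)}) := by
  have hset : {i : ℤ | Nontrivial ((DerivedCategory.homologyFunctor (ModuleCat.{u} R) i).obj K)} =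
      {i : ℤ | ¬ IsZero ((DerivedCategory.homologyFunctor (ModuleCat.{u} R) i).obj K)} := by
    ext i
    simp only [Set.mem_setOf_eq, ModuleCat.isZero_iff_subsingleton, not_subsingleton_iff_nontrivial]
  rw [hset]
  refine ⟨fun h => ?_, fun h => ?_⟩
  · have h' := finH_of_cpt hA (cpt_of_preserves h)
    exact ⟨fun i => (finite_iff hA _).2 (h'.1 i), h'.2⟩
  · exact preserves_of_cpt (cpt_of_finH hA ⟨fun i => (finite_iff hA _).1 (h.1 i), h.2⟩)

end Generic

section Instance

variable (k : Type u) [Field k] (n : ℕ)

/-- The algebra. -/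
abbrev Bl : Type u := ↥(DEquiv.beilinsonAlg k n)

theorem module_finite : Module.Finite k (Bl k n) := by
  let φ : (Bl k n) →ₗ[k] (Fin (n + 1) → Fin (n + 1) → restrictTotalDegree (Fin (n + 1)) k n) :=
    { toFun := fun M i j => ⟨M.1 i j, by
        rw [mem_restrictTotalDegree]
        refine le_trans ((M.2 i j).2.totalDegree_le) ?_
        omega⟩
      map_add' := fun _ _ => rfl
      map_smul' := fun _ _ => rfl }
  haveI : IsNoetherian k (Fin (n + 1) → Fin (n + 1) → restrictTotalDegree (Fin (n + 1)) k n) :=
    isNoetherian_of_isNoetherianRing_of_finite k _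
  refine Module.Finite.of_injective φ fun M N h => Subtype.ext (Matrix.ext fun i j => ?_)
  exact congrArg Subtype.val (congrFun (congrFun h i) j)

/-- The diagonal idempotents. -/
noncomputable def eB (j : Fin (n + 1)) : (Bl k n) :=
  ⟨Matrix.single j j (1 : MvPolynomial (Fin (n + 1)) k), fun a b => by
    rw [Matrix.single_apply]
    refine ⟨fun hba => if_neg fun h => ?_, ?_⟩
    · obtain ⟨rfl, rfl⟩ := h
      exact lt_irrefl _ hba
    · split_ifs with h
      · obtain ⟨rfl, rfl⟩ := h
        rw [Nat.sub_self]
        exact isHomogeneous_one _ _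
      · exact isHomogeneous_zero _ _ _⟩

/-- The matrix ring. -/
abbrev Mat : Type u := Matrix (Fin (n + 1)) (Fin (n + 1)) (MvPolynomial (Fin (n + 1)) k)

theorem tri_bl : Tri k (eB k n) where
  fin := module_finite k n
  idem j := Subtype.ext (show (Matrix.single j j 1 : Mat k n) * Matrix.single j j 1 = Matrix.single j j 1 by simp)
  sum_eq_one := by
    refine Subtype.ext ?_
    rw [AddSubmonoidClass.coe_finsetSum]
    show (∑ j, (Matrix.single j j 1 : Mat k n)) = (1 : Mat k n)
    ext a b
    simp [Matrix.sum_apply, Matrix.one_apply, Matrix.single_apply, ite_and]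
  tri {j l} h r := by
    refine Subtype.ext ?_
    show (Matrix.single l l 1 : Mat k n) * (r.1 : Mat k n) * Matrix.single j j 1 = (0 : Mat k n)
    rw [Matrix.single_mul_mul_single, (r.2 l j).1 h]
    simp
  corner j r := by
    refine ⟨coeff 0 ((r.1 : Mat k n) j j), Subtype.ext ?_⟩
    show (Matrix.single j j 1 : Mat k n) * (r.1 : Mat k n) * Matrix.single j j 1 =
      algebraMap k (Mat k n) _ * Matrix.single j j 1
    have h : ((r.1 : Mat k n) j j).IsHomogeneous 0 := by simpa using (r.2 j j).2
    have hC := totalDegree_eq_zero_iff_eq_C.1 (Nat.le_zero.1 h.totalDegree_le)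
    rw [Matrix.single_mul_mul_single, one_mul, mul_one, ← Algebra.smul_def, Matrix.smul_single,
      Algebra.smul_def, mul_one, MvPolynomial.algebraMap_eq, ← hC]

end Instance

end Groth.Agent.Beilinson17
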