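import Groth.Prelude.Def_CohDer
import Groth.Agent.DCat.TriSum
import Mathlib.CategoryTheory.Triangulated.HomologicalFunctor
import Mathlib.CategoryTheory.Triangulated.Yoneda
import Mathlib.CategoryTheory.Triangulated.Opposite.Pretriangulated
import Mathlib.CategoryTheory.Adjunction.PartialAdjoint
import Mathlib.CategoryTheory.Preadditive.Yoneda.Basic
import Mathlib.Algebra.Category.Grp.Limits
import Mathlib.Algebra.Category.Grp.EpiMono

/-! Brown representability for perfectly generated triangulated categories. -/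

set_option autoImplicit false
set_option backward.isDefEq.respectTransparency false
set_option backward.defeqAttrib.useBackward true
set_option linter.style.haveILetI false

universe v u u'

open CategoryTheory CategoryTheory.Limits CategoryTheory.Pretriangulated Opposite

namespace Groth.Agent.DCat.Brown

variable {D : Type u} [Category.{v} D] [Preadditive D] [HasZeroObject D] [HasShift D ℤ]
  [∀ n : ℤ, (shiftFunctor D n).Additive] [Pretriangulated D]
  {J : Type v} (E : J → D) (H : Dᵒᵖ ⥤ AddCommGrpCat.{v})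

/-- Contravariant action on elements. -/
abbrev pb {X Y : D} (f : X ⟶ Y) (y : H.obj (op Y)) : H.obj (op X) := H.map f.op y

omit [Preadditive D] [HasZeroObject D] [HasShift D ℤ] [∀ n : ℤ, (shiftFunctor D n).Additive] [Pretriangulated D] in
lemma pb_comp {X Y Z : D} (f : X ⟶ Y) (g : Y ⟶ Z) (z : H.obj (op Z)) :
    pb H (f ≫ g) z = pb H f (pb H g z) := by
  simp [pb, op_comp, Functor.map_comp]

omit [Preadditive D] [HasZeroObject D] [HasShift D ℤ] [∀ n : ℤ, (shiftFunctor D n).Additive] [Pretriangulated D] in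
lemma pb_id {X : D} (x : H.obj (op X)) : pb H (𝟙 X) x = x := by
  simp [pb]

/-- `a` is universal on the family. -/
def IsBij {Z : D} (a : H.obj (op Z)) : Prop :=
  ∀ k, Function.Bijective fun e : E k ⟶ Z => pb H e a

/-- The hypotheses on the family. -/
structure IsPerfGen [HasColimitsOfShape (Discrete ℕ) D] : Prop where
  gen : ∀ X : D, (∀ (k : J) (f : E k ⟶ X), f = 0) → IsZero X
  fac : ∀ (X : ℕ → D) (k : J) (α : E k ⟶ ∐ X), ∃ (j : ℕ → J) (β : ∀ n, E (j n) ⟶ X n)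
    (γ : E k ⟶ ∐ fun n => E (j n)), α = γ ≫ Limits.Sigma.map β
  shift : ∀ k : J, ∃ k', Nonempty ((E k')⟦(1 : ℤ)⟧ ≅ E k)

variable [HasColimitsOfShape (Discrete ℕ) D] {E}

omit [HasZeroObject D] [∀ n : ℤ, (shiftFunctor D n).Additive] [Pretriangulated D] in
/-- Sums of maps surjective on the family are surjective on the family. -/
lemma IsPerfGen.sum_surj (hE : IsPerfGen E) {S X : ℕ → D} (π : ∀ n, S n ⟶ X n)
    (hπ : ∀ n k (e : E k ⟶ X n), ∃ e', e' ≫ π n = e) (k : J) (α : E k ⟶ ∐ X) :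
    ∃ α' : E k ⟶ ∐ S, α' ≫ Limits.Sigma.map π = α := by
  obtain ⟨j, β, γ, rfl⟩ := hE.fac X k α
  choose β' hβ' using fun n => hπ n (j n) (β n)
  refine ⟨γ ≫ Limits.Sigma.map β', ?_⟩
  rw [Category.assoc]
  congr 1
  ext n
  simp [reassoc_of% hβ' n]

/-- Kernels of sums are generated by sums of kernels. -/
lemma IsPerfGen.sum_ker (hE : IsPerfGen E) {M T X : ℕ → D} (q : ∀ n, T n ⟶ X n) (j : ∀ n, M n ⟶ T n)
    (hker : ∀ n k (e : E k ⟶ T n), e ≫ q n = 0 → ∃ e', e' ≫ j n = e) (k : J) (δ : E k ⟶ ∐ T)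
    (hδ : δ ≫ Limits.Sigma.map q = 0) : ∃ μ : E k ⟶ ∐ M, μ ≫ Limits.Sigma.map j = δ := by
  choose C c h hT using fun n => distinguished_cocone_triangle₁ (q n)
  have hS := coproduct_distinguished (fun n => Triangle.mk (c n) (q n) (h n)) hT
  obtain ⟨α, rfl⟩ := Triangle.coyoneda_exact₂ _ hS δ hδ
  obtain ⟨i, β, γ, rfl⟩ := hE.fac C k α
  choose β' hβ' using fun n => hker n (i n) (β n ≫ c n) (by
    rw [Category.assoc, show c n ≫ q n = 0 from comp_distTriang_mor_zero₁₂ _ (hT n), comp_zero])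
  refine ⟨γ ≫ Limits.Sigma.map β', ?_⟩
  simp only [Category.assoc, Triangle.mk_mor₁]
  refine congrArg (γ ≫ ·) ?_
  refine Sigma.hom_ext _ _ fun n => ?_
  exact (by simp [reassoc_of% hβ' n])

omit [HasZeroObject D] [Pretriangulated D] in
lemma IsPerfGen.shift_inj (hE : IsPerfGen E) {X Y : D} (f : X ⟶ Y)
    (hf : ∀ k (e : E k ⟶ X), e ≫ f = 0 → e = 0) (k : J) (e : E k ⟶ X⟦(1 : ℤ)⟧)
    (he : e ≫ f⟦(1 : ℤ)⟧' = 0) : e = 0 := by
  obtain ⟨k', ⟨i⟩⟩ := hE.shift k
  obtain ⟨e', he'⟩ := (shiftFunctor D (1 : ℤ)).map_surjective (i.hom ≫ e)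
  have h0 : e' ≫ f = 0 := (shiftFunctor D (1 : ℤ)).map_injective (by
    rw [Functor.map_comp, he', Category.assoc, he, comp_zero, Functor.map_zero])
  rw [← cancel_epi i.hom, ← he', hf k' e' h0, Functor.map_zero, comp_zero]

/-- The shift on a countable sum. -/
noncomputable def tel {X : ℕ → D} (f : ∀ n, X n ⟶ X (n + 1)) : ∐ X ⟶ ∐ X :=
  Sigma.desc fun n => Sigma.ι X n - f n ≫ Sigma.ι X (n + 1)

variable [H.IsHomological]

omit [HasColimitsOfShape (Discrete ℕ) D] in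
lemma pb_sub {X Y : D} (f g : X ⟶ Y) (y : H.obj (op Y)) : pb H (f - g) y = pb H f y - pb H g y := by
  simp [pb, op_sub, Functor.map_sub]

omit [HasColimitsOfShape (Discrete ℕ) D] in
lemma pb_zero {X Y : D} (y : H.obj (op Y)) : pb H (0 : X ⟶ Y) y = 0 := by
  simp [pb]

omit [HasColimitsOfShape (Discrete ℕ) D] in
lemma exists_pb_of_eq_zero {T : Triangle D} (hT : T ∈ distTriang D) (y : H.obj (op T.obj₂))
    (hy : pb H T.mor₁ y = 0) : ∃ z, pb H T.mor₂ z = y :=
  (ShortComplex.ab_exact_iff _).1 (H.map_distinguished_op_exact T hT) y hy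

/-- `H` turns sums into products. -/
def IsProd [HasCoproducts.{v} D] : Prop :=
  ∀ (κ : Type v) (X : κ → D), Function.Bijective fun (y : H.obj (op (∐ X))) k => pb H (Sigma.ι X k) y

variable {H} [HasCoproducts.{v} D]

omit [HasZeroObject D] [HasShift D ℤ] [∀ n : ℤ, (shiftFunctor D n).Additive] [Pretriangulated D] [HasColimitsOfShape (Discrete ℕ) D] [H.IsHomological] in
lemma IsProd.exists_nat [HasColimitsOfShape (Discrete ℕ) D] (hH : IsProd H) (X : ℕ → D)
    (x : ∀ n, H.obj (op (X n))) : ∃ y : H.obj (op (∐ X)), ∀ n, pb H (Sigma.ι X n) y = x n := by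
  obtain ⟨y, hy⟩ := (hH (ULift.{v} ℕ) fun n => X n.down).2 fun n => x n.down
  refine ⟨pb H (Sigma.desc fun n => Sigma.ι (fun m : ULift.{v} ℕ => X m.down) ⟨n⟩) y, fun n => ?_⟩
  rw [← pb_comp, Sigma.ι_desc]
  exact congrFun hy ⟨n⟩

omit [HasZeroObject D] [HasShift D ℤ] [∀ n : ℤ, (shiftFunctor D n).Additive] [Pretriangulated D] [HasColimitsOfShape (Discrete ℕ) D] [H.IsHomological] in
lemma IsProd.ext_nat [HasColimitsOfShape (Discrete ℕ) D] (hH : IsProd H) (X : ℕ → D)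
    (y y' : H.obj (op (∐ X))) (h : ∀ n, pb H (Sigma.ι X n) y = pb H (Sigma.ι X n) y') : y = y' := by
  let s : (∐ fun m : ULift.{v} ℕ => X m.down) ⟶ ∐ X := Sigma.desc fun n => Sigma.ι X n.down
  let s' : ∐ X ⟶ ∐ fun m : ULift.{v} ℕ => X m.down :=
    Sigma.desc fun n => Sigma.ι (fun m : ULift.{v} ℕ => X m.down) ⟨n⟩
  have hs : s' ≫ s = 𝟙 _ := by ext n; simp [s, s']
  have e : pb H s y = pb H s y' := (hH _ _).1 (funext fun n => by
    simp only [s, ← pb_comp, Sigma.ι_desc]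
    exact h n.down)
  rw [← pb_id H y, ← pb_id H y', ← hs, pb_comp, pb_comp, e]

/-- The attaching step. -/
lemma step (hH : IsProd H) (X : D) (a : H.obj (op X)) :
    ∃ (X' : D) (a' : H.obj (op X')) (f : X ⟶ X'), pb H f a' = a ∧
      ∀ k (e : E k ⟶ X), pb H e a = 0 → e ≫ f = 0 := by
  let P := {p : Σ k, E k ⟶ X // pb H p.2 a = 0}
  let r : (∐ fun p : P => E p.1.1) ⟶ X := Sigma.desc fun p => p.1.2
  obtain ⟨X', f, h, hT⟩ := distinguished_cocone_triangle r
  have hr : pb H r a = 0 := (hH P _).1 (funext fun p => by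
    simp only [r, ← pb_comp, Sigma.ι_desc, p.2]
    exact (map_zero _).symm)
  obtain ⟨a', ha'⟩ := exists_pb_of_eq_zero H hT a hr
  refine ⟨X', a', f, ha', fun k e he => ?_⟩
  have : e = Sigma.ι (fun p : P => E p.1.1) ⟨⟨k, e⟩, he⟩ ≫ r := by simp [r]
  rw [this, Category.assoc, show r ≫ f = 0 from comp_distTriang_mor_zero₁₂ _ hT, comp_zero]

/-- Extension of a pair to one universal on the family. -/
theorem exists_bij_ext (hE : IsPerfGen E) (hH : IsProd H) {T : D} (b : H.obj (op T))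
    (hb : ∀ k, Function.Surjective fun e : E k ⟶ T => pb H e b) :
    ∃ (Z : D) (a : H.obj (op Z)) (g : T ⟶ Z), pb H g a = b ∧ IsBij E H a := by
  choose N na nf hnf hker using fun p : Σ X : D, H.obj (op X) => step (E := E) hH p.1 p.2
  let tw : ℕ → Σ X : D, H.obj (op X) := fun n => Nat.rec ⟨T, b⟩ (fun _ p => ⟨N p, na p⟩) n
  let X : ℕ → D := fun n => (tw (n + 1)).1
  let a : ∀ n, H.obj (op (X n)) := fun n => (tw (n + 1)).2
  let f : ∀ n, X n ⟶ X (n + 1) := fun n => nf (tw (n + 1))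
  have hf : ∀ n, pb H (f n) (a (n + 1)) = a n := fun n => hnf (tw (n + 1))
  let q : ∀ n, T ⟶ X n := fun n => Nat.rec (nf ⟨T, b⟩) (fun m qm => qm ≫ f m) n
  have hq : ∀ n, pb H (q n) (a n) = b := by
    intro n
    induction n with
    | zero => exact hnf ⟨T, b⟩
    | succ n ih => exact (pb_comp H (q n) (f n) _).trans (by rw [hf, ih])
  have hqb : ∀ n k (e : E k ⟶ T), e ≫ q n = 0 ↔ pb H e b = 0 := by
    intro n k e
    refine ⟨fun he => by rw [← hq n, ← pb_comp, he, pb_zero], fun he => ?_⟩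
    induction n with
    | zero => exact hker ⟨T, b⟩ k e he
    | succ n ih =>
      change e ≫ q n ≫ f n = 0
      rw [← Category.assoc, ih, zero_comp]
  have him : ∀ n k (e : E k ⟶ X n), ∃ e₀ : E k ⟶ T, e ≫ f n = e₀ ≫ q (n + 1) := by
    intro n k e
    obtain ⟨e₀, he₀⟩ := hb k (pb H e (a n))
    refine ⟨e₀, ?_⟩
    have : (e - e₀ ≫ q n) ≫ f n = 0 := hker (tw (n + 1)) k _ (by
      change pb H (e - e₀ ≫ q n) (a n) = 0
      rw [pb_sub, pb_comp, hq, sub_eq_zero]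
      exact he₀.symm)
    rw [Preadditive.sub_comp, sub_eq_zero] at this
    exact this.trans (Category.assoc _ _ _)
  let S : ℕ → D := fun n => ∐ fun p : Σ k, E k ⟶ X n => E p.1
  let π : ∀ n, S n ⟶ X n := fun n => Sigma.desc fun p => p.2
  have hπ : ∀ n k (e : E k ⟶ X n), ∃ e', e' ≫ π n = e := fun n k e =>
    ⟨Sigma.ι (fun p : Σ k, E k ⟶ X n => E p.1) ⟨k, e⟩, by simp [π]⟩
  choose t₀ ht₀ using him
  let t : ∀ n, S n ⟶ T := fun n => Sigma.desc fun p => t₀ n p.1 p.2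
  have ht : ∀ n, π n ≫ f n = t n ≫ q (n + 1) := fun n => Sigma.hom_ext _ _ fun p => by
    simp [π, t, ht₀]
  let M : D := ∐ fun p : {p : Σ k, E k ⟶ T // pb H p.2 b = 0} => E p.1.1
  let j : M ⟶ T := Sigma.desc fun p => p.1.2
  have hj : ∀ n, j ≫ q n = 0 := fun n => Sigma.hom_ext _ _ fun p => by
    simp only [j, Sigma.ι_desc_assoc, comp_zero]
    exact (hqb n _ _).2 p.2
  let TT : ℕ → D := fun _ => T
  let MM : ℕ → D := fun _ => M
  let Ψ : ∐ TT ⟶ ∐ X := Limits.Sigma.map q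
  let sh : ∐ X ⟶ ∐ X := Sigma.desc fun n => f n ≫ Sigma.ι X (n + 1)
  let σ : ∐ TT ⟶ ∐ TT := Sigma.desc fun n => Sigma.ι TT (n + 1)
  let ψ : ∐ S ⟶ ∐ TT := Sigma.desc fun n => t n ≫ Sigma.ι TT (n + 1)
  let r : ∐ TT ⟶ ∐ TT := Sigma.desc fun n => -∑ i ∈ Finset.range n, Sigma.ι TT i
  let r' : ∐ MM ⟶ ∐ MM := Sigma.desc fun n => -∑ i ∈ Finset.range n, Sigma.ι MM i
  let nab : ∐ TT ⟶ T := Sigma.desc fun _ => 𝟙 T
  have htel : tel f = 𝟙 _ - sh := Sigma.hom_ext _ _ fun n => by simp [tel, sh, Preadditive.comp_sub]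
  have hσ : σ ≫ Ψ = Ψ ≫ sh := Sigma.hom_ext _ _ fun n => by
    simp [σ, Ψ, sh, q, TT]
  have hψ : ψ ≫ Ψ = Limits.Sigma.map π ≫ sh := Sigma.hom_ext _ _ fun n => by
    simp [ψ, Ψ, sh, TT, reassoc_of% ht n]
  have hjr : Limits.Sigma.map (fun _ : ℕ => j) ≫ r = r' ≫ Limits.Sigma.map (fun _ : ℕ => j) :=
    Sigma.hom_ext _ _ fun n => by
      simp [r, r', MM, TT, Preadditive.comp_neg, Preadditive.comp_sum, Preadditive.neg_comp, Preadditive.sum_comp]
  have hσr : (𝟙 _ - σ) ≫ r = 𝟙 _ := Sigma.hom_ext _ _ fun n => by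
    simp [σ, r, Preadditive.sub_comp, Preadditive.comp_sub, Finset.sum_range_succ]
  have hker' : ∀ (k : J) (ξ : E k ⟶ ∐ TT), (ξ - ξ ≫ σ) ≫ Ψ = 0 → ξ ≫ Ψ = 0 := by
    intro k ξ hξ
    obtain ⟨μ, hμ⟩ := hE.sum_ker (T := TT) (M := MM) q (fun _ => j) (fun n k e he =>
      ⟨Sigma.ι (fun p : {p : Σ k, E k ⟶ T // pb H p.2 b = 0} => E p.1.1) ⟨⟨k, e⟩, (hqb n k e).1 he⟩,
        by simp [j]⟩) k (ξ - ξ ≫ σ) hξ
    have e : ξ = (ξ - ξ ≫ σ) ≫ r := by
      rw [show ξ - ξ ≫ σ = ξ ≫ (𝟙 _ - σ) by simp [Preadditive.comp_sub], Category.assoc, hσr,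
        Category.comp_id]
    have hjΨ : Limits.Sigma.map (fun _ : ℕ => j) ≫ Ψ = 0 := Sigma.hom_ext _ _ fun n => by
      simp [Ψ, TT, reassoc_of% hj n]
    rw [e, ← hμ, Category.assoc μ, hjr]
    simp [hjΨ]
  have hinj : ∀ k (α : E k ⟶ ∐ X), α ≫ tel f = 0 → α = 0 := by
    intro k α hα
    have hα' : α = α ≫ sh := by
      rwa [htel, Preadditive.comp_sub, Category.comp_id, sub_eq_zero] at hα
    obtain ⟨γ, hγ⟩ := hE.sum_surj π hπ k α
    have hξ : α = (γ ≫ ψ) ≫ Ψ := by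
      rw [Category.assoc, hψ, reassoc_of% hγ, ← hα']
    rw [hξ]
    refine hker' k _ ?_
    rw [Preadditive.sub_comp, Category.assoc (γ ≫ ψ), hσ, ← Category.assoc, ← hξ, sub_eq_zero]
    exact hα'
  obtain ⟨Z, p, h, hT⟩ := distinguished_cocone_triangle (tel f)
  obtain ⟨â, hâ⟩ := hH.exists_nat X a
  have h0 : pb H (tel f) â = 0 := hH.ext_nat X _ _ fun n => by
    rw [← pb_comp, tel, Sigma.ι_desc, pb_sub, hâ, pb_comp, hâ, hf, sub_self]
    exact (map_zero _).symm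
  obtain ⟨aZ, haZ⟩ := exists_pb_of_eq_zero H hT â h0
  dsimp at haZ aZ
  let g : T ⟶ Z := q 0 ≫ Sigma.ι X 0 ≫ p
  have hg : pb H g aZ = b := by rw [pb_comp, pb_comp, haZ, hâ, hq]
  refine ⟨Z, aZ, g, hg, fun k => ?_⟩
  have hsurj : ∀ e : E k ⟶ Z, ∃ e₀ : E k ⟶ T, e = e₀ ≫ g := by
    intro e
    have h3 : e ≫ h = 0 := hE.shift_inj (tel f) hinj k _ (by
      rw [Category.assoc, show h ≫ (tel f)⟦(1 : ℤ)⟧' = 0 from comp_distTriang_mor_zero₃₁ _ hT, comp_zero])
    obtain ⟨α, rfl⟩ := Triangle.coyoneda_exact₃ _ hT e h3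
    obtain ⟨γ, rfl⟩ := hE.sum_surj π hπ k α
    have hp : sh ≫ p = p := by
      have := comp_distTriang_mor_zero₁₂ _ hT
      dsimp at this
      rw [htel, Preadditive.sub_comp, Category.id_comp, sub_eq_zero] at this
      exact this.symm
    refine ⟨γ ≫ ψ ≫ nab, ?_⟩
    have hn : Ψ ≫ p = nab ≫ g := Sigma.hom_ext _ _ fun n => by
      simp only [Ψ, Sigma.ι_map_assoc, nab, TT, Sigma.ι_desc_assoc, Category.id_comp, g]
      induction n with
      | zero => rfl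
      | succ n ih =>
        refine Eq.trans ?_ ih
        change (q n ≫ f n) ≫ Sigma.ι X (n + 1) ≫ p = _
        rw [Category.assoc]
        refine congrArg (q n ≫ ·) ?_
        have := Sigma.ι X n ≫= hp
        simpa [sh] using this
    dsimp
    simp only [Category.assoc]
    conv_lhs => rw [← hp]
    rw [← reassoc_of% hψ, hn]
  constructor
  · intro e e' he
    obtain ⟨e₀, h₀⟩ := hsurj (e - e')
    have h1 : pb H (e - e') aZ = 0 := by rw [pb_sub, sub_eq_zero]; exact he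
    rw [h₀, pb_comp, hg] at h1
    rw [← sub_eq_zero, h₀]
    simp [g, reassoc_of% (hqb 0 k e₀).2 h1]
  · intro x
    obtain ⟨e₀, he₀⟩ := hb k x
    exact ⟨e₀ ≫ g, by simp only [pb_comp, hg]; exact he₀⟩

omit [HasCoproducts.{v} D] in
lemma isIso_of_isBij (hE : IsPerfGen E) {Z Z' : D} {a : H.obj (op Z)} {a' : H.obj (op Z')}
    (ha : IsBij E H a) (ha' : IsBij E H a') (g : Z ⟶ Z') (hg : pb H g a' = a) : IsIso g := by
  obtain ⟨C, u, h, hT⟩ := distinguished_cocone_triangle g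
  have hinj : ∀ k (e : E k ⟶ Z), e ≫ g = 0 → e = 0 := fun k e he => (ha k).1 (by
    change pb H e a = pb H 0 a
    rw [← hg, ← pb_comp, ← pb_comp, he, zero_comp])
  refine (Triangle.isZero₃_iff_isIso₁ _ hT).1 (hE.gen C fun k c => ?_)
  have h3 : c ≫ h = 0 := hE.shift_inj g hinj k _ (by
    rw [Category.assoc, show h ≫ g⟦(1 : ℤ)⟧' = 0 from comp_distTriang_mor_zero₃₁ _ hT, comp_zero])
  obtain ⟨e', rfl⟩ := Triangle.coyoneda_exact₃ _ hT c h3
  obtain ⟨e, he⟩ := (ha k).2 (pb H e' a')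
  have : e ≫ g = e' := (ha' k).1 (by
    change pb H (e ≫ g) a' = pb H e' a'
    rw [pb_comp, hg]
    exact he)
  subst this
  dsimp
  rw [Category.assoc, show g ≫ u = 0 from comp_distTriang_mor_zero₁₂ _ hT, comp_zero]

/-- Brown representability. -/
theorem representable (hE : IsPerfGen E) (hH : IsProd H) :
    ∃ (Z : D) (a : H.obj (op Z)), ∀ Y : D, Function.Bijective fun h : Y ⟶ Z => pb H h a := by
  let G := fun p : Σ k, H.obj (op (E k)) => E p.1
  obtain ⟨b, hb⟩ := (hH _ G).2 fun p => p.2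
  obtain ⟨Z, a, -, -, ha⟩ := exists_bij_ext hE hH b fun k x =>
    ⟨Sigma.ι G ⟨k, x⟩, congrFun hb ⟨k, x⟩⟩
  refine ⟨Z, a, ?_⟩
  have main : ∀ (Y : D) (y : H.obj (op Y)), ∃ (Z' : D) (a' : H.obj (op Z')) (g : Z ⟶ Z') (h : Y ⟶ Z'),
      IsIso g ∧ pb H g a' = a ∧ pb H h a' = y ∧ IsBij E H a' := by
    intro Y y
    let y' := pb H (biprod.fst : Y ⊞ Z ⟶ Y) y + pb H (biprod.snd : Y ⊞ Z ⟶ Z) a
    have hl : pb H biprod.inl y' = y := by
      simp only [y', pb, map_add]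
      change pb H biprod.inl (pb H biprod.fst y) + pb H biprod.inl (pb H biprod.snd a) = y
      rw [← pb_comp, ← pb_comp, biprod.inl_fst, biprod.inl_snd, pb_id, pb_zero, add_zero]
    have hr : pb H biprod.inr y' = a := by
      simp only [y', pb, map_add]
      change pb H biprod.inr (pb H biprod.fst y) + pb H biprod.inr (pb H biprod.snd a) = a
      rw [← pb_comp, ← pb_comp, biprod.inr_fst, biprod.inr_snd, pb_id, pb_zero, zero_add]
    obtain ⟨Z', a', g, hg, ha'⟩ := exists_bij_ext hE hH y' fun k x => by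
      obtain ⟨e, he⟩ := (ha k).2 x
      exact ⟨e ≫ biprod.inr, by simp only [pb_comp, hr]; exact he⟩
    have hgr : pb H (biprod.inr ≫ g) a' = a := by rw [pb_comp, hg, hr]
    exact ⟨Z', a', biprod.inr ≫ g, biprod.inl ≫ g, isIso_of_isBij hE ha ha' _ hgr, hgr,
      by rw [pb_comp, hg, hl], ha'⟩
  intro Y
  constructor
  · intro h h' he
    have h0 : pb H (h - h') a = 0 := by rw [pb_sub, sub_eq_zero]; exact he
    obtain ⟨C, w, δ, hT⟩ := distinguished_cocone_triangle (h - h')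
    obtain ⟨c, hc⟩ := exists_pb_of_eq_zero H hT a h0
    dsimp at c hc
    obtain ⟨Z', a', g, s, hg, hga, hsc, ha'⟩ := main C c
    have hws : pb H (w ≫ s) a' = a := by rw [pb_comp, hsc, hc]
    haveI := isIso_of_isBij hE ha ha' (w ≫ s) hws
    rw [← sub_eq_zero, ← cancel_mono (w ≫ s), ← Category.assoc,
      show (h - h') ≫ w = 0 from comp_distTriang_mor_zero₁₂ _ hT, zero_comp, zero_comp]
  · intro y
    obtain ⟨Z', a', g, s, hg, hga, hsy, -⟩ := main Y y
    refine ⟨s ≫ inv g, ?_⟩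
    change pb H (s ≫ inv g) a = y
    rw [← hga, ← pb_comp, Category.assoc, IsIso.inv_hom_id, Category.comp_id, hsy]

end Groth.Agent.DCat.Brown
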