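import Groth.Agent.DCat.Brown
import Mathlib.CategoryTheory.Limits.Preserves.Shapes.Products
import Mathlib.CategoryTheory.Shift.Basic
import Mathlib.CategoryTheory.Limits.Shapes.Opposites.Products

/-! Brown representability: the usual forms. -/

set_option autoImplicit false
set_option backward.isDefEq.respectTransparency false
set_option backward.defeqAttrib.useBackward true
set_option linter.style.haveILetI false

universe v u u'

open CategoryTheory CategoryTheory.Limits CategoryTheory.Pretriangulated Opposite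

namespace Groth.Agent.DCat.Brown

variable {D : Type u} [Category.{v} D] [Preadditive D] [HasZeroObject D] [HasShift D ℤ]
  [∀ n : ℤ, (shiftFunctor D n).Additive] [Pretriangulated D] {ι : Type v} (E : ι → D)

/-- The family of all shifts. -/
abbrev shifts (p : ι × ℤ) : D := (E p.1)⟦p.2⟧

omit [Pretriangulated D] in
/-- All shifts of a family generate perfectly. -/
theorem isPerfGen_shifts [HasColimitsOfShape (Discrete ℕ) D]
    (h1 : ∀ X : D, (∀ (i : ι) (m : ℤ) (f : (E i)⟦m⟧ ⟶ X), f = 0) → IsZero X)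
    (h2 : ∀ (X : ℕ → D) (i : ι) (α : E i ⟶ ∐ X), ∃ (j : ℕ → ι) (β : ∀ n, E (j n) ⟶ X n)
      (γ : E i ⟶ ∐ (fun n => E (j n))), α = γ ≫ Limits.Sigma.map β) : IsPerfGen (shifts E) where
  gen X hX := h1 X fun i m => hX (i, m)
  shift k := ⟨(k.1, k.2 - 1), ⟨((shiftFunctorAdd' D (k.2 - 1) 1 k.2 (by omega)).app (E k.1)).symm⟩⟩
  fac X k α := by
    obtain ⟨i, m⟩ := k
    let F := shiftFunctor D m
    let X' : ℕ → D := fun n => (X n)⟦-m⟧
    let iX : ∀ n, F.obj (X' n) ≅ X n := fun n => (shiftFunctorCompIsoId D (-m) m (by omega)).app (X n)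
    let Φ : F.obj (∐ X') ≅ ∐ X := PreservesCoproduct.iso F X' ≪≫ Limits.Sigma.mapIso iX
    obtain ⟨α', hα'⟩ := F.map_surjective (α ≫ Φ.inv)
    obtain ⟨j, β, γ, rfl⟩ := h2 X' i α'
    refine ⟨fun n => (j n, m), fun n => F.map (β n) ≫ (iX n).hom,
      F.map γ ≫ (PreservesCoproduct.iso F fun n => E (j n)).hom, ?_⟩
    rw [← cancel_mono Φ.inv, ← hα', F.map_comp, Category.assoc, Category.assoc]
    refine congrArg (F.map γ ≫ ·) ?_
    rw [← cancel_epi (PreservesCoproduct.iso F fun n => E (j n)).inv, Iso.inv_hom_id_assoc, ← cancel_mono Φ.hom,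
      Category.assoc, Category.assoc, Φ.inv_hom_id, Category.comp_id]
    refine Sigma.hom_ext _ _ fun n => ?_
    rw [PreservesCoproduct.inv_hom, ι_comp_sigmaComparison_assoc, ← F.map_comp_assoc, Sigma.ι_map, F.map_comp,
      Category.assoc, Sigma.ι_map, Category.assoc]
    refine congrArg (F.map (β n) ≫ ·) ?_
    simp only [Φ, Iso.trans_hom]
    rw [← Category.assoc, ← ι_comp_sigmaComparison F X' n, Category.assoc (Sigma.ι _ n),
      ← PreservesCoproduct.inv_hom F X', Iso.inv_hom_id, Category.comp_id]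
    exact Sigma.ι_map (fun n => (iX n).hom) n

omit [∀ n : ℤ, (shiftFunctor D n).Additive] [Pretriangulated D] [HasZeroObject D] [HasShift D ℤ] in
/-- Maps from a compact object into countable sums factor through the family. -/
theorem fac_of_compact [HasCoproducts.{v} D] [HasColimitsOfShape (Discrete ℕ) D]
    (hc : ∀ i, CohDer.IsCompactObject (E i)) (X : ℕ → D) (i : ι) (α : E i ⟶ ∐ X) :
    ∃ (j : ℕ → ι) (β : ∀ n, E (j n) ⟶ X n) (γ : E i ⟶ ∐ (fun n => E (j n))), α = γ ≫ Limits.Sigma.map β := by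
  classical
  let X' : ULift.{v} ℕ → D := fun n => X n.down
  let s : ∐ X ⟶ ∐ X' := Sigma.desc fun n => Sigma.ι X' ⟨n⟩
  let s' : ∐ X' ⟶ ∐ X := Sigma.desc fun n => Sigma.ι X n.down
  obtain ⟨z, hz⟩ := (hc i _ X').2 (α ≫ s)
  refine ⟨fun _ => i, fun n => z ⟨n⟩, ∑ n ∈ z.support, Sigma.ι (fun _ : ℕ => E i) n.down, ?_⟩
  have e : α = (α ≫ s) ≫ s' := by
    rw [Category.assoc, show s ≫ s' = 𝟙 _ from Sigma.hom_ext _ _ fun n => by simp [s, s'], Category.comp_id]
  rw [e, ← hz, Preadditive.sum_comp]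
  conv_lhs => rw [← DirectSum.sum_support_of z, map_sum, Preadditive.sum_comp]
  refine Finset.sum_congr rfl fun n _ => ?_
  simp [CohDer.homSumToHomCoprod, Preadditive.rightComp, s', X']
  erw [DirectSum.toAddMonoid_of]
  exact (Category.assoc _ _ _).trans (congrArg (z n ≫ ·) (Sigma.ι_desc _ _))

omit [Pretriangulated D] [HasZeroObject D] in
lemma isZero_of_generates (hg : CohDer.Generates E) (X : D)
    (h : ∀ (i : ι) (m : ℤ) (f : (E i)⟦m⟧ ⟶ X), f = 0) : IsZero X :=
  hg X fun i n f => (shiftFunctor D (-n)).map_injective (by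
    rw [Functor.map_zero, ← cancel_mono ((shiftFunctorCompIsoId D n (-n) (by omega)).hom.app X), zero_comp]
    exact h i (-n) _)

omit [Pretriangulated D] [HasZeroObject D] in
lemma isZero_of_detects (h1 : ∀ X : D, ¬ IsZero X → ∃ (i : ι) (f : E i ⟶ X), f ≠ 0) (X : D)
    (h : ∀ (i : ι) (m : ℤ) (f : (E i)⟦m⟧ ⟶ X), f = 0) : IsZero X := by
  by_contra hX
  obtain ⟨i, f, hf⟩ := h1 X hX
  apply hf
  rw [← cancel_epi ((shiftFunctorZero D ℤ).hom.app (E i)), comp_zero]
  exact h i 0 _

omit [HasZeroObject D] [HasShift D ℤ] [∀ n : ℤ, (shiftFunctor D n).Additive] [Pretriangulated D] [Preadditive D] in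
lemma isProd_of_preserves [HasCoproducts.{v} D] (H : Dᵒᵖ ⥤ AddCommGrpCat.{v})
    [∀ κ : Type v, PreservesLimitsOfShape (Discrete κ) H] : IsProd H := by
  intro κ X
  have hc : IsLimit (Cofan.op (Cofan.mk (∐ X) (Sigma.ι X))) := Cofan.IsColimit.op (coproductIsCoproduct X)
  have hl := isLimitFanMkObjOfIsLimit (H ⋙ forget AddCommGrpCat.{v}) _ _ hc
  have h := (Types.isLimit_iff_bijective_sectionOfCone _).1 ⟨hl⟩
  refine ⟨fun y y' e => h.1 (Subtype.ext (funext fun k => congrFun e k.as)), fun x => ?_⟩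
  obtain ⟨y, hy⟩ := h.2 ⟨fun k => x k.as, fun {k k'} f => by
    obtain ⟨k⟩ := k
    obtain ⟨k'⟩ := k'
    obtain rfl : k = k' := Discrete.eq_of_hom f
    simp⟩
  exact ⟨y, funext fun k => congrFun (congrArg Subtype.val hy) ⟨k⟩⟩

/-- Brown representability for functors. -/
theorem isRepresentable [HasCoproducts.{v} D] [HasColimitsOfShape (Discrete ℕ) D] {J : Type v} {G : J → D}
    (hG : IsPerfGen G) (H : Dᵒᵖ ⥤ AddCommGrpCat.{v}) [H.IsHomological]
    [∀ κ : Type v, PreservesLimitsOfShape (Discrete κ) H] :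
    (H ⋙ forget AddCommGrpCat.{v}).IsRepresentable := by
  obtain ⟨Z, a, ha⟩ := representable hG (isProd_of_preserves H)
  exact Functor.RepresentableBy.isRepresentable
    { homEquiv := fun {Y} => Equiv.ofBijective _ (ha Y)
      homEquiv_comp := fun {Y Y'} f g => pb_comp H f g a }

/-- The adjoint functor theorem attached to Brown representability. -/
theorem isLeftAdjoint [HasCoproducts.{v} D] [HasColimitsOfShape (Discrete ℕ) D] {J : Type v} {G : J → D}
    (hG : IsPerfGen G) {D' : Type u'} [Category.{v} D'] [Preadditive D'] [HasZeroObject D'] [HasShift D' ℤ]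
    [∀ n : ℤ, (shiftFunctor D' n).Additive] [Pretriangulated D'] (F : D ⥤ D') [F.CommShift ℤ] [F.IsTriangulated]
    [∀ κ : Type v, PreservesColimitsOfShape (Discrete κ) F] : F.IsLeftAdjoint := by
  refine Functor.isLeftAdjoint_of_rightAdjointObjIsDefined_eq_top ?_
  ext M
  simp only [Pi.top_apply, Prop.top_eq_true, iff_true]
  let H : Dᵒᵖ ⥤ AddCommGrpCat.{v} := F.op ⋙ preadditiveYoneda.obj M
  haveI : H.IsHomological :=
    { map_zero := fun _ _ => by ext; simp [H]
      exact := fun T hT => by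
        rw [ShortComplex.ab_exact_iff]
        intro (x₂ : F.obj T.obj₂.unop ⟶ M) (hx₂ : F.map T.mor₂.unop ≫ x₂ = 0)
        obtain ⟨x₃, hx₃⟩ := Triangle.yoneda_exact₂ _ (F.map_distinguished _ (unop_distinguished T hT)) x₂ hx₂
        exact ⟨x₃, hx₃.symm⟩ }
  have hH : IsProd H := fun κ X => by
    constructor
    · intro (y : F.obj (∐ X) ⟶ M) (y' : F.obj (∐ X) ⟶ M) h
      refine Cofan.IsColimit.hom_ext (isColimitCofanMkObjOfIsColimit F _ _ (coproductIsCoproduct X)) _ _ fun k => ?_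
      exact congrFun h k
    · intro (x : ∀ k, F.obj (X k) ⟶ M)
      exact ⟨Cofan.IsColimit.desc (isColimitCofanMkObjOfIsColimit F _ _ (coproductIsCoproduct X)) x,
        funext fun k => Cofan.IsColimit.fac (isColimitCofanMkObjOfIsColimit F _ _ (coproductIsCoproduct X)) x k⟩
  obtain ⟨Z, a, ha⟩ := representable hG hH
  rw [Functor.rightAdjointObjIsDefined_iff]
  exact Functor.RepresentableBy.isRepresentable
    { homEquiv := fun {Y} => Equiv.ofBijective _ (ha Y)
      homEquiv_comp := fun {Y Y'} f g => pb_comp H f g a }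

end Groth.Agent.DCat.Brown
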