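import Groth.Agent.DCat.TotKFlat
import Mathlib.Algebra.Homology.HomotopyCategory.DegreewiseSplit
import Mathlib.CategoryTheory.Abelian.GrothendieckAxioms.Colim
import Mathlib.CategoryTheory.Abelian.Refinements
import Mathlib.Algebra.Homology.ShortComplex.PreservesHomology
import Mathlib.Algebra.Homology.Refinements
import Mathlib.Algebra.Homology.HomologicalComplexBiprod
import Mathlib.CategoryTheory.Limits.Connected

/-! Resolutions by cells. -/

set_option autoImplicit false
set_option backward.isDefEq.respectTransparency false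
set_option backward.defeqAttrib.useBackward true
set_option linter.style.haveILetI false

universe t v u

open CategoryTheory CategoryTheory.Limits HomologicalComplex CochainComplex.HomComplex

namespace Groth.Agent.DCat

variable {B : Type u} [Category.{v} B] [Abelian B]

section HomologyColimit

variable {J : Type t} [SmallCategory J] [HasColimitsOfShape J B] [HasExactColimitsOfShape J B]

/-- Homology commutes with exact colimits. -/
theorem nonempty_isColimit_homology {F : J ⥤ CochainComplex B ℤ} {c : Cocone F} (hc : IsColimit c)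
    (n : ℤ) : Nonempty (IsColimit ((homologyFunctor B (ComplexShape.up ℤ) n).mapCocone c)) := by
  let Φ : F ⋙ shortComplexFunctor B (ComplexShape.up ℤ) n ⟶ (Functor.const J).obj (c.pt.sc n) :=
    Functor.whiskerRight c.ι _ ≫ (Functor.constComp _ _ _).hom
  let S : ShortComplex (J ⥤ B) := ShortComplex.mk
    (Functor.whiskerLeft (F ⋙ shortComplexFunctor B (ComplexShape.up ℤ) n) ShortComplex.π₁Toπ₂)
    (Functor.whiskerLeft (F ⋙ shortComplexFunctor B (ComplexShape.up ℤ) n) ShortComplex.π₂Toπ₃)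
    (by ext j; exact ((F ⋙ shortComplexFunctor B (ComplexShape.up ℤ) n).obj j).zero)
  have hev := fun i : ℤ => isColimitOfPreserves (HomologicalComplex.eval B (ComplexShape.up ℤ) i) hc
  let e : S.map colim ≅ c.pt.sc n := ShortComplex.isoMk
    ((colimit.isColimit S.X₁).coconePointUniqueUpToIso (hev _))
    ((colimit.isColimit S.X₂).coconePointUniqueUpToIso (hev _))
    ((colimit.isColimit S.X₃).coconePointUniqueUpToIso (hev _))
    (colimit.hom_ext fun j => by
      dsimp
      erw [colimit.comp_coconePointUniqueUpToIso_hom_assoc, ι_colimMap_assoc,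
        colimit.comp_coconePointUniqueUpToIso_hom]
      exact (c.ι.app j).comm _ _)
    (colimit.hom_ext fun j => by
      dsimp
      erw [colimit.comp_coconePointUniqueUpToIso_hom_assoc, ι_colimMap_assoc,
        colimit.comp_coconePointUniqueUpToIso_hom]
      exact (c.ι.app j).comm _ _)
  let i : S.homology ≅ F ⋙ homologyFunctor B (ComplexShape.up ℤ) n :=
    NatIso.ofComponents (fun j => (S.mapHomologyIso ((evaluation J B).obj j)).symm) fun {j j'} g => by
      have := S.homologyMap_mapNatTrans ((evaluation J B).map g)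
      dsimp at this ⊢
      refine Eq.trans ?_ (congrArg (fun t => (S.mapHomologyIso ((evaluation J B).obj j)).inv ≫ t) this).symm
      simp
  let τ : ∀ j, (evaluation J B).obj j ⟶ colim (J := J) (C := B) := fun j => { app := fun G => colimit.ι G j }
  refine ⟨IsColimit.ofIsoColimit ((IsColimit.precomposeInvEquiv i _).symm (colimit.isColimit S.homology))
    (Cocone.ext ((S.mapHomologyIso colim).symm ≪≫ ShortComplex.homologyMapIso e) fun j => ?_)⟩
  have h₁ := S.homologyMap_mapNatTrans (τ j)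
  have h₂ : S.mapNatTrans (τ j) ≫ e.hom = Φ.app j := by
    ext <;> dsimp [e, Φ, τ] <;> erw [colimit.comp_coconePointUniqueUpToIso_hom] <;> simp <;> rfl
  have h₃ : ShortComplex.homologyMap (S.mapNatTrans (τ j)) ≫ ShortComplex.homologyMap e.hom =
      ShortComplex.homologyMap (S₁ := S.map ((evaluation J B).obj j)) (S₂ := c.pt.sc n) (Φ.app j) :=
    (ShortComplex.homologyMap_comp _ _).symm.trans (congrArg (fun x => ShortComplex.homologyMap x) h₂)
  rw [h₁] at h₃
  refine Eq.trans (Eq.trans ?_ h₃) ?_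
  · dsimp [i, τ]
    simp
  · dsimp [Φ]
    simp
    rfl

end HomologyColimit

/-- The complex with given terms and zero differentials. -/
@[simps]
noncomputable def zeroD (X : ℤ → B) : CochainComplex B ℤ where
  X := X
  d _ _ := 0

lemma exists_zeroD_hom {X : ℤ → B} {K : CochainComplex B ℤ} (f : ∀ n, X n ⟶ K.X n)
    (h : ∀ n, f n ≫ K.d n (n + 1) = 0) : ∃ g : zeroD X ⟶ K, ∀ n, g.f n = f n :=
  ⟨{ f := f, comm' := by rintro i j rfl; simp [h i] }, fun _ => rfl⟩

section Step

variable (Q : B → Prop) (hcov : ∀ X : B, ∃ (U : B) (p : U ⟶ X), Epi p ∧ Q U)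

include hcov

/-- One step of cell attachment: all homology killed by `c` dies. -/
lemma exists_cell {N L : CochainComplex B ℤ} (c : N ⟶ L) :
    ∃ (U : ℤ → B) (_ : ∀ n, Q (U n))
      (_ : (∀ X, IsZero X → Q X) → ∀ n, IsZero (N.X n) → IsZero (L.X (n - 1)) → IsZero (U n))
      (u : zeroD U ⟶ N) (c' : CochainComplex.mappingCone u ⟶ L),
      CochainComplex.mappingCone.inr u ≫ c' = c ∧
      ∀ n, kernel.ι (homologyMap c n) ≫ homologyMap (CochainComplex.mappingCone.inr u) n = 0 := by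
  let W := fun n : ℤ => kernel (biprod.desc (N.iCycles n ≫ c.f n) (-L.d (n - 1) n))
  have hcov' : ∀ n, ∃ (U : B) (p : U ⟶ W n), Epi p ∧ Q U ∧ ((∀ X, IsZero X → Q X) → IsZero (W n) → IsZero U) := by
    intro n
    by_cases h : (∀ X, IsZero X → Q X) ∧ IsZero (W n)
    · exact ⟨W n, 𝟙 _, inferInstance, h.1 _ h.2, fun _ hW => hW⟩
    · obtain ⟨U, p, hp, hU⟩ := hcov (W n)
      exact ⟨U, p, hp, hU, fun h₁ h₂ => (h ⟨h₁, h₂⟩).elim⟩
  choose U p hp hU hU0 using hcov'
  have hW0 : ∀ n, IsZero (N.X n) → IsZero (L.X (n - 1)) → IsZero (W n) := fun n h₁ h₂ => by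
    have : IsZero (N.cycles n ⊞ L.X (n - 1)) := by
      rw [IsZero.iff_id_eq_zero]
      exact biprod.hom_ext _ _ ((IsZero.of_mono (N.iCycles n) h₁).eq_of_tgt _ _) (h₂.eq_of_tgt _ _)
    exact IsZero.of_mono (kernel.ι _) this
  let fz := fun n => p n ≫ kernel.ι _ ≫ (biprod.fst : N.cycles n ⊞ L.X (n - 1) ⟶ _)
  let v := fun n => p n ≫ kernel.ι _ ≫ (biprod.snd : N.cycles n ⊞ L.X (n - 1) ⟶ _)
  have huv : ∀ n, fz n ≫ N.iCycles n ≫ c.f n = v n ≫ L.d (n - 1) n := fun n => by
    have h := p n ≫= kernel.condition (biprod.desc (N.iCycles n ≫ c.f n) (-L.d (n - 1) n))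
    simp only [comp_zero] at h
    have e : biprod.desc (N.iCycles n ≫ c.f n) (-L.d (n - 1) n) =
        biprod.fst ≫ N.iCycles n ≫ c.f n + biprod.snd ≫ (-L.d (n - 1) n) := biprod.desc_eq
    have h' := (congrArg (fun x => p n ≫ kernel.ι (biprod.desc (N.iCycles n ≫ c.f n) (-L.d (n - 1) n)) ≫ x) e).symm.trans h
    simpa [fz, v, add_neg_eq_zero] using h'
  obtain ⟨g, hg⟩ := exists_zeroD_hom (fun n => fz n ≫ N.iCycles n) fun n => by simp
  let α : Cochain (zeroD U) L (-1) := Cochain.mk fun a b h => v a ≫ (L.XIsoOfEq (show a - 1 = b by omega)).hom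
  have hα : δ (-1) 0 α = Cochain.ofHom (g ≫ c) := by
    ext a
    rw [δ_v (-1) 0 (by simp) α a a (add_zero a) (a - 1) (a + 1) rfl rfl]
    simp [α, hg, huv]
  refine ⟨U, hU, fun hQ n h₁ h₂ => hU0 n hQ (hW0 n h₁ h₂), g, CochainComplex.mappingCone.desc g α c hα, CochainComplex.mappingCone.inr_desc _ _ _ _, fun n => ?_⟩
  rw [← cancel_epi (pullback.fst (kernel.ι (homologyMap c n)) (N.homologyπ n)), comp_zero, ← Category.assoc,
    pullback.condition, Category.assoc, homologyπ_naturality]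
  let z := pullback.snd (kernel.ι (homologyMap c n)) (N.homologyπ n)
  have hz : (z ≫ cyclesMap c n) ≫ L.homologyπ n = 0 := by
    rw [Category.assoc, ← homologyπ_naturality, ← Category.assoc, ← pullback.condition, Category.assoc,
      kernel.condition, comp_zero]
  obtain ⟨A₁, π₁, _, l, hl⟩ := ((ShortComplex.mk (L.toCycles (n - 1) n) (L.homologyπ n) (by simp)).exact_iff_exact_up_to_refinements).1
    (ShortComplex.exact_of_g_is_cokernel _ (L.homologyIsCokernel (n - 1) n (by simp))) _ hz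
  dsimp at hl
  have hw : biprod.lift (π₁ ≫ z) l ≫ biprod.desc (N.iCycles n ≫ c.f n) (-L.d (n - 1) n) = 0 := by
    have := hl =≫ L.iCycles n
    simp at this
    rw [biprod.lift_desc, Preadditive.comp_neg, Category.assoc, this, add_neg_cancel]
  obtain ⟨A₂, π₂, _, s, hs⟩ := surjective_up_to_refinements_of_epi (p n) (kernel.lift _ _ hw)
  rw [← cancel_epi (π₂ ≫ π₁), comp_zero]
  have key : (π₂ ≫ π₁ ≫ z) ≫ cyclesMap (CochainComplex.mappingCone.inr g) n =
      (s ≫ (CochainComplex.mappingCone.inl g).v n (n - 1) (by omega)) ≫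
        (CochainComplex.mappingCone g).toCycles (n - 1) n := by
    have e₁ := hs =≫ (kernel.ι _ ≫ biprod.fst)
    simp only [Category.assoc, kernel.lift_ι_assoc, biprod.lift_fst] at e₁
    rw [← cancel_mono ((CochainComplex.mappingCone g).iCycles n)]
    simp only [Category.assoc, cyclesMap_i, toCycles_i, z] at e₁ ⊢
    rw [reassoc_of% e₁, CochainComplex.mappingCone.inl_v_d g n (n - 1) (n + 1) (by omega) (by omega)]
    simp [hg, fz]
  calc (π₂ ≫ π₁) ≫ z ≫ cyclesMap (CochainComplex.mappingCone.inr g) n ≫ homologyπ _ n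
      = ((π₂ ≫ π₁ ≫ z) ≫ cyclesMap (CochainComplex.mappingCone.inr g) n) ≫ homologyπ _ n := by simp
    _ = 0 := by rw [key, Category.assoc, toCycles_comp_homologyπ, comp_zero]

end Step

section Res

variable [HasColimitsOfShape ℕ B] [HasExactColimitsOfShape ℕ B]
  (P : CochainComplex B ℤ → Prop) (Q : B → Prop)
  (hcov : ∀ X : B, ∃ (U : B) (p : U ⟶ X), Epi p ∧ Q U)
  (hz : ∀ U : ℤ → B, (∀ n, Q (U n)) → P (zeroD U))
  (hshift : ∀ (K : CochainComplex B ℤ) (n : ℤ), P K → P ((CategoryTheory.shiftFunctor (CochainComplex B ℤ) n).obj K))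
  (hext : ∀ S : ShortComplex (CochainComplex B ℤ),
    (∀ n, Nonempty ((S.map (HomologicalComplex.eval B (ComplexShape.up ℤ) n)).Splitting)) →
      P S.X₁ → P S.X₃ → P S.X₂)
  (hQext : ∀ S : ShortComplex B, S.Splitting → Q S.X₁ → Q S.X₃ → Q S.X₂)
  (hcolim : ∀ (F : ℕ ⥤ CochainComplex B ℤ) (c : Cocone F), IsColimit c → (∀ j, P (F.obj j)) → P c.pt)
  (hQcolim : ∀ (F : ℕ ⥤ B) (c : Cocone F), IsColimit c → (∀ j, Q (F.obj j)) → Q c.pt)

include hcov hz hshift hext hQext hcolim hQcolim

/-- Resolutions by cells, from a first stage which is surjective on homology. -/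
theorem exists_cell_iter {N₀ L : CochainComplex B ℤ} (c₀ : N₀ ⟶ L) (hP₀ : P N₀)
    (hH₀ : ∀ n, Epi (homologyMap c₀ n)) :
    ∃ (N : CochainComplex B ℤ) (t₀ : N₀ ⟶ N) (c : N ⟶ L), P N ∧ QuasiIso c ∧ t₀ ≫ c = c₀ ∧
      ((∀ n, Q (N₀.X n)) → ∀ n, Q (N.X n)) ∧
      ((∀ X, IsZero X → Q X) → ∀ b : ℤ, (∀ n, b < n → IsZero (N₀.X n)) → (∀ n, b < n → IsZero (L.X n)) →
        ∀ n, b < n → IsZero (N.X n)) := by
  have hcone : ∀ {X Y : CochainComplex B ℤ} (f : X ⟶ Y), P X → P Y → P (CochainComplex.mappingCone f) :=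
    fun {X Y} f hX hY => hext (CochainComplex.mappingCone.triangleRotateShortComplex f)
      (fun n => ⟨CochainComplex.mappingCone.triangleRotateShortComplexSplitting f n⟩) hY (hshift X 1 hX)
  have hQcone : ∀ {X Y : CochainComplex B ℤ} (f : X ⟶ Y), (∀ n, Q (X.X n)) → (∀ n, Q (Y.X n)) →
      ∀ n, Q ((CochainComplex.mappingCone f).X n) := fun {X Y} f hX hY n =>
    hQext _ (CochainComplex.mappingCone.triangleRotateShortComplexSplitting f n) (hY n) (hX (n + 1))
  -- iteration
  let St := {s : (N : CochainComplex B ℤ) × (N ⟶ L) // P s.1 ∧ ((∀ n, Q (N₀.X n)) → ∀ n, Q (s.1.X n)) ∧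
    ((∀ X, IsZero X → Q X) → ∀ b : ℤ, (∀ n, b < n → IsZero (N₀.X n)) → (∀ n, b < n → IsZero (L.X n)) →
      ∀ n, b < n → IsZero (s.1.X n))}
  have step : ∀ s : St, ∃ (s' : St) (t : s.1.1 ⟶ s'.1.1), t ≫ s'.1.2 = s.1.2 ∧
      ∀ n, kernel.ι (homologyMap s.1.2 n) ≫ homologyMap t n = 0 := fun s => by
    obtain ⟨U, hU, hU0, u, c', h, hk⟩ := exists_cell Q hcov s.1.2
    refine ⟨⟨⟨_, c'⟩, hcone u (hz U hU) s.2.1, fun hQK => hQcone u hU (s.2.2.1 hQK),
      fun hQ b hb hbL n hn => ?_⟩, _, h, hk⟩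
    have hU' : IsZero (U (n + 1)) := hU0 hQ (n + 1) (s.2.2.2 hQ b hb hbL _ (by omega))
      (hbL _ (by omega))
    rw [IsZero.iff_id_eq_zero]
    refine CochainComplex.mappingCone.ext_to u n (n + 1) rfl ?_ ?_
    · exact hU'.eq_of_tgt _ _
    · exact (s.2.2.2 hQ b hb hbL n hn).eq_of_tgt _ _
  choose next t ht hkill using step
  let seq : ℕ → St := fun k => next^[k] ⟨⟨N₀, c₀⟩, hP₀, fun h => h, fun _ _ hb _ => hb⟩
  have hseq : ∀ k, seq (k + 1) = next (seq k) := fun k => Function.iterate_succ_apply' next k _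
  let tr : ∀ k, (seq k).1.1 ⟶ (seq (k + 1)).1.1 := fun k => t (seq k) ≫ eqToHom (by rw [hseq k])
  have htr : ∀ k, tr k ≫ (seq (k + 1)).1.2 = (seq k).1.2 := fun k => by
    have : ∀ (s' : St) (h : s' = next (seq k)),
        (t (seq k) ≫ eqToHom (by rw [h])) ≫ s'.1.2 = (seq k).1.2 := by
      rintro _ rfl
      simpa using ht (seq k)
    exact this _ (hseq k)
  let F : ℕ ⥤ CochainComplex B ℤ := Functor.ofSequence tr
  let cL : Cocone F := { pt := L
                         ι := NatTrans.ofSequence (fun k => (seq k).1.2) fun k => by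
                           dsimp [F]
                           rw [Functor.ofSequence_map_homOfLE_succ, htr, Category.comp_id] }
  let c := (colimit.isColimit F).desc cL
  have hfac : ∀ k, colimit.ι F k ≫ c = (seq k).1.2 := fun k => (colimit.isColimit F).fac cL k
  refine ⟨colimit F, colimit.ι F 0, c, hcolim F _ (colimit.isColimit F) fun j => (seq j).2.1,
    ⟨fun n => ?_⟩, hfac 0, fun hQK n => hQcolim _ _
      (isColimitOfPreserves (HomologicalComplex.eval B (ComplexShape.up ℤ) n) (colimit.isColimit F))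
      fun j => (seq j).2.2.1 hQK n,
    fun hQ b hb hbL n hn => ?_⟩
  swap
  · rw [IsZero.iff_id_eq_zero]
    exact (isColimitOfPreserves (HomologicalComplex.eval B (ComplexShape.up ℤ) n) (colimit.isColimit F)).hom_ext
      fun j => ((seq j).2.2.2 hQ b hb hbL n hn).eq_of_src _ _
  rw [quasiIsoAt_iff_isIso_homologyMap]
  haveI : Epi (homologyMap c n) :=
    @epi_of_epi_fac _ _ _ _ _ (homologyMap (colimit.ι F 0) n) _ (homologyMap c₀ n) (hH₀ n)
      (by rw [← homologyMap_comp, hfac]; rfl)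
  obtain ⟨hH⟩ := nonempty_isColimit_homology (colimit.isColimit F) n
  let H := F ⋙ homologyFunctor B (ComplexShape.up ℤ) n
  let g : H ⟶ (Functor.const ℕ).obj (L.homology n) :=
    Functor.whiskerRight cL.ι _ ≫ (Functor.constComp _ _ _).hom
  haveI : Mono (homologyMap c n) := by
    haveI := IsFiltered.isConnected ℕ
    let Sk : ShortComplex (ℕ ⥤ B) := ShortComplex.mk (kernel.ι g) g (kernel.condition g)
    have hSk : Sk.Exact := ShortComplex.exact_kernel g
    have hzero : ∀ j, (kernel.ι g).app j ≫ homologyMap (colimit.ι F j) n = 0 := fun j => by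
      have h₁ : (kernel.ι g).app j ≫ homologyMap (seq j).1.2 n = 0 := by
        rw [← show g.app j = homologyMap (seq j).1.2 n by simp [g, cL]]
        exact NatTrans.congr_app (kernel.condition g) j
      have h₂ : (kernel.ι g).app j ≫ homologyMap (tr j) n = 0 := by
        rw [← kernel.lift_ι _ _ h₁, Category.assoc]
        simp only [tr, homologyMap_comp]
        rw [reassoc_of% hkill (seq j) n]
        simp
      have h₃ : tr j ≫ colimit.ι F (j + 1) = colimit.ι F j := by
        rw [← colimit.w F (homOfLE (Nat.le_succ j))]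
        simp [F]
      rw [← h₃, homologyMap_comp, reassoc_of% h₂, zero_comp]
    have hex := colim.exact_mapShortComplex hSk (colimit.isColimit (kernel g)) hH
      (isColimitConstCocone ℕ (L.homology n)) (0 : colimit (kernel g) ⟶ (colimit F).homology n)
      (homologyMap c n) (fun j => by simp [Sk]; exact (hzero j).symm)
      (fun j => by
        dsimp [Sk, g, cL]
        rw [← homologyMap_comp, hfac]
        simp)
    exact hex.mono_g rfl
  exact isIso_of_mono_of_epi _


/-- Resolutions by cells, relative to a map. -/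
theorem exists_cell_res {K L : CochainComplex B ℤ} (a : K ⟶ L) (hK : P K) :
    ∃ (N : CochainComplex B ℤ) (b : K ⟶ N) (c : N ⟶ L), P N ∧ QuasiIso c ∧ (∀ n, Epi (c.f n)) ∧
      b ≫ c = a ∧ ((∀ n, Q (K.X n)) → ∀ n, Q (N.X n)) := by
  have hcone : ∀ {X Y : CochainComplex B ℤ} (f : X ⟶ Y), P X → P Y → P (CochainComplex.mappingCone f) :=
    fun {X Y} f hX hY => hext (CochainComplex.mappingCone.triangleRotateShortComplex f)
      (fun n => ⟨CochainComplex.mappingCone.triangleRotateShortComplexSplitting f n⟩) hY (hshift X 1 hX)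
  have hQcone : ∀ {X Y : CochainComplex B ℤ} (f : X ⟶ Y), (∀ n, Q (X.X n)) → (∀ n, Q (Y.X n)) →
      ∀ n, Q ((CochainComplex.mappingCone f).X n) := fun {X Y} f hX hY n =>
    hQext _ (CochainComplex.mappingCone.triangleRotateShortComplexSplitting f n) (hY n) (hX (n + 1))
  let σ : ∀ (X Y : CochainComplex B ℤ) (n : ℤ), ((ShortComplex.mk (biprod.inl : X ⟶ X ⊞ Y) biprod.snd (by simp)).map
      (HomologicalComplex.eval B (ComplexShape.up ℤ) n)).Splitting := fun X Y n =>
    (ShortComplex.Splitting.ofHasBinaryBiproduct X Y).map (HomologicalComplex.eval B (ComplexShape.up ℤ) n)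
  have hsum : ∀ {X Y : CochainComplex B ℤ}, P X → P Y → P (X ⊞ Y) := fun {X Y} hX hY =>
    hext _ (fun n => ⟨σ X Y n⟩) hX hY
  have hQsum : ∀ {X Y : CochainComplex B ℤ}, (∀ n, Q (X.X n)) → (∀ n, Q (Y.X n)) →
      ∀ n, Q ((X ⊞ Y).X n) := fun {X Y} hX hY n => hQext _ (σ X Y n) (hX n) (hY n)
  -- the initial stage
  obtain ⟨N₀, b₀, c₀, hP₀, hQ₀, hepi₀, hH₀, hbc₀⟩ : ∃ (N₀ : CochainComplex B ℤ) (b₀ : K ⟶ N₀) (c₀ : N₀ ⟶ L),
      P N₀ ∧ ((∀ n, Q (K.X n)) → ∀ n, Q (N₀.X n)) ∧ (∀ n, Epi (c₀.f n)) ∧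
        (∀ n, Epi (homologyMap c₀ n)) ∧ b₀ ≫ c₀ = a := by
    choose U p hp hU using fun n => hcov (L.cycles n)
    choose V q hq hV using fun n => hcov (L.X (n - 1))
    obtain ⟨g, hg⟩ := exists_zeroD_hom (fun n => p n ≫ L.iCycles n) fun n => by simp
    let α : Cochain (zeroD V) L (-1) := Cochain.mk fun i j h => q i ≫ (L.XIsoOfEq (show i - 1 = j by omega)).hom
    obtain ⟨φ, hφ⟩ := exists_zeroD_hom (fun n => q n ≫ L.d (n - 1) n) fun n => by simp
    let h : CochainComplex.mappingCone (𝟙 (zeroD V)) ⟶ L :=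
      CochainComplex.mappingCone.desc (𝟙 (zeroD V)) α φ (by
        ext i
        rw [δ_v (-1) 0 (by simp) α i i (add_zero i) (i - 1) (i + 1) rfl rfl]
        simp [α, hφ])
    refine ⟨K ⊞ (zeroD U ⊞ CochainComplex.mappingCone (𝟙 (zeroD V))), biprod.inl,
      biprod.desc a (biprod.desc g h), hsum hK (hsum (hz U hU) (hcone _ (hz V hV) (hz V hV))),
      fun hQK => hQsum hQK (hQsum hU (hQcone _ hV hV)), fun n => ?_, fun n => ?_, biprod.inl_desc _ _⟩
    · obtain ⟨m, rfl⟩ : ∃ m, n = m - 1 := ⟨n + 1, by omega⟩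
      refine @epi_of_epi_fac _ _ _ _ _
        ((CochainComplex.mappingCone.inl (𝟙 (zeroD V))).v m (m - 1) (by omega) ≫
          (biprod.inr ≫ biprod.inr : CochainComplex.mappingCone (𝟙 (zeroD V)) ⟶ K ⊞ (zeroD U ⊞ _)).f (m - 1))
        _ (q m) (hq m) ?_
      rw [Category.assoc, ← comp_f, Category.assoc, biprod.inr_desc, biprod.inr_desc]
      simp [h, α]
    · haveI : Epi (homologyMap g n) := by
        have e : (zeroD U).liftCycles (𝟙 (U n)) (n + 1) (by simp) (by simp) ≫ cyclesMap g n = p n := by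
          rw [← cancel_mono (L.iCycles n)]
          simp [hg]
        haveI := hp n
        haveI : Epi (cyclesMap g n) := epi_of_epi_fac e
        refine @epi_of_epi _ _ _ _ _ ((zeroD U).homologyπ n) _ ?_
        rw [homologyπ_naturality]
        infer_instance
      refine @epi_of_epi_fac _ _ _ _ _ (homologyMap (biprod.inl ≫ biprod.inr :
        zeroD U ⟶ K ⊞ (zeroD U ⊞ CochainComplex.mappingCone (𝟙 (zeroD V)))) n) _ (homologyMap g n) inferInstance ?_
      rw [← homologyMap_comp, Category.assoc, biprod.inr_desc, biprod.inl_desc]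
  obtain ⟨N, t, c, hN, hc', htc, hQN, -⟩ :=
    exists_cell_iter P Q hcov hz hshift hext hQext hcolim hQcolim c₀ hP₀ hH₀
  refine ⟨N, b₀ ≫ t, c, hN, hc', fun n => ?_, by rw [Category.assoc, htc, hbc₀], fun h => hQN (hQ₀ h)⟩
  exact @epi_of_epi_fac _ _ _ _ _ (t.f n) _ (c₀.f n) (hepi₀ n) (by rw [← comp_f, htc])

/-- Resolutions by cells of bounded above complexes. -/
theorem exists_cell_res_le (hQ0 : ∀ X, IsZero X → Q X) (L : CochainComplex B ℤ) (b : ℤ)
    (hb : ∀ n, b < n → IsZero (L.X n)) :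
    ∃ (N : CochainComplex B ℤ) (c : N ⟶ L), P N ∧ (∀ n, Q (N.X n)) ∧ QuasiIso c ∧
      ∀ n, b < n → IsZero (N.X n) := by
  have hcov' : ∀ n, ∃ (U : B) (p : U ⟶ L.cycles n), Epi p ∧ Q U ∧ (IsZero (L.cycles n) → IsZero U) := by
    intro n
    by_cases h : IsZero (L.cycles n)
    · exact ⟨L.cycles n, 𝟙 _, inferInstance, hQ0 _ h, fun h => h⟩
    · obtain ⟨U, p, hp, hU⟩ := hcov (L.cycles n)
      exact ⟨U, p, hp, hU, fun h' => (h h').elim⟩
  choose U p hp hU hU0 using hcov'
  obtain ⟨g, hg⟩ := exists_zeroD_hom (fun n => p n ≫ L.iCycles n) fun n => by simp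
  have hH : ∀ n, Epi (homologyMap g n) := fun n => by
    have e : (zeroD U).liftCycles (𝟙 (U n)) (n + 1) (by simp) (by simp) ≫ cyclesMap g n = p n := by
      rw [← cancel_mono (L.iCycles n)]
      simp [hg]
    haveI := hp n
    haveI : Epi (cyclesMap g n) := epi_of_epi_fac e
    refine @epi_of_epi _ _ _ _ _ ((zeroD U).homologyπ n) _ ?_
    rw [homologyπ_naturality]
    infer_instance
  obtain ⟨N, t, c, hN, hc', -, hQN, hbd⟩ :=
    exists_cell_iter P Q hcov hz hshift hext hQext hcolim hQcolim g (hz U hU) hH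
  exact ⟨N, c, hN, hQN hU, hc', hbd hQ0 b (fun n hn => hU0 n (IsZero.of_mono (L.iCycles n) (hb n hn))) hb⟩

end Res

end Groth.Agent.DCat
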