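import Groth.Agent.DCat.ClosedShriek
import Groth.Agent.DQCoh.PscNoeth
import Groth.Agent.FlatCx12.RelPCQCoh
import Groth.Agent.SerreDual.ExtShProj
import Groth.Agent.Coherent.FinitePres
import Groth.Agent.Coherent.ProperFinite

/-!
# `R Hom(O_Z, -)` preserves quasi-coherence and coherence
-/

set_option autoImplicit false
set_option backward.isDefEq.respectTransparency false
set_option backward.defeqAttrib.useBackward true
set_option linter.style.haveILetI false
set_option linter.unusedVariables false

universe u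

open CategoryTheory CategoryTheory.Limits AlgebraicGeometry HomologicalComplex

attribute [local instance] HasDerivedCategory.standard
attribute [-instance] Int.instConditionallyCompleteLinearOrder

namespace Groth.Agent.DCat.ClosedShriek

open Groth.Agent.Coherent

variable {Z X : Scheme.{u}} (i : Z ⟶ X) [IsClosedImmersion i]

section Noetherian

variable [IsLocallyNoetherian X]

/-- `i_* O_Z` in degree zero has coherent cohomology. -/
theorem isCohD_pushOne : DCoh.IsCohD (DerivedCategory.Q.obj (pushOne i)) := fun j => by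
  haveI : IsLocallyNoetherian Z := LocallyOfFiniteType.isLocallyNoetherian i
  let F := (Scheme.Modules.pushforward i).obj (Coh.structureModule Z)
  let e := (DerivedCategory.singleFunctorIsoCompQ X.Modules 0).app F
  refine Coherent.isCoh_iso ((DerivedCategory.homologyFunctor X.Modules j).mapIso e) ?_
  rcases eq_or_ne j 0 with rfl | hj
  · exact Coherent.isCoh_iso ((DerivedCategory.singleFunctorCompHomologyFunctorIso X.Modules 0).app F).symm
      (isCoh_push_finite i (Coherent.isCoh_structureModule Z))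
  · rcases lt_or_gt_of_ne hj with h | h
    · exact KZeroLib.isCoh_isZero (DerivedCategory.isZero_of_isGE ((DerivedCategory.singleFunctor X.Modules 0).obj F) 0 j h)
    · exact KZeroLib.isCoh_isZero (DerivedCategory.isZero_of_isLE ((DerivedCategory.singleFunctor X.Modules 0).obj F) 0 j h)

theorem isLE_pushOne : (DerivedCategory.Q.obj (pushOne i)).IsLE 0 :=
  (DerivedCategory.TStructure.t).isLE_of_iso
    ((DerivedCategory.singleFunctorIsoCompQ X.Modules 0).app ((Scheme.Modules.pushforward i).obj (Coh.structureModule Z))) 0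

variable [Dual3.HasHomO i] [EnoughInjectives X.Modules] (K : DerivedCategory.Plus X.Modules) (j : ℤ)

/-- The cohomology of `i_* R Hom(O_Z, K)`. -/
theorem nonempty_push_HD [DCoh.HasLTensorCx (pushOne i)] [DCoh.HasRSheafHom (pushOne i)] :
    Nonempty ((Scheme.Modules.pushforward i).obj (DCoh.HD ((Dual3.RHomOPlus i).obj K).obj j) ≅
      DCoh.HD ((DCoh.RSheafHom (pushOne i)).obj K.obj) j) := by
  haveI := ExtSS.preservesFiniteLimits_pushforward i
  haveI := ExtSS.preservesFiniteColimits_pushforward i
  obtain ⟨a⟩ := nonempty_plus i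
  obtain ⟨b⟩ := nonempty_push_RHomOD i
  exact ⟨(SuppOpen.hdMapIso (Scheme.Modules.pushforward i) _ j).symm ≪≫
    (DerivedCategory.homologyFunctor X.Modules j).mapIso
      ((Scheme.Modules.pushforward i).mapDerivedCategory.mapIso (a.app K) ≪≫ b.app K.obj)⟩

/-- `R Hom(O_Z, -)` preserves quasi-coherence. -/
theorem isQCohD_RHomO (hK : DCoh.IsQCohD K.obj) : DCoh.IsQCohD ((Dual3.RHomOPlus i).obj K).obj := fun j => by
  haveI := LTensorSheaf.hasLTensorCx (pushOne i)
  haveI := RHomExist.hasRSheafHom (pushOne i)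
  obtain ⟨e⟩ := nonempty_push_HD i K j
  obtain ⟨r, hr⟩ := K.property
  haveI : K.obj.IsGE r := hr
  haveI := isLE_pushOne i
  refine FlatCx12.RelPCQCoh.isQCoh_of_push i _ (isQCoh_of_iso e.symm (h := ?_))
  exact DQCoh.isQCoh_HD_RHom_psc (pushOne i) (r - j - 1)
    (DQCoh.psc_of_isCoh _ (fun k => (isCohD_pushOne i k).1) 0 _ fun k _ => isCohD_pushOne i k) K.obj hK r j (by omega)

/-- `R Hom(O_Z, -)` preserves coherence. -/
theorem isCohD_RHomO (hK : DCoh.IsCohD K.obj) : DCoh.IsCohD ((Dual3.RHomOPlus i).obj K).obj := fun j => by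
  haveI := LTensorSheaf.hasLTensorCx (pushOne i)
  haveI := RHomExist.hasRSheafHom (pushOne i)
  haveI : IsLocallyNoetherian Z := LocallyOfFiniteType.isLocallyNoetherian i
  obtain ⟨e⟩ := nonempty_push_HD i K j
  obtain ⟨r, hr⟩ := K.property
  haveI : K.obj.IsGE r := hr
  haveI := isLE_pushOne i
  exact SerreDual.isCoh_of_push i (Coherent.isCoh_iso e.symm
    (DQCoh.isCohD_RHom (pushOne i) 0 (isCohD_pushOne i) K.obj r hK j))

end Noetherian

/-- `R Hom(O_Z, -)` preserves quasi-coherence when `i_* O_Z` is pseudo-coherent. -/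
theorem isQCoh_HD_RHomO [Dual3.HasHomO i] [EnoughInjectives X.Modules]
    (hpc : ∀ m : ℤ, DCoh.IsPseudoCoherentD m (DCoh.inD X ((Scheme.Modules.pushforward i).obj (Coh.structureModule Z))))
    (K : DerivedCategory.Plus X.Modules) (hK : DCoh.IsQCohD K.obj) (j : ℤ) :
    Coh.IsQCoh (DCoh.HD ((Dual3.RHomOPlus i).obj K).obj j) := by
  haveI := ExtSS.preservesFiniteLimits_pushforward i
  haveI := ExtSS.preservesFiniteColimits_pushforward i
  haveI := LTensorSheaf.hasLTensorCx (pushOne i)
  haveI := RHomExist.hasRSheafHom (pushOne i)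
  obtain ⟨a⟩ := nonempty_plus i
  obtain ⟨b⟩ := nonempty_push_RHomOD i
  obtain ⟨r, hr⟩ := K.property
  haveI : K.obj.IsGE r := hr
  refine FlatCx12.RelPCQCoh.isQCoh_of_push i _ (isQCoh_of_iso
    ((SuppOpen.hdMapIso (Scheme.Modules.pushforward i) _ j).symm ≪≫
      (DerivedCategory.homologyFunctor X.Modules j).mapIso
        ((Scheme.Modules.pushforward i).mapDerivedCategory.mapIso (a.app K) ≪≫ b.app K.obj)).symm (h := ?_))
  exact DQCoh.isQCoh_HD_RHom_psc (pushOne i) (r - j - 1)
    (PCTriangle.psc_iso ((DerivedCategory.singleFunctorIsoCompQ X.Modules 0).app _) (hpc _)) K.obj hK r j (by omega)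

end Groth.Agent.DCat.ClosedShriek
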