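import Groth.Agent.DCat.RFTri
import Groth.Agent.DCat.PullPush
import Groth.Agent.DCat.FlatPull
import Groth.Agent.EGA43.InjFibre.Scheme
import Mathlib.CategoryTheory.Abelian.Subcategory

/-!
# Derived coherators and direct images along flat morphisms
-/

set_option autoImplicit false
set_option backward.isDefEq.respectTransparency false
set_option backward.defeqAttrib.useBackward true
set_option linter.style.haveILetI false
set_option linter.unusedSectionVars false

universe u

open CategoryTheory CategoryTheory.Limits AlgebraicGeometry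

attribute [local instance] HasDerivedCategory.standard

namespace Groth.Agent.DCat.CoherPush

section Generic

universe v₁ v₂ v₃ v₄ u₁ u₂ u₃ u₄

variable {C : Type u₁} [Category.{v₁} C] {D : Type u₂} [Category.{v₂} D] {H : Type u₃} [Category.{v₃} H]
  {M : Type u₄} [Category.{v₄} M]

/-- A right derived functor agrees with the functor at retracts along a functorial replacement. -/
theorem isIso_unit_of_retract (L : C ⥤ D) (W : MorphismProperty C) [L.IsLocalization W] {F : C ⥤ H}
    (RF : D ⥤ H) (α : F ⟶ L ⋙ RF) [RF.IsRightDerivedFunctor α W] (T : D ⥤ C) (u : 𝟭 C ⟶ L ⋙ T)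
    (X : C) (r : T.obj (L.obj X) ⟶ X) (hr : u.app X ≫ r = 𝟙 X) : IsIso (α.app X) := by
  let β : F ⟶ L ⋙ (T ⋙ F) :=
    { app := fun Y => F.map (u.app Y)
      naturality := fun Y Z φ => by
        have h := u.naturality φ
        simp only [Functor.id_map, Functor.comp_map] at h
        simp only [Functor.comp_map, ← F.map_comp, h] }
  let μ := RF.rightDerivedDesc α W (T ⋙ F) β
  have hμ : ∀ Y, α.app Y ≫ μ.app (L.obj Y) = F.map (u.app Y) := RF.rightDerived_fac_app α W (T ⋙ F) β
  letI : Localization.Lifting L W L (𝟭 D) := ⟨L.rightUnitor⟩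
  letI : Localization.Lifting L W (L ⋙ T ⋙ L) (T ⋙ L) := ⟨Iso.refl _⟩
  let τ : L ⟶ L ⋙ T ⋙ L :=
    { app := fun Y => L.map (u.app Y)
      naturality := fun Y Z φ => by
        have h := u.naturality φ
        simp only [Functor.id_map, Functor.comp_map] at h
        simp only [Functor.comp_map, ← L.map_comp, h] }
  let v : 𝟭 D ⟶ T ⋙ L := Localization.liftNatTrans L W L (L ⋙ T ⋙ L) _ _ τ
  have hv : ∀ Y, v.app (L.obj Y) = L.map (u.app Y) := fun Y => by
    simp [v, τ, Localization.liftNatTrans_app]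
  let δ₁ : RF ⟶ T ⋙ L ⋙ RF := μ ≫ Functor.whiskerLeft T α
  let δ₂ : RF ⟶ T ⋙ L ⋙ RF :=
    { app := fun Z => RF.map (v.app Z)
      naturality := fun Z Z' φ => by
        have h := v.naturality φ
        simp only [Functor.id_map, Functor.comp_map] at h
        simp only [Functor.comp_map, ← RF.map_comp, h] }
  have e : δ₁ = δ₂ := RF.rightDerived_ext α W _ δ₁ δ₂ <| NatTrans.ext <| funext fun Y => by
    show α.app Y ≫ μ.app (L.obj Y) ≫ α.app (T.obj (L.obj Y)) = α.app Y ≫ RF.map (v.app (L.obj Y))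
    rw [← Category.assoc, hμ, hv]
    exact α.naturality (u.app Y)
  refine ⟨⟨μ.app (L.obj X) ≫ F.map r, ?_, ?_⟩⟩
  · rw [← Category.assoc, hμ, ← F.map_comp, hr]
    exact F.map_id X
  · have e' := congrArg (fun δ : RF ⟶ T ⋙ L ⋙ RF => δ.app (L.obj X) ≫ RF.map (L.map r)) e
    simp only [δ₁, δ₂, NatTrans.comp_app, Functor.whiskerLeft_app, hv, Category.assoc] at e'
    rw [Category.assoc]
    refine Eq.trans ?_ (e'.trans ?_)
    · exact congrArg (_ ≫ ·) (α.naturality r)
    · exact (RF.map_comp _ _).symm.trans ((congrArg RF.map ((L.map_comp _ _).symm.trans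
        ((congrArg L.map hr).trans (L.map_id X)))).trans (RF.map_id _))

/-- On the image of a right adjoint of a functor which descends, right derived functors need no resolution. -/
theorem isIso_unit_of_adj (L : C ⥤ D) (W : MorphismProperty C) [L.IsLocalization W] {F : C ⥤ H}
    (RF : D ⥤ H) (α : F ⟶ L ⋙ RF) [RF.IsRightDerivedFunctor α W]
    {A : C ⥤ M} {R : M ⥤ C} (adj : A ⊣ R) (A' : D ⥤ M) (e : A ≅ L ⋙ A') (N : M) :
    IsIso (α.app (R.obj N)) := by
  refine isIso_unit_of_retract L W RF α (A' ⋙ R)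
    (adj.unit ≫ Functor.whiskerRight e.hom R ≫ (Functor.associator _ _ _).hom) (R.obj N)
    (R.map (e.inv.app (R.obj N)) ≫ R.map (adj.counit.app N)) ?_
  simp only [NatTrans.comp_app, Functor.whiskerRight_app, Functor.associator_hom_app, Category.comp_id,
    Category.assoc]
  rw [← R.map_comp_assoc, Iso.hom_inv_id_app, CategoryTheory.Functor.map_id, Category.id_comp]
  exact adj.right_triangle_components N

end Generic

variable {X Y : Scheme.{u}}
  [ObjectProperty.ContainsZero (fun M : X.Modules => Coh.IsQCoh M)]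
  [ObjectProperty.IsClosedUnderKernels (fun M : X.Modules => Coh.IsQCoh M)]
  [ObjectProperty.IsClosedUnderCokernels (fun M : X.Modules => Coh.IsQCoh M)]
  [ObjectProperty.IsClosedUnderFiniteProducts (fun M : X.Modules => Coh.IsQCoh M)]
  [PreservesFiniteLimits (ObjectProperty.ι (fun M : X.Modules => Coh.IsQCoh M))]
  [PreservesFiniteColimits (ObjectProperty.ι (fun M : X.Modules => Coh.IsQCoh M))]
  [ObjectProperty.ContainsZero (fun M : Y.Modules => Coh.IsQCoh M)]
  [ObjectProperty.IsClosedUnderKernels (fun M : Y.Modules => Coh.IsQCoh M)]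
  [ObjectProperty.IsClosedUnderCokernels (fun M : Y.Modules => Coh.IsQCoh M)]
  [ObjectProperty.IsClosedUnderFiniteProducts (fun M : Y.Modules => Coh.IsQCoh M)]
  [PreservesFiniteLimits (ObjectProperty.ι (fun M : Y.Modules => Coh.IsQCoh M))]
  [PreservesFiniteColimits (ObjectProperty.ι (fun M : Y.Modules => Coh.IsQCoh M))]

/-- `RQ_Y ∘ Rf_* = R(f_*) ∘ RQ_X` for flat `f`. -/
theorem nonempty_compat (f : X ⟶ Y) [Flat f] [DCoh.HasRpush f]
    (QX : X.Modules ⥤ ObjectProperty.FullSubcategory (fun M : X.Modules => Coh.IsQCoh M))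
    (adjX : ObjectProperty.ι (fun M : X.Modules => Coh.IsQCoh M) ⊣ QX)
    (QY : Y.Modules ⥤ ObjectProperty.FullSubcategory (fun M : Y.Modules => Coh.IsQCoh M))
    (adjY : ObjectProperty.ι (fun M : Y.Modules => Coh.IsQCoh M) ⊣ QY)
    [QX.Additive] [QY.Additive]
    [(QX.mapHomotopyCategory (ComplexShape.up ℤ) ⋙ DerivedCategory.Qh).HasRightDerivedFunctor
      (HomotopyCategory.quasiIso X.Modules (ComplexShape.up ℤ))]
    [(QY.mapHomotopyCategory (ComplexShape.up ℤ) ⋙ DerivedCategory.Qh).HasRightDerivedFunctor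
      (HomotopyCategory.quasiIso Y.Modules (ComplexShape.up ℤ))]
    (Φ : ObjectProperty.FullSubcategory (fun M : X.Modules => Coh.IsQCoh M) ⥤
      ObjectProperty.FullSubcategory (fun M : Y.Modules => Coh.IsQCoh M)) [Φ.Additive]
    (c : Φ ⋙ ObjectProperty.ι (fun M : Y.Modules => Coh.IsQCoh M) ≅
      ObjectProperty.ι (fun M : X.Modules => Coh.IsQCoh M) ⋙ Scheme.Modules.pushforward f)
    [(Φ.mapHomotopyCategory (ComplexShape.up ℤ) ⋙ DerivedCategory.Qh).HasRightDerivedFunctor
      (HomotopyCategory.quasiIso (ObjectProperty.FullSubcategory (fun M : X.Modules => Coh.IsQCoh M))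
        (ComplexShape.up ℤ))] :
    Nonempty (DCoh.Rpush f ⋙ (QY.mapHomotopyCategory (ComplexShape.up ℤ) ⋙ DerivedCategory.Qh).totalRightDerived
        DerivedCategory.Qh (HomotopyCategory.quasiIso Y.Modules (ComplexShape.up ℤ)) ≅
      (QX.mapHomotopyCategory (ComplexShape.up ℤ) ⋙ DerivedCategory.Qh).totalRightDerived
          DerivedCategory.Qh (HomotopyCategory.quasiIso X.Modules (ComplexShape.up ℤ)) ⋙
        (Φ.mapHomotopyCategory (ComplexShape.up ℤ) ⋙ DerivedCategory.Qh).totalRightDerived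
          DerivedCategory.Qh (HomotopyCategory.quasiIso _ (ComplexShape.up ℤ))) := by
  let PX : ObjectProperty X.Modules := fun M => Coh.IsQCoh M
  let PY : ObjectProperty Y.Modules := fun M => Coh.IsQCoh M
  let G : PY.FullSubcategory ⥤ PX.FullSubcategory :=
    PX.lift (PY.ι ⋙ Scheme.Modules.pullback f) fun M =>
      haveI : Coh.IsQCoh M.obj := M.property
      EGA43.InjFibre.isQCoh_pullback f M.obj
  let aq : G ⊣ Φ := (Scheme.Modules.pullbackPushforwardAdjunction f).restrictFullyFaithful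
    PY.fullyFaithfulι PX.fullyFaithfulι (Iso.refl _) c.symm
  let e₀ : QX ⋙ Φ ≅ Scheme.Modules.pushforward f ⋙ QY :=
    (aq.comp adjX).rightAdjointUniq (adjY.comp (Scheme.Modules.pullbackPushforwardAdjunction f))
  haveI : (QX ⋙ Φ).Additive := inferInstance
  let hX := modules_enoughKInj X
  let hY := modules_enoughKInj Y
  let ρ := rho hX
  let fh := (Scheme.Modules.pushforward f).mapHomotopyCategory (ComplexShape.up ℤ)
  let qX := QX.mapHomotopyCategory (ComplexShape.up ℤ)
  let qY := QY.mapHomotopyCategory (ComplexShape.up ℤ)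
  let φh := Φ.mapHomotopyCategory (ComplexShape.up ℤ)
  let αY := (qY ⋙ DerivedCategory.Qh).totalRightDerivedUnit DerivedCategory.Qh
    (HomotopyCategory.quasiIso Y.Modules (ComplexShape.up ℤ))
  let αΦ := (φh ⋙ DerivedCategory.Qh).totalRightDerivedUnit DerivedCategory.Qh
    (HomotopyCategory.quasiIso PX.FullSubcategory (ComplexShape.up ℤ))
  haveI : ∀ Z, IsIso ((Functor.whiskerLeft (ρ ⋙ fh) αY).app Z) := fun Z => by
    haveI : CochainComplex.IsKInjective ((ρ.obj Z).as) := kInj_rho hX Z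
    haveI h' := FlatPull.isKInjective_map_of_adj (Scheme.Modules.pullbackPushforwardAdjunction f) (ρ.obj Z).as
    exact isIso_unit_of_kInj hY (qY ⋙ DerivedCategory.Qh) _ h'
  haveI : ∀ Z, IsIso ((Functor.whiskerLeft (ρ ⋙ qX) αΦ).app Z) := fun Z => by
    let A := PX.ι.mapHomotopyCategory (ComplexShape.up ℤ) ⋙ DerivedCategory.Qh
    let adjA : A ⊣ ρ ⋙ qX := (adjHot (c := ComplexShape.up ℤ) adjX).comp (rhoAdj hX)
    exact isIso_unit_of_adj DerivedCategory.Qh (HomotopyCategory.quasiIso PX.FullSubcategory (ComplexShape.up ℤ))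
      _ αΦ adjA PX.ι.mapDerivedCategory PX.ι.mapDerivedCategoryFactorsh.symm Z
  haveI := NatIso.isIso_of_isIso_app (Functor.whiskerLeft (ρ ⋙ fh) αY)
  haveI := NatIso.isIso_of_isIso_app (Functor.whiskerLeft (ρ ⋙ qX) αΦ)
  exact ⟨Functor.isoWhiskerRight (rfIso hX (DCoh.pushKh f)) _ ≪≫
    Functor.associator _ _ _ ≪≫ Functor.isoWhiskerLeft ρ (Functor.associator _ _ _) ≪≫
    (Functor.associator _ _ _).symm ≪≫
    (asIso (Functor.whiskerLeft (ρ ⋙ fh) αY)).symm ≪≫
    Functor.associator _ _ _ ≪≫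
    Functor.isoWhiskerLeft ρ ((Functor.associator _ _ _).symm ≪≫
      Functor.isoWhiskerRight (Functor.mapHomotopyCategoryCompIso e₀.symm (ComplexShape.up ℤ) ≪≫
        (Functor.mapHomotopyCategoryCompIso (Iso.refl _) (ComplexShape.up ℤ)).symm) DerivedCategory.Qh ≪≫
      Functor.associator _ _ _) ≪≫
    (Functor.associator _ _ _).symm ≪≫
    asIso (Functor.whiskerLeft (ρ ⋙ qX) αΦ) ≪≫
    (Functor.associator _ _ _).symm ≪≫
    Functor.isoWhiskerRight ((Functor.associator _ _ _) ≪≫
      (rfIso hX (qX ⋙ DerivedCategory.Qh)).symm) _⟩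

end Groth.Agent.DCat.CoherPush
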