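import Groth.Agent.DCat.Hocolim
import Groth.Agent.DCat.CompactEnv
import Groth.Agent.DCat.BrownCor

/-! Presentations by compact generators. -/

set_option autoImplicit false
set_option backward.isDefEq.respectTransparency false
set_option backward.defeqAttrib.useBackward true
set_option linter.style.haveILetI false

universe v u

open CategoryTheory CategoryTheory.Limits CategoryTheory.Pretriangulated

namespace Groth.Agent.DCat

variable {D : Type u} [Category.{v} D] [Preadditive D] [HasZeroObject D] [HasShift D ℤ]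
  [∀ n : ℤ, (shiftFunctor D n).Additive] [Pretriangulated D] [HasCoproducts.{v} D]
  [HasColimitsOfShape (Discrete ℕ) D]

section Nat

variable {C : D} (hC : FinFac C) {K : ℕ → D} (f : ∀ n, K n ⟶ K (n + 1))

include hC in
omit [HasZeroObject D] [HasShift D ℤ] [∀ n : ℤ, (shiftFunctor D n).Additive] [Pretriangulated D] in
lemma FinFac.nat (α : C ⟶ ∐ K) : ∃ N : ℕ, ∀ p : ∐ K ⟶ ∐ K,
    (∀ k, k < N → Sigma.ι K k ≫ p = Sigma.ι K k) → α ≫ p = α := by
  classical
  let X' : ULift.{v} ℕ → D := fun n => K n.down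
  let s : ∐ K ⟶ ∐ X' := Sigma.desc fun n => Sigma.ι X' ⟨n⟩
  let s' : ∐ X' ⟶ ∐ K := Sigma.desc fun n => Sigma.ι K n.down
  obtain ⟨S, hS⟩ := hC _ X' (α ≫ s)
  refine ⟨(S.image ULift.down).sup id + 1, fun p hp => ?_⟩
  have e : α = (α ≫ s ≫ finProj X' S) ≫ s' := by
    rw [← Category.assoc α, hS, Category.assoc, show s ≫ s' = 𝟙 _ from Sigma.hom_ext _ _ fun n => by simp [s, s'],
      Category.comp_id]
  rw [e]
  simp only [Category.assoc]
  refine congrArg (α ≫ s ≫ ·) (Sigma.hom_ext _ _ fun n => ?_)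
  simp only [← Category.assoc, ι_finProj]
  split_ifs with hn
  · simp only [s', Sigma.ι_desc_assoc, Sigma.ι_desc]
    exact hp _ (Nat.lt_succ_of_le (Finset.le_sup (f := id) (Finset.mem_image_of_mem ULift.down hn)))
  · rw [zero_comp, zero_comp]

include hC in
omit [HasZeroObject D] [HasShift D ℤ] [∀ n : ℤ, (shiftFunctor D n).Additive] [Pretriangulated D] in
lemma FinFac.tel_inj (α : C ⟶ ∐ K) (hα : α ≫ (𝟙 (∐ K) - DerLim.shiftMap K f) = 0) : α = 0 := by
  classical
  rw [Preadditive.comp_sub, Category.comp_id, sub_eq_zero] at hα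
  obtain ⟨N, hN⟩ := hC.nat α
  let p : ∐ K ⟶ ∐ K := Sigma.desc fun k => if k < N then Sigma.ι K k else 0
  have hp : α ≫ p = α := hN p fun k hk => by simp [p, hk]
  let pw : ℕ → (∐ K ⟶ ∐ K) := fun M => Nat.rec (𝟙 _) (fun _ g => DerLim.shiftMap K f ≫ g) M
  have hpow : ∀ M, α ≫ pw M = α := fun M => by
    induction M with
    | zero => simp [pw]
    | succ M ih =>
      change α ≫ DerLim.shiftMap K f ≫ pw M = α
      rw [← Category.assoc, ← hα, ih]
  have hkill : ∀ M k, N ≤ k + M → Sigma.ι K k ≫ pw M ≫ p = 0 := fun M => by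
    induction M with
    | zero => intro k hk; simp [pw, p, show ¬ k < N by omega]
    | succ M ih =>
      intro k hk
      change Sigma.ι K k ≫ (DerLim.shiftMap K f ≫ pw M) ≫ p = 0
      simp only [Category.assoc, DerLim.shiftMap, Sigma.ι_desc_assoc, ih (k + 1) (by omega), comp_zero]
  rw [← hp, ← hpow N, Category.assoc, show pw N ≫ p = 0 from Sigma.hom_ext _ _ fun k => by
    rw [hkill N k (by omega), comp_zero], comp_zero]

include hC in
omit [HasZeroObject D] [HasShift D ℤ] [∀ n : ℤ, (shiftFunctor D n).Additive] [Pretriangulated D] in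
lemma FinFac.hocolim_factor {Z : D} (j : ∀ n, K n ⟶ Z) (hj : ∀ n, f n ≫ j (n + 1) = j n) (α : C ⟶ ∐ K) :
    ∃ (N : ℕ) (β : C ⟶ K N), α ≫ Sigma.desc j = β ≫ j N := by
  classical
  obtain ⟨N, hN⟩ := hC.nat α
  let tom : ∀ M k, K k ⟶ K M := fun M => Nat.rec (fun k => if h : k = 0 then eqToHom (by rw [h]) else 0)
    (fun M' g k => if h : k = M' + 1 then eqToHom (by rw [h]) else g k ≫ f M') M
  have hto : ∀ M k, k ≤ M → tom M k ≫ j M = j k := fun M => by
    induction M with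
    | zero =>
      intro k hk
      obtain rfl : k = 0 := by omega
      simp [tom]
    | succ M ih =>
      intro k hk
      by_cases h : k = M + 1
      · subst h; simp [tom]
      · change (if h : k = M + 1 then eqToHom (by rw [h]) else tom M k ≫ f M) ≫ j (M + 1) = j k
        rw [dif_neg h, Category.assoc, hj, ih k (by omega)]
  let p : ∐ K ⟶ ∐ K := Sigma.desc fun k => if k < N then Sigma.ι K k else 0
  refine ⟨N, α ≫ Sigma.desc (fun k => tom N k), ?_⟩
  have e : p ≫ Sigma.desc (fun k => tom N k) ≫ j N = p ≫ Sigma.desc j := Sigma.hom_ext _ _ fun k => by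
    simp only [p, Sigma.ι_desc_assoc]
    split_ifs with hk
    · simp [hto N k (by omega)]
    · simp
  have hp : α ≫ p = α := hN p fun k hk => by simp [p, hk]
  conv_lhs => rw [← hp, Category.assoc, ← e, ← Category.assoc, hp]
  rw [Category.assoc]

include hC in
lemma FinFac.hocolim_surj {L : D} (i : ∀ n, K n ⟶ L) (hL : DerLim.IsHocolim K f L i) (e : C ⟶ L) :
    ∃ (N : ℕ) (β : C ⟶ K N), e = β ≫ i N := by
  obtain ⟨c, hT⟩ := hL
  have h0 : e ≫ c = 0 := by
    let F := shiftFunctor D (1 : ℤ)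
    let j := (shiftFunctorCompIsoId D (-1) 1 (by omega)).app C
    obtain ⟨α, hα⟩ := F.map_surjective (j.hom ≫ e ≫ c)
    have hz : α ≫ (𝟙 (∐ K) - DerLim.shiftMap K f) = 0 := F.map_injective (by
      rw [F.map_comp, hα, Functor.map_zero, Category.assoc, Category.assoc,
        show c ≫ F.map (𝟙 (∐ K) - DerLim.shiftMap K f) = 0 from comp_distTriang_mor_zero₃₁ _ hT, comp_zero, comp_zero])
    rw [← cancel_epi j.hom, ← hα, (hC.shift (-1)).tel_inj f α hz, Functor.map_zero, comp_zero]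
  obtain ⟨α, rfl⟩ := Triangle.coyoneda_exact₃ _ hT e h0
  exact hC.hocolim_factor f i (fun n => by
    have := Sigma.ι K n ≫= comp_distTriang_mor_zero₁₂ _ hT
    simp [DerLim.shiftMap, Preadditive.comp_sub, sub_eq_zero] at this
    exact this.symm) α

end Nat

variable {ι : Type v} {E : ι → D}

/-- Presentation of an object by compact generators. -/
theorem exists_hocolim_presentation (hc : ∀ i, CohDer.IsCompactObject (E i)) (hg : CohDer.Generates E) (X : D) :
    ∃ (K : ℕ → D) (f : ∀ n, K n ⟶ K (n + 1)) (i : ∀ n, K n ⟶ X),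
      DerLim.IsHocolim K f X i ∧
      (∃ (κ : Type v) (a : κ → ι) (m : κ → ℤ), Nonempty (K 0 ≅ ∐ (fun k => (E (a k))⟦m k⟧))) ∧
      ∀ n, ∃ (κ : Type v) (a : κ → ι) (m : κ → ℤ) (y : (∐ fun k => (E (a k))⟦m k⟧) ⟶ K n)
        (z : K (n + 1) ⟶ (∐ fun k => (E (a k))⟦m k⟧)⟦(1 : ℤ)⟧), Triangle.mk y (f n) z ∈ distTriang D := by
  let E' := Brown.shifts E
  have hE' : ∀ k, FinFac (E' k) := fun k => ((isCompactObject_iff _).1 (hc k.1)).shift k.2
  let Over := Σ Y : D, Y ⟶ X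
  have hstep : ∀ p : Over, ∃ (Y : D) (g : p.1 ⟶ Y) (r : Y ⟶ X)
      (y : (∐ fun e : {e : Σ k, E' k ⟶ p.1 // e.2 ≫ p.2 = 0} => E' e.1.1) ⟶ p.1)
      (z : Y ⟶ (∐ fun e : {e : Σ k, E' k ⟶ p.1 // e.2 ≫ p.2 = 0} => E' e.1.1)⟦(1 : ℤ)⟧),
      Triangle.mk y g z ∈ distTriang D ∧ g ≫ r = p.2 ∧ ∀ k (e : E' k ⟶ p.1), e ≫ p.2 = 0 → e ≫ g = 0 := by
    intro p
    let y : (∐ fun e : {e : Σ k, E' k ⟶ p.1 // e.2 ≫ p.2 = 0} => E' e.1.1) ⟶ p.1 := Sigma.desc fun e => e.1.2
    obtain ⟨Y, g, z, hT⟩ := distinguished_cocone_triangle y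
    obtain ⟨r, hr⟩ := Triangle.yoneda_exact₂ _ hT p.2 (Sigma.hom_ext _ _ fun e => by simp [y, e.2])
    refine ⟨Y, g, r, y, z, hT, hr.symm, fun k e he => ?_⟩
    rw [show e = Sigma.ι (fun e : {e : Σ k, E' k ⟶ p.1 // e.2 ≫ p.2 = 0} => E' e.1.1) ⟨⟨k, e⟩, he⟩ ≫ y by simp [y],
      Category.assoc, show y ≫ g = 0 from comp_distTriang_mor_zero₁₂ _ hT, comp_zero]
  choose NY ng nr ny nz hnT hng hnk using hstep
  let T₀ : Over := ⟨∐ fun p : Σ k, E' k ⟶ X => E' p.1, Sigma.desc fun p => p.2⟩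
  let tw : ℕ → Over := fun n => Nat.rec T₀ (fun _ p => ⟨NY p, nr p⟩) n
  let K : ℕ → D := fun n => (tw n).1
  let q : ∀ n, K n ⟶ X := fun n => (tw n).2
  let f : ∀ n, K n ⟶ K (n + 1) := fun n => ng (tw n)
  have hfq : ∀ n, f n ≫ q (n + 1) = q n := fun n => hng (tw n)
  obtain ⟨L, p, c, hT⟩ := distinguished_cocone_triangle (𝟙 (∐ K) - DerLim.shiftMap K f)
  obtain ⟨π, hπ⟩ := Triangle.yoneda_exact₂ _ hT (Sigma.desc q) (Sigma.hom_ext _ _ fun n => by
    simp [DerLim.shiftMap, Preadditive.comp_sub, hfq])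
  dsimp at π hπ
  let i : ∀ n, K n ⟶ L := fun n => Sigma.ι K n ≫ p
  have hp : Sigma.desc i = p := Sigma.hom_ext _ _ fun n => by simp [i]
  have hL : DerLim.IsHocolim K f L i := ⟨c, by rw [hp]; exact hT⟩
  have hfi : ∀ n, f n ≫ i (n + 1) = i n := fun n => by
    have := Sigma.ι K n ≫= comp_distTriang_mor_zero₁₂ _ hT
    simp [DerLim.shiftMap, Preadditive.comp_sub, sub_eq_zero] at this
    exact this.symm
  have hiπ : ∀ n, i n ≫ π = q n := fun n => by
    change (Sigma.ι K n ≫ p) ≫ π = q n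
    rw [Category.assoc, ← hπ, Sigma.ι_desc]
  have hbij : ∀ k, Function.Bijective fun e : E' k ⟶ L => e ≫ π := by
    intro k
    constructor
    · intro e e' he
      obtain ⟨N, β, hβ⟩ := (hE' k).hocolim_surj f i hL (e - e')
      have h0 : β ≫ q N = 0 := by
        rw [← hiπ, ← Category.assoc, ← hβ, Preadditive.sub_comp, sub_eq_zero]
        exact he
      rw [← sub_eq_zero, hβ, ← hfi N, ← Category.assoc, show β ≫ f N = 0 from hnk (tw N) k β h0, zero_comp]
    · intro x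
      refine ⟨Sigma.ι (fun p : Σ k, E' k ⟶ X => E' p.1) ⟨k, x⟩ ≫ i 0, ?_⟩
      change (_ ≫ i 0) ≫ π = x
      rw [Category.assoc, hiπ]
      simp [q, tw, T₀]
  haveI : IsIso π := by
    obtain ⟨C, u, δ, hC⟩ := distinguished_cocone_triangle π
    refine (Triangle.isZero₃_iff_isIso₁ _ hC).1 (Brown.isZero_of_generates E hg C fun j m g => ?_)
    have hgδ : g ≫ δ = 0 := by
      let F := shiftFunctor D (1 : ℤ)
      let jc : ((E j)⟦m - 1⟧)⟦(1 : ℤ)⟧ ≅ (E j)⟦m⟧ := ((shiftFunctorAdd' D (m - 1) 1 m (by omega)).app (E j)).symm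
      obtain ⟨α, hα⟩ := F.map_surjective (jc.hom ≫ g ≫ δ)
      have hz : α ≫ π = 0 := F.map_injective (by
        rw [F.map_comp, hα, Functor.map_zero, Category.assoc, Category.assoc,
          show δ ≫ F.map π = 0 from comp_distTriang_mor_zero₃₁ _ hC, comp_zero, comp_zero])
      rw [← cancel_epi jc.hom, ← hα, (hbij (j, m - 1)).1 (hz.trans zero_comp.symm : α ≫ π = (0 : E' (j, m - 1) ⟶ L) ≫ π),
        Functor.map_zero, comp_zero]
    obtain ⟨g', rfl⟩ := Triangle.coyoneda_exact₃ _ hC g hgδ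
    obtain ⟨e, rfl⟩ := (hbij (j, m)).2 g'
    dsimp
    rw [Category.assoc, show π ≫ u = 0 from comp_distTriang_mor_zero₁₂ _ hC, comp_zero]
  refine ⟨K, f, fun n => i n ≫ π, ⟨inv π ≫ c, ?_⟩, ⟨(Σ k, E' k ⟶ X), fun p => p.1.1, fun p => p.1.2, ⟨Iso.refl _⟩⟩, fun n =>
    ⟨{e : Σ k, E' k ⟶ K n // e.2 ≫ q n = 0}, fun e => e.1.1.1, fun e => e.1.1.2, ny (tw n), nz (tw n), hnT (tw n)⟩⟩
  refine isomorphic_distinguished _ hT _ (Triangle.isoMk _ _ (Iso.refl _) (Iso.refl _) (asIso π).symm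
    (by simp) (Sigma.hom_ext _ _ fun n => by simp [i]) (by simp))

variable [IsTriangulated D]

/-- Compact objects lie in the envelope of compact generators. -/
theorem exists_env_of_compact [Nonempty ι] (hc : ∀ i, CohDer.IsCompactObject (E i)) (hg : CohDer.Generates E) (X : D)
    (hX : CohDer.IsCompactObject X) : ∃ (s : Finset ι), env E s X := by
  obtain ⟨K, f, i, hL, h0, hs⟩ := exists_hocolim_presentation hc hg X
  obtain ⟨N, β, hβ⟩ := ((isCompactObject_iff X).1 hX).hocolim_surj f i hL (𝟙 X)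
  obtain ⟨s, E', g, h, hne, hE, -, hgh⟩ := envFac_tower hc K f h0 hs N X ((isCompactObject_iff X).1 hX) β
  exact ⟨s, (env E s).prop_of_retract
    ({ i := g, r := h ≫ i N, retract := by rw [← Category.assoc, hgh, ← hβ] } : Retract X E') hE⟩

end Groth.Agent.DCat
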