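import Groth.Agent.DCat.CompactPres
import Groth.Agent.DCat.GPBrown
import Groth.Agent.DCat.ModGen
import Groth.Prelude.Def_CohDer

/-! Compact objects of `D(R)` for a ring `R` (not necessarily commutative). -/

set_option autoImplicit false
set_option backward.isDefEq.respectTransparency false
set_option backward.defeqAttrib.useBackward true
set_option linter.style.haveILetI false

universe u

open CategoryTheory CategoryTheory.Limits HomologicalComplex CategoryTheory.Pretriangulated
open Groth.Agent.DCat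

attribute [local instance] HasDerivedCategory.standard

namespace Groth.Agent.CompactRing17

section Cmp

variable (R : Type u) [Ring R]

/-- The small model of `D(R)`. -/
noncomputable abbrev smallD : HasDerivedCategory.{u} (ModuleCat.{u} R) :=
  smallDerivedCategory (ModuleCat.{u} R) enoughKInj_of_isGrothendieckAbelian

/-- Comparison between the small and the standard model. -/
noncomputable abbrev cmpD :
    @DerivedCategory (ModuleCat.{u} R) _ _ (smallD R) ⥤ DerivedCategory (ModuleCat.{u} R) :=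
  @Functor.mapDerivedCategory (ModuleCat.{u} R) _ _ (smallD R) (ModuleCat.{u} R) _ _ _ (𝟭 _) _ _ _

/-- The comparison commutes with the localization functors. -/
noncomputable def cmpDIso :
    @DerivedCategory.Q (ModuleCat.{u} R) _ _ (smallD R) ⋙ cmpD R ≅ DerivedCategory.Q :=
  @Functor.mapDerivedCategoryFactors (ModuleCat.{u} R) _ _ (smallD R) (ModuleCat.{u} R) _ _ _ (𝟭 _) _ _ _ ≪≫
    NatIso.ofComponents (fun K => DerivedCategory.Q.mapIso (HomologicalComplex.Hom.isoOfComponents (fun _ => Iso.refl _)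
      (fun _ _ _ => by simp))) (fun {K L} f => by
        dsimp
        rw [← Functor.map_comp, ← Functor.map_comp]
        congr 1)

instance isEquivalence_cmpD : (cmpD R).IsEquivalence := by
  letI := smallD R
  let W := HomologicalComplex.quasiIso (ModuleCat.{u} R) (ComplexShape.up ℤ)
  let L' := @DerivedCategory.Q (ModuleCat.{u} R) _ _ (HasDerivedCategory.standard _)
  let L := @DerivedCategory.Q (ModuleCat.{u} R) _ _ (smallD R)
  haveI : Localization.Lifting L W L' (cmpD R) := ⟨cmpDIso R⟩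
  haveI : Localization.Lifting L W L' (Localization.uniq L L' W).functor := ⟨Localization.compUniqFunctor L L' W⟩
  exact Functor.isEquivalence_of_iso
    (Localization.liftNatIso L W L' L' (Localization.uniq L L' W).functor (cmpD R) (Iso.refl _))

end Cmp

variable {R : Type u} [Ring R]


section Gen

universe v w

variable [hs : HasDerivedCategory.{u} (ModuleCat.{u} R)]
  {D : Type w} [Category.{v} D] [Preadditive D] [HasZeroObject D] [HasShift D ℤ]
  [∀ n : ℤ, (shiftFunctor D n).Additive] [Pretriangulated D]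

/-- Surjectivity for the generators, transported along an equivalence. -/
theorem surj_gen (E : DerivedCategory (ModuleCat.{u} R) ⥤ D) [E.CommShift ℤ] [E.IsTriangulated] [E.IsEquivalence]
    (n : ℤ) (κ : Type u) (X : κ → D) (c : Cofan X) (hc : IsColimit c)
    (x : E.obj (DerivedCategory.Q.obj (ringCx R n)) ⟶ c.pt) :
    ∃ (s : Finset κ) (y : ∀ i, E.obj (DerivedCategory.Q.obj (ringCx R n)) ⟶ X i),
      x = ∑ i ∈ s, y i ≫ c.inj i := by
  classical
  haveI : HasCoproducts.{u} (DerivedCategory (ModuleCat.{u} R)) := fun J =>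
    hasCoproductsOfShape_derived enoughKInj_of_isGrothendieckAbelian J
  let F := fun k => E.objPreimage (X k)
  have hcol := isColimitCofanMkObjOfIsColimit E _ _ (coproductIsCoproduct F)
  let w : E.obj (∐ F) ⟶ c.pt := Cofan.IsColimit.desc hcol fun k => (E.objObjPreimageIso (X k)).hom ≫ c.inj k
  let w' : c.pt ⟶ E.obj (∐ F) :=
    Cofan.IsColimit.desc hc fun k => (E.objObjPreimageIso (X k)).inv ≫ E.map (Sigma.ι F k)
  have hw : ∀ k, E.map (Sigma.ι F k) ≫ w = (E.objObjPreimageIso (X k)).hom ≫ c.inj k := fun k =>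
    Cofan.IsColimit.fac hcol _ k
  have hww : w' ≫ w = 𝟙 _ := Cofan.IsColimit.hom_ext hc _ _ fun k => by
    rw [Cofan.IsColimit.fac_assoc, Category.assoc, hw, Iso.inv_hom_id_assoc, Category.comp_id]
  obtain ⟨s, hs'⟩ := finFac_ringCx R n κ F (E.preimage (x ≫ w'))
  rw [finProj_eq_sum, Preadditive.comp_sum] at hs'
  refine ⟨s, fun i => E.map (E.preimage (x ≫ w') ≫ coordProj F i) ≫ (E.objObjPreimageIso (X i)).hom, ?_⟩
  have h2 := congrArg (fun z => E.map z ≫ w) hs'
  simp only [E.map_sum, Preadditive.sum_comp, E.map_comp, E.map_preimage, Category.assoc, hw, hww,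
    Category.comp_id] at h2
  conv_lhs => rw [← h2]
  refine Finset.sum_congr rfl fun i _ => ?_
  simp [E.map_comp]

/-- Compact objects lie in every triangulated, retract stable property containing the generators. -/
theorem prop_of_compact (E : DerivedCategory (ModuleCat.{u} R) ⥤ D) [E.CommShift ℤ] [E.IsTriangulated]
    [E.IsEquivalence] (P : ObjectProperty D) [P.IsClosedUnderIsomorphisms] [P.IsTriangulated]
    [P.IsStableUnderRetracts] (hgen : ∀ n, P (E.obj (DerivedCategory.Q.obj (ringCx R n))))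
    (K : D) (h : ∀ (κ : Type u) (X : κ → D) (c : Cofan X), IsColimit c → ∀ x : K ⟶ c.pt,
      ∃ (s : Finset κ) (y : ∀ i, K ⟶ X i), x = ∑ i ∈ s, y i ≫ c.inj i) : P K := by
  classical
  let S := DerivedCategory (ModuleCat.{u} R)
  haveI : HasCoproducts.{u} S := fun J => hasCoproductsOfShape_derived enoughKInj_of_isGrothendieckAbelian J
  haveI : HasColimitsOfShape (Discrete ℕ) S :=
    hasColimitsOfShape_of_equivalence (Discrete.equivalence (Equiv.ulift.{u} : ULift.{u} ℕ ≃ ℕ))
  let G : ULift.{u} ℤ → S := fun n => DerivedCategory.Q.obj (ringCx R n.down)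
  have hc : ∀ n, CohDer.IsCompactObject (G n) := fun n => (isCompactObject_iff _).2 (finFac_ringCx _ _)
  have hg : CohDer.Generates G := fun X hX => isZero_of_forall_ringCx _ X fun n f => by
    rw [← cancel_mono ((shiftFunctorZero S ℤ).inv.app X), zero_comp]
    exact hX ⟨n⟩ 0 _
  haveI : (P.inverseImage E).IsStableUnderRetracts := ⟨fun r h => P.prop_of_retract (r.map E) h⟩
  have hX : CohDer.IsCompactObject (E.objPreimage K) := (isCompactObject_iff _).2 fun κ F α => by
    let e := E.objObjPreimageIso K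
    obtain ⟨s, y, hy⟩ := h κ (fun i => E.obj (F i)) _
      (isColimitCofanMkObjOfIsColimit E _ _ (coproductIsCoproduct F)) (e.inv ≫ E.map α)
    refine ⟨s, E.map_injective ?_⟩
    rw [← cancel_epi e.inv, hy, E.map_comp, ← Category.assoc, hy, Preadditive.sum_comp]
    refine Finset.sum_congr rfl fun i hi => ?_
    simp only [Cofan.inj, Cofan.mk_ι_app, Category.assoc, ← E.map_comp, ι_finProj, if_pos hi]
  obtain ⟨s, hs'⟩ := exists_env_of_compact hc hg _ hX
  exact P.prop_of_iso (E.objObjPreimageIso K)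
    ((ObjectProperty.triangEnvelope_le_iff (Q := P.inverseImage E) _).2 (fun Y ⟨i, _, hY⟩ => hY ▸ hgen i.down) _ hs')

end Gen

/-- Maps into direct sums are finite sums. -/
def Cpt (K : DerivedCategory (ModuleCat.{u} R)) : Prop :=
  ∀ (κ : Type u) (X : κ → DerivedCategory (ModuleCat.{u} R)) (c : Cofan X), IsColimit c → ∀ x : K ⟶ c.pt,
    ∃ (s : Finset κ) (y : ∀ i, K ⟶ X i), x = ∑ i ∈ s, y i ≫ c.inj i

lemma cofan_coord {κ : Type u} {X : κ → DerivedCategory (ModuleCat.{u} R)} {c : Cofan X} (hc : IsColimit c) (i : κ) :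
    ∃ p : c.pt ⟶ X i, c.inj i ≫ p = 𝟙 _ ∧ ∀ j, j ≠ i → c.inj j ≫ p = 0 := by
  classical
  exact ⟨Cofan.IsColimit.desc hc fun j => if h : j = i then eqToHom (congrArg X h) else 0,
    by rw [Cofan.IsColimit.fac]; simp, fun j hj => by rw [Cofan.IsColimit.fac]; simp [hj]⟩

lemma eq_zero_of_sum {κ : Type u} {X : κ → DerivedCategory (ModuleCat.{u} R)} {c : Cofan X} (hc : IsColimit c) {K : DerivedCategory (ModuleCat.{u} R)}
    (s : Finset κ) (y : ∀ i, K ⟶ X i) (h : ∑ i ∈ s, y i ≫ c.inj i = 0) {i : κ} (hi : i ∈ s) : y i = 0 := by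
  obtain ⟨p, hp, hp'⟩ := cofan_coord hc i
  have := congrArg (· ≫ p) h
  simp only [Preadditive.sum_comp, Category.assoc, zero_comp] at this
  rw [Finset.sum_eq_single i (fun j _ hj => by rw [hp' j hj, comp_zero]) (fun h => absurd hi h), hp,
    Category.comp_id] at this
  exact this

lemma Cpt.of_iso {K L : DerivedCategory (ModuleCat.{u} R)} (e : K ≅ L) (h : Cpt K) : Cpt L := fun κ X c hc x => by
  obtain ⟨s, y, hy⟩ := h κ X c hc (e.hom ≫ x)
  refine ⟨s, fun i => e.inv ≫ y i, ?_⟩
  rw [← cancel_epi e.hom, hy, Preadditive.comp_sum]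
  simp

lemma Cpt.of_retract {K L : DerivedCategory (ModuleCat.{u} R)} (r : Retract K L) (h : Cpt L) : Cpt K := fun κ X c hc x => by
  obtain ⟨s, y, hy⟩ := h κ X c hc (r.r ≫ x)
  refine ⟨s, fun i => r.i ≫ y i, ?_⟩
  have := congrArg (r.i ≫ ·) hy
  simp only [Preadditive.comp_sum, ← Category.assoc, r.retract, Category.id_comp] at this
  exact this

lemma Cpt.cone {T : Triangle (DerivedCategory (ModuleCat.{u} R))} (hT : T ∈ distinguishedTriangles) (h₂ : Cpt T.obj₂)
    (h₄ : Cpt (T.obj₁⟦(1 : ℤ)⟧)) : Cpt T.obj₃ := fun κ X c hc x => by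
  classical
  obtain ⟨s, y, hy⟩ := h₂ κ X c hc (T.mor₂ ≫ x)
  have hz : ∀ i : κ, ∃ z : T.obj₃ ⟶ X i, i ∈ s → y i = T.mor₂ ≫ z := fun i => by
    by_cases hi : i ∈ s
    · have h0 : ∑ i ∈ s, (T.mor₁ ≫ y i) ≫ c.inj i = 0 := by
        have := congrArg (T.mor₁ ≫ ·) hy
        simp only [Preadditive.comp_sum] at this
        rw [← Category.assoc, comp_distTriang_mor_zero₁₂ _ hT, zero_comp] at this
        simpa [Category.assoc] using this.symm
      obtain ⟨z, hz⟩ := Triangle.yoneda_exact₂ _ hT (y i) (eq_zero_of_sum hc s _ h0 hi)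
      exact ⟨z, fun _ => hz⟩
    · exact ⟨0, fun h => absurd h hi⟩
  choose z hz using hz
  obtain ⟨w, hw⟩ := Triangle.yoneda_exact₃ _ hT (x - ∑ i ∈ s, z i ≫ c.inj i) (by
    rw [Preadditive.comp_sub, hy, Preadditive.comp_sum, sub_eq_zero]
    exact Finset.sum_congr rfl fun i hi => by rw [hz i hi, Category.assoc])
  obtain ⟨t, v, hv⟩ := h₄ κ X c hc w
  refine ⟨s ∪ t, fun i => (if i ∈ s then z i else 0) + (if i ∈ t then T.mor₃ ≫ v i else 0), ?_⟩
  simp only [Preadditive.add_comp, Finset.sum_add_distrib, ite_comp, zero_comp, Finset.sum_ite_mem,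
    Finset.union_inter_cancel_left, Finset.union_inter_cancel_right]
  rw [sub_eq_iff_eq_add.1 hw, hv, Preadditive.comp_sum, add_comm]
  simp only [Category.assoc]

theorem cpt_gen (n : ℤ) : Cpt (DerivedCategory.Q.obj (ringCx R n)) := by
  intro κ X c hc x
  let e := (cmpDIso R).app (ringCx R n)
  obtain ⟨s, y, hy⟩ :=
    @surj_gen R _ (smallD R) (DerivedCategory (ModuleCat.{u} R)) _ _ _ _ _ _ (cmpD R) _ _ (isEquivalence_cmpD R) n κ X c hc (e.hom ≫ x)
  refine ⟨s, fun i => e.inv ≫ y i, ?_⟩
  rw [← cancel_epi e.hom, hy, Preadditive.comp_sum]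
  simp

theorem Cpt.shift {K : DerivedCategory (ModuleCat.{u} R)} (h : Cpt K) (n : ℤ) : Cpt (K⟦n⟧) := fun κ X c hc x => by
  let E := shiftEquiv (DerivedCategory (ModuleCat.{u} R)) n
  haveI : E.inverse.IsEquivalence := inferInstance
  have hc' : IsColimit (Cofan.mk (c.pt⟦-n⟧) fun i => (c.inj i)⟦-n⟧' : Cofan fun i => (X i)⟦-n⟧) :=
    isColimitCofanMkObjOfIsColimit (shiftFunctor _ (-n)) X c.inj
      (hc.ofIsoColimit (Cofan.ext (Iso.refl _) (fun i => Category.comp_id _)))
  obtain ⟨s, y, hy⟩ := h κ _ _ hc' ((shiftShiftNeg K n).inv ≫ x⟦-n⟧')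
  refine ⟨s, fun i => (y i)⟦n⟧' ≫ (shiftNegShift (X i) n).hom, ?_⟩
  apply (shiftFunctor _ (-n)).map_injective
  rw [← cancel_epi (shiftShiftNeg K n).inv, hy, Functor.map_sum, Preadditive.comp_sum]
  refine Finset.sum_congr rfl fun i _ => ?_
  simp only [Functor.map_comp, Cofan.inj, Cofan.mk_ι_app]
  have hnat := (shiftFunctorCompIsoId (DerivedCategory (ModuleCat.{u} R)) n (-n) (add_neg_cancel n)).inv.naturality (y i)
  dsimp [shiftShiftNeg, shiftNegShift] at hnat ⊢
  simp only [Category.assoc]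
  rw [shift_shiftFunctorCompIsoId_neg_add_cancel_hom_app, ← reassoc_of% hnat, Iso.inv_hom_id_app_assoc]

theorem Cpt.of_isZero {K : DerivedCategory (ModuleCat.{u} R)} (h : IsZero K) : Cpt K := fun _ _ _ _ _ =>
  ⟨∅, fun _ => 0, h.eq_of_src _ _⟩

theorem Cpt.ext {T : Triangle (DerivedCategory (ModuleCat.{u} R))} (hT : T ∈ distinguishedTriangles)
    (h₁ : Cpt T.obj₁) (h₃ : Cpt T.obj₃) : Cpt T.obj₂ :=
  Cpt.cone (inv_rot_of_distTriang _ hT) h₁
    (Cpt.of_iso (shiftFunctorCompIsoId _ (-1 : ℤ) 1 (by omega) |>.app T.obj₃).symm h₃)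

/-- Compactness as preservation of direct sums by the corepresented functor. -/
theorem cpt_of_preserves {K : DerivedCategory (ModuleCat.{u} R)}
    (h : ∀ J : Type u, PreservesColimitsOfShape (Discrete J) (preadditiveCoyoneda.obj (Opposite.op K))) :
    Cpt K := fun κ X c hc x => by
  classical
  haveI := h κ
  let G := preadditiveCoyoneda.obj (Opposite.op K)
  let H : AddSubgroup (K ⟶ c.pt) :=
    { carrier := {z | ∃ (s : Finset κ) (y : ∀ i, K ⟶ X i), z = ∑ i ∈ s, y i ≫ c.inj i}
      zero_mem' := ⟨∅, fun _ => 0, Finset.sum_empty.symm⟩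
      add_mem' := by
        rintro a b ⟨s, y, rfl⟩ ⟨t, v, rfl⟩
        refine ⟨s ∪ t, fun i => (if i ∈ s then y i else 0) + (if i ∈ t then v i else 0), ?_⟩
        simp only [Preadditive.add_comp, Finset.sum_add_distrib, ite_comp, zero_comp, Finset.sum_ite_mem,
          Finset.union_inter_cancel_left, Finset.union_inter_cancel_right]
      neg_mem' := by
        rintro a ⟨s, y, rfl⟩
        exact ⟨s, fun i => - y i, by simp [Preadditive.neg_comp]⟩ }
  have hc' : IsColimit (G.mapCocone c) := isColimitOfPreserves G hc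
  have h0 : AddCommGrpCat.ofHom (QuotientAddGroup.mk' H) =
      (0 : G.obj c.pt ⟶ AddCommGrpCat.of ((K ⟶ c.pt) ⧸ H)) :=
    hc'.hom_ext fun ⟨j⟩ => by
      ext (y : K ⟶ X j)
      refine (QuotientAddGroup.eq_zero_iff _).2 ⟨{j}, fun i => if h : i = j then y ≫ eqToHom (by rw [h]) else 0, ?_⟩
      simp
      rfl
  exact (QuotientAddGroup.eq_zero_iff x).1 (ConcreteCategory.congr_hom h0 x)

theorem preserves_of_cpt {K : DerivedCategory (ModuleCat.{u} R)} (h : Cpt K) (J : Type u) :
    PreservesColimitsOfShape (Discrete J) (preadditiveCoyoneda.obj (Opposite.op K)) := by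
  classical
  refine ⟨fun {D} => ?_⟩
  let X : J → DerivedCategory (ModuleCat.{u} R) := D.obj ∘ Discrete.mk
  suffices hh : PreservesColimit (Discrete.functor (D.obj ∘ Discrete.mk)) (preadditiveCoyoneda.obj (Opposite.op K)) from
    preservesColimit_of_iso_diagram _ (Discrete.natIsoFunctor (F := D)).symm
  refine ⟨fun {c₀} hc₀ => ⟨?_⟩⟩
  let c : Cofan X := c₀
  have hc : IsColimit c := hc₀
  let G := preadditiveCoyoneda.obj (Opposite.op K)
  choose p hp hp' using fun j => cofan_coord (c := c) hc j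
  choose S y hy using fun x : K ⟶ c.pt => h J X c hc x
  have key : ∀ (x : K ⟶ c.pt) (s : Finset J), S x ⊆ s → x = ∑ i ∈ s, (x ≫ p i) ≫ c.inj i := fun x s hs => by
    have hx : ∀ i, x ≫ p i = if i ∈ S x then y x i else 0 := fun i => by
      conv_lhs => rw [hy x, Preadditive.sum_comp]
      split_ifs with hi
      · rw [Finset.sum_eq_single i (fun j _ hj => by rw [Category.assoc, hp' i j hj, comp_zero])
          (fun h => absurd hi h), Category.assoc, hp, Category.comp_id]
      · exact Finset.sum_eq_zero fun j hj => by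
          rw [Category.assoc, hp' i j (fun e => hi (e ▸ hj)), comp_zero]
    conv_lhs => rw [hy x]
    rw [← Finset.sum_subset hs (fun i _ hi => by rw [hx, if_neg hi, zero_comp])]
    exact Finset.sum_congr rfl fun i hi => by rw [hx, if_pos hi]
  refine (?_ : IsColimit (G.mapCocone c))
  let φ : ∀ (s : Cocone (Discrete.functor X ⋙ G)) (i : J), (K ⟶ X i) →+ s.pt := fun s i => (s.ι.app ⟨i⟩).hom
  refine
    { desc := fun s => AddCommGrpCat.ofHom (AddMonoidHom.mk'
        (fun (x : K ⟶ c.pt) => ∑ i ∈ S x, φ s i (x ≫ p i)) ?_)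
      fac := ?_, uniq := ?_ }
  · intro x x'
    have hsum : ∀ (z : K ⟶ c.pt) (t : Finset J), S z ⊆ t →
        ∑ i ∈ S z, φ s i (z ≫ p i) = ∑ i ∈ t, φ s i (z ≫ p i) := fun z t ht => by
      refine Finset.sum_subset ht fun i _ hi => ?_
      have : z ≫ p i = 0 := by
        conv_lhs => rw [hy z, Preadditive.sum_comp]
        exact Finset.sum_eq_zero fun j hj => by
          rw [Category.assoc, hp' i j (fun e => hi (e ▸ hj)), comp_zero]
      rw [this]; exact map_zero (φ s i)
    rw [hsum _ (S (x + x') ∪ (S x ∪ S x')) Finset.subset_union_left,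
      hsum x (S (x + x') ∪ (S x ∪ S x')) (Finset.subset_union_left.trans Finset.subset_union_right),
      hsum x' (S (x + x') ∪ (S x ∪ S x')) (Finset.subset_union_right.trans Finset.subset_union_right),
      ← Finset.sum_add_distrib]
    refine Finset.sum_congr rfl fun i _ => ?_
    rw [Preadditive.add_comp]
    exact map_add (φ s i) _ _
  · rintro s ⟨j⟩
    ext (v : K ⟶ X j)
    show ∑ i ∈ S (v ≫ c.inj j), φ s i ((v ≫ c.inj j) ≫ p i) = φ s j v
    rw [Finset.sum_eq_single j]
    · rw [Category.assoc, hp, Category.comp_id]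
    · intro i _ hi
      rw [Category.assoc, hp' i j (Ne.symm hi), comp_zero]
      exact map_zero (φ s i)
    · intro hj
      have h1 : (v ≫ c.inj j) ≫ p j = 0 := by
        conv_lhs => rw [hy (v ≫ c.inj j), Preadditive.sum_comp]
        exact Finset.sum_eq_zero fun i hi => by
          rw [Category.assoc, hp' j i (fun e => hj (e ▸ hi)), comp_zero]
      rw [h1]
      exact map_zero (φ s j)
  · intro s m hm
    ext (x : K ⟶ c.pt)
    show m x = ∑ i ∈ S x, φ s i (x ≫ p i)
    conv_lhs => rw [key x (S x) subset_rfl]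
    refine (map_sum m.hom _ _).trans (Finset.sum_congr rfl fun i _ => ?_)
    exact (ConcreteCategory.congr_hom (hm ⟨i⟩) (show (Discrete.functor X ⋙ G).obj ⟨i⟩ from x ≫ p i) :)

end Groth.Agent.CompactRing17
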