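import Groth.Agent.DCat.PhiBaseChange
import Groth.Agent.FlatBC14.Main
import Groth.Agent.Dual22Lib.PerfLift
import Mathlib.AlgebraicGeometry.Morphisms.Smooth
import Mathlib.AlgebraicGeometry.Morphisms.Proper

/-!
# Base change of composite kernels
-/

set_option autoImplicit false
set_option backward.isDefEq.respectTransparency false
set_option backward.defeqAttrib.useBackward true
set_option linter.style.haveILetI false
set_option linter.unusedVariables false

universe u

open CategoryTheory CategoryTheory.Limits AlgebraicGeometry HomologicalComplex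
open Groth.Agent.Dual22Lib

attribute [local instance] HasDerivedCategory.standard

namespace Groth.Agent.DCat.ConvBaseChange

variable {S S' X Y Z : Scheme.{u}} (a : X ⟶ S) (b : Y ⟶ S) (c : Z ⟶ S)

/-- The base change of a double product is cartesian over the second projections. -/
theorem isPullback_snd (g : S' ⟶ S) (m : pullback (pullback.snd a g) (pullback.snd b g) ⟶ pullback a b)
    (hm₁ : m ≫ pullback.fst a b = pullback.fst (pullback.snd a g) (pullback.snd b g) ≫ pullback.fst a g)
    (hm₂ : m ≫ pullback.snd a b = pullback.snd (pullback.snd a g) (pullback.snd b g) ≫ pullback.fst b g) :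
    IsPullback m (pullback.snd (pullback.snd a g) (pullback.snd b g)) (pullback.snd a b) (pullback.fst b g) := by
  have h := (IsPullback.of_hasPullback (pullback.snd a g) (pullback.snd b g)).paste_horiz
    (IsPullback.of_hasPullback a g)
  rw [← hm₁, ← pullback.condition] at h
  exact IsPullback.of_right h hm₂ (IsPullback.of_hasPullback a b)

/-- The double product of base changes is the base change of the double product. -/
theorem isPullback_base (g : S' ⟶ S) (m : pullback (pullback.snd a g) (pullback.snd b g) ⟶ pullback a b)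
    (hm₁ : m ≫ pullback.fst a b = pullback.fst (pullback.snd a g) (pullback.snd b g) ≫ pullback.fst a g)
    (hm₂ : m ≫ pullback.snd a b = pullback.snd (pullback.snd a g) (pullback.snd b g) ≫ pullback.fst b g) :
    IsPullback m (pullback.snd (pullback.snd a g) (pullback.snd b g) ≫ pullback.snd b g)
      (pullback.snd a b ≫ b) g :=
  (isPullback_snd a b g m hm₁ hm₂).paste_vert (IsPullback.of_hasPullback b g)

/-- `p₁₃` is a base change of `pr₁`. -/
theorem isPullback_p13 :
    IsPullback (FMK.p13 a b c) (FMK.p12 a b c) (pullback.fst a c) (pullback.fst a b) := by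
  have h : IsPullback (FMK.p23 a b c ≫ pullback.snd b c) (FMK.p12 a b c) c (pullback.snd a b ≫ b) :=
    (IsPullback.of_hasPullback (pullback.snd a b) (pullback.fst b c)).flip.paste_horiz
      (IsPullback.of_hasPullback b c).flip
  rw [← FMK.p13_snd a b c, ← pullback.condition] at h
  exact IsPullback.of_right h (FMK.p13_fst a b c) (IsPullback.of_hasPullback a c).flip

/-- Base change of composite kernels, for an arbitrary base change. -/
theorem nonempty_pull_conv (g : S' ⟶ S) [Flat a] [Flat b] [QuasiCompact b] [QuasiSeparated b]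
    (K : CochainComplex (pullback a b).Modules ℤ) (M : CochainComplex (pullback b c).Modules ℤ)
    (hK : DCoh.IsQCohD (DCoh.toD _ K)) (hM : DCoh.IsQCohD (DCoh.toD _ M))
    (mab : pullback (pullback.snd a g) (pullback.snd b g) ⟶ pullback a b)
    (hab₁ : mab ≫ pullback.fst a b = pullback.fst (pullback.snd a g) (pullback.snd b g) ≫ pullback.fst a g)
    (hab₂ : mab ≫ pullback.snd a b = pullback.snd (pullback.snd a g) (pullback.snd b g) ≫ pullback.fst b g)
    (mbc : pullback (pullback.snd b g) (pullback.snd c g) ⟶ pullback b c)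
    (hbc₁ : mbc ≫ pullback.fst b c = pullback.fst (pullback.snd b g) (pullback.snd c g) ≫ pullback.fst b g)
    (hbc₂ : mbc ≫ pullback.snd b c = pullback.snd (pullback.snd b g) (pullback.snd c g) ≫ pullback.fst c g)
    (mac : pullback (pullback.snd a g) (pullback.snd c g) ⟶ pullback a c)
    (hac₁ : mac ≫ pullback.fst a c = pullback.fst (pullback.snd a g) (pullback.snd c g) ≫ pullback.fst a g)
    (hac₂ : mac ≫ pullback.snd a c = pullback.snd (pullback.snd a g) (pullback.snd c g) ≫ pullback.fst c g)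
    [DCoh.HasLpull (FMK.p12 a b c)] [DCoh.HasLTensorCx ((FMK.cxPull (FMK.p23 a b c)).obj M)]
    [DCoh.HasRpush (FMK.p13 a b c)] [DCoh.HasLpull mab] [DCoh.HasLpull mbc] [DCoh.HasLpull mac]
    (K₁ : CochainComplex (pullback (pullback.snd a g) (pullback.snd b g)).Modules ℤ)
    (hK₁ : Nonempty (DCoh.toD _ K₁ ≅ (DCoh.Lpull mab).obj (DCoh.toD _ K)))
    (M₁ : CochainComplex (pullback (pullback.snd b g) (pullback.snd c g)).Modules ℤ)
    (hM₁ : Nonempty (DCoh.toD _ M₁ ≅ (DCoh.Lpull mbc).obj (DCoh.toD _ M)))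
    [DCoh.HasLpull (FMK.p12 (pullback.snd a g) (pullback.snd b g) (pullback.snd c g))]
    [DCoh.HasLTensorCx ((FMK.cxPull (FMK.p23 (pullback.snd a g) (pullback.snd b g) (pullback.snd c g))).obj M₁)]
    [DCoh.HasRpush (FMK.p13 (pullback.snd a g) (pullback.snd b g) (pullback.snd c g))] :
    Nonempty ((DCoh.Lpull mac).obj (FMK.conv a b c K ((FMK.cxPull (FMK.p23 a b c)).obj M)) ≅
      FMK.conv (pullback.snd a g) (pullback.snd b g) (pullback.snd c g) K₁
        ((FMK.cxPull (FMK.p23 (pullback.snd a g) (pullback.snd b g) (pullback.snd c g))).obj M₁)) := by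
  obtain ⟨eK⟩ := hK₁
  obtain ⟨eM⟩ := hM₁
  let a' := pullback.snd a g
  let b' := pullback.snd b g
  let c' := pullback.snd c g
  let mT : FMK.T a' b' c' ⟶ FMK.T a b c :=
    pullback.lift (FMK.p12 a' b' c' ≫ mab) (FMK.p23 a' b' c' ≫ mbc) (by
      rw [Category.assoc, hab₂, Category.assoc, hbc₁, pullback.condition_assoc])
  have h12 : mT ≫ FMK.p12 a b c = FMK.p12 a' b' c' ≫ mab := pullback.lift_fst _ _ _
  have h23 : mT ≫ FMK.p23 a b c = FMK.p23 a' b' c' ≫ mbc := pullback.lift_snd _ _ _
  have hT : IsPullback mT (FMK.p23 a' b' c') (FMK.p23 a b c) mbc := by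
    have h := (IsPullback.of_hasPullback (pullback.snd a' b') (pullback.fst b' c')).paste_horiz
      (isPullback_snd a b g mab hab₁ hab₂)
    rw [← hbc₁] at h
    rw [show pullback.fst (pullback.snd a' b') (pullback.fst b' c') ≫ mab = mT ≫ FMK.p12 a b c from h12.symm] at h
    exact IsPullback.of_right h h23 (IsPullback.of_hasPullback (pullback.snd a b) (pullback.fst b c))
  have h13 : mT ≫ FMK.p13 a b c = FMK.p13 a' b' c' ≫ mac := by
    apply pullback.hom_ext
    · rw [Category.assoc, Category.assoc, FMK.p13_fst, hac₁, reassoc_of% h12, hab₁, FMK.p13_fst_assoc]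
    · rw [Category.assoc, Category.assoc, FMK.p13_snd, hac₂, reassoc_of% h23, hbc₂, FMK.p13_snd_assoc]
  have hsq : IsPullback mT (FMK.p13 a' b' c') (FMK.p13 a b c) mac := by
    have h := hT.paste_vert (isPullback_base b c g mbc hbc₁ hbc₂)
    rw [← Category.assoc, ← Category.assoc (FMK.p23 a b c), ← FMK.p13_snd a' b' c', ← FMK.p13_snd a b c,
      Category.assoc, Category.assoc] at h
    exact IsPullback.of_bot h h13 (isPullback_base a c g mac hac₁ hac₂)
  haveI : Flat (FMK.p13 a b c) :=
    MorphismProperty.of_isPullback (isPullback_p13 a b c).flip inferInstance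
  haveI : QuasiCompact (FMK.p13 a b c) :=
    MorphismProperty.of_isPullback (isPullback_p13 a b c).flip inferInstance
  haveI : QuasiSeparated (FMK.p13 a b c) :=
    MorphismProperty.of_isPullback (isPullback_p13 a b c).flip inferInstance
  haveI := hasLpull mT
  haveI := hasLpull (FMK.p23 a b c)
  haveI := hasLpull (FMK.p23 a' b' c')
  haveI := hasRpush mac
  haveI := hasRpush mT
  obtain ⟨eL⟩ := FlatBC14.nonempty_Lpull_Q (FMK.p23 a b c) M
  obtain ⟨eL'⟩ := FlatBC14.nonempty_Lpull_Q (FMK.p23 a' b' c') M₁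
  obtain ⟨e23⟩ := PhiBaseChange.nonempty_Lpull_square mT (FMK.p23 a b c) (FMK.p23 a' b' c') mbc h23
  obtain ⟨e12⟩ := PhiBaseChange.nonempty_Lpull_square mT (FMK.p12 a b c) (FMK.p12 a' b' c') mab h12
  obtain ⟨eT⟩ := PhiBaseChange.nonempty_LTensor_Lpull mT ((FMK.cxPull (FMK.p23 a b c)).obj M)
    ((FMK.cxPull (FMK.p23 a' b' c')).obj M₁)
    ⟨eL'.symm ≪≫ (DCoh.Lpull _).mapIso eM ≪≫ (e23.app _).symm ≪≫ (DCoh.Lpull mT).mapIso eL⟩
  have hLq : DCoh.IsQCohD (DCoh.toD _ ((FMK.cxPull (FMK.p23 a b c)).obj M)) :=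
    DQCoh.isQCohD_of_iso eL (DQCoh.isQCohD_Lpull _ _ hM)
  have hE : DCoh.IsQCohD ((DCoh.LTensorCx ((FMK.cxPull (FMK.p23 a b c)).obj M)).obj
      ((DCoh.Lpull (FMK.p12 a b c)).obj (DCoh.toD _ K))) :=
    DQCoh.isQCohD_LTensorCx _ hLq _ (DQCoh.isQCohD_Lpull _ _ hK)
  obtain ⟨eBC⟩ := PhiBaseChange.nonempty_bc (FMK.p13 a b c) mac (FMK.p13 a' b' c') mT hsq (Or.inl inferInstance)
  exact ⟨eBC.app ⟨_, hE⟩ ≪≫ (DCoh.Rpush _).mapIso (eT.app _ ≪≫
    (DCoh.LTensorCx _).mapIso (e12.app _ ≪≫ (DCoh.Lpull _).mapIso eK.symm))⟩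

end Groth.Agent.DCat.ConvBaseChange
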