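import Mathlib.Algebra.Module.Pi
import Mathlib.Data.Nat.Choose.Basic
import Mathlib.RingTheory.Ideal.Operations
import Mathlib.RingTheory.Ideal.Quotient.Operations
import Mathlib.LinearAlgebra.Isomorphisms
import Mathlib.Tactic.Abel
import Mathlib.Tactic.Ring

/-!
Elementary theory of derived complete modules: `φ : M →+ M` is *complete* when every system
`x m - φ (x (m + 1)) = y m` has exactly one solution.
-/

set_option autoImplicit false

universe u v w

namespace Groth.Agent.DCat.DC

section Group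

variable {M : Type u} [AddCommGroup M] {N : Type v} [AddCommGroup N]

/-- `x ↦ (x m - φ (x (m+1)))`. -/
def d (φ : M →+ M) : (ℕ → M) →+ (ℕ → M) where
  toFun x := fun m => x m - φ (x (m + 1))
  map_zero' := by funext m; simp
  map_add' x y := by funext m; simp; abel

/-- `φ` is complete. -/
def Comp (φ : M →+ M) : Prop := Function.Bijective (d φ)

lemma d_apply (φ : M →+ M) (x : ℕ → M) (m : ℕ) : d φ x m = x m - φ (x (m + 1)) := rfl

variable {φ ψ : M →+ M}

lemma eq_zero (h : Comp φ) {x : ℕ → M} (hx : ∀ m, x m = φ (x (m + 1))) : x = 0 :=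
  h.1 (by rw [map_zero]; funext m; rw [d_apply, ← hx, sub_self]; rfl)

lemma comp_of (h1 : ∀ x : ℕ → M, (∀ m, x m = φ (x (m + 1))) → x 0 = 0)
    (h2 : ∀ y : ℕ → M, ∃ x : ℕ → M, ∀ m, x m - φ (x (m + 1)) = y m) : Comp φ := by
  refine ⟨(injective_iff_map_eq_zero _).2 fun x hx => ?_, fun y => ?_⟩
  · funext k
    have e : ∀ m, x m = φ (x (m + 1)) := fun m => sub_eq_zero.1 (congrFun hx m)
    exact h1 (fun m => x (k + m)) fun m => e (k + m)
  · obtain ⟨x, hx⟩ := h2 y
    exact ⟨x, funext hx⟩

/-- The solution. -/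
noncomputable def sol (h : Comp φ) : (ℕ → M) ≃+ (ℕ → M) := (AddEquiv.ofBijective (d φ) h).symm

lemma sol_spec (h : Comp φ) (y : ℕ → M) (m : ℕ) : sol h y m - φ (sol h y (m + 1)) = y m :=
  congrFun ((AddEquiv.ofBijective (d φ) h).apply_symm_apply y) m

lemma sol_unique (h : Comp φ) {x y : ℕ → M} (hx : ∀ m, x m - φ (x (m + 1)) = y m) : sol h y = x :=
  h.1 (funext fun m => by rw [d_apply, d_apply, sol_spec, hx])

lemma sol_shift (h : Comp φ) (y : ℕ → M) (k : ℕ) :
    sol h (fun m => y (k + m)) = fun m => sol h y (k + m) :=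
  sol_unique h fun m => sol_spec h y (k + m)

/-- The value `∑ φ^m (y m)` of the formal series. -/
noncomputable def S (h : Comp φ) : (ℕ → M) →+ M where
  toFun y := sol h y 0
  map_zero' := by simp
  map_add' x y := by simp

lemma S_succ (h : Comp φ) (y : ℕ → M) : S h y = y 0 + φ (S h fun m => y (m + 1)) := by
  have e : (fun m => y (m + 1)) = fun m => y (1 + m) := funext fun m => by rw [add_comm]
  show sol h y 0 = y 0 + φ (sol h (fun m => y (m + 1)) 0)
  rw [e, sol_shift, ← sol_spec h y 0]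
  simp

lemma S_shift (h : Comp φ) (y : ℕ → M) (k : ℕ) : S h (fun m => y (k + m)) = sol h y k := by
  show sol h (fun m => y (k + m)) 0 = _
  rw [sol_shift]; simp

/-- Partial sums. -/
lemma S_eq_sum (h : Comp φ) (y : ℕ → M) (K : ℕ) :
    S h y = (∑ k ∈ Finset.range K, φ^[k] (y k)) + φ^[K] (sol h y K) := by
  induction K with
  | zero => simp [← S_shift h y 0]
  | succ K ih =>
    rw [ih, Finset.sum_range_succ, add_assoc, Function.iterate_succ_apply φ K (sol h y (K + 1)),
      ← sol_spec h y K]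
    rw [iterate_map_sub]
    abel

lemma sol_comm (h : Comp φ) {χ : M →+ M} (hc : ∀ x, χ (φ x) = φ (χ x)) (y : ℕ → M) :
    sol h (fun m => χ (y m)) = fun m => χ (sol h y m) :=
  sol_unique h fun m => by rw [← hc, ← map_sub, sol_spec]

lemma S_comm (h : Comp φ) {χ : M →+ M} (hc : ∀ x, χ (φ x) = φ (χ x)) (y : ℕ → M) :
    S h (fun m => χ (y m)) = χ (S h y) := congrFun (sol_comm h hc y) 0

lemma sol_natural {ψ : N →+ N} (hφ : Comp φ) (hψ : Comp ψ) (f : M →+ N) (hf : ∀ x, f (φ x) = ψ (f x))
    (y : ℕ → M) : sol hψ (fun m => f (y m)) = fun m => f (sol hφ y m) :=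
  sol_unique hψ fun m => by rw [← hf, ← map_sub, sol_spec]

/-- `id - φ` is bijective. -/
lemma bijective_one_sub (h : Comp φ) : Function.Bijective (fun x => x - φ x) := by
  refine ⟨fun a b hab => ?_, fun y => ⟨S h fun _ => y, ?_⟩⟩
  · exact congrFun (h.1 (a₁ := fun _ => a) (a₂ := fun _ => b) (funext fun _ => hab)) 0
  · have e := S_succ h (fun _ => y)
    dsimp only at e ⊢
    exact sub_eq_iff_eq_add.2 e

/-- A complete bijective endomorphism exists only on the zero group. -/
lemma subsingleton_of_bijective (h : Comp φ) (hb : Function.Bijective φ) : Subsingleton M := by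
  refine subsingleton_of_forall_eq 0 fun x => ?_
  let e := AddEquiv.ofBijective φ hb
  have := eq_zero h (x := fun m => e.symm^[m] x) fun m => by
    rw [Function.iterate_succ_apply']
    exact (e.apply_symm_apply _).symm
  exact congrFun this 0

lemma comp_of_subsingleton [Subsingleton M] (φ : M →+ M) : Comp φ :=
  ⟨fun _ _ _ => Subsingleton.elim _ _, fun y => ⟨y, Subsingleton.elim _ _⟩⟩

lemma comp_equiv (e : M ≃+ N) {ψ : N →+ N} (hf : ∀ x, e (φ x) = ψ (e x)) (h : Comp φ) : Comp ψ := by
  refine comp_of (fun x hx => ?_) fun y => ?_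
  · have := eq_zero h (x := fun m => e.symm (x m)) fun m => by
      apply e.injective; rw [hf, e.apply_symm_apply, e.apply_symm_apply, ← hx]
    simpa using congrFun this 0
  · exact ⟨fun m => e (sol h (fun m => e.symm (y m)) m), fun m => by
      rw [← hf, ← map_sub, sol_spec, e.apply_symm_apply]⟩

/-- kernels -/
lemma comp_ker {P : Type w} [AddCommGroup P] {θ : P →+ P} {ψ : N →+ N} (hφ : Comp φ) (hθ : Comp θ)
    (i : N →+ M) (hi : Function.Injective i) (q : M →+ P) (hex : ∀ x, q x = 0 ↔ x ∈ Set.range i)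
    (hi' : ∀ x, i (ψ x) = φ (i x)) (hq : ∀ x, q (φ x) = θ (q x)) : Comp ψ := by
  refine comp_of (fun x hx => ?_) fun y => ?_
  · have := eq_zero hφ (x := fun m => i (x m)) fun m => by rw [← hi', ← hx]
    exact hi (by simpa using congrFun this 0)
  · have h0 := sol_natural hφ hθ q hq (fun m => i (y m))
    have : (fun m => q (i (y m))) = 0 := funext fun m => (hex _).2 ⟨_, rfl⟩
    rw [this, map_zero] at h0
    choose x hx using fun m => (hex _).1 (congrFun h0 m).symm
    exact ⟨x, fun m => hi (by rw [map_sub, hi', hx, hx, sol_spec])⟩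

/-- cokernels -/
lemma comp_coker {P : Type w} [AddCommGroup P] {θ : P →+ P} {ψ : N →+ N} (hφ : Comp φ) (hθ : Comp θ)
    (q : M →+ N) (hq' : Function.Surjective q) (f : P →+ M) (hex : ∀ x, q x = 0 ↔ x ∈ Set.range f)
    (hf : ∀ x, f (θ x) = φ (f x)) (hq : ∀ x, q (φ x) = ψ (q x)) : Comp ψ := by
  refine comp_of (fun x hx => ?_) fun y => ?_
  · choose x' hx' using fun m => hq' (x m)
    choose z hz using fun m => (hex (x' m - φ (x' (m + 1)))).1
      (by rw [map_sub, hq, hx', hx', ← hx, sub_self])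
    have e : sol hφ (fun m => f (z m)) = x' := sol_unique hφ fun m => (hz m).symm
    rw [sol_natural hθ hφ f hf] at e
    rw [← hx' 0, ← congrFun e 0]
    exact (hex _).2 ⟨_, rfl⟩
  · choose y' hy' using fun m => hq' (y m)
    exact ⟨fun m => q (sol hφ y' m), fun m => by rw [← hq, ← map_sub, sol_spec, hy']⟩

lemma comp_pi {ι : Type w} {F : ι → Type v} [∀ i, AddCommGroup (F i)] (φ : ∀ i, F i →+ F i)
    (h : ∀ i, Comp (φ i)) (Φ : (∀ i, F i) →+ (∀ i, F i)) (hΦ : ∀ x i, Φ x i = φ i (x i)) : Comp Φ := by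
  refine comp_of (fun x hx => ?_) fun y => ⟨fun m i => sol (h i) (fun k => y k i) m, fun m => ?_⟩
  · funext i
    exact congrFun (eq_zero (h i) (x := fun m => x m i) fun m => by
      rw [← hΦ]; exact congrFun (hx m) i) 0
  · funext i
    rw [Pi.sub_apply, hΦ, sol_spec]

/-- Multiples of complete endomorphisms are complete. -/
lemma comp_mul (h : Comp φ) (hc : ∀ x, ψ (φ x) = φ (ψ x)) : Comp (ψ.comp φ) := by
  have hc' : ∀ (n : ℕ) (x : M), ψ^[n] (φ x) = φ (ψ^[n] x) :=
    fun n => (Function.Commute.iterate_left hc n)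
  refine comp_of (fun x hx => ?_) fun y => ?_
  · have := eq_zero h (x := fun m => ψ^[m] (x m)) fun m => by
      calc ψ^[m] (x m) = ψ^[m] (ψ (φ (x (m + 1)))) := congrArg (fun z => ψ^[m] z) (hx m)
        _ = φ (ψ^[m + 1] (x (m + 1))) := by rw [← Function.iterate_succ_apply, hc']
    simpa using congrFun this 0
  · let Y : ℕ → ℕ → M := fun k j => ψ^[j] (y (k + j))
    refine ⟨fun k => S h (Y k), fun k => ?_⟩
    dsimp only
    rw [AddMonoidHom.comp_apply, hc, ← S_comm h hc, S_succ h (Y k)]
    have e : (fun m => ψ (Y (k + 1) m)) = fun m => Y k (m + 1) := by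
      funext m
      simp only [Y, Function.iterate_succ_apply']
      rw [show k + 1 + m = k + (m + 1) by omega]
    rw [e]
    simp [Y]

/-- Roots of complete endomorphisms are complete. -/
lemma comp_root {n : ℕ} (hn : 0 < n) {χ : M →+ M} (hχ : ∀ x, χ x = φ^[n] x) (h : Comp χ) :
    Comp φ := by
  refine comp_of (fun x hx => ?_) fun y => ?_
  · have e : ∀ j k, x k = φ^[j] (x (k + j)) := by
      intro j
      induction j with
      | zero => intro k; rfl
      | succ j ih =>
        intro k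
        rw [Function.iterate_succ_apply, show k + (j + 1) = k + j + 1 by omega, ← hx, ← ih]
    have := eq_zero h (x := fun m => x (n * m)) fun m => by
      rw [hχ, Nat.mul_succ, ← e n (n * m)]
    simpa using congrFun this 0
  · let Y : ℕ → ℕ → M := fun k m => ∑ j ∈ Finset.range n, φ^[j] (y (k + n * m + j))
    refine ⟨fun k => S h (Y k), fun k => ?_⟩
    have hc : ∀ x, φ (χ x) = χ (φ x) := fun x => by
      rw [hχ, hχ, ← Function.iterate_succ_apply' φ n, Function.iterate_succ_apply φ n]
    rw [← S_comm h hc, ← map_sub]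
    obtain ⟨n', rfl⟩ : ∃ n', n = n' + 1 := ⟨n - 1, by omega⟩
    have e : ∀ m, Y k m - φ (Y (k + 1) m) =
        y (k + (n' + 1) * m) - χ (y (k + (n' + 1) * (m + 1))) := by
      intro m
      simp only [Y, map_sum, ← Function.iterate_succ_apply' φ]
      rw [Finset.sum_range_succ' _ n', Finset.sum_range_succ _ n', hχ,
        show k + 1 + (n' + 1) * m + n' = k + (n' + 1) * (m + 1) by rw [Nat.mul_succ]; omega,
        show k + (n' + 1) * m + 0 = k + (n' + 1) * m from rfl]
      simp only [show ∀ j, k + 1 + (n' + 1) * m + j = k + (n' + 1) * m + (j + 1) from fun j => by omega,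
        Function.iterate_zero, id_eq]
      abel
    have e2 := congrFun (sol_unique h (y := fun m => Y k m - φ (Y (k + 1) m))
      (x := fun m => y (k + (n' + 1) * m)) fun m => (e m).symm) 0
    simp only [mul_zero, add_zero] at e2
    exact e2

end Group

section Add

variable {M : Type u} [AddCommGroup M] {φ ψ : M →+ M}

lemma comp_add_inj (hφ : Comp φ) (hψ : Comp ψ) (hc : ∀ x, φ (ψ x) = ψ (φ x))
    (x : ℕ → M) (hx : ∀ m, x m = (φ + ψ) (x (m + 1))) : x 0 = 0 := by
  let θ : M →+ M := φ + ψ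
  let N : AddSubgroup (ℕ → M) := (d θ).ker
  have hθ : ∀ z ∈ N, ∀ m, z m = θ (z (m + 1)) := fun z hz m => sub_eq_zero.1 (congrFun hz m)
  have mem : ∀ z : ℕ → M, (∀ m, z m = θ (z (m + 1))) → z ∈ N := fun z hz =>
    funext fun m => sub_eq_zero.2 (hz m)
  have build : ∀ (χ : M →+ M), Comp χ → (hχ : ∀ y, χ (θ y) = θ (χ y)) →
      ∃ χ' : N →+ N, Comp χ' ∧ ∀ (z : N) m, (χ' z).1 m = χ (z.1 (m + 1)) := by
    intro χ hχc hχ
    let pw : (ℕ → M) →+ (ℕ → M) :=
      { toFun := fun z m => χ (z m)
        map_zero' := by funext m; simp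
        map_add' := fun a b => by funext m; simp }
    have hpw : Comp pw := comp_pi (fun _ : ℕ => χ) (fun _ => hχc) pw fun _ _ => rfl
    let pN : N →+ N :=
      { toFun := fun z => ⟨pw z.1, mem _ fun m =>
          show χ (z.1 m) = θ (χ (z.1 (m + 1))) by rw [← hχ, ← hθ z.1 z.2 m]⟩
        map_zero' := Subtype.ext (map_zero pw)
        map_add' := fun a b => Subtype.ext (map_add pw a.1 b.1) }
    have hpN : Comp pN := comp_ker hpw hpw N.subtype Subtype.val_injective (d θ)
      (fun z => ⟨fun h => ⟨⟨z, h⟩, rfl⟩, by rintro ⟨⟨z, hz⟩, rfl⟩; exact hz⟩)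
      (fun _ => rfl) fun z => funext fun m => show χ (z m) - θ (χ (z (m + 1))) = χ (z m - θ (z (m + 1))) by
        rw [map_sub, hχ]
    let sh : N →+ N :=
      { toFun := fun z => ⟨fun m => z.1 (m + 1), mem _ fun m => hθ z.1 z.2 (m + 1)⟩
        map_zero' := rfl
        map_add' := fun _ _ => rfl }
    exact ⟨sh.comp pN, comp_mul hpN fun _ => rfl, fun _ _ => rfl⟩
  obtain ⟨φ', hφ', eφ⟩ := build φ hφ fun y => by simp [θ, hc]
  obtain ⟨ψ', hψ', eψ⟩ := build ψ hψ fun y => by simp [θ, hc]
  have e : (fun z => z - φ' z) = ψ' := funext fun z => Subtype.ext <| funext fun m => by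
    show z.1 m - (φ' z).1 m = (ψ' z).1 m
    rw [eφ, eψ, hθ z.1 z.2 m, sub_eq_iff_eq_add']
    rfl
  have hbij := bijective_one_sub hφ'
  rw [e] at hbij
  have := subsingleton_of_bijective hψ' hbij
  exact congrFun (congrArg Subtype.val (Subsingleton.elim (⟨x, mem x hx⟩ : N) 0)) 0

lemma comp_add (hφ : Comp φ) (hψ : Comp ψ) (hc : ∀ x, φ (ψ x) = ψ (φ x)) : Comp (φ + ψ) := by
  refine comp_of (comp_add_inj hφ hψ hc) fun y => ?_
  let T : (ℕ → ℕ → M) → M := fun Z => S hψ fun b => S hφ fun a => Z a b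
  have T_add : ∀ Z Z', T (Z + Z') = T Z + T Z' := fun Z Z' => by
    simp only [T]
    rw [← map_add]
    exact congrArg (S hψ) (funext fun b => map_add (S hφ) _ _)
  let Y : ℕ → ℕ → ℕ → M := fun k a b => (a + b).choose a • y (k + (a + b))
  refine ⟨fun k => T (Y k), fun k => ?_⟩
  let δ : ℕ → ℕ → M := fun a b => if a = 0 ∧ b = 0 then y k else 0
  let iA : ℕ → ℕ → M := fun a b => match a with
    | 0 => 0
    | a + 1 => Y (k + 1) a b
  let iB : ℕ → ℕ → M := fun a b => match b with
    | 0 => 0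
    | b + 1 => Y (k + 1) a b
  have hY : Y k = δ + iA + iB := by
    funext a b
    simp only [Pi.add_apply, δ, iA, iB, Y]
    rcases a with _ | a <;> rcases b with _ | b
    · simp
    · simp [show k + (b + 1) = k + 1 + b by omega]
    · simp [show k + (a + 1) = k + 1 + a by omega]
    · rw [show a + 1 + (b + 1) = (a + (b + 1)) + 1 by omega, Nat.choose_succ_succ, add_smul,
        if_neg (by omega), zero_add, show a + (b + 1) + 1 = a + 1 + b + 1 by omega,
        show a + 1 + b = a + (b + 1) by omega, show k + (a + (b + 1) + 1) = k + 1 + (a + (b + 1)) by omega]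
      dsimp only
      rw [show a + 1 + b = a + (b + 1) by omega]
  have h1 : T δ = y k := by
    simp only [T]
    rw [S_succ hψ, S_succ hφ]
    simp [δ, ← Pi.zero_def]
  have h2 : T iA = φ (T (Y (k + 1))) := by
    simp only [T]
    rw [← S_comm hψ hc]
    refine congrArg (S hψ) (funext fun b => ?_)
    rw [S_succ hφ]
    simp [iA]
  have h3 : T iB = ψ (T (Y (k + 1))) := by
    simp only [T]
    rw [S_succ hψ]
    simp [iB, ← Pi.zero_def]
  show T (Y k) - (φ + ψ) (T (Y (k + 1))) = y k
  rw [hY, T_add, T_add, h1, h2, h3, AddMonoidHom.add_apply]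
  abel

end Add

section Module

variable {A : Type u} [CommRing A] {M : Type v} [AddCommGroup M] [Module A M]
  {N : Type w} [AddCommGroup N] [Module A N]

/-- Scalar multiplication. -/
abbrev sm (M : Type v) [AddCommGroup M] [Module A M] (f : A) : M →+ M :=
  DistribSMul.toAddMonoidHom M f

/-- `M` is derived complete for `I`. -/
def ModDC (I : Ideal A) (M : Type v) [AddCommGroup M] [Module A M] : Prop :=
  ∀ f ∈ I, Comp (sm M f)

/-- The ideal of elements for which `M` is complete. -/
def dcIdeal (M : Type v) [AddCommGroup M] [Module A M] : Ideal A where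
  carrier := {f | Comp (sm M f)}
  zero_mem' := comp_of (fun x hx => by simpa using hx 0) fun y => ⟨y, fun m => by simp⟩
  add_mem' {f g} hf hg := by
    have e : sm M (f + g) = sm M f + sm M g := AddMonoidHom.ext fun x => add_smul f g x
    show Comp (sm M (f + g))
    rw [e]
    exact comp_add hf hg fun x => smul_comm f g x
  smul_mem' c f hf := by
    have e : sm M (c • f) = (sm M c).comp (sm M f) := AddMonoidHom.ext fun x => mul_smul c f x
    show Comp (sm M (c • f))
    rw [e]
    exact comp_mul hf fun x => smul_comm c f x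

lemma mem_dcIdeal {f : A} : f ∈ dcIdeal M ↔ Comp (sm M f) := Iff.rfl

lemma sm_iterate (f : A) (n : ℕ) (x : M) : (sm M f)^[n] x = f ^ n • x := by
  induction n with
  | zero => simp
  | succ n ih =>
    rw [Function.iterate_succ_apply', ih, pow_succ', mul_smul]
    rfl

lemma isRadical_dcIdeal : (dcIdeal (A := A) M).IsRadical := by
  rintro f ⟨n, hn⟩
  rcases Nat.eq_zero_or_pos n with rfl | h
  · simpa using (dcIdeal M).mul_mem_left f hn
  · exact comp_root h (fun x => (sm_iterate f n x).symm) hn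

lemma modDC_iff_le {I : Ideal A} : ModDC I M ↔ I ≤ dcIdeal M := Iff.rfl

lemma modDC_of_subsingleton [Subsingleton M] (I : Ideal A) : ModDC I M :=
  fun _ _ => comp_of_subsingleton _

lemma ModDC.of_equiv {I : Ideal A} (h : ModDC I M) (e : M ≃ₗ[A] N) : ModDC I N :=
  fun f hf => comp_equiv e.toAddEquiv (fun x => e.map_smul f x) (h f hf)

lemma modDC_congr {I : Ideal A} (e : M ≃ₗ[A] N) : ModDC I M ↔ ModDC I N :=
  ⟨fun h => h.of_equiv e, fun h => h.of_equiv e.symm⟩

lemma ModDC.pi {I : Ideal A} {ι : Type w} (h : ModDC I M) : ModDC I (ι → M) :=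
  fun f hf => comp_pi (fun _ => sm M f) (fun _ => h f hf) _ fun _ _ => rfl

lemma ModDC.ker {I : Ideal A} (hM : ModDC I M) (hN : ModDC I N) (u : M →ₗ[A] N) :
    ModDC I (LinearMap.ker u) :=
  fun f hf => comp_ker (hM f hf) (hN f hf) (LinearMap.ker u).subtype.toAddMonoidHom
    Subtype.val_injective u.toAddMonoidHom
    (fun x => ⟨fun h => ⟨⟨x, h⟩, rfl⟩, by rintro ⟨⟨x, hx⟩, rfl⟩; exact hx⟩)
    (fun _ => rfl) fun x => u.map_smul f x

lemma ModDC.coker {I : Ideal A} (hM : ModDC I M) (hN : ModDC I N) (u : M →ₗ[A] N) :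
    ModDC I (N ⧸ LinearMap.range u) :=
  fun f hf => comp_coker (hN f hf) (hM f hf) (LinearMap.range u).mkQ.toAddMonoidHom
    (Submodule.mkQ_surjective _) u.toAddMonoidHom
    (fun x => (Submodule.Quotient.mk_eq_zero _).trans ⟨fun ⟨a, h⟩ => ⟨a, h⟩, fun ⟨a, h⟩ => ⟨a, h⟩⟩)
    (fun x => u.map_smul f x) fun _ => rfl

end Module

end Groth.Agent.DCat.DC
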