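import Groth.Prelude.Def_DRing3
import Groth.Agent.DCat.DCompleteAlg
import Groth.Agent.DCat.ProjHomology
import Mathlib.Algebra.Homology.DerivedCategory.SingleTriangle
import Mathlib.Algebra.Category.ModuleCat.Projective
import Mathlib.Algebra.Homology.ShortComplex.ModuleCat

/-! Derived completeness in `D(A)` is completeness of the cohomology modules. -/

set_option autoImplicit false
set_option backward.isDefEq.respectTransparency false
set_option backward.defeqAttrib.useBackward true

universe u

open CategoryTheory CategoryTheory.Limits CategoryTheory.Pretriangulated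
attribute [local instance] HasDerivedCategory.standard

namespace Groth.Agent.DCat.DC

variable {A : Type u} [CommRing A] (f : A)

/-- `e_m ↦ e_m - f e_{m+1}` -/
noncomputable def telD : (ℕ →₀ A) →ₗ[A] (ℕ →₀ A) :=
  Finsupp.linearCombination A fun m => Finsupp.single m 1 - f • Finsupp.single (m + 1) 1

/-- `e_m ↦ f ^ (-m)` -/
noncomputable def telP : (ℕ →₀ A) →ₗ[A] Localization.Away f :=
  Finsupp.linearCombination A fun m => (IsLocalization.Away.invSelf f : Localization.Away f) ^ m

lemma telP_telD : (telP f) ∘ₗ (telD f) = 0 := by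
  refine Finsupp.lhom_ext fun m a => ?_
  have e : f • (IsLocalization.Away.invSelf f : Localization.Away f) = 1 := by
    rw [Algebra.smul_def]; exact IsLocalization.Away.mul_invSelf f
  simp [telP, telD, pow_succ', ← smul_mul_assoc, e]

lemma telD_zero (c : ℕ →₀ A) : telD f c 0 = c 0 := by
  induction c using Finsupp.induction_linear with
  | zero => simp
  | add a b ha hb => simp [ha, hb]
  | single m a => rcases m with _ | m <;> simp [telD]

lemma telD_succ (c : ℕ →₀ A) (k : ℕ) : telD f c (k + 1) = c (k + 1) - f * c k := by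
  induction c using Finsupp.induction_linear with
  | zero => simp
  | add a b ha hb => simp [ha, hb]; ring
  | single m a =>
    simp only [telD, Finsupp.linearCombination_single, Finsupp.smul_apply, Finsupp.sub_apply,
      smul_eq_mul, Finsupp.single_apply]
    split_ifs with h1 h2 h2 <;> first | omega | ring

lemma telD_injective : Function.Injective (telD f) := by
  refine (injective_iff_map_eq_zero _).2 fun c hc => Finsupp.ext fun k => ?_
  induction k with
  | zero => rw [← telD_zero f c, hc]
  | succ k ih =>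
    have := telD_succ f c k
    rw [hc, ih] at this
    simpa using this.symm

lemma telP_surjective : Function.Surjective (telP f) := fun z => by
  obtain ⟨n, a, h⟩ := IsLocalization.Away.surj (x := f) z
  refine ⟨Finsupp.single n a, ?_⟩
  have e : (algebraMap A (Localization.Away f) f) ^ n * (IsLocalization.Away.invSelf f) ^ n = 1 := by
    rw [← mul_pow, IsLocalization.Away.mul_invSelf, one_pow]
  simp only [telP, Finsupp.linearCombination_single, Algebra.smul_def, ← h]
  rw [mul_assoc, e, mul_one]

lemma exists_single (c : ℕ →₀ A) :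
    ∃ (N : ℕ) (a : A), c - Finsupp.single N a ∈ LinearMap.range (telD f) := by
  have step : ∀ (k m : ℕ) (a : A),
      Finsupp.single m a - Finsupp.single (m + k) (f ^ k * a) ∈ LinearMap.range (telD f) := by
    intro k
    induction k with
    | zero => intro m a; simp
    | succ k ih =>
      intro m a
      have h2 : Finsupp.single (m + k) (f ^ k * a) - Finsupp.single (m + (k + 1)) (f ^ (k + 1) * a) ∈
          LinearMap.range (telD f) := ⟨Finsupp.single (m + k) (f ^ k * a), by
        simp [telD, smul_sub, smul_smul, ← add_assoc]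
        ring_nf⟩
      have := add_mem (ih m a) h2
      rwa [sub_add_sub_cancel] at this
  induction c using Finsupp.induction_linear with
  | zero => exact ⟨0, 0, by simp⟩
  | single m a => exact ⟨m, a, by simp⟩
  | add x y hx hy =>
    obtain ⟨M, a, ha⟩ := hx
    obtain ⟨N, b, hb⟩ := hy
    refine ⟨M + N, f ^ N * a + f ^ M * b, ?_⟩
    have hb' := step M N b
    rw [add_comm N M] at hb'
    have := add_mem (add_mem ha (step N M a)) (add_mem hb hb')
    rwa [show x + y - Finsupp.single (M + N) (f ^ N * a + f ^ M * b) =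
      x - Finsupp.single M a + (Finsupp.single M a - Finsupp.single (M + N) (f ^ N * a)) +
      (y - Finsupp.single N b + (Finsupp.single N b - Finsupp.single (M + N) (f ^ M * b))) by
        rw [Finsupp.single_add]; abel]

lemma telP_ker : LinearMap.ker (telP f) = LinearMap.range (telD f) := by
  refine le_antisymm (fun c hc => ?_) ?_
  · obtain ⟨N, a, h⟩ := exists_single f c
    have h0 : telP f (c - Finsupp.single N a) = 0 := by
      obtain ⟨d, hd⟩ := h
      rw [← hd]
      exact LinearMap.congr_fun (telP_telD f) d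
    rw [map_sub, LinearMap.mem_ker.1 hc, zero_sub, neg_eq_zero] at h0
    simp only [telP, Finsupp.linearCombination_single, Algebra.smul_def] at h0
    have e : (IsLocalization.Away.invSelf f : Localization.Away f) ^ N *
        (algebraMap A (Localization.Away f) f) ^ N = 1 := by
      rw [← mul_pow, mul_comm (IsLocalization.Away.invSelf f), IsLocalization.Away.mul_invSelf, one_pow]
    have h1 : algebraMap A (Localization.Away f) a = 0 := by
      rw [← mul_one (algebraMap A _ a), ← e, ← mul_assoc, h0, zero_mul]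
    obtain ⟨⟨m, k, rfl⟩, hk⟩ := (IsLocalization.map_eq_zero_iff (Submonoid.powers f) _ a).1 h1
    dsimp only at hk
    obtain ⟨d, hd⟩ := h
    have : Finsupp.single N a ∈ LinearMap.range (telD f) := by
      clear hd d h0 e h1
      induction k generalizing N a with
      | zero => rw [pow_zero, one_mul] at hk; simp [hk]
      | succ k ih =>
        have h3 := ih (N + 1) (f * a) (by rw [← mul_assoc, ← pow_succ]; exact hk)
        have h4 : Finsupp.single N a - Finsupp.single (N + 1) (f * a) ∈ LinearMap.range (telD f) :=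
          ⟨Finsupp.single N a, by simp [telD, smul_sub, smul_smul, mul_comm]⟩
        simpa using add_mem h4 h3
    have := add_mem (⟨d, hd⟩ : c - Finsupp.single N a ∈ LinearMap.range (telD f)) this
    rwa [sub_add_cancel] at this
  · rintro _ ⟨d, rfl⟩
    exact LinearMap.congr_fun (telP_telD f) d

/-- The resolution `0 → A^(ℕ) → A^(ℕ) → A_f → 0`. -/
noncomputable abbrev telSC : ShortComplex (ModuleCat.{u} A) :=
  ShortComplex.mk (ModuleCat.ofHom (telD f)) (ModuleCat.ofHom (telP f))
    (ModuleCat.hom_ext (telP_telD f))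

lemma telSC_shortExact : (telSC f).ShortExact where
  exact := by
    rw [ShortComplex.moduleCat_exact_iff_range_eq_ker]
    exact (telP_ker f).symm
  mono_f := (ModuleCat.mono_iff_injective _).2 (telD_injective f)
  epi_g := (ModuleCat.epi_iff_surjective _).2 (telP_surjective f)

/-- The free module on `ℕ` in degree `0`. -/
noncomputable abbrev FD (A : Type u) [CommRing A] : Dual.D A :=
  (DerivedCategory.singleFunctor (ModuleCat.{u} A) 0).obj (ModuleCat.of A (ℕ →₀ A))

lemma subsingleton_hom_iff (K : Dual.D A) :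
    (∀ n : ℤ, Subsingleton (Dual.inD A (Localization.Away f) ⟶ K⟦n⟧)) ↔
      ∀ n : ℤ, Function.Bijective (fun φ : FD A ⟶ K⟦n⟧ =>
        (DerivedCategory.singleFunctor (ModuleCat.{u} A) 0).map (ModuleCat.ofHom (telD f)) ≫ φ) := by
  let T := (telSC_shortExact f).singleTriangle
  have hT : T ∈ distTriang _ := (telSC_shortExact f).singleTriangle_distinguished
  constructor
  · intro h n
    refine ⟨fun φ φ' e => ?_, fun ψ => ?_⟩
    · rw [← sub_eq_zero]
      obtain ⟨χ, hχ⟩ := Triangle.yoneda_exact₂ T hT (φ - φ') (by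
        show (DerivedCategory.singleFunctor (ModuleCat.{u} A) 0).map (ModuleCat.ofHom (telD f)) ≫ (φ - φ') = 0
        rw [Preadditive.comp_sub, sub_eq_zero]; exact e)
      rw [hχ, @Subsingleton.elim _ (h n) χ 0, comp_zero]
    · have hz : ∀ χ : T.obj₃⟦(-1 : ℤ)⟧ ⟶ K⟦n⟧, χ = 0 := fun χ => by
        obtain ⟨χ', rfl⟩ : ∃ χ', (shiftFunctor _ (-1 : ℤ)).map χ' ≫
            (shiftFunctorAdd' (Dual.D A) (n + 1) (-1) n (by omega)).inv.app K = χ := by
          obtain ⟨χ', h'⟩ := (shiftFunctor _ (-1 : ℤ)).map_surjective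
            (χ ≫ (shiftFunctorAdd' (Dual.D A) (n + 1) (-1) n (by omega)).hom.app K)
          exact ⟨χ', by rw [h']; simp⟩
        rw [show χ' = 0 from @Subsingleton.elim _ (h (n + 1)) _ _]
        simp
      obtain ⟨φ, hφ⟩ := Triangle.yoneda_exact₂ T.invRotate (inv_rot_of_distTriang _ hT) ψ (hz _)
      exact ⟨φ, hφ.symm⟩
  · intro h n
    refine subsingleton_of_forall_eq 0 fun φ => ?_
    have h1 : T.mor₂ ≫ φ = 0 := (h n).1 (by
      dsimp only
      rw [comp_zero, ← Category.assoc]
      erw [comp_distTriang_mor_zero₁₂ _ hT]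
      exact zero_comp)
    obtain ⟨ψ, hψ⟩ := Triangle.yoneda_exact₃ T hT φ h1
    obtain ⟨ψ', hψ'⟩ := (shiftFunctor (Dual.D A) (1 : ℤ)).map_surjective
      (ψ ≫ (shiftFunctorAdd' (Dual.D A) (n - 1) 1 n (by omega)).hom.app K)
    obtain ⟨χ, hχ⟩ := (h (n - 1)).2 ψ'
    dsimp only at hχ
    have e : ψ = T.mor₁⟦(1 : ℤ)⟧' ≫ χ⟦(1 : ℤ)⟧' ≫
        (shiftFunctorAdd' (Dual.D A) (n - 1) 1 n (by omega)).inv.app K := by
      rw [← Functor.map_comp_assoc]
      erw [hχ, hψ']
      simp
    rw [hψ, e, reassoc_of% (comp_distTriang_mor_zero₃₁ _ hT), zero_comp]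

/-- `Hom(A^(ℕ)[0], K⟦n⟧) → (ℕ → Hⁿ K)` -/
noncomputable def seqOf (K : Dual.D A) (n : ℤ) (φ : FD A ⟶ K⟦n⟧) : ℕ → Dual.HD A K n := fun m =>
  ((ProjHomology.toH φ ≫
    ((DerivedCategory.homologyFunctor (ModuleCat.{u} A) 0).shiftIso n 0 n (by simp)).hom.app K).hom :
      (ℕ →₀ A) →ₗ[A] Dual.HD A K n) (Finsupp.single m 1)

lemma bijective_seqOf (K : Dual.D A) (n : ℤ) : Function.Bijective (seqOf K n) := by
  let θ := ((DerivedCategory.homologyFunctor (ModuleCat.{u} A) 0).shiftIso n 0 n (by simp)).hom.app K
  haveI : Projective (ModuleCat.of A (ℕ →₀ A)) := ModuleCat.projective_of_free Finsupp.basisSingleOne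
  have hb := ProjHomology.bijective_toH (ModuleCat.of A (ℕ →₀ A)) (K⟦n⟧)
  refine ⟨fun φ φ' e => hb.1 ((cancel_mono θ).1 (ModuleCat.hom_ext
    (Finsupp.basisSingleOne.ext fun m => ?_))), fun y => ?_⟩
  · rw [Finsupp.coe_basisSingleOne]
    exact congrFun e m
  · obtain ⟨φ, hφ⟩ := hb.2 (ModuleCat.ofHom (Finsupp.linearCombination A y) ≫ inv θ)
    refine ⟨φ, funext fun m => ?_⟩
    show (ProjHomology.toH φ ≫ θ).hom (Finsupp.single m 1) = y m
    rw [hφ, Category.assoc, IsIso.inv_hom_id, Category.comp_id]
    exact (Finsupp.linearCombination_single ..).trans (one_smul A (y m))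

lemma seqOf_telD (K : Dual.D A) (n : ℤ) (φ : FD A ⟶ K⟦n⟧) :
    seqOf K n ((DerivedCategory.singleFunctor (ModuleCat.{u} A) 0).map (ModuleCat.ofHom (telD f)) ≫ φ) =
      d (sm _ f) (seqOf K n φ) := by
  funext m
  rw [d_apply]
  simp only [seqOf, ProjHomology.toH_precomp, Category.assoc]
  have key : ∀ (L : (ℕ →₀ A) →ₗ[A] Dual.HD A K n),
      L (telD f (Finsupp.single m 1)) = L (Finsupp.single m 1) - f • L (Finsupp.single (m + 1) 1) := by
    intro L
    rw [show telD f (Finsupp.single m 1) = Finsupp.single m 1 - f • Finsupp.single (m + 1) 1 from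
      (Finsupp.linearCombination_single ..).trans (one_smul _ _), map_sub, map_smul]
  exact key (ProjHomology.toH φ ≫
    ((DerivedCategory.homologyFunctor (ModuleCat.{u} A) 0).shiftIso n 0 n (by simp)).hom.app K).hom

theorem forall_subsingleton_iff (K : Dual.D A) :
    (∀ n : ℤ, Subsingleton (Dual.inD A (Localization.Away f) ⟶ K⟦n⟧)) ↔
      ∀ n : ℤ, Comp (sm (Dual.HD A K n) f) := by
  rw [subsingleton_hom_iff]
  refine forall_congr' fun n => ?_
  have hb := bijective_seqOf K n
  rw [Comp, ← Function.Bijective.of_comp_iff _ hb, ← Function.Bijective.of_comp_iff' hb]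
  exact Iff.of_eq (congrArg Function.Bijective (funext fun φ => seqOf_telD f K n φ))

theorem isDerivedComplete_iff {I : Ideal A} (K : Dual.D A) :
    DRing.IsDerivedComplete I K ↔ ∀ n : ℤ, ModDC I (Dual.HD A K n) := by
  constructor
  · exact fun h n g hg => (forall_subsingleton_iff g K).1 (h g hg) n
  · exact fun h g hg => (forall_subsingleton_iff g K).2 fun n => h n g hg

/-- `H⁰ (M[0]) = M` -/
noncomputable def hdInD (M : Type u) [AddCommGroup M] [Module A M] :
    Dual.HD A (Dual.inD A M) 0 ≃ₗ[A] M :=
  ((DerivedCategory.singleFunctorCompHomologyFunctorIso (ModuleCat.{u} A) 0).app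
    (ModuleCat.of A M)).toLinearEquiv

lemma subsingleton_hdInD (M : Type u) [AddCommGroup M] [Module A M] {i : ℤ} (hi : i ≠ 0) :
    Subsingleton (Dual.HD A (Dual.inD A M) i) := by
  refine ModuleCat.subsingleton_of_isZero (IsZero.of_iso ?_
    ((DerivedCategory.homologyFunctor (ModuleCat.{u} A) i).mapIso
      (((SingleFunctors.evaluation _ _ 0).mapIso
        (DerivedCategory.singleFunctorsPostcompQIso _)).app _) ≪≫
      (DerivedCategory.homologyFunctorFactors _ i).app _))
  exact (HomologicalComplex.exactAt_single_obj (ComplexShape.up ℤ) 0 _ i hi).isZero_homology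

theorem isDerivedComplete_inD_iff {I : Ideal A} (M : Type u) [AddCommGroup M] [Module A M] :
    DRing.IsDerivedComplete I (Dual.inD A M) ↔ ModDC I M := by
  rw [isDerivedComplete_iff]
  refine ⟨fun h => (h 0).of_equiv (hdInD M), fun h n => ?_⟩
  rcases eq_or_ne n 0 with rfl | hn
  · exact h.of_equiv (hdInD M).symm
  · have := subsingleton_hdInD (A := A) M hn
    exact modDC_of_subsingleton I

end Groth.Agent.DCat.DC
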