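import Groth.Agent.DCat.DCompleteAdic
import Groth.Agent.S7053
import Mathlib.RingTheory.PowerSeries.Ideal
import Mathlib.RingTheory.PowerSeries.Inverse
import Mathlib.RingTheory.PowerSeries.NoZeroDivisors
import Mathlib.RingTheory.AdicCompletion.Noetherian
import Mathlib.RingTheory.Polynomial.Basic

/-! Derived complete modules, finite modulo the ideal, over a Noetherian ring are separated. -/

set_option autoImplicit false
set_option backward.isDefEq.respectTransparency false
set_option backward.defeqAttrib.useBackward true

universe u

open PowerSeries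

namespace Groth.Agent.DCat.DC

lemma S_single {M : Type u} [AddCommGroup M] {φ : M →+ M} (h : Comp φ) (x : M) :
    S h (fun k => if k = 0 then x else 0) = x := by
  have := sol_unique h (x := fun k => if k = 0 then x else 0) (y := fun k => if k = 0 then x else 0)
    (fun m => by rcases m with _ | m <;> simp)
  exact congrFun this 0

lemma S_fubini {M : Type u} [AddCommGroup M] {φ : M →+ M} (h : Comp φ) (z : ℕ → ℕ → M) :
    S h (fun n => ∑ p ∈ Finset.antidiagonal n, z p.1 p.2) = S h (fun i => S h (z i)) := by
  let Δ : (ℕ → ℕ → M) → M := fun z =>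
    S h (fun n => ∑ p ∈ Finset.antidiagonal n, z p.1 p.2) - S h (fun i => S h (z i))
  have key : ∀ z, Δ z = φ (Δ fun i => z (i + 1)) := by
    intro z
    have e : (fun n => ∑ p ∈ Finset.antidiagonal (n + 1), z p.1 p.2) =
        (fun n => z 0 (n + 1)) + fun n => ∑ p ∈ Finset.antidiagonal n, z (p.1 + 1) p.2 := by
      funext n
      rw [Finset.Nat.sum_antidiagonal_succ]
      rfl
    simp only [Δ]
    rw [S_succ h (fun n => ∑ p ∈ _, _), S_succ h (fun i => S h (z i)), S_succ h (z 0), e]
    simp only [map_add, map_sub, Finset.Nat.antidiagonal_zero, Finset.sum_singleton]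
    abel
  have := eq_zero h (x := fun m => Δ fun i => z (i + m)) fun m => by
    have e : (fun i => z (i + 1 + m)) = fun i => z (i + (m + 1)) := funext fun i => by
      rw [show i + (m + 1) = i + 1 + m by omega]
    exact (key (fun i => z (i + m))).trans (congrArg (fun w => φ (Δ w)) e)
  exact sub_eq_zero.1 (congrFun this 0)

section Module

variable {B : Type u} [CommRing B] {M : Type u} [AddCommGroup M] [Module B M] (f : B)
  (h : Comp (sm M f))

/-- Power series act on a derived complete module. -/
@[instance_reducible]
noncomputable def psModule : Module (PowerSeries B) M where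
  smul R x := S h fun k => coeff k R • x
  one_smul x := by
    show S h (fun k => coeff k 1 • x) = x
    conv_rhs => rw [← S_single h x]
    congr 1; funext k
    rw [coeff_one]
    split <;> simp
  mul_smul R T x := by
    show S h (fun k => coeff k (R * T) • x) = S h fun i => coeff i R • S h fun j => coeff j T • x
    have e : (fun i => coeff i R • S h fun j => coeff j T • x) =
        fun i => S h fun j => coeff i R • coeff j T • x := funext fun i =>
      (S_comm h (χ := sm M (coeff i R)) (fun y => smul_comm (coeff i R) f y) _).symm
    rw [e, ← S_fubini h]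
    congr 1; funext n
    rw [coeff_mul, Finset.sum_smul]
    simp [mul_smul]
  smul_zero R := by
    show S h (fun k => coeff k R • (0 : M)) = 0
    simp only [smul_zero]
    exact map_zero (S h)
  smul_add R x y := by
    show S h (fun k => coeff k R • (x + y)) = S h (fun k => coeff k R • x) + S h fun k => coeff k R • y
    rw [← map_add]
    simp only [smul_add]
    rfl
  add_smul R T x := by
    show S h (fun k => coeff k (R + T) • x) = S h (fun k => coeff k R • x) + S h fun k => coeff k T • x
    rw [← map_add]
    congr 1
    funext k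
    rw [Pi.add_apply, map_add, add_smul]
  zero_smul x := by
    show S h (fun k => coeff k (0 : PowerSeries B) • x) = 0
    simp only [map_zero, zero_smul]
    exact map_zero (S h)

lemma psModule_C (b : B) (x : M) :
    (letI := psModule f h; (PowerSeries.C b : PowerSeries B) • x) = b • x := by
  show S h (fun k => coeff k (PowerSeries.C b) • x) = b • x
  conv_rhs => rw [← S_single h (b • x)]
  congr 1; funext k
  rw [coeff_C]
  split <;> simp

lemma psModule_X (x : M) :
    (letI := psModule f h; (PowerSeries.X : PowerSeries B) • x) = f • x := by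
  show S h (fun k => coeff k (PowerSeries.X : PowerSeries B) • x) = f • x
  rw [S_succ]
  simp only [coeff_X, zero_ne_one, ↓reduceIte, zero_smul, zero_add]
  have e : (fun m : ℕ => (if m + 1 = 1 then (1 : B) else 0) • x) =
      fun m => if m = 0 then x else 0 := by
    funext m; rcases m with _ | m <;> simp
  rw [e, S_single]
  rfl

end Module

variable {B : Type u} [CommRing B]

lemma comp_sm_X : Comp (sm (PowerSeries B) (PowerSeries.X : PowerSeries B)) := by
  refine comp_of (fun x hx => ?_) fun y =>
    ⟨fun m => mk fun k => ∑ j ∈ Finset.range (k + 1), coeff (k - j) (y (m + j)), fun m => ?_⟩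
  · have e : ∀ k m, coeff k (x m) = 0 := by
      intro k
      induction k with
      | zero => intro m; rw [hx m]; exact (coeff_zero_X_mul (x (m + 1)))
      | succ k ih => intro m; rw [hx m]; exact (coeff_succ_X_mul k (x (m + 1))).trans (ih _)
    ext k
    simpa using e k 0
  · ext k
    show coeff k (_ - (PowerSeries.X : PowerSeries B) * _) = _
    rcases k with _ | k
    · rw [map_sub, coeff_zero_X_mul, coeff_mk]
      simp
    · rw [map_sub, coeff_succ_X_mul, coeff_mk, coeff_mk, Finset.sum_range_succ']
      have e : (∑ j ∈ Finset.range (k + 1), coeff (k + 1 - (j + 1)) (y (m + (j + 1)))) =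
          ∑ j ∈ Finset.range (k + 1), coeff (k - j) (y (m + 1 + j)) :=
        Finset.sum_congr rfl fun j _ => by
          rw [show k + 1 - (j + 1) = k - j by omega, show m + (j + 1) = m + 1 + j by omega]
      rw [e]
      simp

lemma comp_sm_C {g : B} (h : Comp (sm B g)) :
    Comp (sm (PowerSeries B) (PowerSeries.C g : PowerSeries B)) := by
  refine comp_of (fun x hx => ?_) fun y =>
    ⟨fun m => mk fun k => sol h (fun i => coeff k (y i)) m, fun m => ?_⟩
  · ext k
    have := eq_zero h (x := fun m => coeff k (x m)) fun m => by
      show coeff k (x m) = g * coeff k (x (m + 1))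
      rw [← coeff_C_mul, hx m]
      rfl
    simpa using congrFun this 0
  · ext k
    show coeff k (_ - (PowerSeries.C g : PowerSeries B) * _) = _
    rw [map_sub, coeff_C_mul, coeff_mk, coeff_mk]
    exact sol_spec h (fun i => coeff k (y i)) m

theorem haus_of_finite_quotient : ∀ (n : ℕ) (B : Type u) [CommRing B] [IsNoetherianRing B]
    (M : Type u) [AddCommGroup M] [Module B M] (J : Ideal B) (l : List B), l.length = n →
    ModDC J B → ModDC J M → (∀ f ∈ l, Comp (sm M f)) →
    Module.Finite B (M ⧸ (J ⊔ Ideal.span {f | f ∈ l}) • (⊤ : Submodule B M)) →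
    ∀ z : M, (∀ k : ℕ, z ∈ (J ⊔ Ideal.span {f | f ∈ l}) ^ k • (⊤ : Submodule B M)) → z = 0 := by
  intro n
  induction n with
  | zero =>
    intro B _ _ M _ _ J l hl hB hM _ hfin z hz
    obtain rfl := List.length_eq_zero_iff.1 hl
    have hJ : J ⊔ Ideal.span {f : B | f ∈ ([] : List B)} = J := by simp
    rw [hJ] at hfin
    simp only [hJ] at hz
    obtain ⟨r, p, hp⟩ := Module.Finite.exists_fin' B (M ⧸ J • (⊤ : Submodule B M))
    obtain ⟨q, hq⟩ := Module.projective_lifting_property (J • (⊤ : Submodule B M)).mkQ p
      (Submodule.mkQ_surjective _)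
    have hQ : Subsingleton (M ⧸ LinearMap.range q) := by
      obtain ⟨s, hs⟩ := IsNoetherian.noetherian J
      refine S7053.nakayama J s _ ((hB.pi).coker hM q) (hs ▸ Ideal.subset_span)
        (top_le_iff.1 fun y _ => ?_)
      obtain ⟨y, rfl⟩ := Submodule.mkQ_surjective _ y
      obtain ⟨c, hc⟩ := hp (Submodule.Quotient.mk y)
      have hmem : y - q c ∈ J • (⊤ : Submodule B M) := by
        rw [← Submodule.Quotient.eq, ← hc, ← hq]
        rfl
      have e : (LinearMap.range q).mkQ y = (LinearMap.range q).mkQ (y - q c) := by
        rw [map_sub, Submodule.mkQ_apply (x := q c),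
          (Submodule.Quotient.mk_eq_zero _).2 (LinearMap.mem_range_self q c), sub_zero]
      rw [e, show Ideal.span (↑s : Set B) = J from hs]
      have h2 := Submodule.mem_map_of_mem (f := (LinearMap.range q).mkQ) hmem
      rw [Submodule.map_smul''] at h2
      exact Submodule.smul_mono le_rfl le_top h2
    have hsurj : Function.Surjective q := fun y =>
      (Submodule.Quotient.mk_eq_zero (LinearMap.range q)).1 (Subsingleton.elim _ 0)
    haveI : Module.Finite B M := Module.Finite.of_surjective q hsurj
    have hjac : J ≤ Ideal.jacobson ⊥ := fun a ha => by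
      rw [Ideal.mem_jacobson_bot]
      intro b
      obtain ⟨c, hc⟩ := (bijective_one_sub (hB (-(a * b)) (J.neg_mem (J.mul_mem_right b ha)))).2 1
      refine IsUnit.of_mul_eq_one c ?_
      have hc' : c - -(a * b) * c = 1 := hc
      linear_combination hc'
    haveI : IsHausdorff J M := IsHausdorff.of_le_jacobson (M := M) J hjac
    exact IsHausdorff.haus ‹IsHausdorff J M› z fun k => SModEq.zero.2 (hz k)
  | succ n ih =>
    intro B _ _ M _ _ J l hl hB hM hcomp hfin z hz
    obtain ⟨f, l, rfl⟩ : ∃ f l', l = f :: l' := by
      cases l with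
      | nil => simp at hl
      | cons a as => exact ⟨a, as, rfl⟩
    have hf : Comp (sm M f) := hcomp f List.mem_cons_self
    letI := psModule f hf
    have hC : ∀ (b : B) (x : M), (PowerSeries.C b : PowerSeries B) • x = b • x := psModule_C f hf
    have hX : ∀ x : M, (PowerSeries.X : PowerSeries B) • x = f • x := psModule_X f hf
    set J' : Ideal (PowerSeries B) :=
      J.map (PowerSeries.C : B →+* PowerSeries B) ⊔ Ideal.span {(PowerSeries.X : PowerSeries B)}
      with hJ'
    have hB' : ModDC J' (PowerSeries B) := by
      rw [modDC_iff_le, hJ', sup_le_iff, Ideal.map_le_iff_le_comap, Ideal.span_singleton_le_iff_mem]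
      exact ⟨fun g hg => comp_sm_C (hB g hg), comp_sm_X⟩
    have hM' : ModDC J' M := by
      rw [modDC_iff_le, hJ', sup_le_iff, Ideal.map_le_iff_le_comap, Ideal.span_singleton_le_iff_mem]
      refine ⟨fun g hg => ?_, ?_⟩
      · exact comp_equiv (AddEquiv.refl M) (fun x => (hC g x).symm) (hM g hg)
      · exact comp_equiv (AddEquiv.refl M) (fun x => (hX x).symm) hf
    set K : Ideal B := J ⊔ Ideal.span {g | g ∈ f :: l} with hK
    set K' : Ideal (PowerSeries B) :=
      J' ⊔ Ideal.span {g | g ∈ l.map (PowerSeries.C : B →+* PowerSeries B)} with hK'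
    let T : Ideal B :=
      { carrier := {r | ∀ (N : Submodule (PowerSeries B) M) (x : M), x ∈ N → r • x ∈ K' • N}
        add_mem' := fun {a b} ha hb N x hx => by
          rw [add_smul]; exact add_mem (ha N x hx) (hb N x hx)
        zero_mem' := fun N x hx => by rw [zero_smul]; exact zero_mem _
        smul_mem' := fun c a ha N x hx => by
          rw [smul_eq_mul, mul_smul, ← hC]; exact Submodule.smul_mem _ _ (ha N x hx) }
    have hKT : K ≤ T := by
      rw [hK, sup_le_iff, Ideal.span_le]
      refine ⟨fun g hg N x hx => ?_, fun g hg N x hx => ?_⟩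
      · rw [← hC]
        exact Submodule.smul_mem_smul (Ideal.mem_sup_left (Ideal.mem_sup_left
          (Ideal.mem_map_of_mem _ hg))) hx
      · rcases List.mem_cons.1 hg with rfl | hg
        · rw [← hX]
          exact Submodule.smul_mem_smul (Ideal.mem_sup_left (Ideal.mem_sup_right
            (Ideal.mem_span_singleton_self _))) hx
        · rw [← hC]
          exact Submodule.smul_mem_smul (Ideal.mem_sup_right
            (Ideal.subset_span (List.mem_map_of_mem hg))) hx
    have hpow : ∀ (k : ℕ) (x : M), x ∈ K ^ k • (⊤ : Submodule B M) →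
        x ∈ K' ^ k • (⊤ : Submodule (PowerSeries B) M) := by
      intro k
      induction k with
      | zero => intro x _; simp
      | succ k ihk =>
        intro x hx
        rw [pow_succ', Submodule.mul_smul] at hx
        rw [pow_succ', Submodule.mul_smul]
        refine Submodule.smul_induction_on hx (fun r hr y hy => hKT hr _ y (ihk y hy))
          (fun a b ha hb => add_mem ha hb)
    refine ih (PowerSeries B) M J' (l.map (PowerSeries.C : B →+* PowerSeries B))
      (by simpa using hl) hB' hM' ?_ ?_ z fun k => hpow k z (hz k)
    · intro g hg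
      obtain ⟨g, hg', rfl⟩ := List.mem_map.1 hg
      exact comp_equiv (AddEquiv.refl M) (fun x => (hC g x).symm)
        (hcomp g (List.mem_cons_of_mem _ hg'))
    · obtain ⟨s, hs⟩ := hfin.fg_top
      classical
      choose r hr using fun y : M ⧸ K • (⊤ : Submodule B M) => Submodule.Quotient.mk_surjective _ y
      refine ⟨⟨(s.image r).image (K' • (⊤ : Submodule (PowerSeries B) M)).mkQ, top_le_iff.1 ?_⟩⟩
      rintro y -
      obtain ⟨y, rfl⟩ := Submodule.mkQ_surjective _ y
      set P : Submodule B (M) :=
        { carrier := {w : M | (K' • (⊤ : Submodule (PowerSeries B) M)).mkQ w ∈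
            Submodule.span (PowerSeries B)
              (↑((s.image r).image (K' • (⊤ : Submodule (PowerSeries B) M)).mkQ) :
                Set (M ⧸ K' • (⊤ : Submodule (PowerSeries B) M)))}
          add_mem' := fun {a b} ha hb => by
            simp only [Set.mem_ofPred_eq, map_add]; exact add_mem ha hb
          zero_mem' := by simp
          smul_mem' := fun c a ha => by
            simp only [Set.mem_ofPred_eq] at ha ⊢
            rw [← hC, map_smul]
            exact Submodule.smul_mem _ _ ha } with hP
      have hle : K • (⊤ : Submodule B M) ≤ P := Submodule.smul_le.2 fun a ha x _ => by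
        change (K' • (⊤ : Submodule (PowerSeries B) M)).mkQ (a • x) ∈
          Submodule.span (PowerSeries B)
            (↑((s.image r).image (K' • (⊤ : Submodule (PowerSeries B) M)).mkQ) :
              Set (M ⧸ K' • (⊤ : Submodule (PowerSeries B) M)))
        rw [Submodule.mkQ_apply, (Submodule.Quotient.mk_eq_zero _).2 (hKT ha ⊤ x trivial)]
        exact zero_mem _
      have htop : (⊤ : Submodule B (M ⧸ K • (⊤ : Submodule B M))) ≤
          P.map (K • (⊤ : Submodule B M)).mkQ := by
        rw [← hs, Submodule.span_le]
        intro w hw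
        exact ⟨r w, Submodule.subset_span (Finset.mem_image_of_mem _ (Finset.mem_image_of_mem _ hw)), hr w⟩
      obtain ⟨w, hw, hwy⟩ := htop (x := Submodule.Quotient.mk y) trivial
      have hd : y - w ∈ P := hle ((Submodule.Quotient.eq _).1 hwy.symm)
      have := P.add_mem hd hw
      rwa [sub_add_cancel] at this

end Groth.Agent.DCat.DC
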