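import Groth.Agent.DCat.DCompleteAlg
import Mathlib.RingTheory.AdicCompletion.Basic
import Mathlib.RingTheory.Finiteness.Ideal
import Mathlib.RingTheory.Henselian
import Mathlib.Algebra.Polynomial.Identities
import Mathlib.Algebra.Polynomial.Div

/-! Derived complete modules and adic topologies. -/

set_option autoImplicit false
set_option backward.isDefEq.respectTransparency false

universe u v

namespace Groth.Agent.DCat.DC

variable {A : Type u} [CommRing A] {M : Type v} [AddCommGroup M] [Module A M] {I : Ideal A}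

lemma exists_pow_le_span_pow (s : Finset A) (k : ℕ) :
    ∃ m : ℕ, Ideal.span (↑s : Set A) ^ m ≤ Ideal.span ((fun f => f ^ k) '' (↑s : Set A)) :=
  Ideal.exists_pow_le_of_le_radical_of_fg
    (Ideal.span_le.2 fun f hf => ⟨k, Ideal.subset_span ⟨f, hf, rfl⟩⟩) ⟨s, rfl⟩

lemma exists_sum_of_mem (s : Finset A) (k : ℕ) {x : M}
    (hx : x ∈ Ideal.span ((fun f => f ^ k) '' (↑s : Set A)) • (⊤ : Submodule A M)) :
    ∃ y : A → M, x = ∑ f ∈ s, f ^ k • y f := by
  classical
  refine Submodule.smul_induction_on hx (fun a ha n _ => ?_) (fun x y hx hy => ?_)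
  · induction ha using Submodule.span_induction with
    | mem a ha =>
      obtain ⟨f, hf, rfl⟩ := ha
      refine ⟨Function.update 0 f n, ?_⟩
      rw [Finset.sum_eq_single f (fun g _ hg => by simp [Function.update_of_ne hg]) (fun h => absurd hf h)]
      simp
    | zero => exact ⟨0, by simp⟩
    | add a b _ _ ha hb =>
      obtain ⟨y, hy⟩ := ha
      obtain ⟨z, hz⟩ := hb
      exact ⟨y + z, by simp [add_smul, hy, hz, Finset.sum_add_distrib]⟩
    | smul c a _ ha =>
      obtain ⟨y, hy⟩ := ha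
      exact ⟨c • y, by simp [mul_smul, hy, Finset.smul_sum, smul_comm c]⟩
  · obtain ⟨y₁, rfl⟩ := hx
    obtain ⟨y₂, rfl⟩ := hy
    exact ⟨y₁ + y₂, by simp [Finset.sum_add_distrib]⟩

lemma S_eq (h : ModDC I M) {f : A} (hf : f ∈ I) (y : ℕ → M) (K : ℕ) :
    S (h f hf) y = (∑ k ∈ Finset.range K, f ^ k • y k) + f ^ K • sol (h f hf) y K := by
  rw [S_eq_sum _ y K, sm_iterate]
  simp only [sm_iterate]

theorem surjective_completion (hI : I.FG) (h : ModDC I M) : Function.Surjective (AdicCompletion.of I M) := by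
  classical
  obtain ⟨s, rfl⟩ := hI
  intro x
  choose g hg using fun n => Submodule.mkQ_surjective _ (x.val n)
  have hsub : ∀ {m n : ℕ}, m ≤ n → g n - g m ∈ (Ideal.span (↑s : Set A) ^ m • ⊤ : Submodule A M) := by
    intro m n hmn
    have e := x.property hmn
    rw [← hg n, ← hg m] at e
    exact (Submodule.Quotient.eq _).1 e
  choose q hq using exists_pow_le_span_pow (A := A) s
  let m : ℕ → ℕ := fun k => ∑ j ∈ Finset.range (k + 1), (q j + j)
  have hm : ∀ k, q k + k ≤ m k := fun k =>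
    Finset.single_le_sum (f := fun j => q j + j) (fun _ _ => Nat.zero_le _) (Finset.self_mem_range_succ k)
  have hmm : ∀ k, m k ≤ m (k + 1) := fun k =>
    (Nat.le_add_right _ _).trans (Finset.sum_range_succ _ (k + 1)).ge
  have hy : ∀ k, ∃ y : A → M, g (m (k + 1)) - g (m k) = ∑ f ∈ s, f ^ k • y f := fun k =>
    exists_sum_of_mem s k (Submodule.smul_mono_left
      ((Ideal.pow_le_pow_right (le_of_add_le_left (hm k))).trans (hq k)) (hsub (hmm k)))
  choose y hy using hy
  have hsI : ∀ f : s, (f : A) ∈ Ideal.span (↑s : Set A) := fun f => Ideal.subset_span f.2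
  refine ⟨g (m 0) + ∑ f ∈ s.attach, S (h f (hsI f)) (fun k => y k f),
    AdicCompletion.ext fun K => ?_⟩
  rw [AdicCompletion.of_apply, ← hg K]
  refine (Submodule.Quotient.eq _).2 ?_
  have tele : g (m K) - g (m 0) = ∑ k ∈ Finset.range K, ∑ f ∈ s, f ^ k • y k f := by
    rw [← Finset.sum_congr rfl fun k _ => hy k, Finset.sum_range_sub (fun k => g (m k))]
  have e : ∑ f ∈ s.attach, S (h f (hsI f)) (fun k => y k f) = g (m K) - g (m 0) +
      ∑ f ∈ s.attach, (f : A) ^ K • sol (h f (hsI f)) (fun k => y k f) K := by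
    rw [tele, Finset.sum_comm, ← Finset.sum_attach s, ← Finset.sum_add_distrib]
    exact Finset.sum_congr rfl fun f _ => S_eq h (hsI f) _ K
  rw [e, show ∀ a b c d : M, a + (b - a + c) - d = c + (b - d) from fun a b c d => by abel]
  exact add_mem (Submodule.sum_mem _ fun f _ =>
    Submodule.smul_mem_smul (Ideal.pow_mem_pow (hsI f) K) Submodule.mem_top)
    (hsub ((Nat.le_add_left _ _).trans (hm K)))

/-- A derived complete torsion module is killed by a power of each element of `I`. -/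
theorem exists_pow_smul_eq_zero (h : ModDC I M) {f : A} (hf : f ∈ I)
    (ht : ∀ x : M, ∃ n : ℕ, f ^ n • x = 0) : ∃ n : ℕ, ∀ x : M, f ^ n • x = 0 := by
  classical
  let P : ℕ → ℕ → Prop := fun n k => ∀ x : M, ∃ z : M, f ^ n • x = f ^ k • z
  suffices ∃ n, ∀ k, P n k by
    obtain ⟨n, hn⟩ := this
    refine ⟨n, fun x => ?_⟩
    have step : ∀ w : {w : M // ∃ a, w = f ^ n • a}, ∃ w' : {w : M // ∃ a, w = f ^ n • a}, f • w'.1 = w.1 := by
      rintro ⟨w, a, rfl⟩
      obtain ⟨z, hz⟩ := hn (n + 1) a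
      exact ⟨⟨f ^ n • z, z, rfl⟩, show f • f ^ n • z = f ^ n • a by rw [smul_smul, ← pow_succ', hz]⟩
    choose g hg using step
    have := eq_zero (h f hf) (x := fun m => (g^[m] ⟨f ^ n • x, x, rfl⟩).1) fun m => by
      rw [Function.iterate_succ_apply']; exact (hg _).symm
    exact congrFun this 0
  by_contra hcon
  simp only [not_exists, not_forall, P] at hcon
  choose k0 x0 hx0 using hcon
  choose e he using ht
  have killed : ∀ (x : M) (n : ℕ), e x ≤ n → f ^ n • x = 0 := fun x n hn => by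
    rw [← Nat.sub_add_cancel hn, pow_add, mul_smul, he, smul_zero]
  let state : ℕ → ℕ × M := fun j => Nat.rec (0, 0) (fun j p =>
    let n := e p.2 + j
    (k0 (n + p.1) + p.1 + 1, p.2 + f ^ p.1 • x0 (n + p.1))) j
  let p : ℕ → ℕ := fun j => (state j).1
  let sj : ℕ → M := fun j => (state j).2
  let nn : ℕ → ℕ := fun j => e (sj j) + j + p j
  have hp : ∀ j, p (j + 1) = k0 (nn j) + p j + 1 := fun j => rfl
  have hs' : ∀ j, sj (j + 1) = sj j + f ^ p j • x0 (nn j) := fun j => rfl
  have pmono : StrictMono p := strictMono_nat_of_lt_succ fun j => by rw [hp]; omega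
  let y : ℕ → M := fun i => if hi : ∃ j, p j = i then x0 (nn hi.choose) else 0
  have hy : ∀ j, y (p j) = x0 (nn j) := fun j => by
    have hi : ∃ j', p j' = p j := ⟨j, rfl⟩
    simp only [y, dif_pos hi, pmono.injective hi.choose_spec]
  have hy' : ∀ j i, p j < i → i < p (j + 1) → y i = 0 := fun j i h1 h2 => dif_neg <| by
    rintro ⟨j', rfl⟩
    have a1 : j < j' := pmono.lt_iff_lt.1 h1
    have a2 : j' < j + 1 := pmono.lt_iff_lt.1 h2
    omega
  have hsum : ∀ j, ∑ i ∈ Finset.range (p j), f ^ i • y i = sj j := by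
    intro j
    induction j with
    | zero => simp [p, sj, state]
    | succ j ih =>
      rw [← Finset.sum_range_add_sum_Ico _ (pmono.monotone (Nat.le_succ j)), ih, hs',
        Finset.sum_eq_single (p j)]
      · rw [hy]
      · intro i hi hne
        rw [Finset.mem_Ico] at hi
        rw [hy' j i (by omega) hi.2, smul_zero]
      · intro hh
        exact absurd (Finset.mem_Ico.2 ⟨le_rfl, pmono (Nat.lt_succ_self j)⟩) hh
  let x := S (h f hf) y
  let j := e x
  have e1 : x = sj (j + 1) + f ^ p (j + 1) • sol (h f hf) y (p (j + 1)) := by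
    rw [← hsum (j + 1)]; exact S_eq h hf y _
  have e2 : f ^ (e (sj j) + j) • x = 0 := killed x _ (Nat.le_add_left _ _)
  rw [e1, hs', smul_add, smul_add, killed (sj j) _ (Nat.le_add_right _ _), zero_add, smul_smul,
    smul_smul, ← pow_add, ← pow_add] at e2
  refine hx0 (nn j) (-(f ^ (e (sj j) + j + (p j + 1)) • sol (h f hf) y (p (j + 1)))) ?_
  rw [smul_neg, smul_smul, ← pow_add]
  rw [show k0 (nn j) + (e (sj j) + j + (p j + 1)) = e (sj j) + j + p (j + 1) by rw [hp]; omega]
  exact eq_neg_of_add_eq_zero_left e2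

/-- Being complete modulo an ideal. -/
lemma modDC_quot_sup {𝔞 : Ideal A} (h : ModDC I (A ⧸ 𝔞)) (g : A) :
    ModDC I (A ⧸ (𝔞 ⊔ Ideal.span {g})) := by
  let q : (A ⧸ 𝔞) →ₗ[A] (A ⧸ (𝔞 ⊔ Ideal.span {g})) :=
    Submodule.factor (le_sup_left : 𝔞 ≤ 𝔞 ⊔ Ideal.span {g})
  let u : (A ⧸ 𝔞) →ₗ[A] (A ⧸ 𝔞) := g • LinearMap.id
  refine fun f hf => comp_coker (h f hf) (h f hf) q.toAddMonoidHom
    (Submodule.factor_surjective (le_sup_left : 𝔞 ≤ 𝔞 ⊔ Ideal.span {g})) u.toAddMonoidHom (fun z => ?_) (fun z => u.map_smul f z)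
    (fun z => q.map_smul f z)
  obtain ⟨z, rfl⟩ := Submodule.mkQ_surjective _ z
  change Submodule.Quotient.mk z = (0 : A ⧸ (𝔞 ⊔ Ideal.span {g})) ↔ _
  rw [Submodule.Quotient.mk_eq_zero, Submodule.mem_sup]
  constructor
  · rintro ⟨a, ha, b, hb, rfl⟩
    obtain ⟨c, rfl⟩ := Ideal.mem_span_singleton'.1 hb
    exact ⟨Submodule.Quotient.mk c, (Submodule.Quotient.eq _).2 (by
      show g * c - (a + c * g) ∈ 𝔞
      rw [show g * c - (a + c * g) = -a by ring]
      exact neg_mem ha)⟩
  · rintro ⟨c, hc⟩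
    obtain ⟨c, rfl⟩ := Submodule.mkQ_surjective _ c
    exact ⟨z - g * c, (Submodule.Quotient.eq _).1 hc.symm, g * c,
      Ideal.mem_span_singleton'.2 ⟨c, mul_comm _ _⟩, sub_add_cancel _ _⟩

theorem iInf_pow_le (l : List A) (hl : ∀ f ∈ l, f ∈ I) :
    ∀ 𝔞 : Ideal A, ModDC I (A ⧸ 𝔞) →
      (⨅ n : ℕ, Ideal.span {x | x ∈ l} ^ n ⊔ 𝔞) ^ (2 ^ l.length) ≤ 𝔞 := by
  induction l with
  | nil =>
    intro 𝔞 _
    refine (pow_one _).trans_le ((iInf_le _ 1).trans (le_of_eq ?_))
    simp
  | cons f l ih =>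
    intro 𝔞 h𝔞
    let J := ⨅ n : ℕ, Ideal.span {x | x ∈ f :: l} ^ n ⊔ 𝔞
    have hfl : Ideal.span {x | x ∈ f :: l} = Ideal.span {x | x ∈ l} ⊔ Ideal.span {f} := by
      rw [← Ideal.span_union]
      congr 1
      ext x
      simp [or_comm]
    have hJ : ∀ m, J ^ (2 ^ l.length) ≤ 𝔞 ⊔ Ideal.span {f ^ m} := by
      intro m
      refine (Ideal.pow_right_mono (le_iInf fun n => ?_) _).trans
        (ih (fun g hg => hl g (List.mem_cons_of_mem _ hg)) _ (modDC_quot_sup h𝔞 (f ^ m)))
      refine (iInf_le _ (n + m)).trans (sup_le ?_ (le_sup_left.trans le_sup_right))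
      rw [hfl]
      refine Ideal.sup_pow_add_le_pow_sup_pow.trans (sup_le le_sup_left ?_)
      rw [Ideal.span_singleton_pow]
      exact le_sup_right.trans le_sup_right
    rw [List.length_cons, pow_succ, pow_mul, pow_two]
    refine Ideal.mul_le.2 fun x hx y hy => ?_
    choose a ha b hb hab using fun m => Submodule.mem_sup.1 (hJ m hx)
    choose a' ha' b' hb' hab' using fun m => Submodule.mem_sup.1 (hJ m hy)
    choose c hc using fun m => Ideal.mem_span_singleton'.1 (hb m)
    choose c' hc' using fun m => Ideal.mem_span_singleton'.1 (hb' m)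
    let z : ℕ → A ⧸ 𝔞 := fun n => Submodule.Quotient.mk (c n * y)
    have := eq_zero (h𝔞 f (hl f List.mem_cons_self)) (x := z) fun n => by
      refine (Submodule.Quotient.eq _).2 ?_
      show c n * y - f * (c (n + 1) * y) ∈ 𝔞
      rw [show c n * y - f * (c (n + 1) * y) =
        (c n - f * c (n + 1)) * a' n + (a (n + 1) - a n) * c' n by
          linear_combination (c n - f * c (n + 1)) * (-1 : A) * hab' n +
            c' n * (hab n - hab (n + 1)) + (f * c (n + 1) - c n) * hc' n + c' n * (hc n - hc (n + 1))]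
      exact add_mem (𝔞.mul_mem_left _ (ha' n)) (𝔞.mul_mem_right _ (sub_mem (ha _) (ha _)))
    have e : Submodule.Quotient.mk (p := 𝔞) (c 0 * y) = 0 := congrFun this 0
    rw [Submodule.Quotient.mk_eq_zero] at e
    rw [show x * y = a 0 * y + c 0 * y by linear_combination -y * hab 0 - y * hc 0]
    exact add_mem (𝔞.mul_mem_right _ (ha 0)) e

theorem iInf_pow_pow_eq_bot (s : Finset A) (hs : Ideal.span (↑s : Set A) = I) (h : ModDC I A) :
    (⨅ n : ℕ, I ^ n) ^ (2 ^ s.card) = ⊥ := by
  rw [eq_bot_iff]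
  have := iInf_pow_le (I := I) s.toList
    (fun f hf => hs ▸ Ideal.subset_span (Finset.mem_toList.1 hf)) ⊥
    (h.of_equiv (Submodule.quotEquivOfEqBot (⊥ : Submodule A A) rfl).symm)
  simpa [Finset.length_toList, ← hs] using this

theorem exists_root (h : ModDC I A) (hjac : ∀ e ∈ I, IsUnit (1 + e)) (p : Polynomial A) (a₀ : A)
    (h0 : p.eval a₀ ∈ I) (hu : IsUnit (Ideal.Quotient.mk I (p.derivative.eval a₀))) :
    ∃ a : A, p.IsRoot a ∧ a - a₀ ∈ I := by
  classical
  let e := p.eval a₀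
  have unit_of : ∀ a, a - a₀ ∈ I → IsUnit (p.derivative.eval a) := by
    intro a ha
    have e0 : Ideal.Quotient.mk I (p.derivative.eval a) = Ideal.Quotient.mk I (p.derivative.eval a₀) :=
      Ideal.Quotient.eq.2 (I.mem_of_dvd (Polynomial.sub_dvd_eval_sub a a₀ _) ha)
    obtain ⟨v, hv⟩ := (e0.symm ▸ hu).exists_right_inv
    obtain ⟨v, rfl⟩ := Ideal.Quotient.mk_surjective v
    rw [← map_mul, ← map_one (Ideal.Quotient.mk I)] at hv
    refine isUnit_of_mul_isUnit_left (y := v) ?_
    simpa using hjac _ (Ideal.Quotient.eq.1 hv)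
  let St (n : ℕ) := {a : A // a - a₀ ∈ I ∧ ∃ c, p.eval a = e ^ (n + 1) * c}
  have step : ∀ (n : ℕ) (a : St n), ∃ b : St (n + 1), ∃ t, b.1 = a.1 + e ^ (n + 1) * t := by
    rintro n ⟨a, ha, c, hc⟩
    obtain ⟨v, hv⟩ := (unit_of a ha).exists_right_inv
    obtain ⟨k, hk⟩ := Polynomial.binomExpansion p a (-(e ^ (n + 1) * c * v))
    have hm : a + -(e ^ (n + 1) * c * v) - a₀ ∈ I := by
      rw [show a + -(e ^ (n + 1) * c * v) - a₀ = (a - a₀) + e * -(e ^ n * c * v) by ring]
      exact add_mem ha (I.mul_mem_right _ h0)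
    refine ⟨⟨_, hm, k * e ^ n * c ^ 2 * v ^ 2, ?_⟩, -(c * v), by ring⟩
    rw [hk, hc]
    linear_combination (-(e ^ (n + 1)) * c) * hv
  choose nxt t ht using step
  let an : ∀ n, St n := fun n => Nat.rec (⟨a₀, by simp, 1, by simp [e]⟩) (fun n a => nxt n a) n
  let ts : ℕ → A := fun n => t n (an n)
  let a := a₀ + e * S (h e h0) ts
  have hpart : ∀ K, (an K).1 = a₀ + e * ∑ k ∈ Finset.range K, e ^ k * ts k := by
    intro K
    induction K with
    | zero => simp [an]
    | succ K ih =>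
      show (nxt K (an K)).1 = _
      rw [ht, ih, Finset.sum_range_succ]
      simp only [ts]
      ring
  have haI : a - a₀ ∈ I := by
    rw [show a - a₀ = e * S (h e h0) ts from add_sub_cancel_left _ _]
    exact I.mul_mem_right _ h0
  have hfa : p.eval a ∈ ⨅ n : ℕ, Ideal.span {e} ^ n := by
    refine (Submodule.mem_iInf _).2 fun n => ?_
    rw [Ideal.span_singleton_pow]
    obtain ⟨c, hc⟩ := (an n).2.2
    have hd : e ^ n ∣ p.eval a - p.eval (an n).1 := by
      refine (Dvd.intro (e * sol (h e h0) ts n) ?_).trans (Polynomial.sub_dvd_eval_sub a (an n).1 p)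
      rw [hpart, show a = a₀ + e * S (h e h0) ts from rfl, S_eq h h0 ts n]
      simp only [smul_eq_mul]
      ring
    rw [Ideal.mem_span_singleton]
    simpa using dvd_add hd (hc ▸ Dvd.intro (e * c) (by ring) : e ^ n ∣ p.eval (an n).1)
  have hJ := iInf_pow_pow_eq_bot ({e} : Finset A) (by simp) (I := Ideal.span {e})
    (fun g hg => h g (Ideal.span_le.2 (Set.singleton_subset_iff.2 h0) hg))
  rw [Finset.card_singleton, pow_one, pow_two, eq_bot_iff] at hJ
  have hsq : p.eval a ^ 2 = 0 := by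
    rw [pow_two]
    exact (Submodule.mem_bot A).1 (hJ (Ideal.mul_mem_mul hfa hfa))
  obtain ⟨v, hv⟩ := (unit_of a haI).exists_right_inv
  obtain ⟨k, hk⟩ := Polynomial.binomExpansion p a (-(p.eval a * v))
  refine ⟨a + -(p.eval a * v), ?_, ?_⟩
  · rw [Polynomial.IsRoot.def, hk]
    linear_combination (-p.eval a) * hv + k * v ^ 2 * hsq
  · rw [show a + -(p.eval a * v) - a₀ = (a - a₀) - p.eval a * v by ring]
    refine sub_mem haI (I.mul_mem_right _ ?_)
    have := (Submodule.mem_iInf _).1 hfa 1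
    rw [pow_one] at this
    exact Ideal.span_le.2 (Set.singleton_subset_iff.2 h0) this

theorem henselianRing_of_modDC (h : ModDC I A) : HenselianRing A I := by
  have hu : ∀ e ∈ I, IsUnit (1 + e) := by
    intro e he
    obtain ⟨x, hx⟩ := (bijective_one_sub (h (-e) (neg_mem he))).2 (1 : A)
    dsimp only at hx
    exact IsUnit.of_mul_eq_one x (by
      rw [add_mul, one_mul]
      simpa [sub_eq_add_neg, add_comm] using hx)
  exact {
    jac := fun x hx => Ideal.mem_jacobson_iff.2 fun y => by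
      obtain ⟨z, hz⟩ := (hu (y * x) (I.mul_mem_left _ hx)).exists_right_inv
      exact ⟨z, by rw [Ideal.mem_bot]; linear_combination hz⟩
    is_henselian := fun p _ a₀ h0 hu' => exists_root h hu p a₀ h0 hu' }

end Groth.Agent.DCat.DC
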