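import Groth.Agent.DCat.DTenBase
import Groth.Agent.DCat.DTenTriple

/-! The mixed derived tensor product. -/

set_option autoImplicit false
set_option backward.isDefEq.respectTransparency false
set_option backward.defeqAttrib.useBackward true
set_option linter.style.haveILetI false

universe v u u''

open CategoryTheory CategoryTheory.Limits MonoidalCategory HomologicalComplex

attribute [local instance] HasDerivedCategory.standard

namespace Groth.Agent.DCat

variable {R A : Type u} [CommRing R] [CommRing A] (φ : R →+* A)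

/-- The quotient functor on mixed pairs. -/
noncomputable abbrev qm (R A : Type u) [CommRing R] [CommRing A] : DRing.Cx R × DRing.Cx A ⥤ KA R × KA A :=
  (HomotopyCategory.quotient _ (ComplexShape.up ℤ)).prod (HomotopyCategory.quotient _ (ComplexShape.up ℤ))

/-- Mixed pairs of homotopy equivalences. -/
abbrev heqm (R A : Type u) [CommRing R] [CommRing A] : MorphismProperty (DRing.Cx R × DRing.Cx A) :=
  (HomologicalComplex.homotopyEquivalences (ModuleCat.{u} R) (ComplexShape.up ℤ)).prod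
    (HomologicalComplex.homotopyEquivalences (ModuleCat.{u} A) (ComplexShape.up ℤ))

instance full_whiskering_qm {H : Type u''} [Category.{v} H] :
    ((Functor.whiskeringLeft _ _ H).obj (qm R A)).Full :=
  Localization.full_whiskeringLeft (qm R A) (heqm R A) H

instance faithful_whiskering_qm {H : Type u''} [Category.{v} H] :
    ((Functor.whiskeringLeft _ _ H).obj (qm R A)).Faithful :=
  Localization.faithful_whiskeringLeft (qm R A) (heqm R A) H

/-- `(K, N) ↦ (ext K) ⊗ N` up to homotopy. -/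
noncomputable def mixK : KA R × KA A ⥤ Dual.D A :=
  ((ModuleCat.extendScalars.{u, u, u} φ).mapHomotopyCategory (ComplexShape.up ℤ)).prod (𝟭 (KA A)) ⋙ tensorK₂ A

/-- Its defining isomorphism. -/
noncomputable def mixKIso : qm R A ⋙ mixK φ ≅ DTen.mix₂ φ :=
  NatIso.ofComponents (fun X => (tensorK₂Iso A).app ((DTen.extCx φ).obj X.1, X.2))
    (fun {X Y} f => (tensorK₂Iso A).hom.naturality
      ((Prod.mkHom ((DTen.extCx φ).map f.1) f.2) : ((DTen.extCx φ).obj X.1, X.2) ⟶ ((DTen.extCx φ).obj Y.1, Y.2)))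

/-- Mixed pairs of K-flat complexes. -/
def kflatm (R A : Type u) [CommRing R] [CommRing A] : ObjectProperty (KA R × KA A) :=
  fun X => kflatR R X.1 ∧ kflatR A X.2

/-- Mixed pairs of quasi-isomorphisms. -/
abbrev qisKm (R A : Type u) [CommRing R] [CommRing A] : MorphismProperty (KA R × KA A) :=
  (HomotopyCategory.quasiIso (ModuleCat.{u} R) (ComplexShape.up ℤ)).prod
    (HomotopyCategory.quasiIso (ModuleCat.{u} A) (ComplexShape.up ℤ))

lemma exists_kflatm (X : KA R × KA A) : ∃ (X' : KA R × KA A) (s : X' ⟶ X), kflatm R A X' ∧ qisKm R A s := by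
  obtain ⟨K', s, hK, hs⟩ := exists_kflatR X.1
  obtain ⟨L', t, hL, ht⟩ := exists_kflatR X.2
  exact ⟨(K', L'), Prod.mkHom s t, ⟨hK, hL⟩, hs, ht⟩

lemma isIso_mixK_of_kflat ⦃X Y : KA R × KA A⦄ (s : X ⟶ Y) (hX : kflatm R A X) (hY : kflatm R A Y)
    (hs : qisKm R A s) : IsIso ((mixK φ).map s) := by
  obtain ⟨⟨K⟩, ⟨L⟩⟩ := X
  obtain ⟨⟨K'⟩, ⟨L'⟩⟩ := Y
  obtain ⟨s₁, s₂⟩ := s
  obtain ⟨f, rfl⟩ := (HomotopyCategory.quotient _ (ComplexShape.up ℤ)).map_surjective s₁
  obtain ⟨g, rfl⟩ := (HomotopyCategory.quotient _ (ComplexShape.up ℤ)).map_surjective s₂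
  haveI : QuasiIso f := (HomotopyCategory.quotient_map_mem_quasiIso_iff f).1 hs.1
  haveI : QuasiIso g := (HomotopyCategory.quotient_map_mem_quasiIso_iff g).1 hs.2
  haveI := quasiIso_extendScalars_of_kflat φ hX.1 hY.1 f
  haveI := quasiIso_whiskerRight hX.2 ((DTen.extCx φ).map f)
  haveI : QuasiIso ((DTen.extCx φ).obj K' ◁ g) := by
    have h := quasiIso_tot_of_kflat hX.2 hY.2 g ((DTen.extCx φ).obj K')
    exact h
  haveI : QuasiIso ((DTen.extCx φ).map f ▷ L ≫ (DTen.extCx φ).obj K' ◁ g) := inferInstance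
  refine (NatIso.isIso_map_iff (mixKIso φ) (Prod.mkHom f g)).2 ?_
  exact isIso_Q_map_of_qis ((DTen.extCx φ).map f ▷ L ≫ (DTen.extCx φ).obj K' ◁ g)

/-- `Qh × Qh`. -/
noncomputable abbrev qhm (R A : Type u) [CommRing R] [CommRing A] : KA R × KA A ⥤ Dual.D R × Dual.D A :=
  DerivedCategory.Qh.prod DerivedCategory.Qh

/-- `qm ⋙ (Qh × Qh) ≅ Q × Q`. -/
noncomputable def qmIso (R A : Type u) [CommRing R] [CommRing A] : qm R A ⋙ qhm R A ≅ DTen.QMix R A :=
  NatIso.ofComponents (fun X => Iso.prod ((DerivedCategory.quotientCompQhIso _).app X.1)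
    ((DerivedCategory.quotientCompQhIso _).app X.2))
    (fun f => Prod.ext ((DerivedCategory.quotientCompQhIso _).hom.naturality f.1)
      ((DerivedCategory.quotientCompQhIso _).hom.naturality f.2))

theorem hasLTenMix : DTen.HasLTenMix φ :=
  haveI : (mixK φ).HasLeftDerivedFunctor (qisKm R A) := hasLeftDerived exists_kflatm (isIso_mixK_of_kflat φ)
  hasLeftDerived_precomp (qm R A) (qmIso R A) (mixKIso φ) _ (W := qisKm R A)

/-- The mixed counit on K-flat pairs. -/
theorem isIso_εMix_of_kflat [DTen.HasLTenMix φ] {K : DRing.Cx R} {N : DRing.Cx A}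
    (hK : IsKFlatFor (modT R) K) (hN : IsKFlatFor (modT A) N) : IsIso ((DTen.εMix φ).app (K, N)) :=
  isIso_counit_precomp (qm R A) (qmIso R A) (mixKIso φ) (DTen.qisMix R A) (W := qisKm R A) exists_kflatm
    (isIso_mixK_of_kflat φ) ⟨hK, hN⟩

theorem isIso_split_app [DTen.HasLTen A] [DTen.HasLBase φ] [DTen.HasLTenMix φ] (E : Dual.D R) (N : Dual.D A) :
    IsIso ((DTen.split φ).app (E, N)) := by
  obtain ⟨K, hK, ⟨e⟩⟩ := exists_kflat_obj E
  obtain ⟨M, hM, ⟨e'⟩⟩ := exists_kflat_obj N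
  refine (NatTrans.isIso_app_iff_of_iso (DTen.split φ) (Iso.prod e e')).1 ?_
  haveI := isIso_εMix_of_kflat φ hK hM
  haveI := isIso_baseCmp φ hK
  haveI := isIso_ε_of_right (K := (DTen.extCx φ).obj K) hM
  haveI : IsIso ((DTen.splitβ φ).app (K, M)) :=
    @IsIso.comp_isIso _ _ _ _ _ _ _ (isIso_LTen_map ((DTen.baseCmp φ).app K) (𝟙 (DerivedCategory.Q.obj M))) ‹IsIso ((DTen.ε A).app _)›
  exact IsIso.of_isIso_fac_right (DTen.split_fac φ (K, M))

end Groth.Agent.DCat
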