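import Groth.Prelude.Def_DTen6
import Groth.Agent.DCat.DTenMix
import Groth.Agent.DCat.ExtKFlat

/-! The mixed triple derived tensor product and its two legs. -/

set_option autoImplicit false
set_option backward.isDefEq.respectTransparency false
set_option backward.defeqAttrib.useBackward true
set_option linter.style.haveILetI false

universe v u u''

open CategoryTheory CategoryTheory.Limits MonoidalCategory HomologicalComplex

attribute [local instance] HasDerivedCategory.standard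

namespace Groth.Agent.DCat

section Mixed

variable {R A : Type u} [CommRing R] [CommRing A] (φ : R →+* A)

lemma mixT_inverts : (heqm R A).IsInvertedBy (DTen.mixT φ ⋙ HomotopyCategory.quotient _ (ComplexShape.up ℤ)) := by
  rintro ⟨K, L⟩ ⟨K', L'⟩ ⟨f, g⟩ ⟨hf, hg⟩
  have hf' : IsIso ((HomotopyCategory.quotient _ (ComplexShape.up ℤ)).map ((DTen.extCx φ).map f)) := by
    haveI := Localization.inverts (HomotopyCategory.quotient _ (ComplexShape.up ℤ)) _ f hf
    exact (NatIso.isIso_map_iff ((ModuleCat.extendScalars.{u, u, u} φ).mapHomotopyCategoryFactors (ComplexShape.up ℤ)) f).1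
      (inferInstanceAs (IsIso (((ModuleCat.extendScalars.{u, u, u} φ).mapHomotopyCategory (ComplexShape.up ℤ)).map
        ((HomotopyCategory.quotient _ (ComplexShape.up ℤ)).map f))))
  haveI := isIso_quotient_whiskerRight ((DTen.extCx φ).map f) hf' L
  haveI := isIso_quotient_whiskerLeft g (Localization.inverts _ _ g hg) ((DTen.extCx φ).obj K')
  change IsIso ((HomotopyCategory.quotient _ (ComplexShape.up ℤ)).map
    ((DTen.extCx φ).map f ▷ L ≫ (DTen.extCx φ).obj K' ◁ g))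
  rw [Functor.map_comp]
  infer_instance

/-- `(K, N) ↦ (ext K) ⊗ N` between homotopy categories. -/
noncomputable def mixKK : KA R × KA A ⥤ KA A :=
  Localization.lift (DTen.mixT φ ⋙ HomotopyCategory.quotient _ (ComplexShape.up ℤ)) (mixT_inverts φ) (qm R A)

/-- Its defining isomorphism. -/
noncomputable def mixKKIso :
    qm R A ⋙ mixKK φ ≅ DTen.mixT φ ⋙ HomotopyCategory.quotient _ (ComplexShape.up ℤ) :=
  Localization.fac _ (mixT_inverts φ) (qm R A)

lemma isKFlatFor_mixT {K : DRing.Cx R} {N : DRing.Cx A} (hK : IsKFlatFor (modT R) K) (hN : IsKFlatFor (modT A) N) :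
    IsKFlatFor (modT A) ((DTen.mixT φ).obj (K, N)) :=
  isKFlatFor_tensor (isKFlatFor_ext φ hK) hN

lemma quasiIso_mixT_map {K K' : DRing.Cx R} {N N' : DRing.Cx A} (f : K ⟶ K') (g : N ⟶ N') [QuasiIso f] [QuasiIso g]
    (hK : IsKFlatFor (modT R) K) (hK' : IsKFlatFor (modT R) K') (hN : IsKFlatFor (modT A) N)
    (hN' : IsKFlatFor (modT A) N') :
    QuasiIso ((DTen.mixT φ).map (Prod.mkHom f g : (K, N) ⟶ (K', N'))) := by
  haveI := quasiIso_extendScalars_of_kflat φ hK hK' f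
  haveI := quasiIso_whiskerRight hN ((DTen.extCx φ).map f)
  haveI : QuasiIso ((DTen.extCx φ).obj K' ◁ g) := quasiIso_tot_of_kflat hN hN' g ((DTen.extCx φ).obj K')
  exact (inferInstance : QuasiIso ((DTen.extCx φ).map f ▷ N ≫ (DTen.extCx φ).obj K' ◁ g))

end Mixed

section Triple

variable {A B C : Type u} [CommRing A] [CommRing B] [CommRing C] (φ : A →+* B) (ψ : B →+* C)

/-- The quotient functor on mixed triples. -/
noncomputable abbrev qmmm (A B C : Type u) [CommRing A] [CommRing B] [CommRing C] :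
    DRing.Cx A × (DRing.Cx B × DRing.Cx C) ⥤ KA A × (KA B × KA C) :=
  (HomotopyCategory.quotient _ (ComplexShape.up ℤ)).prod (qm B C)

/-- Mixed triples of homotopy equivalences. -/
abbrev heqmmm (A B C : Type u) [CommRing A] [CommRing B] [CommRing C] :
    MorphismProperty (DRing.Cx A × (DRing.Cx B × DRing.Cx C)) :=
  (HomologicalComplex.homotopyEquivalences (ModuleCat.{u} A) (ComplexShape.up ℤ)).prod (heqm B C)

instance full_whiskering_qmmm {H : Type u''} [Category.{v} H] :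
    ((Functor.whiskeringLeft _ _ H).obj (qmmm A B C)).Full :=
  Localization.full_whiskeringLeft (qmmm A B C) (heqmmm A B C) H

instance faithful_whiskering_qmmm {H : Type u''} [Category.{v} H] :
    ((Functor.whiskeringLeft _ _ H).obj (qmmm A B C)).Faithful :=
  Localization.faithful_whiskeringLeft (qmmm A B C) (heqmmm A B C) H

/-- The mixed triple tensor product up to homotopy. -/
noncomputable def mixK₃ : KA A × (KA B × KA C) ⥤ Dual.D C :=
  prod.inverseAssociator _ _ _ ⋙ (mixKK φ).prod (𝟭 (KA C)) ⋙ mixK ψ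

/-- The comparison of the inner functors. -/
noncomputable def innerIsoMix :
    qmmm A B C ⋙ prod.inverseAssociator _ _ _ ⋙ (mixKK φ).prod (𝟭 (KA C)) ≅
      (prod.inverseAssociator _ _ _ ⋙ (DTen.mixT φ).prod (𝟭 (DRing.Cx C))) ⋙ qm B C :=
  NatIso.ofComponents (fun X => Iso.prod ((mixKKIso φ).app (X.1, X.2.1)) (Iso.refl _))
    (fun {X Y} f => Prod.ext ((mixKKIso φ).hom.naturality (Prod.mkHom f.1 f.2.1 : (X.1, X.2.1) ⟶ (Y.1, Y.2.1)))
      ((Category.comp_id _).trans (Category.id_comp _).symm))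

/-- Its defining isomorphism. -/
noncomputable def mixK₃Iso : qmmm A B C ⋙ mixK₃ φ ψ ≅ DTen.mix₃ φ ψ :=
  Functor.isoWhiskerRight (innerIsoMix (A := A) (B := B) (C := C) φ) (mixK ψ) ≪≫ Functor.associator _ _ _ ≪≫
    Functor.isoWhiskerLeft _ (mixKIso ψ)

/-- Mixed triples of K-flat complexes. -/
def kflatmmm (A B C : Type u) [CommRing A] [CommRing B] [CommRing C] : ObjectProperty (KA A × (KA B × KA C)) :=
  fun X => kflatR A X.1 ∧ kflatm B C X.2

/-- Mixed triples of quasi-isomorphisms. -/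
abbrev qisKmmm (A B C : Type u) [CommRing A] [CommRing B] [CommRing C] :
    MorphismProperty (KA A × (KA B × KA C)) :=
  (HomotopyCategory.quasiIso (ModuleCat.{u} A) (ComplexShape.up ℤ)).prod (qisKm B C)

lemma exists_kflatmmm (X : KA A × (KA B × KA C)) :
    ∃ (X' : KA A × (KA B × KA C)) (s : X' ⟶ X), kflatmmm A B C X' ∧ qisKmmm A B C s := by
  obtain ⟨K', s, hK, hs⟩ := exists_kflatR X.1
  obtain ⟨P, t, hP, ht⟩ := exists_kflatm X.2
  exact ⟨(K', P), Prod.mkHom s t, ⟨hK, hP⟩, hs, ht⟩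

lemma isIso_mixK₃_of_kflat ⦃X Y : KA A × (KA B × KA C)⦄ (s : X ⟶ Y) (hX : kflatmmm A B C X) (hY : kflatmmm A B C Y)
    (hs : qisKmmm A B C s) : IsIso ((mixK₃ φ ψ).map s) := by
  obtain ⟨⟨K⟩, ⟨⟨L⟩, ⟨M⟩⟩⟩ := X
  obtain ⟨⟨K'⟩, ⟨⟨L'⟩, ⟨M'⟩⟩⟩ := Y
  obtain ⟨s₁, s₂, s₃⟩ := s
  obtain ⟨f, rfl⟩ := (HomotopyCategory.quotient _ (ComplexShape.up ℤ)).map_surjective s₁
  obtain ⟨g, rfl⟩ := (HomotopyCategory.quotient _ (ComplexShape.up ℤ)).map_surjective s₂
  obtain ⟨h, rfl⟩ := (HomotopyCategory.quotient _ (ComplexShape.up ℤ)).map_surjective s₃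
  haveI : QuasiIso f := (HomotopyCategory.quotient_map_mem_quasiIso_iff f).1 hs.1
  haveI : QuasiIso g := (HomotopyCategory.quotient_map_mem_quasiIso_iff g).1 hs.2.1
  haveI : QuasiIso h := (HomotopyCategory.quotient_map_mem_quasiIso_iff h).1 hs.2.2
  haveI hq : QuasiIso ((DTen.mixT φ).map (Prod.mkHom f g : (K, L) ⟶ (K', L'))) :=
    quasiIso_mixT_map φ f g hX.1 hY.1 hX.2.1 hY.2.1
  refine (NatIso.isIso_map_iff (mixK₃Iso φ ψ) (Prod.mkHom f (Prod.mkHom g h))).2 ?_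
  refine (NatIso.isIso_map_iff (mixKIso ψ)
    ((Prod.mkHom ((DTen.mixT φ).map (Prod.mkHom f g : (K, L) ⟶ (K', L'))) h) :
      ((DTen.mixT φ).obj (K, L), M) ⟶ ((DTen.mixT φ).obj (K', L'), M'))).1 ?_
  exact isIso_mixK_of_kflat ψ ((qm B C).map ((Prod.mkHom ((DTen.mixT φ).map (Prod.mkHom f g : (K, L) ⟶ (K', L'))) h) :
      ((DTen.mixT φ).obj (K, L), M) ⟶ ((DTen.mixT φ).obj (K', L'), M')))
    ⟨isKFlatFor_mixT φ hX.1 hX.2.1, hX.2.2⟩ ⟨isKFlatFor_mixT φ hY.1 hY.2.1, hY.2.2⟩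
    ⟨(HomotopyCategory.quotient_map_mem_quasiIso_iff _).2 hq,
      (HomotopyCategory.quotient_map_mem_quasiIso_iff h).2 ‹QuasiIso h›⟩

/-- `Qh × (Qh × Qh)`. -/
noncomputable abbrev qhmmm (A B C : Type u) [CommRing A] [CommRing B] [CommRing C] :
    KA A × (KA B × KA C) ⥤ Dual.D A × (Dual.D B × Dual.D C) :=
  DerivedCategory.Qh.prod (qhm B C)

/-- `qmmm ⋙ (Qh × (Qh × Qh)) ≅ Q × (Q × Q)`. -/
noncomputable def qmmmIso : qmmm A B C ⋙ qhmmm A B C ≅ DTen.QMix₃ A B C :=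
  NatIso.ofComponents (fun X => Iso.prod ((DerivedCategory.quotientCompQhIso _).app X.1) ((qmIso B C).app X.2))
    (fun f => Prod.ext ((DerivedCategory.quotientCompQhIso _).hom.naturality f.1) ((qmIso B C).hom.naturality f.2))

/-- The mixed triple counit on K-flat complexes. -/
theorem isIso_εMix₃_of_kflat [DTen.HasLTenMix₃ φ ψ] {K : DRing.Cx A} {L : DRing.Cx B} {M : DRing.Cx C}
    (hK : IsKFlatFor (modT A) K) (hL : IsKFlatFor (modT B) L) (hM : IsKFlatFor (modT C) M) :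
    IsIso ((DTen.εMix₃ φ ψ).app (K, L, M)) :=
  isIso_counit_precomp (qmmm A B C) qmmmIso (mixK₃Iso φ ψ) (DTen.qisMix₃ A B C) (W := qisKmmm A B C) exists_kflatmmm
    (isIso_mixK₃_of_kflat φ ψ) ⟨hK, hL, hM⟩

lemma isIso_LTenMix_map [DTen.HasLTenMix φ] {a a' : Dual.D A} {b b' : Dual.D B} (f : a ⟶ a') (g : b ⟶ b') [IsIso f]
    [IsIso g] : IsIso ((DTen.LTenMix φ).map (Prod.mkHom f g)) :=
  haveI : IsIso (Prod.mkHom f g) := (isIso_prod_iff (Dual.D A) (Dual.D B)).2 ⟨‹_›, ‹_›⟩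
  inferInstance

variable [DTen.HasLTenMix φ] [DTen.HasLTenMix ψ] [DTen.HasLTenMix (ψ.comp φ)] [DTen.HasLTenMix₃ φ ψ]

/-- Both legs to the mixed triple derived tensor product are invertible. -/
theorem isIso_mix₃_legs (a : Dual.D A) (b : Dual.D B) (c : Dual.D C) :
    IsIso ((DTen.leg₃L φ ψ).app (a, (b, c))) ∧ IsIso ((DTen.leg₃R φ ψ).app (a, (b, c))) := by
  obtain ⟨K, hK, ⟨e⟩⟩ := exists_kflat_obj a
  obtain ⟨L, hL, ⟨e'⟩⟩ := exists_kflat_obj b
  obtain ⟨M, hM, ⟨e''⟩⟩ := exists_kflat_obj c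
  haveI := isIso_εMix₃_of_kflat φ ψ hK hL hM
  haveI := isIso_εMix_of_kflat φ hK hL
  haveI := isIso_εMix_of_kflat ψ hL hM
  haveI := isIso_εMix_of_kflat ψ (isKFlatFor_mixT φ hK hL) hM
  haveI := isIso_εMix_of_kflat (ψ.comp φ) hK (isKFlatFor_mixT ψ hL hM)
  constructor
  · refine (NatTrans.isIso_app_iff_of_iso (DTen.leg₃L φ ψ) (Iso.prod e (Iso.prod e' e''))).1 ?_
    haveI : IsIso ((DTen.β₃L φ ψ).app (K, L, M)) :=
      @IsIso.comp_isIso _ _ _ _ _ _ _ (isIso_LTenMix_map ψ ((DTen.εMix φ).app (K, L)) (𝟙 (DerivedCategory.Q.obj M)))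
        ‹IsIso ((DTen.εMix ψ).app ((DTen.mixT φ).obj (K, L), M))›
    exact IsIso.of_isIso_fac_right (DTen.leg₃L_fac φ ψ (K, L, M))
  · refine (NatTrans.isIso_app_iff_of_iso (DTen.leg₃R φ ψ) (Iso.prod e (Iso.prod e' e''))).1 ?_
    haveI : IsIso ((DTen.β₃R φ ψ).app (K, L, M)) :=
      @IsIso.comp_isIso _ _ _ _ _ _ _
        (isIso_LTenMix_map (ψ.comp φ) (𝟙 (DerivedCategory.Q.obj K)) ((DTen.εMix ψ).app (L, M)))
        (@IsIso.comp_isIso _ _ _ _ _ _ _ ‹IsIso ((DTen.εMix (ψ.comp φ)).app _)› inferInstance)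
    exact IsIso.of_isIso_fac_right (DTen.leg₃R_fac φ ψ (K, L, M))

end Triple

end Groth.Agent.DCat
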