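import Mathlib.CategoryTheory.Triangulated.Subcategory
import Mathlib.CategoryTheory.Linear.Basic
import Mathlib.CategoryTheory.Shift.Linear
import Mathlib.LinearAlgebra.FiniteDimensional.Lemmas
import Mathlib.RingTheory.Finiteness.Basic
import Mathlib.RingTheory.Noetherian.Basic
import Mathlib.RingTheory.PrincipalIdealDomain

/-! Devissage along a generating exceptional collection. -/

set_option autoImplicit false
set_option backward.isDefEq.respectTransparency false
set_option linter.style.haveILetI false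
set_option linter.unusedSectionVars false

universe w v u

open CategoryTheory CategoryTheory.Limits CategoryTheory.Pretriangulated

namespace Groth.Agent.DCat.ExcDevissage17

variable (k : Type w) [Field k] {D : Type u} [Category.{v} D] [Preadditive D] [Linear k D] [HasZeroObject D]
  [HasShift D ℤ] [∀ n : ℤ, (shiftFunctor D n).Additive] [∀ n : ℤ, (shiftFunctor D n).Linear k] [Pretriangulated D]

/-- Finitely many nonzero finite-dimensional spaces of maps from the shifts. -/
def FinFrom (E K : D) : Prop :=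
  (∀ t : ℤ, Module.Finite k (E⟦t⟧ ⟶ K)) ∧ Set.Finite {t : ℤ | Nontrivial (E⟦t⟧ ⟶ K)}

variable {k}

theorem subsingleton_hom {X Y : D} (h : ∀ φ : X ⟶ Y, φ = 0) : Subsingleton (X ⟶ Y) :=
  ⟨fun a b => (h a).trans (h b).symm⟩

theorem exists_ne_zero_of_nontrivial {X Y : D} (h : Nontrivial (X ⟶ Y)) : ∃ φ : X ⟶ Y, φ ≠ 0 :=
  @exists_ne _ h 0

theorem finite_middle {X : D} {T : Triangle D} (hT : T ∈ distTriang D) (h₁ : Module.Finite k (X ⟶ T.obj₁))
    (h₃ : Module.Finite k (X ⟶ T.obj₃)) : Module.Finite k (X ⟶ T.obj₂) := by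
  haveI := h₁
  haveI := h₃
  let p := Linear.rightComp k X T.mor₁
  let q := Linear.rightComp k X T.mor₂
  have hex : ∀ f, q f = 0 → f ∈ LinearMap.range p := fun f hf => by
    obtain ⟨g, hg⟩ := Triangle.coyoneda_exact₂ T hT f hf
    exact ⟨g, hg.symm⟩
  haveI : Module.Finite k (LinearMap.range p) := Module.Finite.range p
  haveI : Module.Finite k (LinearMap.range q) :=
    Module.Finite.of_injective (LinearMap.range q).subtype Subtype.val_injective
  haveI : Module.Finite k ((X ⟶ T.obj₂) ⧸ LinearMap.ker q) := Module.Finite.equiv q.quotKerEquivRange.symm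
  haveI : Module.Finite k (LinearMap.ker q) := Module.Finite.of_injective
    (Submodule.inclusion fun f hf => hex f hf : LinearMap.ker q →ₗ[k] LinearMap.range p)
    (Submodule.inclusion_injective _)
  exact Module.Finite.of_submodule_quotient (LinearMap.ker q)

theorem finFrom_middle {E : D} {T : Triangle D} (hT : T ∈ distTriang D) (h₁ : FinFrom k E T.obj₁)
    (h₃ : FinFrom k E T.obj₃) : FinFrom k E T.obj₂ := by
  refine ⟨fun t => finite_middle hT (h₁.1 t) (h₃.1 t), (h₁.2.union h₃.2).subset fun t ht => ?_⟩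
  obtain ⟨φ, hφ⟩ := exists_ne_zero_of_nontrivial ht
  by_contra hc
  simp only [Set.mem_union, Set.mem_setOf_eq, not_or, not_nontrivial_iff_subsingleton] at hc
  obtain ⟨g, hg⟩ := Triangle.coyoneda_exact₂ T hT φ (@Subsingleton.elim _ hc.2 _ _)
  exact hφ (by rw [hg, @Subsingleton.elim _ hc.1 g 0, zero_comp])

theorem finFrom_of_iso {E K K' : D} (h : FinFrom k E K) (e : K ≅ K') : FinFrom k E K' :=
  ⟨fun t => by haveI := h.1 t; exact Module.Finite.equiv (Linear.homCongr k (Iso.refl _) e),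
    h.2.subset fun t ht => (Linear.homCongr k (Iso.refl (E⟦t⟧)) e).toEquiv.nontrivial_congr.2 ht⟩

/-- The devissage. -/
theorem prop_of_finFrom {N : ℕ} (E : Fin N → D)
    (h0 : ∀ a b, a < b → ∀ (t s : ℤ) (φ : (E a)⟦t⟧ ⟶ (E b)⟦s⟧), φ = 0)
    (h1 : ∀ a (t s : ℤ), t ≠ s → ∀ φ : (E a)⟦t⟧ ⟶ (E a)⟦s⟧, φ = 0)
    (h2 : ∀ a (t : ℤ) (φ : (E a)⟦t⟧ ⟶ (E a)⟦t⟧), ∃ c : k, φ = c • 𝟙 _)
    (h3 : ∀ a b (s : ℤ), FinFrom k (E a) ((E b)⟦s⟧))
    (P Q : ObjectProperty D)
    (hP : ∀ T ∈ distTriang D, P T.obj₁ → P T.obj₂ → P T.obj₃) (hPE : ∀ a (t : ℤ), P ((E a)⟦t⟧))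
    (hQ : ∀ T ∈ distTriang D, Q T.obj₁ → Q T.obj₃ → Q T.obj₂) (hQE : ∀ a (t : ℤ), Q ((E a)⟦t⟧))
    (hgen : ∀ L, P L → (∀ a (t : ℤ) (φ : (E a)⟦t⟧ ⟶ L), φ = 0) → Q L)
    (K : D) (hK : P K) (hfin : ∀ a, FinFrom k (E a) K) : Q K := by
  classical
  suffices H : ∀ (r j : ℕ), j + r = N → ∀ K : D, P K → (∀ a, FinFrom k (E a) K) →
      (∀ a : Fin N, (a : ℕ) < j → ∀ (t : ℤ) (φ : (E a)⟦t⟧ ⟶ K), φ = 0) → Q K from
    H N 0 (Nat.zero_add N) K hK hfin fun a ha => absurd ha (Nat.not_lt_zero _)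
  intro r
  induction r with
  | zero => exact fun j hj K hK _ hv => hgen K hK fun a => hv a (by omega)
  | succ r ih =>
    intro j hj
    let J : Fin N := ⟨j, by omega⟩
    suffices H : ∀ (m : ℕ) (K : D), P K → (∀ a, FinFrom k (E a) K) →
        (∀ a : Fin N, (a : ℕ) < j → ∀ (t : ℤ) (φ : (E a)⟦t⟧ ⟶ K), φ = 0) →
        ∀ S : Finset ℤ, (∀ t ∉ S, ∀ φ : (E J)⟦t⟧ ⟶ K, φ = 0) →
        (∑ t ∈ S, Module.finrank k ((E J)⟦t⟧ ⟶ K)) ≤ m → Q K by
      intro K hK hf hv
      refine H _ K hK hf hv (hf J).2.toFinset (fun t ht φ => ?_) le_rfl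
      simp only [Set.Finite.mem_toFinset, Set.mem_setOf_eq, not_nontrivial_iff_subsingleton] at ht
      exact @Subsingleton.elim _ ht _ _
    intro m
    induction m with
    | zero =>
      intro K hK hf hv S hS hm
      refine ih (j + 1) (by omega) K hK hf fun a ha t φ => ?_
      rcases Nat.lt_or_ge (a : ℕ) j with h | h
      · exact hv a h t φ
      · obtain rfl : a = J := Fin.ext (show (a : ℕ) = j by omega)
        by_cases ht : t ∈ S
        · haveI := (hf J).1 t
          haveI : Subsingleton ((E J)⟦t⟧ ⟶ K) := Module.finrank_zero_iff.1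
            (Finset.sum_eq_zero_iff.1 (Nat.le_zero.1 hm) t ht)
          exact Subsingleton.elim _ _
        · exact hS t ht φ
    | succ m ihm =>
      intro K hK hf hv S hS hm
      by_cases hz : ∀ (t : ℤ) (φ : (E J)⟦t⟧ ⟶ K), φ = 0
      · refine ihm K hK hf hv ∅ (fun t _ => hz t) (by simp)
      push Not at hz
      obtain ⟨s, v, hvne⟩ := hz
      have hsS : s ∈ S := by
        by_contra hs
        exact hvne (hS s hs v)
      obtain ⟨K', g, δ, hT⟩ := distinguished_cocone_triangle v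
      have hK' : P K' := hP _ hT (hPE J s) hK
      refine hQ _ hT (hQE J s) ?_
      let e1 : ((E J)⟦s⟧)⟦(1 : ℤ)⟧ ≅ (E J)⟦s + 1⟧ := ((shiftFunctorAdd D s 1).app (E J)).symm
      have hT' := rot_of_distTriang _ hT
      have hf' : ∀ a, FinFrom k (E a) K' := fun a =>
        finFrom_middle hT' (hf a) (finFrom_of_iso (h3 a J (s + 1)) e1.symm)
      have hsurj : ∀ (a : Fin N), (a : ℕ) ≤ j → ∀ (t : ℤ) (ψ : (E a)⟦t⟧ ⟶ K'),
          ∃ φ : (E a)⟦t⟧ ⟶ K, φ ≫ g = ψ := by
        intro a ha t ψ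
        have hx : ψ ≫ δ = 0 := by
          rw [← cancel_mono e1.hom, zero_comp]
          rcases lt_or_eq_of_le ha with h | h
          · exact h0 a J h t _ _
          · obtain rfl : a = J := Fin.ext h
            by_cases ht : t = s + 1
            · subst ht
              obtain ⟨c, hc⟩ := h2 J (s + 1) ((ψ ≫ δ) ≫ e1.hom)
              rw [hc]
              have hc' : ψ ≫ δ = c • e1.inv := by
                rw [← cancel_mono e1.hom, hc, Linear.smul_comp, Iso.inv_hom_id]
              have h0' : (ψ ≫ δ) ≫ v⟦(1 : ℤ)⟧' = 0 := by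
                have := comp_distTriang_mor_zero₃₁ _ hT
                rw [Category.assoc]
                exact (congrArg (ψ ≫ ·) this).trans comp_zero
              rw [hc', Linear.smul_comp] at h0'
              have hne : e1.inv ≫ v⟦(1 : ℤ)⟧' ≠ 0 := fun h => hvne ((shiftFunctor D (1 : ℤ)).map_injective (by
                rw [Functor.map_zero, ← cancel_epi e1.inv, h, comp_zero]))
              rcases smul_eq_zero.1 h0' with h | h
              · rw [h, zero_smul]
              · exact absurd h hne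
            · exact h1 J t _ ht _
        obtain ⟨φ, hφ⟩ := Triangle.coyoneda_exact₂ _ hT' ψ hx
        exact ⟨φ, hφ.symm⟩
      have hv' : ∀ a : Fin N, (a : ℕ) < j → ∀ (t : ℤ) (ψ : (E a)⟦t⟧ ⟶ K'), ψ = 0 := fun a ha t ψ => by
        obtain ⟨φ, rfl⟩ := hsurj a ha.le t ψ
        rw [hv a ha t φ, zero_comp]
      refine ihm K' hK' hf' hv' S (fun t ht ψ => ?_) ?_
      · obtain ⟨φ, rfl⟩ := hsurj J le_rfl t ψ
        rw [hS t ht φ, zero_comp]
      let G := fun t : ℤ => Linear.rightComp k ((E J)⟦t⟧) g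
      have hG : ∀ t, Module.finrank k ((E J)⟦t⟧ ⟶ K') + Module.finrank k (LinearMap.ker (G t)) =
          Module.finrank k ((E J)⟦t⟧ ⟶ K) := fun t => by
        haveI := (hf J).1 t
        haveI := (hf' J).1 t
        rw [← LinearMap.finrank_range_add_finrank_ker (G t), LinearMap.range_eq_top.2 fun y => hsurj J le_rfl t y,
          finrank_top]
      have hs : 0 < Module.finrank k (LinearMap.ker (G s)) := by
        haveI := (hf J).1 s
        refine Module.finrank_pos_iff_exists_ne_zero.2 ⟨⟨v, comp_distTriang_mor_zero₁₂ _ hT⟩, fun h => ?_⟩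
        exact hvne (congrArg Subtype.val h)
      have := Finset.sum_lt_sum (s := S) (f := fun t => Module.finrank k ((E J)⟦t⟧ ⟶ K'))
        (g := fun t => Module.finrank k ((E J)⟦t⟧ ⟶ K)) (fun t _ => by have := hG t; omega)
        ⟨s, hsS, by have := hG s; omega⟩
      omega

end Groth.Agent.DCat.ExcDevissage17
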