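import Mathlib.Algebra.Homology.HomotopyCategory.MappingCocone
import Mathlib.Algebra.Homology.HomotopyCategory.Pretriangulated
import Mathlib.Algebra.Homology.HomotopyCategory.DegreewiseSplit
import Mathlib.Algebra.Homology.HomotopyCategory.KInjective
import Mathlib.Algebra.Homology.HomologicalComplexAbelian
import Mathlib.CategoryTheory.Preadditive.Injective.Basic

/-! Contractible path objects of complexes, and termwise split short exact sequences of K-injectives. -/

set_option autoImplicit false
set_option backward.isDefEq.respectTransparency false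

universe v u

open CategoryTheory CategoryTheory.Limits CochainComplex CochainComplex.HomComplex

namespace Groth.Agent.DCat

variable {A : Type u} [Category.{v} A] [Abelian A]

/-- The path object: a contractible complex mapping onto `M` by a termwise split epimorphism. -/
noncomputable def pathObj (M : CochainComplex A ℤ) : CochainComplex A ℤ := mappingCocone (𝟙 M)

noncomputable def pathε (M : CochainComplex A ℤ) : pathObj M ⟶ M := mappingCocone.fst (𝟙 M)

theorem isZero_quotient_pathObj (M : CochainComplex A ℤ) :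
    IsZero ((HomotopyCategory.quotient A (ComplexShape.up ℤ)).obj (pathObj M)) := by
  have h := (HomotopyCategory.isZero_quotient_obj_iff _).2
    (⟨mappingCone.homotopyToZeroOfId M⟩ : Nonempty (Homotopy (𝟙 (mappingCone (𝟙 M))) 0))
  exact (Functor.map_isZero (CategoryTheory.shiftFunctor (HomotopyCategory A (ComplexShape.up ℤ)) (-1 : ℤ)) h).of_iso
    (((HomotopyCategory.quotient A (ComplexShape.up ℤ)).commShiftIso (-1 : ℤ)).app _)

theorem nonempty_homotopy_pathObj (M : CochainComplex A ℤ) {N : CochainComplex A ℤ} (f : pathObj M ⟶ N) :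
    Nonempty (Homotopy f 0) :=
  ⟨HomotopyCategory.homotopyOfEq _ _ ((isZero_quotient_pathObj M).eq_of_src _ _)⟩

theorem isKInjective_pathObj (M : CochainComplex A ℤ) : (pathObj M).IsKInjective :=
  ⟨fun _ _ => ⟨HomotopyCategory.homotopyOfEq _ _ ((isZero_quotient_pathObj M).eq_of_tgt _ _)⟩⟩

theorem pathε_section (M : CochainComplex A ℤ) (n : ℤ) :
    ∃ s : M.X n ⟶ (pathObj M).X n, s ≫ (pathε M).f n = 𝟙 _ :=
  ⟨(mappingCocone.inl (𝟙 M)).v n n (add_zero n), mappingCocone.inl_v_fst_f _ n⟩

theorem injective_pathObj (M : CochainComplex A ℤ) (h : ∀ n, Injective (M.X n)) (n : ℤ) :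
    Injective ((pathObj M).X n) := by
  have r : Retract ((pathObj M).X n) (M.X n ⊞ M.X (n + -1)) :=
    { i := biprod.lift ((pathε M).f n) ((mappingCocone.snd (𝟙 M)).v n (n + -1) rfl)
      r := biprod.desc ((mappingCocone.inl (𝟙 M)).v n n (add_zero n))
        ((mappingCocone.inr (𝟙 M)).1.v (n + -1) n (by omega))
      retract := by
        rw [biprod.lift_desc]
        exact mappingCocone.id_X (𝟙 M) n (n + -1) rfl }
  have := h n
  have := h (n + -1)
  exact r.injective

/-- Null-homotopic maps lift along the path fibration. -/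
theorem exists_lift_pathε {M X : CochainComplex A ℤ} (f : X ⟶ M) (h : Nonempty (Homotopy f 0)) :
    ∃ g : X ⟶ pathObj M, g ≫ pathε M = f := by
  obtain ⟨h⟩ := h
  refine ⟨mappingCocone.lift (𝟙 M) f (-(Cochain.ofHomotopy h)) ?_, mappingCocone.lift_fst _ _ _ _⟩
  rw [δ_neg, δ_ofHomotopy, Category.comp_id, Cochain.ofHom_zero, sub_zero, neg_add_cancel]

section Split

variable (S : ShortComplex (CochainComplex A ℤ)) (σ : ∀ n, (S.map (HomologicalComplex.eval A _ n)).Splitting)

include σ in
theorem isKInjective_X₁_of_split [S.X₂.IsKInjective] [S.X₃.IsKInjective] : S.X₁.IsKInjective := by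
  rw [isKInjective_iff_rightOrthogonal]
  have hT := (HomotopyCategory.distinguished_iff_iso_trianglehOfDegreewiseSplit (CochainComplex.trianglehOfDegreewiseSplit S σ)).2 ⟨S, σ, ⟨Iso.refl _⟩⟩
  exact ObjectProperty.ext_of_isTriangulatedClosed₁ _ _ hT (IsKInjective.rightOrthogonal S.X₂) (IsKInjective.rightOrthogonal S.X₃)

include σ in
theorem isKInjective_X₃_of_split [S.X₁.IsKInjective] [S.X₂.IsKInjective] : S.X₃.IsKInjective := by
  rw [isKInjective_iff_rightOrthogonal]
  have hT := (HomotopyCategory.distinguished_iff_iso_trianglehOfDegreewiseSplit (CochainComplex.trianglehOfDegreewiseSplit S σ)).2 ⟨S, σ, ⟨Iso.refl _⟩⟩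
  exact ObjectProperty.ext_of_isTriangulatedClosed₃ _ _ hT (IsKInjective.rightOrthogonal S.X₁) (IsKInjective.rightOrthogonal S.X₂)

end Split

end Groth.Agent.DCat
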