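import Mathlib.CategoryTheory.Preadditive.AdditiveFunctor
import Mathlib.CategoryTheory.Limits.Shapes.BinaryBiproducts
import Mathlib.CategoryTheory.Limits.Preserves.Shapes.Products
import Mathlib.CategoryTheory.Preadditive.Biproducts

/-!
The telescope construction turning a ℤ-indexed tower under an object into a tower of split
epimorphisms under a bigger object, using a functorial family of "path objects".
-/

set_option autoImplicit false
set_option backward.isDefEq.respectTransparency false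

universe v u v' u'

open CategoryTheory CategoryTheory.Limits

namespace Groth.Agent.DCat.Tower

variable {C : Type u} [Category.{v} C] [Preadditive C] [HasBinaryBiproducts C]

/-- Data: a tower under an object, commutative up to the maps `δ`, with path objects. -/
structure Data (C : Type u) [Category.{v} C] [Preadditive C] where
  M : ℤ → C
  φ : ∀ q, M (q + 1) ⟶ M q
  top : C
  ψ : ∀ q, top ⟶ M q
  P : ℤ → C
  ε : ∀ q, P q ⟶ M q
  Pφ : ∀ q, P (q + 1) ⟶ P q
  hε : ∀ q, Pφ q ≫ ε q = ε (q + 1) ≫ φ q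
  δ : ∀ q, top ⟶ P q
  hδ : ∀ q, δ q ≫ ε q = ψ q - ψ (q + 1) ≫ φ q

variable (D : Data C) [HasProduct D.P] [∀ p : ℤ, HasProduct fun q : {q : ℤ // q < p} => D.P q]

noncomputable def Data.big : C := D.top ⊞ ∏ᶜ D.P

noncomputable def Data.obj (p : ℤ) : C := D.M p ⊞ ∏ᶜ fun q : {q : ℤ // q < p} => D.P q

noncomputable def Data.π (p : ℤ) : D.big ⟶ D.obj p :=
  biprod.lift (biprod.fst ≫ D.ψ p + biprod.snd ≫ Pi.π D.P p ≫ D.ε p)
    (Pi.lift fun q => biprod.snd ≫ (Pi.π D.P q.1 - Pi.π D.P (q.1 + 1) ≫ D.Pφ q.1) + biprod.fst ≫ D.δ q.1)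

noncomputable def Data.τ (p : ℤ) : D.obj (p + 1) ⟶ D.obj p :=
  biprod.lift (biprod.fst ≫ D.φ p +
      biprod.snd ≫ Pi.π (fun q : {q : ℤ // q < p + 1} => D.P q) ⟨p, by omega⟩ ≫ D.ε p)
    (Pi.lift fun q => biprod.snd ≫ Pi.π (fun q : {q : ℤ // q < p + 1} => D.P q) ⟨q.1, by have := q.2; omega⟩)

@[reassoc]
lemma Data.π_fst (p : ℤ) :
    D.π p ≫ (biprod.fst : D.obj p ⟶ D.M p) = biprod.fst ≫ D.ψ p + biprod.snd ≫ Pi.π D.P p ≫ D.ε p := by
  simp [Data.π, Data.obj]

@[reassoc]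
lemma Data.π_snd (p : ℤ) (q : {q : ℤ // q < p}) :
    D.π p ≫ (biprod.snd : D.obj p ⟶ _) ≫ Pi.π (fun q : {q : ℤ // q < p} => D.P q) q =
      biprod.snd ≫ (Pi.π D.P q.1 - Pi.π D.P (q.1 + 1) ≫ D.Pφ q.1) + biprod.fst ≫ D.δ q.1 := by
  simp [Data.π, Data.obj]

theorem Data.π_τ (p : ℤ) : D.π (p + 1) ≫ D.τ p = D.π p := by
  apply biprod.hom_ext
  · simp only [Data.τ, Category.assoc, biprod.lift_fst, Preadditive.comp_add]
    rw [D.π_fst_assoc, D.π_snd_assoc (p + 1) ⟨p, by omega⟩, D.π_fst]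
    simp only [Preadditive.add_comp, Preadditive.sub_comp, Preadditive.comp_sub, Category.assoc, D.hε, D.hδ]
    abel
  · apply Pi.hom_ext
    intro q
    simp only [Data.τ, Category.assoc, biprod.lift_snd, Pi.lift_π]
    rw [D.π_snd (p + 1) ⟨q.1, by have := q.2; omega⟩, D.π_snd]

/-- A section of `π p` after an additive functor, from sections of the `ε`. -/
theorem Data.exists_section {E : Type u'} [Category.{v'} E] [Preadditive E] (G : C ⥤ E) [G.Additive]
    [PreservesLimit (Discrete.functor D.P) G] (p : ℤ)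
    [PreservesLimit (Discrete.functor fun q : {q : ℤ // q < p} => D.P q) G]
    (s : G.obj (D.M p) ⟶ G.obj (D.P p)) (hs : s ≫ G.map (D.ε p) = 𝟙 _) :
    ∃ σ : G.obj (D.obj p) ⟶ G.obj D.big, σ ≫ G.map (D.π p) = 𝟙 _ := by
  classical
  let y : ∀ q, q < p → (G.obj (D.obj p) ⟶ G.obj (D.P q)) := fun q hq =>
    G.map (biprod.snd ≫ Pi.π (fun q : {q : ℤ // q < p} => D.P q) ⟨q, hq⟩)
  let a : G.obj (D.obj p) ⟶ G.obj (D.P p) := G.map biprod.fst ≫ s
  let h : ℕ → ∀ q, G.obj (D.obj p) ⟶ G.obj (D.P q) := fun k => Nat.rec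
    (fun q => if hq : q = p then a ≫ eqToHom (by rw [hq]) else 0)
    (fun _ r q => if hq : q < p then y q hq + r (q + 1) ≫ G.map (D.Pφ q) else 0) k
  let hh : ∀ q, G.obj (D.obj p) ⟶ G.obj (D.P q) := fun q => h (p - q).toNat q
  have hp : hh p = a := by
    simp only [hh, h, sub_self, Int.toNat_zero, Nat.rec_zero, dite_true, eqToHom_refl, Category.comp_id]
  have hlt : ∀ q (hq : q < p), hh q = y q hq + hh (q + 1) ≫ G.map (D.Pφ q) := by
    intro q hq
    simp only [hh]
    rw [show (p - q).toNat = (p - (q + 1)).toNat + 1 by omega]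
    simp only [h, dif_pos hq]
  let hlim := isLimitOfHasProductOfPreservesLimit G D.P
  let l : G.obj (D.obj p) ⟶ G.obj (∏ᶜ D.P) := Fan.IsLimit.lift hlim hh
  have hl : ∀ q, l ≫ G.map (Pi.π D.P q) = hh q := fun q => Fan.IsLimit.fac hlim hh q
  refine ⟨l ≫ G.map biprod.inr, ?_⟩
  have ext : ∀ (f g : G.obj (D.obj p) ⟶ G.obj (D.obj p)),
      f ≫ G.map biprod.fst = g ≫ G.map biprod.fst → f ≫ G.map biprod.snd = g ≫ G.map biprod.snd → f = g := by
    intro f g h₁ h₂
    have e : 𝟙 (G.obj (D.obj p)) = G.map biprod.fst ≫ G.map biprod.inl + G.map biprod.snd ≫ G.map biprod.inr := by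
      rw [← G.map_comp, ← G.map_comp, ← G.map_add, ← G.map_id]
      exact congrArg G.map (biprod.total).symm
    rw [← Category.comp_id f, ← Category.comp_id g, e, Preadditive.comp_add, Preadditive.comp_add,
      reassoc_of% h₁, reassoc_of% h₂]
  refine ext _ _ ?_ ?_
  · rw [Category.id_comp, Category.assoc, Category.assoc, ← G.map_comp, ← G.map_comp]
    rw [show biprod.inr ≫ D.π p ≫ (biprod.fst : D.obj p ⟶ D.M p) = Pi.π D.P p ≫ D.ε p by
      simp [D.π_fst, Data.big]]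
    rw [G.map_comp, reassoc_of% hl p, hp, Category.assoc, hs, Category.comp_id]
  · apply Fan.IsLimit.hom_ext (isLimitOfHasProductOfPreservesLimit G fun q : {q : ℤ // q < p} => D.P q)
    intro q
    dsimp [Fan.proj]
    rw [Category.id_comp]
    simp only [Category.assoc, ← G.map_comp]
    rw [show biprod.inr ≫ D.π p ≫ (biprod.snd : D.obj p ⟶ _) ≫ Pi.π (fun q : {q : ℤ // q < p} => D.P q) q =
        Pi.π D.P q.1 - Pi.π D.P (q.1 + 1) ≫ D.Pφ q.1 by simp [D.π_snd, Data.big]]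
    rw [G.map_sub, G.map_comp, Preadditive.comp_sub, reassoc_of% hl, hl, hlt q.1 q.2, add_sub_cancel_right]

end Groth.Agent.DCat.Tower
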