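import Groth.Prelude.Def_SpSeq
import Groth.Agent.DCat.KInjFun
import Groth.Agent.DCat.KHomLimits
import Groth.Agent.DCat.PathObj
import Groth.Agent.DCat.TowerConstr
import Mathlib.Algebra.Homology.HomologySequenceLemmas
import Mathlib.CategoryTheory.Abelian.GrothendieckCategory.Basic

/-! Filtered K-injective embeddings of filtered complexes. -/

set_option autoImplicit false
set_option backward.isDefEq.respectTransparency false
set_option synthInstance.maxHeartbeats 200000

universe v u

open CategoryTheory CategoryTheory.Limits HomologicalComplex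

namespace Groth.Agent.DCat.FilKInj

variable {A : Type u} [Category.{v} A] [Abelian A]

/-- Five lemma for the first terms. -/
theorem quasiIso_fst {S₁ S₂ : ShortComplex (CochainComplex A ℤ)} (φ : S₁ ⟶ S₂) (hS₁ : S₁.ShortExact)
    (hS₂ : S₂.ShortExact) (h₂ : QuasiIso φ.τ₂) (h₃ : QuasiIso φ.τ₃) : QuasiIso φ.τ₁ := by
  rw [quasiIso_iff]
  intro j
  rw [quasiIsoAt_iff_isIso_homologyMap]
  have hij : (ComplexShape.up ℤ).Rel (j - 1) j := by simp
  let f := ComposableArrows.δ₀Functor.map (HomologySequence.mapComposableArrows₅ φ hS₁ hS₂ (j - 1) j hij)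
  have : Epi (f.app 0) := (inferInstance : Epi (homologyMap φ.τ₂ (j - 1)))
  have : IsIso (f.app 1) := (inferInstance : IsIso (homologyMap φ.τ₃ (j - 1)))
  have : IsIso (f.app 3) := (inferInstance : IsIso (homologyMap φ.τ₂ j))
  have : Mono (f.app 4) := (inferInstance : Mono (homologyMap φ.τ₃ j))
  exact Abelian.isIso_of_epi_of_isIso_of_isIso_of_mono
    (HomologySequence.composableArrows₅_exact hS₁ (j - 1) j hij).δ₀
    (HomologySequence.composableArrows₅_exact hS₂ (j - 1) j hij).δ₀ f ‹_› ‹_› ‹_› ‹_›

theorem injective_cokernel_of_mono {X Y : A} (f : X ⟶ Y) [Mono f] (hX : Injective X) (hY : Injective Y) :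
    Injective (cokernel f) := by
  let S := ShortComplex.mk f (cokernel.π f) (cokernel.condition f)
  let σ : S.Splitting := ShortComplex.Splitting.ofExactOfRetraction S (ShortComplex.exact_cokernel f)
    (Injective.factorThru (𝟙 X) f) (Injective.comp_factorThru _ _) (inferInstanceAs (Epi (cokernel.π f)))
  exact (Retract.mk σ.s (cokernel.π f) σ.s_g).injective

/-- A monomorphism of K-injective complexes with injective terms has such a cokernel. -/
theorem cokernel_kInj {X Y : CochainComplex A ℤ} (f : X ⟶ Y) [Mono f] [X.IsKInjective] [Y.IsKInjective]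
    (hX : ∀ n, Injective (X.X n)) (hY : ∀ n, Injective (Y.X n)) :
    (cokernel f).IsKInjective ∧ ∀ n, Injective ((cokernel f).X n) := by
  let S := ShortComplex.mk f (cokernel.π f) (cokernel.condition f)
  have hS : S.ShortExact := { exact := ShortComplex.exact_cokernel f }
  have hSn : ∀ n, (S.map (HomologicalComplex.eval A _ n)).ShortExact := fun n =>
    hS.map_of_exact (HomologicalComplex.eval A _ n)
  let σ : ∀ n, (S.map (HomologicalComplex.eval A _ n)).Splitting := fun n =>
    have := hX n
    have : Mono (f.f n) := (hSn n).mono_f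
    ShortComplex.Splitting.ofExactOfRetraction _ (hSn n).exact
      (@Injective.factorThru A _ (X.X n) (X.X n) (Y.X n) (hX n) (𝟙 (X.X n)) (f.f n) this)
      (@Injective.comp_factorThru A _ (X.X n) (X.X n) (Y.X n) (hX n) (𝟙 (X.X n)) (f.f n) this) (hSn n).epi_g
  have : S.X₁.IsKInjective := inferInstanceAs X.IsKInjective
  have : S.X₂.IsKInjective := inferInstanceAs Y.IsKInjective
  exact ⟨isKInjective_X₃_of_split S σ, fun n =>
    have : Injective ((S.map (HomologicalComplex.eval A _ n)).X₂) := hY n
    (Retract.mk (σ n).s (((cokernel.π f)).f n) (σ n).s_g).injective⟩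

/-- The kernel of a degreewise split epimorphism of K-injective complexes with injective terms. -/
theorem kernel_kInj {X Y : CochainComplex A ℤ} (g : X ⟶ Y) [X.IsKInjective] [Y.IsKInjective]
    (hX : ∀ n, Injective (X.X n)) (hs : ∀ n, ∃ s : Y.X n ⟶ X.X n, s ≫ g.f n = 𝟙 _) :
    (kernel g).IsKInjective ∧ (∀ n, Injective ((kernel g).X n)) ∧ Epi g := by
  choose s hs using hs
  have : ∀ n, Epi (g.f n) := fun n => (SplitEpi.mk (s n) (hs n)).epi
  have hg : Epi g := epi_of_epi_f g inferInstance
  let S := ShortComplex.mk (kernel.ι g) g (kernel.condition g)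
  have hS : S.ShortExact := { exact := ShortComplex.exact_kernel g }
  have hSn : ∀ n, (S.map (HomologicalComplex.eval A _ n)).ShortExact := fun n =>
    hS.map_of_exact (HomologicalComplex.eval A _ n)
  let σ : ∀ n, (S.map (HomologicalComplex.eval A _ n)).Splitting := fun n =>
    ShortComplex.Splitting.ofExactOfSection _ (hSn n).exact (s n) (hs n) (hSn n).mono_f
  have : S.X₂.IsKInjective := inferInstanceAs X.IsKInjective
  have : S.X₃.IsKInjective := inferInstanceAs Y.IsKInjective
  exact ⟨isKInjective_X₁_of_split S σ, fun n =>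
    have := hX n
    (Retract.mk ((kernel.ι g).f n) (σ n).r (σ n).f_r).injective, hg⟩

theorem biprod_kInj {X Y : CochainComplex A ℤ} [X.IsKInjective] [Y.IsKInjective]
    (hX : ∀ n, Injective (X.X n)) (hY : ∀ n, Injective (Y.X n)) :
    (X ⊞ Y).IsKInjective ∧ ∀ n, Injective ((X ⊞ Y).X n) := by
  refine ⟨⟨fun {K} f hK => ⟨?_⟩⟩, fun n => ?_⟩
  · refine (Homotopy.ofEq (?_ : f = (f ≫ biprod.fst) ≫ biprod.inl + (f ≫ biprod.snd) ≫ biprod.inr)).trans
      (((((CochainComplex.IsKInjective.homotopyZero (f ≫ biprod.fst) hK).compRight biprod.inl).add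
        ((CochainComplex.IsKInjective.homotopyZero (f ≫ biprod.snd) hK).compRight biprod.inr))).trans
        (Homotopy.ofEq (by simp)))
    simp only [Category.assoc, ← Preadditive.comp_add, biprod.total, Category.comp_id]
  · have := hX n
    have := hY n
    exact (Retract.ofIso (biprodXIso X Y n)).injective

variable [IsGrothendieckAbelian.{v} A]

instance hasLimitsOfShape_small (T : Type) : HasLimitsOfShape (Discrete T) A :=
  haveI : HasLimitsOfSize.{0, 0} A := hasLimitsOfSizeShrink.{0, 0, v, v} A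
  inferInstance

theorem pi_kInj {T : Type} (I : T → CochainComplex A ℤ) (h : ∀ t, (I t).IsKInjective)
    (hI : ∀ t n, Injective ((I t).X n)) :
    (∏ᶜ I).IsKInjective ∧ ∀ n, Injective ((∏ᶜ I).X n) := by
  refine ⟨isKInjective_pi (limit.isLimit _) h, fun n => ?_⟩
  have h' : ∀ t, Injective ((HomologicalComplex.eval A (ComplexShape.up ℤ) n).obj (I t)) := fun t => hI t n
  let F : CochainComplex A ℤ ⥤ A := HomologicalComplex.eval A (ComplexShape.up ℤ) n
  let r : Retract (F.obj (∏ᶜ I)) (∏ᶜ fun t => F.obj (I t)) := Retract.ofIso (PreservesProduct.iso F I)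
  exact r.injective

theorem quasiIso_inl {X Q : CochainComplex A ℤ} (hQ : Nonempty (Homotopy (𝟙 Q) 0)) :
    QuasiIso (biprod.inl : X ⟶ X ⊞ Q) := by
  obtain ⟨h⟩ := hQ
  let hz : Homotopy (biprod.snd ≫ biprod.inr : X ⊞ Q ⟶ X ⊞ Q) 0 :=
    (Homotopy.ofEq (show biprod.snd ≫ biprod.inr = biprod.snd ≫ 𝟙 Q ≫ biprod.inr by rw [Category.id_comp])).trans
      (((h.compRight biprod.inr).compLeft biprod.snd).trans (Homotopy.ofEq (by simp)))
  let hh : Homotopy (biprod.fst ≫ biprod.inl : X ⊞ Q ⟶ X ⊞ Q) (𝟙 _) :=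
    (Homotopy.ofEq (add_zero _).symm).trans
      (((Homotopy.refl (biprod.fst ≫ biprod.inl)).add hz.symm).trans (Homotopy.ofEq biprod.total))
  let e : HomotopyEquiv X (X ⊞ Q) :=
    { hom := biprod.inl
      inv := biprod.fst
      homotopyHomInvId := Homotopy.ofEq biprod.inl_fst
      homotopyInvHomId := hh }
  exact HomotopyEquiv.quasiIso_hom e

theorem contractible_pi {T : Type} (I : T → CochainComplex A ℤ) :
    Nonempty (Homotopy (𝟙 (∏ᶜ fun t => pathObj (I t))) 0) :=
  nonempty_homotopy_zero_fan (limit.isLimit _) _ fun t =>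
    ⟨(Homotopy.ofEq (show 𝟙 _ ≫ _ = _ ≫ 𝟙 _ by rw [Category.id_comp, Category.comp_id])).trans
      ((((nonempty_homotopy_pathObj (I t) (𝟙 _)).some).compLeft _).trans (Homotopy.ofEq comp_zero))⟩

set_option maxHeartbeats 800000 in
theorem result (K : SpSeq.FilCx A) :
    ∃ (J : SpSeq.FilCx A) (j : K ⟶ J),
      (∀ n p : ℤ, Injective (J.obj.X n) ∧ Injective ((J.XFil n).step p) ∧ Injective ((J.XFil n).quot p) ∧
        ∀ (p' : ℤ) (h : p ≤ p'), Injective (cokernel ((J.XFil n).stepLE h))) ∧
      (CochainComplex.IsKInjective J.obj ∧ ∀ p : ℤ, CochainComplex.IsKInjective (J.step p) ∧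
        CochainComplex.IsKInjective (J.quot p) ∧
        ∀ (p' : ℤ) (h : p ≤ p'), CochainComplex.IsKInjective (cokernel (J.stepLE h))) ∧
      QuasiIso j.hom ∧
      (∀ p : ℤ, ∃ jp : K.step p ⟶ J.step p, jp ≫ (J.fil p).arrow = (K.fil p).arrow ≫ j.hom ∧ QuasiIso jp ∧
        (∀ (p' : ℤ) (h : p ≤ p'), ∃ (jp' : K.step p' ⟶ J.step p') (jg : cokernel (K.stepLE h) ⟶ cokernel (J.stepLE h)),
          jp' ≫ (J.fil p').arrow = (K.fil p').arrow ≫ j.hom ∧ jp' ≫ J.stepLE h = K.stepLE h ≫ jp ∧
          cokernel.π (K.stepLE h) ≫ jg = jp ≫ cokernel.π (J.stepLE h) ∧ QuasiIso jg)) ∧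
      (∀ p : ℤ, ∃ jq : K.quot p ⟶ J.quot p,
        cokernel.π (K.fil p).arrow ≫ jq = j.hom ≫ cokernel.π (J.fil p).arrow ∧ QuasiIso jq) := by
  classical
  obtain ⟨N, m, hN⟩ := exists_kInj_functor (A := A)
  have hle : ∀ q : ℤ, q ≤ q + 1 := fun q => by omega
  have hlift : ∀ q : ℤ, ∃ g : pathObj (N.obj (K.quot (q + 1))) ⟶ pathObj (N.obj (K.quot q)),
      g ≫ pathε _ = pathε _ ≫ N.map (K.quotMap (hle q)) :=
    fun q => exists_lift_pathε _ (nonempty_homotopy_pathObj _ _)
  choose Pφ hPφ using hlift
  let D : Tower.Data (CochainComplex A ℤ) :=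
    { M := fun q => N.obj (K.quot q)
      φ := fun q => N.map (K.quotMap (hle q))
      top := N.obj K.obj
      ψ := fun q => N.map (cokernel.π (K.fil q).arrow)
      P := fun q => pathObj (N.obj (K.quot q))
      ε := fun q => pathε _
      Pφ := Pφ
      hε := hPφ
      δ := fun q => 0
      hδ := fun q => by
        rw [zero_comp, ← N.map_comp, SpSeq.FilObj.quotMap, cokernel.π_desc, sub_self] }
  have hP : ∀ q, (D.P q).IsKInjective := fun q => isKInjective_pathObj _
  have hPI : ∀ q n, Injective ((D.P q).X n) := fun q n => injective_pathObj _ (hN _).2.2.2 n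
  obtain ⟨hJ, hJI⟩ : D.big.IsKInjective ∧ ∀ n, Injective (D.big.X n) := by
    obtain ⟨a, b⟩ := pi_kInj D.P hP hPI
    have : D.top.IsKInjective := (hN _).1
    exact biprod_kInj (hN _).2.2.2 b
  have hObj : ∀ p, (D.obj p).IsKInjective := fun p => by
    obtain ⟨a, b⟩ := pi_kInj (fun q : {q : ℤ // q < p} => D.P q) (fun q => hP _) (fun q => hPI _)
    have : (D.M p).IsKInjective := (hN _).1
    exact (biprod_kInj (hN _).2.2.2 b).1
  have hker : ∀ p, (kernel (D.π p)).IsKInjective ∧ (∀ n, Injective ((kernel (D.π p)).X n)) ∧ Epi (D.π p) :=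
    fun p => kernel_kInj (D.π p) hJI fun n => by
      obtain ⟨s, hs⟩ := pathε_section (N.obj (K.quot p)) n
      exact D.exists_section (HomologicalComplex.eval A (ComplexShape.up ℤ) n) p s hs
  let J : SpSeq.FilCx A :=
    { obj := D.big
      fil := fun p => Subobject.mk (kernel.ι (D.π p))
      anti := antitone_int_of_succ_le fun p => Subobject.mk_le_mk_of_comm
        (kernel.lift _ (kernel.ι (D.π (p + 1))) (by rw [← D.π_τ p, kernel.condition_assoc, zero_comp]))
        (kernel.lift_ι _ _ _) }
  let jh : K.obj ⟶ D.big := biprod.lift (m.app K.obj) 0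
  have hjπ : ∀ p, jh ≫ D.π p = cokernel.π (K.fil p).arrow ≫ m.app (K.quot p) ≫ biprod.inl := by
    intro p
    apply biprod.hom_ext
    · refine Eq.trans (b := m.app K.obj ≫ N.map (cokernel.π (K.fil p).arrow)) ?_
        ((m.naturality (cokernel.π (K.fil p).arrow)).symm.trans ?_)
      · rw [Category.assoc]
        erw [D.π_fst]
        simp only [Preadditive.comp_add, jh, Tower.Data.big, biprod.lift_fst_assoc, biprod.lift_snd_assoc,
          zero_comp, add_zero, D]
      · erw [Category.assoc, Category.assoc, biprod.inl_fst]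
        erw [Category.comp_id]
        rfl
    · simp only [Category.assoc, biprod.inl_snd, comp_zero]
      apply Pi.hom_ext
      intro q
      simp [Tower.Data.π, Tower.Data.obj, jh, Tower.Data.big, D]
  have hkey : ∀ p, ((K.fil p).arrow ≫ jh) ≫ D.π p = 0 := fun p => by
    rw [Category.assoc, hjπ, ← Category.assoc, cokernel.condition, zero_comp]
  have hfac : ∀ p, ∃ g : K.step p ⟶ J.step p, g ≫ (J.fil p).arrow = (K.fil p).arrow ≫ jh := fun p =>
    ⟨kernel.lift _ _ (hkey p) ≫ (Subobject.underlyingIso _).inv, by simp [J]⟩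
  choose jp hjp using hfac
  let j : K ⟶ J := ⟨jh, fun p => by
    rw [Subobject.pullback_obj]
    exact Subobject.le_mk_of_comm (pullback.lift (jp p) (K.fil p).arrow (hjp p))
      (pullback.lift_snd _ _ _)⟩
  have hjh : QuasiIso jh := by
    have e : jh = m.app K.obj ≫ biprod.inl := by
      apply biprod.hom_ext
      · simp only [jh, biprod.lift_fst, Category.assoc]
        erw [biprod.inl_fst]
        exact (Category.comp_id (m.app K.obj)).symm
      · simp only [jh, biprod.lift_snd, Category.assoc]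
        erw [biprod.inl_snd, comp_zero]
    rw [e]
    have := (hN K.obj).2.1
    have := quasiIso_inl (X := D.top) (contractible_pi fun q => N.obj (K.quot q))
    exact quasiIso_comp _ _
  have hq : ∀ p, ∃ jq : K.quot p ⟶ J.quot p,
      cokernel.π (K.fil p).arrow ≫ jq = jh ≫ cokernel.π (J.fil p).arrow ∧ QuasiIso jq := by
    intro p
    have := (hker p).2.2
    let jq : K.quot p ⟶ J.quot p := cokernel.desc _ (jh ≫ cokernel.π (J.fil p).arrow) (by
      rw [← reassoc_of% hjp p, cokernel.condition, comp_zero])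
    refine ⟨jq, cokernel.π_desc _ _ _, ?_⟩
    have w : (J.fil p).arrow ≫ D.π p = 0 := by
      rw [← cancel_epi (Subobject.underlyingIso (kernel.ι (D.π p))).inv]
      simp [J]
    let c : J.quot p ⟶ D.obj p := cokernel.desc _ (D.π p) w
    have : IsIso c := by
      have hex : (ShortComplex.mk _ _ w).Exact :=
        (ShortComplex.exact_iff_of_iso (S₁ := ShortComplex.mk (J.fil p).arrow (D.π p) w) (S₂ := ShortComplex.mk (kernel.ι (D.π p)) (D.π p) (kernel.condition _))
          (ShortComplex.isoMk (Subobject.underlyingIso (kernel.ι (D.π p))) (Iso.refl _) (Iso.refl _)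
            (by simp [J]) (by simp [J]))).2 (ShortComplex.exact_kernel (D.π p))
      have : Epi (ShortComplex.mk _ _ w).g := inferInstanceAs (Epi (D.π p))
      let i := (colimit.isColimit (parallelPair (J.fil p).arrow 0)).coconePointUniqueUpToIso hex.gIsCokernel
      have e : c = i.hom := coequalizer.hom_ext ((cokernel.π_desc _ _ w).trans
        (IsColimit.comp_coconePointUniqueUpToIso_hom (colimit.isColimit (parallelPair (J.fil p).arrow 0))
          hex.gIsCokernel WalkingParallelPair.one).symm)
      rw [e]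
      exact Iso.isIso_hom i
    have e' : jq ≫ c = m.app (K.quot p) ≫ biprod.inl := by
      rw [← cancel_epi (cokernel.π (K.fil p).arrow)]
      simp only [jq, cokernel.π_desc_assoc, Category.assoc, c, cokernel.π_desc, hjπ]
    have : QuasiIso (jq ≫ c) := by
      rw [e']
      have := (hN (K.quot p)).2.1
      have := quasiIso_inl (X := D.M p) (contractible_pi fun q : {q : ℤ // q < p} => N.obj (K.quot q.1))
      exact quasiIso_comp _ _
    exact quasiIso_of_comp_right jq c
  have hjp' : ∀ p, QuasiIso (jp p) := by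
    intro p
    obtain ⟨jq, h₁, h₂⟩ := hq p
    exact quasiIso_fst (S₁ := ShortComplex.mk (K.fil p).arrow (cokernel.π _) (cokernel.condition _))
      (S₂ := ShortComplex.mk (J.fil p).arrow (cokernel.π _) (cokernel.condition _))
      { τ₁ := jp p, τ₂ := jh, τ₃ := jq, comm₁₂ := hjp p, comm₂₃ := h₁.symm }
      { exact := ShortComplex.exact_cokernel _ } { exact := ShortComplex.exact_cokernel _ } hjh h₂
  have hstepK : ∀ p, (J.step p).IsKInjective := fun p =>
    have := (hker p).1
    CochainComplex.isKInjective_of_iso (Subobject.underlyingIso _).symm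
  have hstepI : ∀ p n, Injective ((J.step p).X n) := fun p n =>
    have : Injective ((HomologicalComplex.eval A (ComplexShape.up ℤ) n).obj (kernel (D.π p))) := (hker p).2.1 n
    (Retract.ofIso ((HomologicalComplex.eval A (ComplexShape.up ℤ) n).mapIso
      (Subobject.underlyingIso (kernel.ι (D.π p))))).injective
  have hXI : ∀ n p, Injective ((J.XFil n).step p) := fun n p =>
    have := hstepI p n
    (Retract.ofIso (Subobject.underlyingIso ((J.fil p).arrow.f n))).injective
  have : D.big.IsKInjective := hJ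
  refine ⟨J, j, fun n p => ⟨hJI n, hXI n p,
    injective_cokernel_of_mono _ (hXI n p) (hJI n),
    fun p' h => injective_cokernel_of_mono _ (hXI n p') (hXI n p)⟩, ⟨hJ, fun p => ?_⟩, hjh, fun p => ?_, hq⟩
  · have := hstepK p
    refine ⟨hstepK p, (cokernel_kInj (J.fil p).arrow (hstepI p) hJI).1, fun p' h => ?_⟩
    have := hstepK p'
    exact (cokernel_kInj (J.stepLE h) (hstepI p') (hstepI p)).1
  · refine ⟨jp p, hjp p, hjp' p, fun p' h => ?_⟩
    have hc : jp p' ≫ J.stepLE h = K.stepLE h ≫ jp p := by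
      rw [← cancel_mono (J.fil p).arrow, Category.assoc, Category.assoc, Subobject.ofLE_arrow, hjp, hjp,
        Subobject.ofLE_arrow_assoc]
    let jg : cokernel (K.stepLE h) ⟶ cokernel (J.stepLE h) :=
      cokernel.map _ _ (jp p') (jp p) hc.symm
    refine ⟨jp p', jg, hjp p', hc, cokernel.π_desc _ _ _, ?_⟩
    exact HomologicalComplex.HomologySequence.quasiIso_τ₃
      (S₁ := ShortComplex.mk (K.stepLE h) (cokernel.π _) (cokernel.condition _))
      (S₂ := ShortComplex.mk (J.stepLE h) (cokernel.π _) (cokernel.condition _))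
      { τ₁ := jp p', τ₂ := jp p, τ₃ := jg, comm₁₂ := hc, comm₂₃ := (cokernel.π_desc _ _ _).symm }
      { exact := ShortComplex.exact_cokernel _ } { exact := ShortComplex.exact_cokernel _ } (hjp' p') (hjp' p)

end Groth.Agent.DCat.FilKInj
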