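import Groth.Prelude.Def_SpSeq
import Groth.Agent.DCat.KInjRes
import Groth.Agent.DCat.KHomLimits
import Groth.Agent.DCat.TowerConstr
import Mathlib.Algebra.Homology.HomotopyCategory.Pretriangulated
import Mathlib.Algebra.Homology.DerivedCategory.KInjective
import Mathlib.CategoryTheory.Abelian.GrothendieckCategory.Basic
import Mathlib.CategoryTheory.Abelian.GrothendieckCategory.EnoughInjectives
import Mathlib.CategoryTheory.Limits.Shapes.Opposites.Products
import Mathlib.CategoryTheory.Limits.Preserves.Opposites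

/-! A system over an object of the derived category is represented by a filtered complex. -/

set_option autoImplicit false
set_option backward.isDefEq.respectTransparency false
set_option synthInstance.maxHeartbeats 200000

universe w v u

open CategoryTheory CategoryTheory.Limits Opposite HomologicalComplex

namespace Groth.Agent.DCat.FilSystem

variable {A : Type u} [Category.{v} A] [Abelian A] [IsGrothendieckAbelian.{v} A]

instance hasColimitsOfShape_int (T : Type) : HasColimitsOfShape (Discrete T) A :=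
  haveI : HasColimitsOfSize.{0, 0} A := hasColimitsOfSizeShrink.{0, 0, v, v} A
  inferInstance

instance hasColimitsOfShape_int_op (T : Type) : HasColimitsOfShape (Discrete T)ᵒᵖ A :=
  hasColimitsOfShape_of_equivalence (Discrete.opposite T).symm

instance preservesProducts_eval_op (T : Type) (n : ℤ) :
    PreservesLimitsOfShape (Discrete T) (HomologicalComplex.eval A (ComplexShape.up ℤ) n).op :=
  preservesLimitsOfShape_op _ _

omit [IsGrothendieckAbelian.{v} A] in
theorem exists_ext_inr {M L : CochainComplex A ℤ} (f : M ⟶ L) (h : Nonempty (Homotopy f 0)) :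
    ∃ g : CochainComplex.mappingCone (𝟙 M) ⟶ L, CochainComplex.mappingCone.inr (𝟙 M) ≫ g = f :=
  ⟨homotopyCofiber.desc (𝟙 M) f ((Homotopy.ofEq (Category.id_comp f)).trans h.some),
    homotopyCofiber.inr_desc _ _ _⟩

omit [IsGrothendieckAbelian.{v} A] in
theorem nonempty_homotopy_cone {M L : CochainComplex A ℤ} (f : CochainComplex.mappingCone (𝟙 M) ⟶ L) :
    Nonempty (Homotopy f 0) :=
  ⟨(Homotopy.ofEq (Category.id_comp f).symm).trans
    (((CochainComplex.mappingCone.homotopyToZeroOfId M).compRight f).trans (Homotopy.ofEq zero_comp))⟩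

variable [HasDerivedCategory.{w} A]

theorem Q_map_eq_of_homotopy {K L : CochainComplex A ℤ} {f g : K ⟶ L} (h : Homotopy f g) :
    DerivedCategory.Q.map f = DerivedCategory.Q.map g := by
  have e := HomotopyCategory.eq_of_homotopy _ _ h
  rw [← cancel_mono ((DerivedCategory.quotientCompQhIso A).inv.app L)]
  rw [(DerivedCategory.quotientCompQhIso A).inv.naturality f, (DerivedCategory.quotientCompQhIso A).inv.naturality g,
    Functor.comp_map, Functor.comp_map, e]

theorem Q_map_bijective {K L : CochainComplex A ℤ} [L.IsKInjective] :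
    (∀ f : DerivedCategory.Q.obj K ⟶ DerivedCategory.Q.obj L, ∃ g : K ⟶ L, DerivedCategory.Q.map g = f) ∧
    ∀ f g : K ⟶ L, DerivedCategory.Q.map f = DerivedCategory.Q.map g → Nonempty (Homotopy f g) := by
  let e := DerivedCategory.quotientCompQhIso A
  constructor
  · intro f
    obtain ⟨a, ha⟩ := (CochainComplex.IsKInjective.Qh_map_bijective ((HomotopyCategory.quotient _ _).obj K) L).2
      (e.hom.app K ≫ f ≫ e.inv.app L)
    obtain ⟨g, rfl⟩ := (HomotopyCategory.quotient A (ComplexShape.up ℤ)).map_surjective a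
    refine ⟨g, ?_⟩
    rw [← cancel_mono (e.inv.app L), ← cancel_epi (e.hom.app K), e.inv.naturality g, Iso.hom_inv_id_app_assoc]
    exact ha
  · intro f g h
    refine ⟨HomotopyCategory.homotopyOfEq _ _
      ((CochainComplex.IsKInjective.Qh_map_bijective ((HomotopyCategory.quotient _ _).obj K) L).1 ?_)⟩
    have hf := e.inv.naturality f
    have hg := e.inv.naturality g
    rw [h] at hf
    exact (cancel_epi (e.inv.app K)).1 (hf.symm.trans hg)

theorem exists_model (E : DerivedCategory A) :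
    ∃ I : CochainComplex A ℤ, I.IsKInjective ∧ Nonempty (DerivedCategory.Q.obj I ≅ E) := by
  obtain ⟨I, f, hI, hf, -, -⟩ := Groth.Agent.DCat.exists_kInj_res (DerivedCategory.Q.objPreimage E)
  exact ⟨I, hI, ⟨(asIso (DerivedCategory.Q.map f)).symm ≪≫ DerivedCategory.Q.objObjPreimageIso E⟩⟩

theorem isZero_pi_unop {T : Type} (P : T → (CochainComplex A ℤ)ᵒᵖ)
    (hP : ∀ t, ∀ (L : CochainComplex A ℤ) (f : (P t).unop ⟶ L), Nonempty (Homotopy f 0)) :
    IsZero (DerivedCategory.Q.obj (∏ᶜ P).unop) := by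
  let c : Cofan (fun t => (P t).unop) := Cofan.mk (∏ᶜ P).unop fun t => (Pi.π P t).unop
  have hc : IsColimit c := Cofan.IsColimit.mk _ (fun s => (Pi.lift fun t => (s.inj t).op).unop)
    (fun s t => by
      apply Quiver.Hom.op_inj
      simp [c, Cofan.inj])
    (fun s m hm => by
      apply Quiver.Hom.op_inj
      apply Pi.hom_ext
      intro t
      have := hm t
      simp only [c, Cofan.inj] at this
      rw [Quiver.Hom.op_unop, Pi.lift_π]
      exact congrArg Quiver.Hom.op this)
  obtain ⟨h⟩ := nonempty_homotopy_zero_cofan hc (𝟙 c.pt) (fun t => hP t _ _)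
  rw [IsZero.iff_id_eq_zero, ← DerivedCategory.Q.map_id, show 𝟙 (∏ᶜ P).unop = 𝟙 c.pt from rfl,
    Q_map_eq_of_homotopy h, Functor.map_zero]

theorem isIso_Q_fst_unop (X Y : (CochainComplex A ℤ)ᵒᵖ) (hY : IsZero (DerivedCategory.Q.obj Y.unop)) :
    IsIso (DerivedCategory.Q.map (biprod.fst : X ⊞ Y ⟶ X).unop) := by
  refine ⟨DerivedCategory.Q.map (biprod.inl : X ⟶ X ⊞ Y).unop, ?_, ?_⟩
  · rw [← Functor.map_comp, ← unop_comp, biprod.inl_fst, unop_id, CategoryTheory.Functor.map_id]
  · have h0 : DerivedCategory.Q.map (biprod.inr : Y ⟶ X ⊞ Y).unop = 0 := hY.eq_of_tgt _ _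
    rw [← DerivedCategory.Q.map_id]
    have e : (biprod.inl : X ⟶ X ⊞ Y).unop ≫ (biprod.fst : X ⊞ Y ⟶ X).unop +
        (biprod.inr : Y ⟶ X ⊞ Y).unop ≫ (biprod.snd : X ⊞ Y ⟶ Y).unop = 𝟙 (X ⊞ Y).unop :=
      congrArg Quiver.Hom.unop (biprod.total (X := X) (Y := Y))
    rw [← e, Functor.map_add, Functor.map_comp, Functor.map_comp, h0, zero_comp, add_zero]

/-- The representation of an increasing system over an object. -/
theorem exists_increasing (E : DerivedCategory A) (Fs : ℤ → DerivedCategory A) (s : ∀ q, Fs q ⟶ Fs (q + 1))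
    (b : ∀ q, Fs q ⟶ E) (hsb : ∀ q, s q ≫ b (q + 1) = b q) :
    ∃ (K : CochainComplex A ℤ) (g : ℤ → Subobject K) (hg : ∀ a c, a ≤ c → g a ≤ g c)
      (e : DerivedCategory.Q.obj K ≅ E) (ei : ∀ q, DerivedCategory.Q.obj (g q : CochainComplex A ℤ) ≅ Fs q),
      (∀ q, DerivedCategory.Q.map (g q).arrow ≫ e.hom = (ei q).hom ≫ b q) ∧
      ∀ q, DerivedCategory.Q.map ((g q).ofLE (g (q + 1)) (hg _ _ (by omega))) ≫ (ei (q + 1)).hom =
        (ei q).hom ≫ s q := by
  classical
  obtain ⟨I, hI, ⟨eI⟩⟩ := exists_model E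
  choose N hN hN' using fun q => exists_model (Fs q)
  let eN := fun q => (hN' q).some
  have hφ : ∀ q, ∃ f : N q ⟶ N (q + 1), DerivedCategory.Q.map f = (eN q).hom ≫ s q ≫ (eN (q + 1)).inv :=
    fun q => haveI := hN (q + 1); Q_map_bijective.1 _
  choose φ hφ using hφ
  have hα : ∀ q, ∃ f : N q ⟶ I, DerivedCategory.Q.map f = (eN q).hom ≫ b q ≫ eI.inv :=
    fun q => haveI := hI; Q_map_bijective.1 _
  choose α hα using hα
  have hh : ∀ q, ∃ d : CochainComplex.mappingCone (𝟙 (N q)) ⟶ I,
      CochainComplex.mappingCone.inr (𝟙 (N q)) ≫ d = α q - φ q ≫ α (q + 1) := by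
    intro q
    haveI := hI
    refine exists_ext_inr _ ?_
    obtain ⟨h⟩ := Q_map_bijective.2 (α q) (φ q ≫ α (q + 1)) (by
      rw [Functor.map_comp, hφ, hα, hα]
      simp [← reassoc_of% hsb q])
    exact ⟨(h.add (Homotopy.refl (-(φ q ≫ α (q + 1))))).trans (Homotopy.ofEq (by simp)) |>
      (Homotopy.ofEq (sub_eq_add_neg _ _)).trans⟩
  choose δ hδ using hh
  have hC : ∀ q, ∃ Pφ : CochainComplex.mappingCone (𝟙 (N q)) ⟶ CochainComplex.mappingCone (𝟙 (N (q + 1))),
      CochainComplex.mappingCone.inr (𝟙 (N q)) ≫ Pφ = φ q ≫ CochainComplex.mappingCone.inr (𝟙 (N (q + 1))) :=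
    fun q => exists_ext_inr _ ⟨(((Homotopy.ofEq (Category.id_comp _).symm).trans
      (homotopyCofiber.inrCompHomotopy (𝟙 (N (q + 1))) (fun j => ⟨j - 1, by simp⟩))).compLeft (φ q)).trans
        (Homotopy.ofEq comp_zero)⟩
  choose Pφ hPφ using hC
  let D : Tower.Data (CochainComplex A ℤ)ᵒᵖ :=
    { M := fun q => op (N q)
      φ := fun q => (φ q).op
      top := op I
      ψ := fun q => (α q).op
      P := fun q => op (CochainComplex.mappingCone (𝟙 (N q)))
      ε := fun q => (CochainComplex.mappingCone.inr (𝟙 (N q))).op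
      Pφ := fun q => (Pφ q).op
      hε := fun q => congrArg Quiver.Hom.op (hPφ q)
      δ := fun q => (δ q).op
      hδ := fun q => congrArg Quiver.Hom.op (hδ q) }
  have hz : ∀ q : ℤ, ∀ (L : CochainComplex A ℤ) (f : (D.P q).unop ⟶ L), Nonempty (Homotopy f 0) :=
    fun q L f => nonempty_homotopy_cone f
  haveI hbig : IsIso (DerivedCategory.Q.map (biprod.fst : D.big ⟶ D.top).unop) :=
    isIso_Q_fst_unop D.top (∏ᶜ D.P) (isZero_pi_unop D.P hz)
  haveI hobj : ∀ q, IsIso (DerivedCategory.Q.map (biprod.fst : D.obj q ⟶ D.M q).unop) := fun q =>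
    isIso_Q_fst_unop (D.M q) (∏ᶜ fun r : {r : ℤ // r < q} => D.P r) (isZero_pi_unop _ fun r => hz r.1)
  haveI hm : ∀ q, Mono (D.π q).unop := fun q => by
    refine @HomologicalComplex.mono_of_mono_f _ _ _ _ _ _ _ _ fun n => ?_
    obtain ⟨σ, hσ⟩ := D.exists_section (HomologicalComplex.eval A (ComplexShape.up ℤ) n).op q
      ((CochainComplex.mappingCone.snd (𝟙 (N q))).v n n (add_zero n)).op
      (congrArg Quiver.Hom.op (CochainComplex.mappingCone.inr_f_snd_v (𝟙 (N q)) n))
    exact (SplitMono.mk σ.unop (congrArg Quiver.Hom.unop hσ)).mono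
  let g : ℤ → Subobject D.big.unop := fun q => Subobject.mk (D.π q).unop
  have hstep : ∀ q, g q ≤ g (q + 1) := fun q => Subobject.mk_le_mk_of_comm (D.τ q).unop
    (by rw [← unop_comp, D.π_τ])
  have hg : ∀ a c : ℤ, a ≤ c → g a ≤ g c := fun a c h => monotone_int_of_le_succ hstep h
  let ei : ∀ q, DerivedCategory.Q.obj (g q : CochainComplex A ℤ) ≅ Fs q := fun q =>
    DerivedCategory.Q.mapIso (Subobject.underlyingIso (D.π q).unop) ≪≫
      (asIso (DerivedCategory.Q.map (biprod.fst : D.obj q ⟶ D.M q).unop)).symm ≪≫ eN q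
  refine ⟨D.big.unop, g, hg,
    (asIso (DerivedCategory.Q.map (biprod.fst : D.big ⟶ D.top).unop)).symm ≪≫ eI, ei, fun q => ?_, fun q => ?_⟩
  · have key : DerivedCategory.Q.map (biprod.fst : D.obj q ⟶ D.M q).unop ≫ DerivedCategory.Q.map (D.π q).unop =
        DerivedCategory.Q.map (α q) ≫ DerivedCategory.Q.map (biprod.fst : D.big ⟶ D.top).unop := by
      rw [← cancel_mono (inv (DerivedCategory.Q.map (biprod.fst : D.big ⟶ D.top).unop)), Category.assoc,
        Category.assoc, IsIso.hom_inv_id, Category.comp_id,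
        show inv (DerivedCategory.Q.map (biprod.fst : D.big ⟶ D.top).unop) =
          DerivedCategory.Q.map (biprod.inl : D.top ⟶ D.big).unop from
          IsIso.inv_eq_of_hom_inv_id (by
            rw [← Functor.map_comp, ← unop_comp]
            simp [Tower.Data.big]),
        ← Functor.map_comp, ← Functor.map_comp, ← unop_comp, ← unop_comp]
      congr 1
      apply Quiver.Hom.op_inj
      simp [D.π_fst, Tower.Data.big, D]
    rw [← Subobject.underlyingIso_hom_comp_eq_mk, Functor.map_comp]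
    simp only [ei, Iso.trans_hom, Functor.mapIso_hom, Iso.symm_hom, asIso_inv, Category.assoc]
    congr 1
    rw [← cancel_epi (DerivedCategory.Q.map (biprod.fst : D.obj q ⟶ D.M q).unop), reassoc_of% key,
      IsIso.hom_inv_id_assoc, IsIso.hom_inv_id_assoc, hα]
    simp
  · have key : DerivedCategory.Q.map (biprod.fst : D.obj q ⟶ D.M q).unop ≫ DerivedCategory.Q.map (D.τ q).unop =
        DerivedCategory.Q.map (φ q) ≫ DerivedCategory.Q.map (biprod.fst : D.obj (q + 1) ⟶ D.M (q + 1)).unop := by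
      rw [← cancel_mono (inv (DerivedCategory.Q.map (biprod.fst : D.obj (q + 1) ⟶ D.M (q + 1)).unop)), Category.assoc,
        Category.assoc, IsIso.hom_inv_id, Category.comp_id,
        show inv (DerivedCategory.Q.map (biprod.fst : D.obj (q + 1) ⟶ D.M (q + 1)).unop) =
          DerivedCategory.Q.map (biprod.inl : D.M (q + 1) ⟶ D.obj (q + 1)).unop from
          IsIso.inv_eq_of_hom_inv_id (by
            rw [← Functor.map_comp, ← unop_comp]
            simp [Tower.Data.obj]),
        ← Functor.map_comp, ← Functor.map_comp, ← unop_comp, ← unop_comp]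
      congr 1
      apply Quiver.Hom.op_inj
      simp [Tower.Data.τ, Tower.Data.obj, D]
    have hle : (g q).ofLE (g (q + 1)) (hg _ _ (by omega)) ≫ (Subobject.underlyingIso (D.π (q + 1)).unop).hom =
        (Subobject.underlyingIso (D.π q).unop).hom ≫ (D.τ q).unop := by
      rw [← cancel_mono (D.π (q + 1)).unop, Category.assoc, Category.assoc, ← unop_comp, D.π_τ,
        Subobject.underlyingIso_hom_comp_eq_mk, Subobject.underlyingIso_hom_comp_eq_mk, Subobject.ofLE_arrow]
    simp only [ei, Iso.trans_hom, Functor.mapIso_hom, Iso.symm_hom, asIso_inv, Category.assoc]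
    rw [← Functor.map_comp_assoc, hle, Functor.map_comp_assoc]
    congr 1
    rw [← cancel_epi (DerivedCategory.Q.map (biprod.fst : D.obj q ⟶ D.M q).unop), reassoc_of% key,
      IsIso.hom_inv_id_assoc, IsIso.hom_inv_id_assoc, hφ]
    simp

theorem result (E : DerivedCategory A) (Es : ℤ → DerivedCategory A) (t : ∀ i : ℤ, Es (i + 1) ⟶ Es i)
    (a : ∀ i : ℤ, Es i ⟶ E) (hat : ∀ i : ℤ, t i ≫ a i = a (i + 1)) :
    ∃ (K : SpSeq.FilCx A) (e : DerivedCategory.Q.obj K.obj ≅ E)
      (ei : ∀ i : ℤ, DerivedCategory.Q.obj (K.step i) ≅ Es i),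
      (∀ i : ℤ, DerivedCategory.Q.map (K.fil i).arrow ≫ e.hom = (ei i).hom ≫ a i) ∧
      (∀ i : ℤ, DerivedCategory.Q.map (K.stepLE (le_of_lt (Int.lt_succ_self i))) ≫ (ei i).hom =
        (ei (i + 1)).hom ≫ t i) := by
  have hs : ∀ q : ℤ, Es (-q) = Es (-(q + 1) + 1) := fun q => by congr 1; omega
  obtain ⟨K, g, hg, e, ei, h₁, h₂⟩ := exists_increasing E (fun q => Es (-q))
    (fun q => eqToHom (hs q) ≫ t (-(q + 1))) (fun q => a (-q)) (fun q => by
      rw [Category.assoc, hat]
      have : ∀ (x y : ℤ) (h : y = x), eqToHom (congrArg Es h) ≫ a x = a y := fun x y h => by subst h; simp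
      exact this _ _ (by omega))
  refine ⟨⟨K, fun p => g (-p), fun p p' h => hg _ _ (by omega)⟩, e,
    fun i => ei (-i) ≪≫ eqToIso (congrArg Es (neg_neg i)), fun i => ?_, fun i => ?_⟩
  · rw [h₁, Iso.trans_hom, eqToIso.hom, Category.assoc]
    congr 1
    have : ∀ (x y : ℤ) (h : x = y), a x = eqToHom (congrArg Es h) ≫ a y := fun x y h => by subst h; simp
    exact this _ _ (neg_neg i)
  · have key : ∀ (x y : ℤ) (hxy : y = x + 1) (j j' : ℤ) (hj : -y = j) (hj' : -x = j') (hj'' : j' = j + 1),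
        DerivedCategory.Q.map ((g x).ofLE (g y) (hg _ _ (by omega))) ≫ (ei y).hom ≫ eqToHom (congrArg Es hj) =
          (ei x).hom ≫ eqToHom (congrArg Es (hj'.trans hj'')) ≫ t j := by
      intro x y hxy j j' hj hj' hj''
      subst hxy hj
      rw [reassoc_of% h₂ x]
      simp
    rw [Iso.trans_hom, Iso.trans_hom, eqToIso.hom, eqToIso.hom, Category.assoc]
    exact key (-(i + 1)) (-i) (by omega) i (i + 1) (neg_neg i) (neg_neg (i + 1)) rfl

end Groth.Agent.DCat.FilSystem
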