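import Groth.Agent.DCat.BrownCor
import Groth.Agent.DCat.CompactPres
import Mathlib.CategoryTheory.Linear.Yoneda
import Mathlib.CategoryTheory.Linear.LinearFunctor
import Mathlib.Algebra.Category.ModuleCat.Basic
import Mathlib.LinearAlgebra.FiniteDimensional.Lemmas
import Mathlib.CategoryTheory.ObjectProperty.LimitsClosure

/-! Finite-dimensional cohomological functors on compact objects are represented by objects. -/

set_option autoImplicit false
set_option backward.isDefEq.respectTransparency false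
set_option backward.defeqAttrib.useBackward true
set_option linter.style.haveILetI false
set_option linter.unusedSectionVars false

universe w v u

open CategoryTheory CategoryTheory.Limits CategoryTheory.Pretriangulated Opposite ZeroObject

namespace Groth.Agent.DCat.FinBrown17

section LinAlg

variable {k : Type*} [Field k] {V : Type*} [AddCommGroup V] [Module k V] [Module.Finite k V]

/-- Linear compactness of finite-dimensional spaces. -/
theorem exists_forall_mem {ι : Type*} (K : ι → Submodule k V) (A : ι → V → Prop)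
    (hA : ∀ i z z', A i z → (A i z' ↔ z' - z ∈ K i)) (hfin : ∀ s : Finset ι, ∃ z, ∀ i ∈ s, A i z) :
    ∃ z, ∀ i, A i z := by
  classical
  have hne : (Set.range fun s : Finset ι => Module.finrank k ↥(s.inf K)).Nonempty := ⟨_, ∅, rfl⟩
  obtain ⟨s, hs⟩ := Nat.sInf_mem hne
  obtain ⟨z, hz⟩ := hfin s
  refine ⟨z, fun i => ?_⟩
  obtain ⟨z', hz'⟩ := hfin (insert i s)
  have hle : (insert i s).inf K ≤ s.inf K := Finset.inf_mono (Finset.subset_insert i s)
  have heq : (insert i s).inf K = s.inf K := Submodule.eq_of_le_of_finrank_le hle (by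
    show Module.finrank k ↥(s.inf K) ≤ _
    rw [show Module.finrank k ↥(s.inf K) = _ from hs]
    exact Nat.sInf_le ⟨_, rfl⟩)
  have hd : z - z' ∈ (insert i s).inf K := by
    rw [heq, Submodule.mem_finsetInf]
    intro j hj
    exact (hA j z' z (hz' j (Finset.mem_insert_of_mem hj))).1 (hz j hj)
  exact (hA i z' z (hz' i (Finset.mem_insert_self i s))).2
    ((Finset.inf_le (Finset.mem_insert_self i s) : (insert i s).inf K ≤ K i) hd)

end LinAlg

section Small

variable {D : Type u} [Category.{v} D] [HasZeroObject D] [Preadditive D] [HasShift D ℤ]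
  [∀ n : ℤ, (shiftFunctor D n).Additive] [Pretriangulated D]

theorem essentiallySmall_shiftClosure (P : ObjectProperty D) [ObjectProperty.EssentiallySmall.{v} P] :
    ObjectProperty.EssentiallySmall.{v} (P.shiftClosure ℤ) := by
  obtain ⟨Q, _, -, hQ⟩ := ObjectProperty.EssentiallySmall.exists_small_le.{v} P
  refine ⟨.ofObj (fun p : Subtype Q × ℤ => p.1.1⟦p.2⟧), inferInstance, ?_⟩
  rintro X ⟨Y, a, e, hY⟩
  obtain ⟨Y', hY', ⟨e'⟩⟩ := hQ _ hY
  exact ⟨_, ObjectProperty.ofObj_apply _ (⟨Y', hY'⟩, a), ⟨e ≪≫ (shiftFunctor D a).mapIso e'⟩⟩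

theorem essentiallySmall_extensionProduct (P Q : ObjectProperty D) [ObjectProperty.EssentiallySmall.{v} P]
    [ObjectProperty.EssentiallySmall.{v} Q] :
    ObjectProperty.EssentiallySmall.{v} (ObjectProperty.extensionProduct P Q) := by
  obtain ⟨P', _, -, hP⟩ := ObjectProperty.EssentiallySmall.exists_small_le.{v} P
  obtain ⟨Q', _, -, hQ⟩ := ObjectProperty.EssentiallySmall.exists_small_le.{v} Q
  choose W a b hW using fun p : Σ (Y : Subtype P') (Z : Subtype Q'), (Z.1 ⟶ Y.1⟦(1 : ℤ)⟧) =>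
    distinguished_cocone_triangle₂ p.2.2
  refine ⟨.ofObj W, inferInstance, ?_⟩
  rintro X ⟨Y, Z, f, g, h, hT, hY, hZ⟩
  obtain ⟨Y', hY', ⟨eY⟩⟩ := hP _ hY
  obtain ⟨Z', hZ', ⟨eZ⟩⟩ := hQ _ hZ
  let p : Σ (Y : Subtype P') (Z : Subtype Q'), (Z.1 ⟶ Y.1⟦(1 : ℤ)⟧) :=
    ⟨⟨Y', hY'⟩, ⟨Z', hZ'⟩, eZ.inv ≫ h ≫ eY.hom⟦1⟧'⟩
  obtain ⟨e, -⟩ := exists_iso_of_arrow_iso (Triangle.mk f g h).rotate.rotate
    (Triangle.mk (a p) (b p) (eZ.inv ≫ h ≫ eY.hom⟦1⟧')).rotate.rotate
    (rot_of_distTriang _ (rot_of_distTriang _ hT)) (rot_of_distTriang _ (rot_of_distTriang _ (hW p)))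
    (Arrow.isoMk eZ ((shiftFunctor D (1 : ℤ)).mapIso eY) (by simp))
  exact ⟨_, ObjectProperty.ofObj_apply _ p,
    ⟨(shiftFunctor D (1 : ℤ)).preimageIso (Triangle.π₃.mapIso e)⟩⟩

theorem essentiallySmall_triangEnvelope (P : ObjectProperty D) [ObjectProperty.EssentiallySmall.{v} P] :
    ObjectProperty.EssentiallySmall.{v} P.triangEnvelope := by
  haveI := essentiallySmall_shiftClosure P
  let R := (P.shiftClosure ℤ).binaryProductsClosure.retractClosure
  haveI : ObjectProperty.EssentiallySmall.{v} R := inferInstance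
  have h : ∀ n, ObjectProperty.EssentiallySmall.{v} (R.extensionProductIter n) := by
    intro n
    induction n with
    | zero => rw [ObjectProperty.extensionProductIter_zero]; infer_instance
    | succ n ih =>
      rw [ObjectProperty.extensionProductIter_succ]
      exact essentiallySmall_extensionProduct _ _
  haveI : ∀ n, ObjectProperty.EssentiallySmall.{v} (P.triangEnvelopeIter n) := fun n => by
    haveI := h n
    infer_instance
  have : ∀ n, ∃ Q : ObjectProperty D, ObjectProperty.Small.{v} Q ∧ P.triangEnvelopeIter n ≤ Q.isoClosure := fun n => by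
    obtain ⟨Q, hQ, -, h⟩ := ObjectProperty.EssentiallySmall.exists_small_le.{v} (P.triangEnvelopeIter n)
    exact ⟨Q, hQ, h⟩
  choose Q hQs hQ using this
  refine ⟨⨆ n, Q n, inferInstance, iSup_le fun n => (hQ n).trans ?_⟩
  exact ObjectProperty.monotone_isoClosure (le_iSup Q n)

/-- The compact objects of a compactly generated category are essentially small. -/
theorem exists_small_compacts [IsTriangulated D] [HasCoproducts.{v} D] (hD : CohDer.IsCompactlyGenerated D) :
    ∃ (κ : Type v) (G : κ → D), (∀ a, CohDer.IsCompactObject (G a)) ∧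
      ∀ X, CohDer.IsCompactObject X → ∃ a, Nonempty (X ≅ G a) := by
  obtain ⟨ι₀, E₀, hc₀, hg₀⟩ := hD
  let E : Option ι₀ → D := fun o => o.elim 0 E₀
  have hc : ∀ i, CohDer.IsCompactObject (E i) := fun o => by
    cases o with
    | none => exact (isCompactObject_iff _).2 (finFac_of_isZero (isZero_zero D))
    | some i => exact hc₀ i
  have hg : CohDer.Generates E := fun K hK => hg₀ K fun i n f => hK (some i) n f
  haveI := essentiallySmall_triangEnvelope (ObjectProperty.ofObj E)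
  haveI : ObjectProperty.EssentiallySmall.{v} (fun X : D => CohDer.IsCompactObject X) := by
    refine ObjectProperty.EssentiallySmall.of_le (Q := (ObjectProperty.ofObj E).triangEnvelope) fun X hX => ?_
    obtain ⟨s, hs⟩ := exists_env_of_compact hc hg X hX
    refine ObjectProperty.monotone_triangEnvelope ?_ _ hs
    rintro Y ⟨i, -, rfl⟩
    exact ObjectProperty.ofObj_apply _ i
  obtain ⟨Q, _, hQP, hPQ⟩ := ObjectProperty.EssentiallySmall.exists_small_le.{v} (fun X : D => CohDer.IsCompactObject X)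
  refine ⟨Shrink.{v} (Subtype Q), fun a => ((equivShrink _).symm a).1, fun a => hQP _ ((equivShrink _).symm a).2,
    fun X hX => ?_⟩
  obtain ⟨Y, hY, e⟩ := hPQ _ hX
  exact ⟨equivShrink _ ⟨Y, hY⟩, by simpa using e⟩

end Small

section Main

variable {k : Type w} [Field k] {D : Type u} [Category.{v} D] [Preadditive D] [HasZeroObject D] [HasShift D ℤ]
  [∀ n : ℤ, (shiftFunctor D n).Additive] [Pretriangulated D] [IsTriangulated D] [HasCoproducts.{v} D]

/-- The compact objects. -/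
abbrev Dc (D : Type u) [Category.{v} D] [Preadditive D] [HasCoproducts.{v} D] : Type u :=
  ObjectProperty.FullSubcategory (fun K : D => CohDer.IsCompactObject K)

variable (H : (Dc D)ᵒᵖ ⥤ ModuleCat.{v} k)

/-- The map induced by a morphism between compact objects. -/
noncomputable def hm {X X' : Dc D} (g : X.obj ⟶ X'.obj) : H.obj (op X') →ₗ[k] H.obj (op X) :=
  (H.map (ObjectProperty.homMk g : X ⟶ X').op).hom

lemma hm_comp {X X' X'' : Dc D} (g : X.obj ⟶ X'.obj) (g' : X'.obj ⟶ X''.obj) (t : H.obj (op X'')) :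
    hm H (g ≫ g') t = hm H g (hm H g' t) := by
  simp only [hm]
  rw [← LinearMap.comp_apply, ← ModuleCat.hom_comp, ← H.map_comp, ← op_comp]
  rfl

lemma hm_id (X : Dc D) (t : H.obj (op X)) : hm H (𝟙 X.obj) t = t := by
  simp only [hm]
  rw [show (ObjectProperty.homMk (𝟙 X.obj) : X ⟶ X) = 𝟙 X from rfl, op_id, H.map_id]
  rfl

variable [H.Additive]

lemma hm_add {X X' : Dc D} (g g' : X.obj ⟶ X'.obj) (t : H.obj (op X')) :
    hm H (g + g') t = hm H g t + hm H g' t := by
  simp only [hm]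
  rw [← LinearMap.add_apply, ← ModuleCat.hom_add, ← H.map_add, ← op_add]
  rfl

lemma hm_zero {X X' : Dc D} (t : H.obj (op X')) : hm H (0 : X.obj ⟶ X'.obj) t = 0 := by
  have := hm_add H (0 : X.obj ⟶ X'.obj) 0 t
  simpa using this

/-- Data: a small skeleton of the compact objects and exactness. -/
structure Setup where
  /-- index type -/
  κ : Type v
  /-- representatives -/
  G : κ → Dc D
  surj : ∀ X : Dc D, ∃ a, Nonempty (X.obj ≅ (G a).obj)
  exact : ∀ {X X' : Dc D} (g : X.obj ⟶ X'.obj) (t : H.obj (op X)),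
    (∀ (W : Dc D) (c : W.obj ⟶ X.obj), c ≫ g = 0 → hm H c t = 0) → ∃ z, hm H g z = t

variable {H} (S : Setup H)

/-- Natural families. -/
def natFam (Y : D) : AddSubgroup (∀ a : S.κ, ((S.G a).obj ⟶ Y) →+ H.obj (op (S.G a))) where
  carrier := {φ | ∀ (a b : S.κ) (g : (S.G b).obj ⟶ (S.G a).obj) (x : (S.G a).obj ⟶ Y),
    φ b (g ≫ x) = hm H g (φ a x)}
  add_mem' {φ ψ} hφ hψ a b g x := by simp [hφ a b g x, hψ a b g x]
  zero_mem' a b g x := by simp
  neg_mem' {φ} hφ a b g x := by simp [hφ a b g x]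

/-- The functor to be represented. -/
noncomputable def natFun : Dᵒᵖ ⥤ AddCommGrpCat.{v} where
  obj Y := AddCommGrpCat.of (natFam S Y.unop)
  map {Y Y'} f := AddCommGrpCat.ofHom
    { toFun := fun φ => ⟨fun a => (φ.1 a).comp (Preadditive.rightComp _ f.unop), fun a b g x => by
        show φ.1 b ((g ≫ x) ≫ f.unop) = hm H g (φ.1 a (x ≫ f.unop))
        rw [Category.assoc, φ.2]⟩
      map_zero' := rfl
      map_add' := fun _ _ => rfl }
  map_id Y := by
    refine AddCommGrpCat.hom_ext (AddMonoidHom.ext fun φ => Subtype.ext (funext fun a => AddMonoidHom.ext fun x => ?_))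
    show φ.1 a (x ≫ 𝟙 _) = φ.1 a x
    rw [Category.comp_id]
  map_comp f f' := by
    refine AddCommGrpCat.hom_ext (AddMonoidHom.ext fun φ => Subtype.ext (funext fun a => AddMonoidHom.ext fun x => ?_))
    show φ.1 a (x ≫ f'.unop ≫ f.unop) = φ.1 a ((x ≫ f'.unop) ≫ f.unop)
    rw [Category.assoc]

/-- A partially defined natural transformation, given by its graph. -/
structure Partial (Y : D) where
  /-- the graph -/
  R : ∀ a : S.κ, AddSubgroup (((S.G a).obj ⟶ Y) × H.obj (op (S.G a)))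
  functional : ∀ a t, ((0 : (S.G a).obj ⟶ Y), t) ∈ R a → t = 0
  closed : ∀ (a b : S.κ) (g : (S.G b).obj ⟶ (S.G a).obj) (p : ((S.G a).obj ⟶ Y) × H.obj (op (S.G a))),
    p ∈ R a → (g ≫ p.1, hm H g p.2) ∈ R b

variable [∀ X, Module.Finite k (H.obj X)] {Y : D}

lemma Partial.exists_value (P : Partial S Y) (a : S.κ) (x : (S.G a).obj ⟶ Y) :
    ∃ z : H.obj (op (S.G a)), ∀ (b : S.κ) (g : (S.G b).obj ⟶ (S.G a).obj) (t : H.obj (op (S.G b))),
      (g ≫ x, t) ∈ P.R b → hm H g z = t := by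
  classical
  let ι := { i : Σ b : S.κ, (((S.G b).obj ⟶ (S.G a).obj) × H.obj (op (S.G b))) // (i.2.1 ≫ x, i.2.2) ∈ P.R i.1 }
  obtain ⟨z, hz⟩ := exists_forall_mem (k := k) (fun i : ι => LinearMap.ker (hm H i.1.2.1))
    (fun i z => hm H i.1.2.1 z = i.1.2.2) (fun i z z' hz => by
      rw [LinearMap.mem_ker, map_sub, hz, sub_eq_zero]) (fun s => by
    have : ∃ i : ι, ∀ z, hm H i.1.2.1 z = i.1.2.2 → ∀ j ∈ s, hm H j.1.2.1 z = j.1.2.2 := by
      induction s using Finset.induction with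
      | empty =>
        exact ⟨⟨⟨a, 0, 0⟩, by rw [zero_comp]; exact (P.R a).zero_mem⟩, fun z _ j hj => absurd hj (by simp)⟩
      | insert j s _ ih =>
        obtain ⟨⟨⟨b₁, g₁, t₁⟩, h₁⟩, hi⟩ := ih
        obtain ⟨⟨b₂, g₂, t₂⟩, h₂⟩ := j
        have hW : CohDer.IsCompactObject ((S.G b₁).obj ⊞ (S.G b₂).obj) :=
          (isCompactObject_iff _).2 (FinFac.of_ext (binaryBiproductTriangle_distinguished _ _)
            ((isCompactObject_iff _).1 (S.G b₁).property) ((isCompactObject_iff _).1 (S.G b₂).property))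
        obtain ⟨c, ⟨e⟩⟩ := S.surj ⟨_, hW⟩
        let π₁ : (S.G c).obj ⟶ (S.G b₁).obj := e.inv ≫ biprod.fst
        let π₂ : (S.G c).obj ⟶ (S.G b₂).obj := e.inv ≫ biprod.snd
        let j₁ : (S.G b₁).obj ⟶ (S.G c).obj := biprod.inl ≫ e.hom
        let j₂ : (S.G b₂).obj ⟶ (S.G c).obj := biprod.inr ≫ e.hom
        refine ⟨⟨⟨c, π₁ ≫ g₁ + π₂ ≫ g₂, hm H π₁ t₁ + hm H π₂ t₂⟩, ?_⟩, fun z hz => ?_⟩
        · dsimp only
          rw [show (π₁ ≫ g₁ + π₂ ≫ g₂) ≫ x = π₁ ≫ (g₁ ≫ x) + π₂ ≫ (g₂ ≫ x) by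
            rw [Preadditive.add_comp, Category.assoc π₁, Category.assoc π₂]]
          exact (P.R c).add_mem (P.closed b₁ c π₁ _ h₁) (P.closed b₂ c π₂ _ h₂)
        · change hm H (π₁ ≫ g₁ + π₂ ≫ g₂) z = hm H π₁ t₁ + hm H π₂ t₂ at hz
          have e₁ : hm H g₁ z = t₁ := by
            have := congrArg (hm H j₁) hz
            rw [map_add, ← hm_comp, ← hm_comp, ← hm_comp] at this
            simpa [j₁, π₁, π₂, hm_id, hm_zero] using this
          have e₂ : hm H g₂ z = t₂ := by
            have := congrArg (hm H j₂) hz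
            rw [map_add, ← hm_comp, ← hm_comp, ← hm_comp] at this
            simpa [j₂, π₁, π₂, hm_id, hm_zero] using this
          intro i hi'
          rcases Finset.mem_insert.1 hi' with rfl | hi''
          · exact e₂
          · exact hi z e₁ i hi''
    obtain ⟨⟨⟨b, g, t⟩, ht⟩, hi⟩ := this
    obtain ⟨z, hz⟩ := S.exact g t (fun W c hc => by
      obtain ⟨d, ⟨e⟩⟩ := S.surj W
      have h0 : hm H (e.inv ≫ c) t = 0 := P.functional d _ (by
        have := P.closed b d (e.inv ≫ c) _ ht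
        rwa [← Category.assoc (e.inv ≫ c) g x, Category.assoc e.inv c g, hc, comp_zero, zero_comp] at this)
      have := congrArg (hm H e.hom) h0
      rwa [← hm_comp, Iso.hom_inv_id_assoc, map_zero] at this)
    exact ⟨z, hi z hz⟩)
  exact ⟨z, fun b g t h => hz ⟨⟨b, g, t⟩, h⟩⟩

/-- Extend a partial natural transformation by one element. -/
noncomputable def Partial.extend (P : Partial S Y) (a : S.κ) (x : (S.G a).obj ⟶ Y) (z : H.obj (op (S.G a)))
    (hz : ∀ (b : S.κ) (g : (S.G b).obj ⟶ (S.G a).obj) (t : H.obj (op (S.G b))),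
      (g ≫ x, t) ∈ P.R b → hm H g z = t) : Partial S Y where
  R b :=
    { carrier := {p | ∃ (g : (S.G b).obj ⟶ (S.G a).obj), p - (g ≫ x, hm H g z) ∈ P.R b}
      zero_mem' := ⟨0, by simp [hm_zero]; exact (P.R b).zero_mem⟩
      add_mem' := by
        rintro p q ⟨g, hg⟩ ⟨g', hg'⟩
        refine ⟨g + g', ?_⟩
        convert (P.R b).add_mem hg hg' using 1
        ext <;> simp [Preadditive.add_comp, hm_add] <;> abel
      neg_mem' := by
        rintro p ⟨g, hg⟩
        refine ⟨-g, ?_⟩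
        convert (P.R b).neg_mem hg using 1
        have : hm H (-g) z = -(hm H g z) := eq_neg_of_add_eq_zero_left (by rw [← hm_add, neg_add_cancel, hm_zero])
        ext <;> simp [Preadditive.neg_comp, this] <;> abel }
  functional b t := by
    rintro ⟨g, hg⟩
    have h := hz b g (hm H g z - t) (by simpa using (P.R b).neg_mem hg)
    exact sub_eq_self.1 h.symm
  closed b c g' p := by
    rintro ⟨g, hg⟩
    refine ⟨g' ≫ g, ?_⟩
    convert P.closed b c g' _ hg using 1
    ext <;> simp [Preadditive.comp_sub, Category.assoc, hm_comp, map_sub]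

lemma Partial.extension (P : Partial S Y) :
    ∃ φ : natFam S Y, ∀ a p, p ∈ P.R a → φ.1 a p.1 = p.2 := by
  classical
  let T := { Q : Partial S Y // ∀ a, P.R a ≤ Q.R a }
  letI : Preorder T := Preorder.lift fun Q => Q.1.R
  haveI : Nonempty T := ⟨⟨P, fun _ => le_rfl⟩⟩
  obtain ⟨Q, hQ⟩ := zorn_le_nonempty (α := T) fun c hc hne => by
    obtain ⟨Q₀, hQ₀⟩ := hne
    haveI : Nonempty c := ⟨⟨Q₀, hQ₀⟩⟩
    have hdir : ∀ a, Directed (· ≤ ·) fun Q : c => Q.1.1.R a := fun a Q Q' => by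
      rcases hc.total Q.2 Q'.2 with h | h
      · exact ⟨Q', h a, le_rfl⟩
      · exact ⟨Q, le_rfl, h a⟩
    refine ⟨⟨{ R := fun a => ⨆ Q : c, Q.1.1.R a, functional := ?_, closed := ?_ }, ?_⟩, ?_⟩
    · intro a t ht
      obtain ⟨Q, hQ⟩ := (AddSubgroup.mem_iSup_of_directed (hdir a)).1 ht
      exact Q.1.1.functional a t hQ
    · intro a b g p hp
      obtain ⟨Q, hQ⟩ := (AddSubgroup.mem_iSup_of_directed (hdir a)).1 hp
      exact AddSubgroup.mem_iSup_of_mem Q (Q.1.1.closed a b g p hQ)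
    · intro a
      exact (Q₀.2 a).trans (le_iSup (fun Q : c => Q.1.1.R a) ⟨Q₀, hQ₀⟩)
    · intro Q hQ a
      exact le_iSup (fun Q : c => Q.1.1.R a) ⟨Q, hQ⟩
  have htot : ∀ a x, ∃ t, (x, t) ∈ Q.1.R a := by
    intro a x
    obtain ⟨z, hz⟩ := Q.1.exists_value S a x
    have h0 : ∀ b (p : ((S.G b).obj ⟶ Y) × H.obj (op (S.G b))),
        p - ((0 : (S.G b).obj ⟶ (S.G a).obj) ≫ x, hm H (0 : (S.G b).obj ⟶ (S.G a).obj) z) = p := fun b p => by
      ext <;> simp [hm_zero]
    let Q' : T := ⟨Q.1.extend S a x z hz, fun b p hp => ⟨0, (h0 b p).symm ▸ Q.2 b hp⟩⟩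
    have hle : Q ≤ Q' := fun b p hp => ⟨0, (h0 b p).symm ▸ hp⟩
    refine ⟨z, hQ hle a ⟨𝟙 _, ?_⟩⟩
    simp [hm_id]
  choose t ht using htot
  have huniq : ∀ a x y, (x, y) ∈ Q.1.R a → t a x = y := fun a x y h => by
    have := (Q.1.R a).sub_mem (ht a x) h
    exact sub_eq_zero.1 (Q.1.functional a _ (by simpa using this))
  refine ⟨⟨fun a => AddMonoidHom.mk' (t a) fun x y => huniq a _ _ (by simpa using (Q.1.R a).add_mem (ht a x) (ht a y)),
    fun a b g x => huniq b _ _ (Q.1.closed a b g _ (ht a x))⟩, fun a p hp => huniq a _ _ (Q.2 a hp)⟩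

/-- The partial transformation on the image of a morphism. -/
noncomputable def ofHom {X Y : D} (p : X ⟶ Y) (φ : natFam S X)
    (h : ∀ a (u : (S.G a).obj ⟶ X), u ≫ p = 0 → φ.1 a u = 0) : Partial S Y where
  R a := ((Preadditive.rightComp (S.G a).obj p).prod (φ.1 a)).range
  functional a t := by
    rintro ⟨u, hu⟩
    obtain ⟨h₁, rfl⟩ := Prod.mk.injEq .. ▸ hu
    exact h a u h₁
  closed a b g q := by
    rintro ⟨u, rfl⟩
    refine ⟨g ≫ u, ?_⟩
    show ((g ≫ u) ≫ p, φ.1 b (g ≫ u)) = (g ≫ u ≫ p, hm H g (φ.1 a u))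
    rw [Category.assoc, φ.2]

theorem natFun_isHomological : (natFun S).IsHomological where
  map_zero X Y := by
    refine AddCommGrpCat.hom_ext (AddMonoidHom.ext fun φ => Subtype.ext (funext fun a => AddMonoidHom.ext fun x => ?_))
    show φ.1 a (x ≫ 0) = 0
    rw [comp_zero, map_zero]
  exact T hT := by
    rw [ShortComplex.ab_exact_iff]
    intro (φ : natFam S T.obj₂.unop) hφ
    have hφ' : ∀ a (v : (S.G a).obj ⟶ T.obj₃.unop), φ.1 a (v ≫ T.mor₂.unop) = 0 := fun a v =>
      DFunLike.congr_fun (congrFun (congrArg Subtype.val hφ) a) v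
    have hfac : ∀ a (u : (S.G a).obj ⟶ T.obj₂.unop), u ≫ T.mor₁.unop = 0 → φ.1 a u = 0 := by
      intro a u hu
      obtain ⟨v, rfl⟩ := Triangle.coyoneda_exact₂ _ (unop_distinguished T hT) u hu
      exact hφ' a v
    obtain ⟨ψ, hψ⟩ := (ofHom S T.mor₁.unop φ hfac).extension S
    refine ⟨ψ, Subtype.ext (funext fun a => AddMonoidHom.ext fun u => ?_)⟩
    exact hψ a (u ≫ T.mor₁.unop, φ.1 a u) ⟨u, rfl⟩

theorem natFun_isProd : Brown.IsProd (natFun S) := by
  classical
  intro κ' X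
  let d : ∀ (a : S.κ) (i : κ'), ((S.G a).obj ⟶ X i) →+ ((S.G a).obj ⟶ ∐ X) := fun a i =>
    Preadditive.rightComp _ (Sigma.ι X i)
  have gen : ∀ (a : S.κ) {M : Type v} [AddCommGroup M] (φ ψ : ((S.G a).obj ⟶ ∐ X) →+ M),
      (∀ (i : κ') (z : (S.G a).obj ⟶ X i), φ (z ≫ Sigma.ι X i) = ψ (z ≫ Sigma.ι X i)) → φ = ψ := by
    intro a M _ φ ψ h
    refine AddMonoidHom.ext fun x => ?_
    obtain ⟨s, hs⟩ := (isCompactObject_iff _).1 (S.G a).property κ' X x
    rw [← hs, finProj_eq_sum, Preadditive.comp_sum, map_sum, map_sum]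
    refine Finset.sum_congr rfl fun i _ => ?_
    rw [← Category.assoc]
    exact h i _
  refine ⟨fun (φ : natFam S (∐ X)) (ψ : natFam S (∐ X)) h => Subtype.ext (funext fun a => gen a _ _ fun i z =>
    DFunLike.congr_fun (congrFun (congrArg Subtype.val (congrFun h i)) a) z), fun y => ?_⟩
  let y' : ∀ i, natFam S (X i) := y
  let Φ : ∀ a, DirectSum κ' (fun i => (S.G a).obj ⟶ X i) ≃+ ((S.G a).obj ⟶ ∐ X) := fun a =>
    AddEquiv.ofBijective _ ((S.G a).property κ' X)
  let ψ : ∀ a, ((S.G a).obj ⟶ ∐ X) →+ H.obj (op (S.G a)) := fun a =>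
    (DirectSum.toAddMonoid fun i => (y' i).1 a).comp (Φ a).symm.toAddMonoidHom
  have hψ : ∀ a i (z : (S.G a).obj ⟶ X i), ψ a (z ≫ Sigma.ι X i) = (y' i).1 a z := by
    intro a i z
    have : Φ a (DirectSum.of _ i z) = z ≫ Sigma.ι X i := by
      show CohDer.homSumToHomCoprod (S.G a).obj X (DirectSum.of _ i z) = _
      simp only [CohDer.homSumToHomCoprod]
      erw [DirectSum.toAddMonoid_of]
      rfl
    show DirectSum.toAddMonoid (fun i => (y' i).1 a) ((Φ a).symm (z ≫ Sigma.ι X i)) = _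
    rw [← this, AddEquiv.symm_apply_apply, DirectSum.toAddMonoid_of]
  refine ⟨(⟨ψ, fun a b g x => ?_⟩ : natFam S (∐ X)), funext fun i => Subtype.ext (funext fun a =>
    AddMonoidHom.ext fun z => hψ a i z)⟩
  exact DFunLike.congr_fun (gen a ((ψ b).comp (Preadditive.leftComp _ g)) ((hm H g).toAddMonoidHom.comp (ψ a))
    fun i z => by
      show ψ b (g ≫ z ≫ Sigma.ι X i) = hm H g (ψ a (z ≫ Sigma.ι X i))
      rw [← Category.assoc, hψ, hψ, (y' i).2]) x

end Main

/-- A cohomological functor on compact objects with finite-dimensional values is representable. -/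
theorem representable_on_compacts {k : Type w} [Field k]
    {D : Type u} [Category.{v} D] [Preadditive D] [Linear k D] [HasZeroObject D] [HasShift D ℤ]
    [∀ n : ℤ, (shiftFunctor D n).Additive]
    [Pretriangulated D] [IsTriangulated D] [HasCoproducts.{v} D]
    (hD : CohDer.IsCompactlyGenerated D) (H : (Dc D)ᵒᵖ ⥤ ModuleCat.{v} k) [H.Additive]
    (hlin : ∀ (X Y : Dc D) (r : k) (f : X ⟶ Y), H.map (r • f).op = r • H.map f.op)
    (hcoh : ∀ T ∈ distTriang D, ∀ (h₁ : CohDer.IsCompactObject T.obj₁)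
      (h₂ : CohDer.IsCompactObject T.obj₂) (h₃ : CohDer.IsCompactObject T.obj₃)
      (y : H.obj (op ⟨T.obj₂, h₂⟩)),
      H.map (ObjectProperty.homMk T.mor₁ : (⟨T.obj₁, h₁⟩ : Dc D) ⟶ ⟨T.obj₂, h₂⟩).op y = 0 →
        ∃ z : H.obj (op ⟨T.obj₃, h₃⟩),
          H.map (ObjectProperty.homMk T.mor₂ : (⟨T.obj₂, h₂⟩ : Dc D) ⟶ ⟨T.obj₃, h₃⟩).op z = y)
    (hfin : ∀ X, Module.Finite k (H.obj X)) :
    ∃ Y : D, Nonempty (H ≅ (ObjectProperty.ι _).op ⋙ (linearYoneda k D).obj Y) := by
  obtain ⟨κ, G, hG, hsurj⟩ := exists_small_compacts hD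
  let S : Setup H :=
    { κ := κ
      G := fun a => ⟨G a, hG a⟩
      surj := fun X => hsurj X.obj X.property
      exact := fun {X X'} g t h => by
        obtain ⟨C, a, b, hT⟩ := distinguished_cocone_triangle g
        have hT' := inv_rot_of_distTriang _ hT
        have hC : CohDer.IsCompactObject (C⟦(-1 : ℤ)⟧) := (isCompactObject_iff _).2 (FinFac.of_fibre hT'
          ((isCompactObject_iff _).1 X.property) ((isCompactObject_iff _).1 X'.property))
        exact hcoh _ hT' hC X.property X'.property t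
          (h ⟨_, hC⟩ _ (comp_distTriang_mor_zero₁₂ _ hT')) }
  haveI := natFun_isHomological S
  obtain ⟨ι₀, E, hc, hg⟩ := hD
  haveI : HasColimitsOfShape (Discrete ℕ) D :=
    hasColimitsOfShape_of_equivalence (Discrete.equivalence Equiv.ulift.{v})
  obtain ⟨Z, a₀, ha⟩ := Brown.representable (Brown.isPerfGen_shifts E (Brown.isZero_of_generates E hg)
    (fun X i α => Brown.fac_of_compact E hc X i α)) (natFun_isProd S)
  let α : natFam S Z := a₀
  have hbij : ∀ b, Function.Bijective (α.1 b) := by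
    intro b
    let ev : natFam S (S.G b).obj → H.obj (op (S.G b)) := fun φ => φ.1 b (𝟙 _)
    have hev : Function.Bijective ev := by
      refine ⟨fun φ ψ h => Subtype.ext (funext fun c => AddMonoidHom.ext fun g => ?_), fun t => ?_⟩
      · rw [← Category.comp_id g, φ.2 b c g, ψ.2 b c g]
        exact congrArg (hm H g) h
      · exact ⟨⟨fun c => AddMonoidHom.mk' (fun g => hm H g t) fun g g' => hm_add H g g' t,
          fun c d g x => hm_comp H g x t⟩, hm_id H _ t⟩
    have e : (α.1 b : _ → _) = ev ∘ fun h : (S.G b).obj ⟶ Z => Brown.pb (natFun S) h a₀ :=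
      funext fun h => congrArg (α.1 b) (Category.id_comp h).symm
    rw [e]
    exact hev.comp (ha _)
  choose sel hsel using fun X : Dc D => S.surj X
  let θ : ∀ X : Dc D, (X.obj ≅ (S.G (sel X)).obj) := fun X => (hsel X).some
  let Ψ : ∀ X : Dc D, (X.obj ⟶ Z) → H.obj (op X) := fun X x => hm H (θ X).hom (α.1 (sel X) ((θ X).inv ≫ x))
  have hnat : ∀ {X X' : Dc D} (g : X.obj ⟶ X'.obj) (x : X'.obj ⟶ Z), Ψ X (g ≫ x) = hm H g (Ψ X' x) := by
    intro X X' g x
    show hm H (θ X).hom (α.1 (sel X) ((θ X).inv ≫ g ≫ x)) = hm H g (hm H (θ X').hom _)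
    have : (θ X).inv ≫ g ≫ x = ((θ X).inv ≫ g ≫ (θ X').hom) ≫ ((θ X').inv ≫ x) := by simp
    rw [this, α.2, ← hm_comp, ← hm_comp]
    simp
  have hΨ : ∀ X, Function.Bijective (Ψ X) := fun X => by
    refine Function.Bijective.comp ?_ ((hbij (sel X)).comp ((θ X).homFromEquiv (Z := Z)).bijective)
    exact Function.bijective_iff_has_inverse.2 ⟨hm H (θ X).inv,
      fun t => by rw [← hm_comp, Iso.inv_hom_id, hm_id], fun t => by rw [← hm_comp, Iso.hom_inv_id, hm_id]⟩
  have hhom : ∀ (X : Dc D) (r : k) (x : X.obj ⟶ Z), Ψ X (r • x) = r • Ψ X x := fun X r x => by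
    have hr : ∀ t, hm H (r • 𝟙 X.obj) t = r • t := fun t => by
      have := congrArg (fun f => (ModuleCat.Hom.hom f) t) (hlin X X r (𝟙 X))
      rw [op_id, CategoryTheory.Functor.map_id] at this
      exact this
    rw [← hr, ← hnat, Linear.smul_comp, Category.id_comp]
  let L : ∀ X : Dc D, (X.obj ⟶ Z) ≃ₗ[k] H.obj (op X) := fun X =>
    LinearEquiv.ofBijective
      { toFun := Ψ X
        map_add' := fun x y => by simp [Ψ, Preadditive.comp_add]
        map_smul' := hhom X } (hΨ X)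
  refine ⟨Z, ⟨Iso.symm (NatIso.ofComponents (fun X => (L X.unop).toModuleIso) fun {X X'} g => ?_)⟩⟩
  exact ModuleCat.hom_ext (LinearMap.ext fun x => hnat g.unop.hom x)

end Groth.Agent.DCat.FinBrown17
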