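import Groth.Agent.DCat.FinBrown17
import Groth.Agent.Dual22Lib.GenEnv
import Groth.Agent.Dual22Lib.CompactPerf
import Groth.Agent.Dual22Lib.PerfGen
import Groth.Agent.DCat.RHomDual
import Groth.Prelude.Def_KLin
import Groth.Prelude.Def_SGA6
import Mathlib.Algebra.Homology.DerivedCategory.ExactFunctor
import Mathlib.Algebra.Module.Shrink
import Mathlib.LinearAlgebra.Dimension.Free

/-!
# Finite-dimensional cohomological functors on perfect objects are represented in `D_qc`
-/

set_option autoImplicit false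
set_option backward.isDefEq.respectTransparency false
set_option backward.defeqAttrib.useBackward true
set_option linter.style.haveILetI false
set_option linter.unusedSectionVars false
set_option synthInstance.maxHeartbeats 100000

universe v w u

open CategoryTheory CategoryTheory.Limits CategoryTheory.Pretriangulated AlgebraicGeometry Opposite
open Groth.Agent.DCat Groth.Agent.Dual22Lib

attribute [-instance] Int.instConditionallyCompleteLinearOrder

namespace Groth.Agent.DCat.FinBrownModel17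

section Model

variable {k : Type u} [Field k]
variable {A : Type (u + 1)} [Category.{u} A] [Abelian A] [IsGrothendieckAbelian.{u} A] [hs : HasDerivedCategory.{u} A]
  [Linear k A]
  {D : Type w} [Category.{v} D] [Preadditive D] [Linear k D] [HasZeroObject D] [HasShift D ℤ]
  [∀ n : ℤ, (shiftFunctor D n).Additive] [∀ n : ℤ, (shiftFunctor D n).Linear k] [Pretriangulated D]
  (I : DerivedCategory A ⥤ D) [I.CommShift ℤ] [I.IsTriangulated] [I.IsEquivalence] [I.Linear k]
  (qc : ObjectProperty D) [qc.IsTriangulated] [qc.IsClosedUnderIsomorphisms]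

theorem small_of_finite {M : Type*} [AddCommGroup M] [Module k M] [Module.Finite k M] : Small.{u} M :=
  small_of_injective (Module.finBasis k M).equivFun.injective

include I in
/-- Representability on the objects of a thick class of compact generation. -/
theorem representable [IsTriangulated D] [HasCoproducts.{u} D]
    (hsum : ∀ (J : Type u) (K : J → D), (∀ j, qc (K j)) → qc (∐ K))
    (G : D) (Φ : ObjectProperty D) [Φ.IsTriangulated] [Φ.IsClosedUnderIsomorphisms] [Φ.IsStableUnderRetracts]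
    (hΦq : ∀ P, Φ P → qc P)
    (hΦc : ∀ P, Φ P → ∀ (J : Type u) (K : J → D), (∀ j, qc (K j)) → DQCoh.SumFac K P)
    (hΦG : Φ G) (hgen : ∀ E : D, qc E → (∀ (n : ℤ) (φ : G⟦n⟧ ⟶ E), φ = 0) → IsZero E)
    (H : (Φ.FullSubcategory)ᵒᵖ ⥤ ModuleCat.{v} k) [H.Additive]
    (hlin : ∀ (A B : Φ.FullSubcategory) (r : k) (f : A ⟶ B), H.map (r • f).op = r • H.map f.op)
    (hcoh : ∀ T ∈ distTriang D, ∀ (h₁ : Φ T.obj₁) (h₂ : Φ T.obj₂) (h₃ : Φ T.obj₃)
      (y : H.obj (op ⟨T.obj₂, h₂⟩)),
      H.map (ObjectProperty.homMk T.mor₁ : (⟨T.obj₁, h₁⟩ : Φ.FullSubcategory) ⟶ ⟨T.obj₂, h₂⟩).op y = 0 →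
        ∃ z : H.obj (op ⟨T.obj₃, h₃⟩),
          H.map (ObjectProperty.homMk T.mor₂ : (⟨T.obj₂, h₂⟩ : Φ.FullSubcategory) ⟶ ⟨T.obj₃, h₃⟩).op z = y)
    (hfin : ∀ X, Module.Finite k (H.obj X)) :
    ∃ K : D, qc K ∧ Nonempty (H ≅ (ObjectProperty.ι Φ).op ⋙ (linearYoneda k D).obj K) := by
  haveI : HasCoproducts.{u} (DerivedCategory A) := fun J =>
    hasCoproductsOfShape_derived enoughKInj_of_isGrothendieckAbelian J
  haveI hclosed : ∀ J : Type u, (GenEnv.sqc I qc).IsClosedUnderColimitsOfShape (Discrete J) := fun J => by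
    constructor
    rintro K ⟨c⟩
    let F := c.diag ⋙ I
    have hc : IsColimit (I.mapCocone (Cocone.mk K c.ι)) := isColimitOfPreserves I c.isColimit
    refine qc.prop_of_iso ?_ (hsum J (fun j => F.obj ⟨j⟩) fun j => c.prop_diag_obj ⟨j⟩)
    exact (HasColimit.isoOfNatIso (Discrete.natIsoFunctor (F := F))).symm ≪≫
      (colimit.isColimit F).coconePointUniqueUpToIso hc
  haveI : HasCoproducts.{u} (GenEnv.QS I qc) := fun J =>
    hasColimitsOfShape_of_closedUnderColimits (GenEnv.sqc I qc) (J := Discrete J)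
  haveI : ∀ J : Type u, PreservesColimitsOfShape (Discrete J) (GenEnv.sqc I qc).ι := fun J => by
    haveI : CreatesColimitsOfShape (Discrete J) (GenEnv.sqc I qc).ι :=
      createsColimitsOfShapeFullSubcategoryInclusion (Discrete J) (GenEnv.sqc I qc)
    infer_instance
  let F := GenEnv.emb I qc
  haveI : ∀ n : ℤ, (shiftFunctor (GenEnv.QS I qc) n).Linear k := fun n =>
    KLin.linear_shiftFunctor_fullSubcategory _ n
  have hfac : ∀ Q : GenEnv.QS I qc, Φ (F.obj Q) → FinFac Q := fun Q hQ' κ K α => by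
    classical
    have hQ := hΦc _ hQ'
    let c := PreservesCoproduct.iso F K
    obtain ⟨s, hs⟩ := hQ κ (fun k => F.obj (K k)) (fun k => (K k).property) (F.map α ≫ c.hom)
    refine ⟨s, F.map_injective ?_⟩
    rw [← cancel_mono c.hom, Functor.map_comp, Category.assoc]
    refine Eq.trans (congrArg (F.map α ≫ ·) ?_) ((Category.assoc _ _ _).symm.trans hs)
    rw [← cancel_epi c.inv]
    refine Sigma.hom_ext _ _ fun k => ?_
    rw [PreservesCoproduct.inv_hom, ι_comp_sigmaComparison_assoc, ι_comp_sigmaComparison_assoc,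
      ← Functor.map_comp_assoc, ι_finProj]
    have hk : F.map (Sigma.ι K k) ≫ c.hom = Sigma.ι (fun k => F.obj (K k)) k := by
      rw [← ι_comp_sigmaComparison F K k, ← PreservesCoproduct.inv_hom, Category.assoc, Iso.inv_hom_id,
        Category.comp_id]
    erw [reassoc_of% hk, DQCoh.ι_subSum]
    split_ifs
    · exact hk
    · simp
  obtain ⟨G', ⟨eG⟩⟩ := GenEnv.exists_preimage I qc G (hΦq G hΦG)
  have hG' : Φ (F.obj G') := Φ.prop_of_iso eG.symm hΦG
  have hc : ∀ _ : PUnit.{u + 1}, CohDer.IsCompactObject G' := fun _ => (isCompactObject_iff _).2 (hfac G' hG')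
  have hg : CohDer.Generates fun _ : PUnit.{u + 1} => G' := fun K hK => by
    refine (IsZero.iff_id_eq_zero K).2 (F.map_injective ?_)
    refine (hgen (F.obj K) K.property fun n φ => ?_).eq_of_src _ _
    let ψ : F.obj (G'⟦n⟧) ⟶ F.obj K := ((F.commShiftIso n).app G').hom ≫ eG.hom⟦n⟧' ≫ φ
    suffices hψ : ψ = 0 by
      rw [← cancel_epi (eG.hom⟦n⟧'), comp_zero, ← cancel_epi ((F.commShiftIso n).app G').hom, comp_zero]
      exact hψ
    obtain ⟨ψ', hψ'⟩ := F.map_surjective ψ
    rw [← hψ']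
    suffices hz : ψ' = 0 by rw [hz, F.map_zero]
    apply (shiftFunctor (GenEnv.QS I qc) (-n)).map_injective
    rw [Functor.map_zero,
      ← cancel_epi ((shiftFunctorCompIsoId (GenEnv.QS I qc) n (-n) (by omega)).app G').inv, comp_zero]
    exact hK ⟨⟩ (-n) _
  have hcΦ : ∀ Q : GenEnv.QS I qc, CohDer.IsCompactObject Q → Φ (F.obj Q) := fun Q hQ => by
    let P₀ := Φ.inverseImage F
    haveI : P₀.IsStableUnderRetracts := ⟨fun r h => Φ.prop_of_retract (r.map F) h⟩
    obtain ⟨s, hs⟩ := exists_env_of_compact hc hg Q hQ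
    exact (ObjectProperty.triangEnvelope_le_iff (Q := P₀) _).2 (fun Y ⟨_, _, hY⟩ => hY ▸ hG') _ hs
  let J : FinBrown17.Dc (GenEnv.QS I qc) ⥤ Φ.FullSubcategory :=
    ObjectProperty.lift Φ (ObjectProperty.ι _ ⋙ F) fun Q => hcΦ _ Q.property
  haveI : J.Full := ⟨fun {Q Q'} g =>
    ⟨ObjectProperty.homMk (F.preimage g.hom), ObjectProperty.hom_ext _ (F.map_preimage g.hom)⟩⟩
  haveI : J.Faithful := ⟨fun {Q Q'} a b h => ObjectProperty.hom_ext _ (F.map_injective (congrArg (·.hom) h))⟩
  haveI : J.EssSurj := ⟨fun P => by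
    obtain ⟨P', ⟨eP⟩⟩ := GenEnv.exists_preimage I qc P.obj (hΦq _ P.property)
    exact ⟨⟨P', (isCompactObject_iff _).2 (hfac P' (Φ.prop_of_iso eP.symm P.property))⟩,
      ⟨Φ.isoMk eP⟩⟩⟩
  haveI : J.IsEquivalence := { }
  haveI : J.Additive := ⟨fun {X Y f g} => ObjectProperty.hom_ext _ (F.map_add (f := f.hom) (g := g.hom))⟩
  haveI : ∀ X, Small.{u} (H.obj X) := fun X => by haveI := hfin X; exact small_of_finite (k := k)
  let S : ∀ X : Φ.FullSubcategoryᵒᵖ, ModuleCat.{u} k := fun X => ModuleCat.of k (Shrink.{u} (H.obj X))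
  let σ : ∀ X, S X ≃ₗ[k] H.obj X := fun X => Shrink.linearEquiv k (H.obj X)
  let Hs : (FinBrown17.Dc (GenEnv.QS I qc))ᵒᵖ ⥤ ModuleCat.{u} k :=
    { obj := fun X => S (op (J.obj X.unop))
      map := fun {X Y} f => ModuleCat.ofHom
        ((σ _).symm.toLinearMap ∘ₗ (H.map (J.map f.unop).op).hom ∘ₗ (σ _).toLinearMap)
      map_id := fun X => by
        refine ModuleCat.hom_ext (LinearMap.ext fun x => ?_)
        show (σ _).symm ((H.map (J.map (𝟙 X.unop)).op).hom (σ _ x)) = x
        simp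
      map_comp := fun {X Y Z} f g => by
        refine ModuleCat.hom_ext (LinearMap.ext fun x => ?_)
        show (σ _).symm ((H.map (J.map (g.unop ≫ f.unop)).op).hom (σ _ x)) =
          (σ _).symm ((H.map (J.map g.unop).op).hom (σ _ ((σ _).symm ((H.map (J.map f.unop).op).hom (σ _ x)))))
        rw [LinearEquiv.apply_symm_apply, J.map_comp, op_comp, H.map_comp]
        rfl }
  haveI : Hs.Additive := ⟨fun {X Y f g} => by
    refine ModuleCat.hom_ext (LinearMap.ext fun x => ?_)
    show (σ _).symm ((H.map (J.map (f + g).unop).op).hom (σ _ x)) =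
      (σ _).symm ((H.map (J.map f.unop).op).hom (σ _ x)) + (σ _).symm ((H.map (J.map g.unop).op).hom (σ _ x))
    rw [unop_add, J.map_add, op_add, H.map_add, ModuleCat.hom_add, LinearMap.add_apply, map_add]⟩
  have hFl : ∀ (Q Q' : GenEnv.QS I qc) (r : k) (f : Q ⟶ Q'), F.map (r • f) = r • F.map f := fun Q Q' r f =>
    I.map_smul r f.hom
  haveI hD : CohDer.IsCompactlyGenerated (GenEnv.QS I qc) := ⟨PUnit.{u + 1}, fun _ => G', hc, hg⟩
  obtain ⟨K, ⟨θ⟩⟩ := FinBrown17.representable_on_compacts hD Hs (fun X Y r f => by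
      refine ModuleCat.hom_ext (LinearMap.ext fun x => ?_)
      show (σ _).symm ((H.map (J.map (r • f)).op).hom (σ _ x)) = r • (σ _).symm ((H.map (J.map f).op).hom (σ _ x))
      rw [show J.map (r • f) = r • J.map f from ObjectProperty.hom_ext _ (hFl _ _ r f.hom), hlin,
        ← map_smul]
      rfl)
    (fun T hT h₁ h₂ h₃ y hy => by
      have hy' : H.map (J.map (ObjectProperty.homMk T.mor₁ : (⟨T.obj₁, h₁⟩ : FinBrown17.Dc (GenEnv.QS I qc)) ⟶
          ⟨T.obj₂, h₂⟩)).op (σ _ y) = 0 := (σ _).symm.injective (hy.trans (map_zero _).symm)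
      obtain ⟨z, hz⟩ := hcoh _ (F.map_distinguished _ hT) (hcΦ _ h₁) (hcΦ _ h₂) (hcΦ _ h₃) (σ _ y) hy'
      refine ⟨(σ (op (J.obj ⟨T.obj₃, h₃⟩))).symm z, ?_⟩
      show (σ _).symm ((H.map (J.map _).op).hom (σ (op (J.obj ⟨T.obj₃, h₃⟩)) ((σ (op (J.obj ⟨T.obj₃, h₃⟩))).symm z))) = y
      rw [LinearEquiv.apply_symm_apply, LinearEquiv.symm_apply_eq]
      exact hz)
    (fun X => by haveI := hfin (op (J.obj X.unop)); exact Module.Finite.equiv (σ _).symm)
  let L : ∀ X : (FinBrown17.Dc (GenEnv.QS I qc))ᵒᵖ,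
      H.obj (op (J.obj X.unop)) ≃ₗ[k] (F.obj X.unop.obj ⟶ F.obj K) := fun X =>
    (σ _).symm.trans ((θ.app X).toLinearEquiv.trans (LinearEquiv.ofBijective
      { toFun := fun f : X.unop.obj ⟶ K => F.map f
        map_add' := fun f g => F.map_add
        map_smul' := fun r f => hFl _ _ r f }
      ⟨F.map_injective, fun g => F.map_surjective g⟩))
  let η : J.op ⋙ H ≅ J.op ⋙ (ObjectProperty.ι Φ).op ⋙ (linearYoneda k D).obj (F.obj K) :=
    NatIso.ofComponents (fun X => (L X).toModuleIso) fun {X Y} f => by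
      refine ModuleCat.hom_ext (LinearMap.ext fun x => ?_)
      show F.map (((θ.app Y).toLinearEquiv) ((σ _).symm ((H.map (J.map f.unop).op).hom x))) =
        F.map f.unop.hom ≫ F.map ((θ.app X).toLinearEquiv ((σ _).symm x))
      rw [← F.map_comp]
      refine congrArg F.map ?_
      have hn := ConcreteCategory.congr_hom (θ.hom.naturality f) ((σ _).symm x)
      refine Eq.trans ?_ hn
      show θ.hom.app Y _ = θ.hom.app Y ((σ _).symm ((H.map (J.map f.unop).op).hom (σ _ ((σ _).symm x))))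
      rw [LinearEquiv.apply_symm_apply]
  exact ⟨F.obj K, K.property,
    ⟨((Functor.whiskeringLeft _ _ (ModuleCat.{v} k)).obj J.op).preimageIso η⟩⟩

end Model

attribute [local instance] HasDerivedCategory.standard

variable {k : Type u} [Field k] {X : Scheme.{u}} [X.Over (Spec (CommRingCat.of k))] [CompactSpace X]
  [QuasiSeparatedSpace X]

/-- Finite-dimensional cohomological functors on perfect objects are represented in `D_qc`. -/
theorem representable_perfect [(SGA6.perfP X).IsTriangulated]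
    (H : ((SGA6.perfP X).FullSubcategory)ᵒᵖ ⥤ ModuleCat.{u + 1} k) [H.Additive]
    (hlin : ∀ (A B : (SGA6.perfP X).FullSubcategory) (r : k) (f : A ⟶ B), H.map (r • f).op = r • H.map f.op)
    (hcoh : ∀ T ∈ distTriang (DCoh.D X), ∀ (h₁ : DCoh.IsPerfect T.obj₁)
      (h₂ : DCoh.IsPerfect T.obj₂) (h₃ : DCoh.IsPerfect T.obj₃)
      (y : H.obj (op ⟨T.obj₂, h₂⟩)),
      H.map (ObjectProperty.homMk T.mor₁ : (⟨T.obj₁, h₁⟩ : (SGA6.perfP X).FullSubcategory) ⟶ ⟨T.obj₂, h₂⟩).op y = 0 →
        ∃ z : H.obj (op ⟨T.obj₃, h₃⟩),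
          H.map (ObjectProperty.homMk T.mor₂ : (⟨T.obj₂, h₂⟩ : (SGA6.perfP X).FullSubcategory) ⟶ ⟨T.obj₃, h₃⟩).op z = y)
    (hfin : ∀ E, Module.Finite k (H.obj E)) :
    ∃ K : DCoh.D X, DCoh.IsQCohD K ∧
      Nonempty (H ≅ (ObjectProperty.ι (SGA6.perfP X)).op ⋙ (linearYoneda k (DCoh.D X)).obj K) := by
  haveI : IsEmpty ((⊥ : X.Opens) : Scheme.{u}) := ⟨fun x => x.2⟩
  obtain ⟨P, hP, -, hd⟩ := PerfGen.gen (X := X) ⊥ (by simp)
  have hgen : ∀ E : DCoh.D X, DCoh.IsQCohD E → (∀ (n : ℤ) (φ : P⟦n⟧ ⟶ E), φ = 0) → IsZero E := fun E hE =>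
    hd E hE ((AdjGeom.killed_iff _ E).2 fun i x hx => by
      rw [Scheme.Opens.opensRange_ι] at hx
      exact hx.elim)
  haveI : (SGA6.perfP X).IsClosedUnderIsomorphisms := ⟨fun e h => PCTriangle.perfect_iso e h⟩
  haveI : (SGA6.perfP X).IsStableUnderRetracts := ⟨fun r h => RHomDual.perfect_of_retract r h⟩
  haveI : HasCoproducts.{u} (DCoh.D X) := fun J => hasCoproductsOfShape_derived enoughKInj_of_isGrothendieckAbelian J
  let I := @Functor.mapDerivedCategory X.Modules _ _ (smallDerivedCategory X.Modules enoughKInj_of_isGrothendieckAbelian) X.Modules _ _ (HasDerivedCategory.standard _) (𝟭 _) _ _ _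
  haveI : I.IsEquivalence := isEquivalence_mapDerivedCategory_id X.Modules
    (smallDerivedCategory X.Modules enoughKInj_of_isGrothendieckAbelian) (HasDerivedCategory.standard _)
  haveI : I.Linear k := inferInstance
  exact @representable k _ X.Modules _ _ _ (smallDerivedCategory X.Modules enoughKInj_of_isGrothendieckAbelian) _ (DCoh.D X) _ _ _ _ _ _ _ _ I _ _ _ _ (AdjGeom.qcD X) _ _ _ _
    (fun J K hK => DQCoh.isQCohD_sigma K hK) P (SGA6.perfP X) _ _ _
    (fun E hE => PerfLift.isQCohD_perfect hE) (fun E hE J K hK => GenEnv.sumFac_perfect hE J K hK) hP hgen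
    H _ hlin hcoh hfin

end Groth.Agent.DCat.FinBrownModel17
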