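import Groth.Agent.DCat.AmpLocal
import Groth.Agent.DCat.ExtKFlat
import Groth.Agent.DCat.LTensorModule
import Mathlib.Algebra.Homology.HomologySequence

/-! A complex which is a flat module away from `f` and modulo `f` is a flat module. -/

set_option autoImplicit false
set_option backward.isDefEq.respectTransparency false
set_option backward.defeqAttrib.useBackward true
set_option linter.style.haveILetI false

universe u

open CategoryTheory CategoryTheory.Limits MonoidalCategory HomologicalComplex
open scoped TensorProduct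

attribute [local instance] HasDerivedCategory.standard

namespace Groth.Agent.DCat.FlatGlue

variable {R : Type u} [CommRing R]

/-- `A ↦ P ⊗ A`. -/
noncomputable def T (P : DRing.Cx R) : ModuleCat.{u} R ⥤ DRing.Cx R where
  obj A := DRing.tensorCx P A
  map g := (NatTrans.mapHomologicalComplex ((tensoringRight (ModuleCat.{u} R)).map g) (ComplexShape.up ℤ)).app P
  map_id A := by
    refine HomologicalComplex.hom_ext _ _ fun n => ?_
    exact MonoidalCategory.whiskerLeft_id (P.X n) A
  map_comp g h := by
    refine HomologicalComplex.hom_ext _ _ fun n => ?_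
    exact MonoidalCategory.whiskerLeft_comp (P.X n) g h

/-- `P ⊗ -` preserves short exact sequences for termwise flat `P`. -/
theorem shortExact_T {P : DRing.Cx R} (hP : DRing.TermwiseFlat P) {S : ShortComplex (ModuleCat.{u} R)}
    (hS : S.ShortExact) (w : (T P).map S.f ≫ (T P).map S.g = 0) :
    (ShortComplex.mk ((T P).map S.f) ((T P).map S.g) w).ShortExact := by
  refine shortExact_of_degreewise_shortExact _ fun n => ?_
  haveI := hP n
  have hi := (ModuleCat.mono_iff_injective _).1 hS.mono_f
  have hs := (ModuleCat.epi_iff_surjective _).1 hS.epi_g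
  have he := (ShortComplex.ShortExact.moduleCat_exact_iff_function_exact _).1 hS.exact
  exact
    { exact := (ShortComplex.ShortExact.moduleCat_exact_iff_function_exact _).2 (Module.Flat.lTensor_exact (P.X n) he)
      mono_f := (ModuleCat.mono_iff_injective _).2 (Module.Flat.lTensor_preserves_injective_linearMap _ hi)
      epi_g := (ModuleCat.epi_iff_surjective _).2 (LinearMap.lTensor_surjective _ hs) }

lemma w_T (P : DRing.Cx R) (S : ShortComplex (ModuleCat.{u} R)) : (T P).map S.f ≫ (T P).map S.g = 0 := by
  rw [← Functor.map_comp, S.zero]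
  refine HomologicalComplex.hom_ext _ _ fun n => ?_
  exact MonoidalPreadditive.whiskerLeft_zero

/-- Injectivity on homology from vanishing at the quotient and the previous degree. -/
theorem mono_T_f {P : DRing.Cx R} (hP : DRing.TermwiseFlat P) {S : ShortComplex (ModuleCat.{u} R)} (hS : S.ShortExact)
    (i : ℤ) (h : ((T P).obj S.X₃).ExactAt (i - 1)) : Mono (homologyMap ((T P).map S.f) i) := by
  have hT := shortExact_T hP hS (w_T P S)
  exact (hT.homology_exact₁ (i - 1) i (by simp)).mono_g
    (((exactAt_iff_isZero_homology _ _).1 h).eq_of_src _ _)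

/-- Injectivity on homology from vanishing at the kernel. -/
theorem mono_T_g {P : DRing.Cx R} (hP : DRing.TermwiseFlat P) {S : ShortComplex (ModuleCat.{u} R)} (hS : S.ShortExact)
    (i : ℤ) (h : ((T P).obj S.X₁).ExactAt i) : Mono (homologyMap ((T P).map S.g) i) := by
  have hT := shortExact_T hP hS (w_T P S)
  exact (hT.homology_exact₂ i).mono_g (((exactAt_iff_isZero_homology _ _).1 h).eq_of_src _ _)

/-- A complex with flat base change in degree `0` kills the homology of modules over the new ring. -/
theorem exactAt_of_baseChange {B : Type u} [CommRing B] (φ : R →+* B) [DRing.HasLBaseChange φ] {P : DRing.Cx R}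
    (hP : IsKFlatFor (modT R) P) (hN : DRing.HasTorAmplitudeIn B 0 0 ((DRing.LBaseChange φ).obj (DRing.toD P)))
    (N : ModuleCat.{u} B) (i : ℤ) (hi : i ≠ 0) :
    ((T P).obj ((ModuleCat.restrictScalars.{u} φ).obj N)).ExactAt i := by
  haveI := hasLTensor N
  exact (exactAt_tensor_ext_iff φ P N i).1 ((isZero_ltensor_iff N (isKFlatFor_ext φ hP) (lbaseChangeIso φ hP).symm i).1
    (vanish_of_flatAmp hN N (by omega)))

/-- Modules killed by `f` are modules modulo `f`. -/
theorem exactAt_of_killed (f : R) [DRing.HasLBaseChange (Ideal.Quotient.mk (Ideal.span ({f} : Set R)))]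
    {P : DRing.Cx R} (hP : IsKFlatFor (modT R) P)
    (hN : DRing.HasTorAmplitudeIn (R ⧸ Ideal.span ({f} : Set R)) 0 0
      ((DRing.LBaseChange (Ideal.Quotient.mk (Ideal.span ({f} : Set R)))).obj (DRing.toD P)))
    (A : ModuleCat.{u} R) (hA : ∀ a : A, f • a = 0) (i : ℤ) (hi : i ≠ 0) : ((T P).obj A).ExactAt i := by
  have ht : Module.IsTorsionBySet R A (Ideal.span ({f} : Set R) : Set R) :=
    (Module.isTorsionBySet_iff_subset_annihilator (R := R) (M := A)).2
      ((Ideal.span_le).2 (Set.singleton_subset_iff.2 (Module.mem_annihilator.2 hA)))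
  letI : Module (R ⧸ Ideal.span ({f} : Set R)) A := ht.module
  let e : (ModuleCat.restrictScalars.{u} (Ideal.Quotient.mk (Ideal.span ({f} : Set R)))).obj
      (ModuleCat.of (R ⧸ Ideal.span ({f} : Set R)) A) ≅ A :=
    LinearEquiv.toModuleIso
      (X₁ := (ModuleCat.restrictScalars.{u} (Ideal.Quotient.mk (Ideal.span ({f} : Set R)))).obj
        (ModuleCat.of (R ⧸ Ideal.span ({f} : Set R)) A))
      { Equiv.refl _ with
        map_add' := fun _ _ => rfl
        map_smul' := fun r x => rfl }
  exact (exactAt_of_baseChange _ hP hN (ModuleCat.of (R ⧸ Ideal.span ({f} : Set R)) A) i hi).of_iso ((T P).mapIso e)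

/-- Multiplication by `f` on `A`, seen on `P ⊗ A`. -/
lemma T_map_smul (P : DRing.Cx R) (f : R) (A : ModuleCat.{u} R) : (T P).map (f • 𝟙 A) = f • 𝟙 ((T P).obj A) := by
  refine HomologicalComplex.hom_ext _ _ fun n => ?_
  exact (MonoidalLinear.whiskerLeft_smul (P.X n) f (𝟙 A)).trans
    (congrArg (f • ·) (MonoidalCategory.whiskerLeft_id (P.X n) A))

lemma homologyMap_smul' {K L : DRing.Cx R} (r : R) (φ : K ⟶ L) (i : ℤ) :
    homologyMap (r • φ) i = r • homologyMap φ i := by
  have h : (shortComplexFunctor (ModuleCat.{u} R) (ComplexShape.up ℤ) i).map (r • φ) =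
    r • (shortComplexFunctor (ModuleCat.{u} R) (ComplexShape.up ℤ) i).map φ := by ext <;> rfl
  show ShortComplex.homologyMap ((shortComplexFunctor (ModuleCat.{u} R) (ComplexShape.up ℤ) i).map (r • φ)) =
    r • ShortComplex.homologyMap ((shortComplexFunctor (ModuleCat.{u} R) (ComplexShape.up ℤ) i).map φ)
  rw [h]
  exact ShortComplex.homologyMap_smul _ _

/-- Multiplication by `f` is injective on the negative cohomology of `P ⊗ A`. -/
theorem injective_smul_homology (f : R) [DRing.HasLBaseChange (Ideal.Quotient.mk (Ideal.span ({f} : Set R)))]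
    {P : DRing.Cx R} (hP : IsKFlatFor (modT R) P) (hPf : DRing.TermwiseFlat P)
    (hN : DRing.HasTorAmplitudeIn (R ⧸ Ideal.span ({f} : Set R)) 0 0
      ((DRing.LBaseChange (Ideal.Quotient.mk (Ideal.span ({f} : Set R)))).obj (DRing.toD P)))
    (A : ModuleCat.{u} R) (i : ℤ) (hi : i < 0) :
    Function.Injective fun x : ((T P).obj A).homology i => f • x := by
  let μ : A ⟶ A := f • 𝟙 A
  let π : A ⟶ Limits.image μ := Limits.factorThruImage μ
  let ι : Limits.image μ ⟶ A := Limits.image.ι μ
  let S₁ := ShortComplex.mk (kernel.ι π) π (kernel.condition π)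
  let S₂ := ShortComplex.mk ι (cokernel.π ι) (cokernel.condition ι)
  have h₁ : S₁.ShortExact := { exact := ShortComplex.exact_kernel π }
  have h₂ : S₂.ShortExact := { exact := ShortComplex.exact_cokernel ι }
  have k₁ : ∀ a : S₁.X₁, f • a = 0 := fun a => by
    have hμ : kernel.ι π ≫ μ = 0 := by
      exact (congrArg (kernel.ι π ≫ ·) (Limits.image.fac μ)).symm.trans (by
        rw [← Category.assoc, kernel.condition, zero_comp])
    refine (ModuleCat.mono_iff_injective (kernel.ι π)).1 inferInstance ?_
    rw [map_smul, map_zero]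
    exact ConcreteCategory.congr_hom hμ a
  have k₃ : ∀ a : S₂.X₃, f • a = 0 := fun a => by
    obtain ⟨y, rfl⟩ := (ModuleCat.epi_iff_surjective (cokernel.π ι)).1 inferInstance a
    have hμ : μ ≫ cokernel.π ι = 0 := by
      exact (congrArg (· ≫ cokernel.π ι) (Limits.image.fac μ)).symm.trans (by
        rw [Category.assoc, cokernel.condition, comp_zero])
    rw [← map_smul]
    exact ConcreteCategory.congr_hom hμ y
  haveI := mono_T_g hPf h₁ i (exactAt_of_killed f hP hN S₁.X₁ k₁ i (by omega))
  haveI := mono_T_f hPf h₂ i (exactAt_of_killed f hP hN S₂.X₃ k₃ (i - 1) (by omega))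
  haveI : Mono (homologyMap ((T P).map π) i ≫ homologyMap ((T P).map ι) i) := mono_comp _ _
  have hm : homologyMap ((T P).map μ) i = f • 𝟙 (((T P).obj A).homology i) := by
    rw [show μ = f • 𝟙 A from rfl, T_map_smul, homologyMap_smul', homologyMap_id]
  have hmono : Mono (f • 𝟙 (((T P).obj A).homology i)) := by
    rw [← hm, ← Limits.image.fac μ, Functor.map_comp, homologyMap_comp]
    infer_instance
  exact (ModuleCat.mono_iff_injective _).1 hmono

/-- `(P ⊗ A)_f = P ⊗ A_f`. -/
theorem exactAt_loc (f : R) [DRing.HasLBaseChange (algebraMap R (Localization.Away f))] {P : DRing.Cx R}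
    (hP : IsKFlatFor (modT R) P)
    (hN : DRing.HasTorAmplitudeIn (Localization.Away f) 0 0
      ((DRing.LBaseChange (algebraMap R (Localization.Away f))).obj (DRing.toD P)))
    (A : ModuleCat.{u} R) (i : ℤ) (hi : i ≠ 0) :
    (((tensorRight (ModuleCat.of R (Localization.Away f))).mapHomologicalComplex (ComplexShape.up ℤ)).obj
      ((T P).obj A)).ExactAt i := by
  let e : A ⊗ ModuleCat.of R (Localization.Away f) ≅ (ModuleCat.restrictScalars.{u} (algebraMap R (Localization.Away f))).obj
      ((ModuleCat.extendScalars.{u, u, u} (algebraMap R (Localization.Away f))).obj A) :=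
    β_ _ _ ≪≫ MonoidalCategory.whiskerRightIso (LinearEquiv.toModuleIso
      (X₁ := ModuleCat.of R (Localization.Away f))
      (X₂ := (ModuleCat.restrictScalars.{u} (algebraMap R (Localization.Away f))).obj
        (ModuleCat.of (Localization.Away f) (Localization.Away f)))
      { Equiv.refl _ with
        map_add' := fun _ _ => rfl
        map_smul' := fun r x => Algebra.smul_def r (show Localization.Away f from x) }) A
  exact ((exactAt_of_baseChange _ hP hN _ i hi).of_iso ((T P).mapIso e).symm).of_iso
    (Hom.isoOfComponents (fun n => (α_ (P.X n) A (ModuleCat.of R (Localization.Away f))).symm)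
      (fun p q _ => (MonoidalCategory.associator_inv_naturality_left (P.d p q) A _).symm))

/-- The main statement. -/
theorem exists_flat (f : R) (M : Dual.D R) [DRing.HasLBaseChange (algebraMap R (Localization.Away f))]
    [DRing.HasLBaseChange (Ideal.Quotient.mk (Ideal.span ({f} : Set R)))]
    (h1 : ∀ i : ℤ, 0 < i → Subsingleton (Dual.HD R M i))
    (h2 : DRing.HasTorAmplitudeIn (Localization.Away f) 0 0
      ((DRing.LBaseChange (algebraMap R (Localization.Away f))).obj M))
    (h3 : DRing.HasTorAmplitudeIn (R ⧸ Ideal.span ({f} : Set R)) 0 0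
      ((DRing.LBaseChange (Ideal.Quotient.mk (Ideal.span ({f} : Set R)))).obj M)) :
    DRing.HasTorAmplitudeIn R 0 0 M := by
  haveI : ∀ A : ModuleCat.{u} R, DRing.HasLTensor R A := fun A => hasLTensor A
  obtain ⟨P, hP, hPf, hPb, ⟨e⟩⟩ := exists_flat_rep (b := 0) (K := M)
    fun i hi => (subsingleton_HD_iff M i).1 (h1 i hi)
  have amp : ∀ {B : Type u} [CommRing B] (φ : R →+* B) [DRing.HasLBaseChange φ],
      DRing.HasTorAmplitudeIn B 0 0 ((DRing.LBaseChange φ).obj M) →
        DRing.HasTorAmplitudeIn B 0 0 ((DRing.LBaseChange φ).obj (DRing.toD P)) := fun φ _ h => by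
    obtain ⟨E, hE, hEf, ⟨eE⟩⟩ := h
    exact ⟨E, hE, hEf, ⟨eE ≪≫ (DRing.LBaseChange φ).mapIso e.symm⟩⟩
  refine flatAmp_of_vanish fun A i hi => ?_
  rw [isZero_ltensor_iff A hP e i]
  rcases hi with hi | hi
  · rw [exactAt_iff_isZero_homology]
    refine @ModuleCat.isZero_of_subsingleton _ _ _ ((subsingleton_iff_forall_eq 0).2 fun x => ?_)
    let L := ModuleCat.of R (Localization.Away f)
    haveI : PreservesFiniteLimits (tensorRight L) :=
      @preservesFiniteLimits_flip_of_flat R _ L (inferInstanceAs (Module.Flat R (Localization.Away f)))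
    haveI : PreservesFiniteColimits (tensorRight L) :=
      inferInstanceAs (PreservesFiniteColimits ((modT R).flip.obj L))
    have hz : IsZero ((tensorRight L).obj (((T P).obj A).homology i)) :=
      ((exactAt_iff_isZero_homology _ _).1 (exactAt_loc f hP (amp _ h2) A i (by omega))).of_iso
        ((((T P).obj A).sc i).mapHomologyIso (tensorRight L)).symm
    have hs : Subsingleton (Localization.Away f ⊗[R] (((T P).obj A).homology i : Type u)) :=
      haveI : Subsingleton ((((T P).obj A).homology i : Type u) ⊗[R] Localization.Away f) :=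
        ModuleCat.subsingleton_of_isZero hz
      (TensorProduct.comm R (Localization.Away f) _).toEquiv.subsingleton
    have hx : (1 : Localization.Away f) ⊗ₜ[R] x = (1 : Localization.Away f) ⊗ₜ[R] 0 := @Subsingleton.elim _ hs _ _
    obtain ⟨⟨_, n, rfl⟩, hn⟩ := (IsLocalizedModule.eq_iff_exists (Submonoid.powers f)
      (TensorProduct.mk R (Localization.Away f) (((T P).obj A).homology i : Type u) 1)).1 hx
    have hn' : f ^ n • x = 0 := hn.trans (smul_zero _)
    clear hn hx
    induction n with
    | zero => simpa using hn'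
    | succ n ih =>
      refine ih (injective_smul_homology f hP hPf (amp _ h3) A i hi ?_)
      simp only [smul_zero]
      rw [← mul_smul, ← pow_succ']
      exact hn'
  · exact HomologicalComplex.ExactAt.of_isZero ((tensorRight A).map_isZero (hPb i hi))

end Groth.Agent.DCat.FlatGlue
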