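import Mathlib.Algebra.Homology.HomotopyCategory.Pretriangulated
import Mathlib.Algebra.Homology.HomologicalComplexBiprod
import Mathlib.Algebra.Homology.Embedding.CochainComplex
import Mathlib.CategoryTheory.Limits.Shapes.BinaryBiproducts

/-! Factorisations of morphisms of complexes through termwise split maps and homotopy equivalences. -/

set_option autoImplicit false
set_option backward.isDefEq.respectTransparency false
set_option backward.defeqAttrib.useBackward true

universe v u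

open CategoryTheory CategoryTheory.Limits CochainComplex

namespace Groth.Agent.DCat.HtpyFac

variable {V : Type u} [Category.{v} V] [Preadditive V] [HasBinaryBiproducts V] [HasZeroObject V]

lemma isStrictlyGE_biprod (K L : CochainComplex V ℤ) (a : ℤ) [K.IsStrictlyGE a] [L.IsStrictlyGE a] :
    (K ⊞ L).IsStrictlyGE a := by
  rw [CochainComplex.isStrictlyGE_iff]
  intro i hi
  refine IsZero.of_iso ?_ ((HomologicalComplex.eval V (.up ℤ) i).mapBiprod K L)
  exact biprod_isZero_iff _ _ |>.2 ⟨K.isZero_of_isStrictlyGE a i hi, L.isZero_of_isStrictlyGE a i hi⟩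

lemma isStrictlyLE_biprod (K L : CochainComplex V ℤ) (a : ℤ) [K.IsStrictlyLE a] [L.IsStrictlyLE a] :
    (K ⊞ L).IsStrictlyLE a := by
  rw [CochainComplex.isStrictlyLE_iff]
  intro i hi
  refine IsZero.of_iso ?_ ((HomologicalComplex.eval V (.up ℤ) i).mapBiprod K L)
  exact biprod_isZero_iff _ _ |>.2 ⟨K.isZero_of_isStrictlyLE a i hi, L.isZero_of_isStrictlyLE a i hi⟩

lemma cone_bounded (K L : CochainComplex V ℤ) (f : K ⟶ L) (a : ℤ) :
    (K.IsStrictlyGE a → L.IsStrictlyGE a → (mappingCone f).IsStrictlyGE (a - 1)) ∧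
    (K.IsStrictlyLE a → L.IsStrictlyLE a → (mappingCone f).IsStrictlyLE a) := by
  constructor
  · intro _ _
    rw [CochainComplex.isStrictlyGE_iff]
    intro i hi
    rw [mappingCone.isZero_X_iff]
    exact ⟨K.isZero_of_isStrictlyGE a _ (by omega), L.isZero_of_isStrictlyGE a _ (by omega)⟩
  · intro _ _
    rw [CochainComplex.isStrictlyLE_iff]
    intro i hi
    rw [mappingCone.isZero_X_iff]
    exact ⟨K.isZero_of_isStrictlyLE a _ (by omega), L.isZero_of_isStrictlyLE a _ (by omega)⟩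

/-- the cone splits off its second summand -/
noncomputable def coneIso (K L : CochainComplex V ℤ) (f : K ⟶ L) (n : ℤ) :
    (mappingCone f).X n ≅ L.X n ⊞ K.X (n + 1) where
  hom := biprod.lift ((mappingCone.snd f).v n n (add_zero n)) ((mappingCone.fst f).1.v n (n + 1) rfl)
  inv := biprod.desc ((mappingCone.inr f).f n) ((mappingCone.inl f).v (n + 1) n (by omega))
  hom_inv_id := by
    rw [biprod.lift_desc, mappingCone.ext_from_iff f (n + 1) n rfl]
    constructor <;> simp
  inv_hom_id := by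
    apply biprod.hom_ext <;> apply biprod.hom_ext' <;> simp

/-- every morphism factors as a termwise split injection followed by a homotopy equivalence
with a section -/
theorem exists_factor (K L : CochainComplex V ℤ) (α : K ⟶ L) :
    ∃ (L' : CochainComplex V ℤ) (α' : K ⟶ L') (π : L' ⟶ L) (s : L ⟶ L'),
      α' ≫ π = α ∧ s ≫ π = 𝟙 L ∧ Nonempty (Homotopy (π ≫ s) (𝟙 L')) ∧
      (∀ n : ℤ, ∃ (C : V) (e : L'.X n ≅ K.X n ⊞ C), α'.f n ≫ e.hom = biprod.inl) ∧
      (∀ a : ℤ, K.IsStrictlyGE a → L.IsStrictlyGE a → L'.IsStrictlyGE (a - 1)) ∧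
      (∀ a : ℤ, K.IsStrictlyLE a → L.IsStrictlyLE a → L'.IsStrictlyLE a) := by
  let M := mappingCone (𝟙 K)
  let ι : K ⟶ M := mappingCone.inr (𝟙 K)
  refine ⟨L ⊞ M, biprod.lift α ι, biprod.fst, biprod.inl, biprod.lift_fst _ _, biprod.inl_fst, ⟨?_⟩,
    fun n => ?_, fun a hK hL => ?_, fun a hK hL => ?_⟩
  · have h0 : Homotopy (biprod.snd ≫ biprod.inr : L ⊞ M ⟶ L ⊞ M) 0 :=
      (Homotopy.ofEq (by simp; rfl)).trans
        ((((mappingCone.homotopyToZeroOfId K).compLeft biprod.snd).compRight biprod.inr).trans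
          (Homotopy.ofEq (by simp)))
    exact ((Homotopy.ofEq (by simp)).trans
      (((Homotopy.refl (biprod.fst ≫ biprod.inl)).add h0.symm))).trans (Homotopy.ofEq biprod.total)
  · let C := L.X n ⊞ K.X (n + 1)
    let e₁ := (HomologicalComplex.eval V (.up ℤ) n).mapBiprod L M
    let sn := (mappingCone.snd (𝟙 K)).v n n (add_zero n)
    let fn := (mappingCone.fst (𝟙 K)).1.v n (n + 1) rfl
    let jn := (mappingCone.inr (𝟙 K)).f n
    let ln := (mappingCone.inl (𝟙 K)).v (n + 1) n (by omega)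
    let pM : (L ⊞ M).X n ⟶ M.X n := (biprod.snd : L ⊞ M ⟶ M).f n
    let pL : (L ⊞ M).X n ⟶ L.X n := (biprod.fst : L ⊞ M ⟶ L).f n
    let iM : M.X n ⟶ (L ⊞ M).X n := (biprod.inr : M ⟶ L ⊞ M).f n
    let iL : L.X n ⟶ (L ⊞ M).X n := (biprod.inl : L ⟶ L ⊞ M).f n
    let αn : K.X n ⟶ (L ⊞ M).X n := α.f n ≫ iL + jn ≫ iM
    have hLL : iL ≫ pL = 𝟙 _ := by simp [iL, pL]
    have hMM : iM ≫ pM = 𝟙 _ := by simp [iM, pM]
    have hLM : iL ≫ pM = 0 := by simp [iL, pM]
    have hML : iM ≫ pL = 0 := by simp [iM, pL]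
    have hα : (biprod.lift α ι).f n = αn := by
      have : biprod.lift α ι = α ≫ biprod.inl + ι ≫ biprod.inr := by
        apply biprod.hom_ext <;> simp
      rw [this]; rfl
    have tot : pL ≫ iL + pM ≫ iM = 𝟙 _ := by
      simp only [pL, iL, pM, iM, ← HomologicalComplex.comp_f, ← HomologicalComplex.add_f_apply,
        biprod.total, HomologicalComplex.id_f]
    have js : jn ≫ sn = 𝟙 _ := by simp [jn, sn]
    have jf : jn ≫ fn = 0 := by simp [jn, fn]
    have ls : ln ≫ sn = 0 := by simp [ln, sn]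
    have lf : ln ≫ fn = 𝟙 _ := by simp [ln, fn]
    have idM : sn ≫ jn + fn ≫ ln = 𝟙 _ := by
      have := (coneIso K K (𝟙 K) n).hom_inv_id
      simpa [coneIso, sn, jn, fn, ln] using this
    refine ⟨C,
      { hom := biprod.lift (pM ≫ sn) (biprod.lift (pL - pM ≫ sn ≫ α.f n) (pM ≫ fn))
        inv := biprod.desc αn (biprod.desc iL (ln ≫ iM))
        hom_inv_id := ?_
        inv_hom_id := ?_ }, ?_⟩
    · rw [biprod.lift_desc, biprod.lift_desc]
      simp only [αn, Preadditive.comp_add, Preadditive.sub_comp, Category.assoc]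
      rw [← tot]
      conv_rhs => rw [← Category.id_comp iM, ← idM]
      simp only [Preadditive.add_comp, Category.assoc, Preadditive.comp_add]
      abel
    · simp only [αn]
      apply biprod.hom_ext' <;> [skip; apply biprod.hom_ext'] <;> apply biprod.hom_ext <;>
        [skip; apply biprod.hom_ext; skip; apply biprod.hom_ext; skip; apply biprod.hom_ext] <;>
        simp [reassoc_of% hLL, reassoc_of% hMM, reassoc_of% hLM, reassoc_of% hML, hLL, hMM, hLM, hML,
          js, jf, ls, lf, reassoc_of% js, reassoc_of% ls]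
    · rw [hα]
      simp only [αn]
      apply biprod.hom_ext <;> [skip; apply biprod.hom_ext] <;>
        simp [reassoc_of% hLL, reassoc_of% hMM, reassoc_of% hLM, reassoc_of% hML, hLL, hMM, hLM, hML,
          js, jf, reassoc_of% js]
  · have := (cone_bounded K K (𝟙 K) a).1 hK hK
    have : L.IsStrictlyGE (a - 1) := L.isStrictlyGE_of_ge (a - 1) a (by omega)
    exact isStrictlyGE_biprod _ _ _
  · have := (cone_bounded K K (𝟙 K) a).2 hK hK
    exact isStrictlyLE_biprod _ _ _

/-- every morphism factors as a homotopy equivalence with a retraction followed by a termwise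
split surjection -/
theorem exists_factor' (K L : CochainComplex V ℤ) (α : K ⟶ L) :
    ∃ (K' : CochainComplex V ℤ) (i : K ⟶ K') (α' : K' ⟶ L) (s : K' ⟶ K),
      i ≫ α' = α ∧ i ≫ s = 𝟙 K ∧ Nonempty (Homotopy (s ≫ i) (𝟙 K')) ∧
      (∀ n : ℤ, ∃ (C : V) (e : K'.X n ≅ C ⊞ L.X n), e.inv ≫ α'.f n = biprod.snd) ∧
      (∀ a : ℤ, K.IsStrictlyGE a → L.IsStrictlyGE a → K'.IsStrictlyGE a) ∧
      (∀ a : ℤ, K.IsStrictlyLE a → L.IsStrictlyLE a → K'.IsStrictlyLE (a + 1)) := by
  let L₁ := L⟦(-1 : ℤ)⟧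
  let M := mappingCone (𝟙 L₁)
  let c : L₁⟦(1 : ℤ)⟧ ≅ L := (shiftEquiv (CochainComplex V ℤ) (1 : ℤ)).counitIso.app L
  let p : M ⟶ L := (mappingCone.triangle (𝟙 L₁)).mor₃ ≫ c.hom
  refine ⟨K ⊞ M, biprod.inl, biprod.desc α p, biprod.fst, biprod.inl_desc _ _, biprod.inl_fst, ⟨?_⟩,
    fun n => ?_, fun a hK hL => ?_, fun a hK hL => ?_⟩
  · have h0 : Homotopy (biprod.snd ≫ biprod.inr : K ⊞ M ⟶ K ⊞ M) 0 :=
      (Homotopy.ofEq (by simp; rfl)).trans
        ((((mappingCone.homotopyToZeroOfId L₁).compLeft biprod.snd).compRight biprod.inr).trans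
          (Homotopy.ofEq (by simp)))
    exact ((Homotopy.ofEq (by simp)).trans
      (((Homotopy.refl (biprod.fst ≫ biprod.inl)).add h0.symm))).trans (Homotopy.ofEq biprod.total)
  · let C := K.X n ⊞ L₁.X n
    let sn := (mappingCone.snd (𝟙 L₁)).v n n (add_zero n)
    let fn := (mappingCone.fst (𝟙 L₁)).1.v n (n + 1) rfl
    let jn := (mappingCone.inr (𝟙 L₁)).f n
    let ln := (mappingCone.inl (𝟙 L₁)).v (n + 1) n (by omega)
    let cn : L₁.X (n + 1) ⟶ L.X n := c.hom.f n
    let cn' : L.X n ⟶ L₁.X (n + 1) := c.inv.f n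
    have hc : cn' ≫ cn = 𝟙 _ := by
      have := congrArg (fun φ => HomologicalComplex.Hom.f φ n) c.inv_hom_id
      exact this
    have hc' : cn ≫ cn' = 𝟙 _ := by
      have := congrArg (fun φ => HomologicalComplex.Hom.f φ n) c.hom_inv_id
      exact this
    let pn : M.X n ⟶ L.X n := p.f n
    have hp : pn = -(fn ≫ cn) := by
      simp [pn, p, fn, cn, mappingCone.triangle, HomComplex.Cochain.rightShift_v _ 1 0 (by omega) n n (by omega) (n + 1) rfl]
    let qn : L.X n ⟶ M.X n := -(cn' ≫ ln)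
    have js : jn ≫ sn = 𝟙 _ := by simp [jn, sn]
    have ls : ln ≫ sn = 0 := by simp [ln, sn]
    have jf : jn ≫ fn = 0 := by simp [jn, fn]
    have lf : ln ≫ fn = 𝟙 _ := by simp [ln, fn]
    have qs : qn ≫ sn = 0 := by simp [qn, ls]
    have jp : jn ≫ pn = 0 := by simp [hp, reassoc_of% jf]
    have qp : qn ≫ pn = 𝟙 _ := by simp [qn, hp, reassoc_of% lf, hc]
    have idM : sn ≫ jn + pn ≫ qn = 𝟙 _ := by
      have h1 := (coneIso L₁ L₁ (𝟙 L₁) n).hom_inv_id
      simp [coneIso] at h1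
      simp [hp, qn, reassoc_of% hc']
      exact h1
    let pM : (K ⊞ M).X n ⟶ M.X n := (biprod.snd : K ⊞ M ⟶ M).f n
    let pK : (K ⊞ M).X n ⟶ K.X n := (biprod.fst : K ⊞ M ⟶ K).f n
    let iM : M.X n ⟶ (K ⊞ M).X n := (biprod.inr : M ⟶ K ⊞ M).f n
    let iK : K.X n ⟶ (K ⊞ M).X n := (biprod.inl : K ⟶ K ⊞ M).f n
    have hKK : iK ≫ pK = 𝟙 _ := by simp [iK, pK]
    have hMM : iM ≫ pM = 𝟙 _ := by simp [iM, pM]
    have hKM : iK ≫ pM = 0 := by simp [iK, pM]
    have hMK : iM ≫ pK = 0 := by simp [iM, pK]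
    have tot : pK ≫ iK + pM ≫ iM = 𝟙 _ := by
      simp only [pK, iK, pM, iM, ← HomologicalComplex.comp_f, ← HomologicalComplex.add_f_apply,
        biprod.total, HomologicalComplex.id_f]
    have hα : (biprod.desc α p).f n = pK ≫ α.f n + pM ≫ pn := by
      have : biprod.desc α p = biprod.fst ≫ α + biprod.snd ≫ p := by
        apply biprod.hom_ext' <;> simp
      rw [this]; rfl
    refine ⟨C,
      { hom := biprod.lift (biprod.lift pK (pM ≫ sn)) (pK ≫ α.f n + pM ≫ pn)
        inv := biprod.desc (biprod.desc (iK - α.f n ≫ qn ≫ iM) (jn ≫ iM)) (qn ≫ iM)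
        hom_inv_id := ?_
        inv_hom_id := ?_ }, ?_⟩
    · rw [biprod.lift_desc, biprod.lift_desc, ← tot]
      conv_rhs => rw [← Category.id_comp iM, ← idM]
      simp only [Preadditive.add_comp, Preadditive.comp_add, Preadditive.comp_sub, Category.assoc]
      abel
    · apply biprod.hom_ext' <;> [apply biprod.hom_ext'; skip] <;> apply biprod.hom_ext <;>
        [apply biprod.hom_ext; skip; apply biprod.hom_ext; skip; apply biprod.hom_ext; skip] <;>
        simp [reassoc_of% hKK, reassoc_of% hMM, reassoc_of% hKM, reassoc_of% hMK, hKK, hMM, hKM, hMK,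
          js, jp, qs, qp, reassoc_of% qp, reassoc_of% qs]
    · dsimp
      rw [hα]
      apply biprod.hom_ext' <;> [apply biprod.hom_ext'; skip] <;>
        simp [reassoc_of% hKK, reassoc_of% hMM, reassoc_of% hKM, reassoc_of% hMK, jp, qp]
  · have : L₁.IsStrictlyGE (a + 1) := L.isStrictlyGE_shift a (-1) (a + 1) (by omega)
    have : M.IsStrictlyGE (a + 1 - 1) := (cone_bounded L₁ L₁ (𝟙 L₁) (a + 1)).1 inferInstance inferInstance
    have : M.IsStrictlyGE a := M.isStrictlyGE_of_ge a (a + 1 - 1) (by omega)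
    exact isStrictlyGE_biprod _ _ _
  · have : L₁.IsStrictlyLE (a + 1) := L.isStrictlyLE_shift a (-1) (a + 1) (by omega)
    have : M.IsStrictlyLE (a + 1) := (cone_bounded L₁ L₁ (𝟙 L₁) (a + 1)).2 inferInstance inferInstance
    have : K.IsStrictlyLE (a + 1) := K.isStrictlyLE_of_le a (a + 1) (by omega)
    exact isStrictlyLE_biprod _ _ _

end Groth.Agent.DCat.HtpyFac
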