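import Groth.Agent.DCat.LocLift
import Mathlib.Algebra.Homology.Homotopy
import Mathlib.Algebra.Homology.HomotopyCategory.MappingCone
import Mathlib.Algebra.Homology.DerivedCategory.Fractions

/-! Local null homotopies of maps out of strictly perfect complexes. -/

set_option autoImplicit false
set_option backward.isDefEq.respectTransparency false
set_option backward.defeqAttrib.useBackward true
set_option linter.style.haveILetI false

universe u

open CategoryTheory CategoryTheory.Limits AlgebraicGeometry Opposite TopologicalSpace HomologicalComplex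

namespace Groth.Agent.DCat.HtpyLift

variable {X W W' : Scheme.{u}} {E F : CochainComplex X.Modules ℤ}

/-- Transport of a map between restrictions to a smaller open. -/
noncomputable def tr (g : W' ⟶ W) [IsOpenImmersion g] (k : W ⟶ X) [IsOpenImmersion k] {A B : X.Modules}
    (φ : (Scheme.Modules.restrictFunctor k).obj A ⟶ (Scheme.Modules.restrictFunctor k).obj B) :
    (Scheme.Modules.restrictFunctor (g ≫ k)).obj A ⟶ (Scheme.Modules.restrictFunctor (g ≫ k)).obj B :=
  (Scheme.Modules.restrictFunctorComp g k).hom.app A ≫ (Scheme.Modules.restrictFunctor g).map φ ≫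
    (Scheme.Modules.restrictFunctorComp g k).inv.app B

section
variable (g : W' ⟶ W) [IsOpenImmersion g] (k : W ⟶ X) [IsOpenImmersion k]

lemma tr_comp {A B C : X.Modules}
    (φ : (Scheme.Modules.restrictFunctor k).obj A ⟶ (Scheme.Modules.restrictFunctor k).obj B)
    (ψ : (Scheme.Modules.restrictFunctor k).obj B ⟶ (Scheme.Modules.restrictFunctor k).obj C) :
    tr g k (φ ≫ ψ) = tr g k φ ≫ tr g k ψ := by
  simp [tr]

lemma tr_add {A B : X.Modules}
    (φ ψ : (Scheme.Modules.restrictFunctor k).obj A ⟶ (Scheme.Modules.restrictFunctor k).obj B) :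
    tr g k (φ + ψ) = tr g k φ + tr g k ψ := by
  simp [tr, Preadditive.add_comp, Preadditive.comp_add]

lemma tr_map {A B : X.Modules} (u : A ⟶ B) :
    tr g k ((Scheme.Modules.restrictFunctor k).map u) = (Scheme.Modules.restrictFunctor (g ≫ k)).map u := by
  rw [tr, ← Functor.comp_map, (Scheme.Modules.restrictFunctorComp g k).inv.naturality, Iso.hom_inv_id_app_assoc]

end

/-- `α` is null-homotopic on `W` in degrees `≥ m`. -/
def NullGE (α : E ⟶ F) (m : ℤ) (k : W ⟶ X) [IsOpenImmersion k] : Prop :=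
  ∃ h : ∀ i j : ℤ, j + 1 = i →
      ((Scheme.Modules.restrictFunctor k).obj (E.X i) ⟶ (Scheme.Modules.restrictFunctor k).obj (F.X j)),
    ∀ i : ℤ, m ≤ i → ∀ (j l : ℤ) (hj : j + 1 = i) (hl : i + 1 = l),
      (Scheme.Modules.restrictFunctor k).map (α.f i) =
        (Scheme.Modules.restrictFunctor k).map (E.d i l) ≫ h l i hl +
          h i j hj ≫ (Scheme.Modules.restrictFunctor k).map (F.d j i)

lemma NullGE.comp {α : E ⟶ F} {m : ℤ} {k : W ⟶ X} [IsOpenImmersion k] (hk : NullGE α m k)
    (g : W' ⟶ W) [IsOpenImmersion g] : NullGE α m (g ≫ k) := by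
  obtain ⟨h, hh⟩ := hk
  refine ⟨fun i j hij => tr g k (h i j hij), fun i hi j l hj hl => ?_⟩
  rw [← tr_map g k (α.f i), ← tr_map g k (E.d i l), ← tr_map g k (F.d j i), ← tr_comp, ← tr_comp, ← tr_add,
    hh i hi j l hj hl]

lemma NullGE.congr {α : E ⟶ F} {m : ℤ} {k k' : W ⟶ X} [IsOpenImmersion k] [IsOpenImmersion k'] (e : k = k')
    (h : NullGE α m k) : NullGE α m k' := by
  subst e
  exact h

lemma nullGE_top (α : E ⟶ F) (b : ℤ) (hb : ∀ i : ℤ, b ≤ i → IsZero (E.X i)) (k : W ⟶ X) [IsOpenImmersion k] :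
    NullGE α b k :=
  ⟨fun _ _ _ => 0, fun i hi _ _ _ _ =>
    ((Scheme.Modules.restrictFunctor k).map_isZero (hb i hi)).eq_of_src _ _⟩

lemma epi_toCycles_restrict (k : W ⟶ X) [IsOpenImmersion k] {j i : ℤ} (hj : j + 1 = i)
    (hF : IsZero (F.homology i)) :
    Epi ((((Scheme.Modules.restrictFunctor k).mapHomologicalComplex (ComplexShape.up ℤ)).obj F).toCycles j i) := by
  let FW := ((Scheme.Modules.restrictFunctor k).mapHomologicalComplex (ComplexShape.up ℤ)).obj F
  haveI := PullPerf.preservesFiniteLimits_restrict k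
  haveI := PullPerf.preservesFiniteColimits_restrict k
  have h1 : IsZero (FW.homology i) :=
    IsZero.of_iso ((Scheme.Modules.restrictFunctor k).map_isZero hF)
      ((F.sc i).mapHomologyIso (Scheme.Modules.restrictFunctor k))
  have h2 : (FW.sc i).Exact := (FW.exactAt_iff i).1 ((FW.exactAt_iff_isZero_homology i).2 h1)
  obtain rfl : (ComplexShape.up ℤ).prev i = j := (ComplexShape.up ℤ).prev_eq' hj
  haveI := h2.epi_toCycles
  exact (show FW.toCycles ((ComplexShape.up ℤ).prev i) i = (FW.sc i).toCycles from rfl) ▸ this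

lemma nullGE_step (hE : ∀ i, FlatMod.IsFinLocFree (E.X i)) {α : E ⟶ F} {m : ℤ} (hF : IsZero (F.homology m))
    {k : W ⟶ X} [IsOpenImmersion k] (hk : NullGE α (m + 1) k) (w : W) :
    ∃ V : W.Opens, w ∈ V ∧ NullGE α m (V.ι ≫ k) := by
  obtain ⟨h, hh⟩ := hk
  let R := Scheme.Modules.restrictFunctor k
  let FW := (R.mapHomologicalComplex (ComplexShape.up ℤ)).obj F
  let r : R.obj (E.X m) ⟶ R.obj (F.X m) := R.map (α.f m) - R.map (E.d m (m + 1)) ≫ h (m + 1) m rfl
  have hr : r ≫ FW.d m (m + 1) = 0 := by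
    change r ≫ R.map (F.d m (m + 1)) = 0
    rw [Preadditive.sub_comp, Category.assoc, ← Functor.map_comp, α.comm, Functor.map_comp,
      ← Preadditive.comp_sub, hh (m + 1) le_rfl m (m + 1 + 1) rfl rfl, add_sub_cancel_right, ← Category.assoc,
      ← Functor.map_comp, E.d_comp_d, Functor.map_zero, zero_comp]
  let φ : R.obj (E.X m) ⟶ FW.cycles m := FW.liftCycles r (m + 1) (by simp) hr
  haveI := epi_toCycles_restrict k (show m - 1 + 1 = m by omega) hF
  have hfree : FlatMod.IsFinLocFree (R.obj (E.X m)) :=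
    PerfTensor.isFinLocFree_of_iso ((Scheme.Modules.restrictFunctorIsoPullback k).app (E.X m)).symm
      (PullPerf.isFinLocFree_pullback k (hE m))
  obtain ⟨V, hw, ψ, hψ⟩ := LocLift.exists_liftAt hfree φ (FW.toCycles (m - 1) m) w
  let c := Scheme.Modules.restrictFunctorComp V.ι k
  have key : c.hom.app (E.X m) ≫ ψ ≫ c.inv.app (F.X (m - 1)) ≫
      (Scheme.Modules.restrictFunctor (V.ι ≫ k)).map (F.d (m - 1) m) = tr V.ι k r := by
    rw [← c.inv.naturality, Functor.comp_map]
    have e : R.map (F.d (m - 1) m) = FW.toCycles (m - 1) m ≫ FW.iCycles m := (FW.toCycles_i (m - 1) m).symm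
    rw [e, Functor.map_comp, Category.assoc, reassoc_of% hψ, ← Functor.map_comp_assoc, HomologicalComplex.liftCycles_i]
    rfl
  let R' := Scheme.Modules.restrictFunctor (V.ι ≫ k)
  let p : R'.obj (E.X m) ⟶ R'.obj (F.X (m - 1)) := c.hom.app (E.X m) ≫ ψ ≫ c.inv.app (F.X (m - 1))
  let h' : ∀ i j : ℤ, j + 1 = i → (R'.obj (E.X i) ⟶ R'.obj (F.X j)) := fun i j hij =>
    if hi : i = m then eqToHom (by rw [hi]) ≫ p ≫ eqToHom (by rw [show j = m - 1 by omega])
    else tr V.ι k (h i j hij)
  have hp : h' m (m - 1) (by omega) = p := by simp [h']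
  have hne : ∀ i j hij, i ≠ m → h' i j hij = tr V.ι k (h i j hij) := fun i j hij hi => dif_neg hi
  refine ⟨V, hw, h', fun i hi j l hj hl => ?_⟩
  rcases eq_or_lt_of_le hi with rfl | hlt
  · subst hl
    obtain rfl : j = m - 1 := by omega
    rw [hp, hne _ _ _ (by omega : m + 1 ≠ m)]
    dsimp only [p]
    rw [Category.assoc, Category.assoc]
    change _ = _ + c.hom.app (E.X m) ≫ ψ ≫ c.inv.app (F.X (m - 1)) ≫
      (Scheme.Modules.restrictFunctor (V.ι ≫ k)).map (F.d (m - 1) m)
    rw [key, ← tr_map V.ι k (E.d m (m + 1)), ← tr_comp, ← tr_add, ← tr_map V.ι k (α.f m)]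
    simp [r, R]
  · rw [hne _ _ _ (by omega : l ≠ m), hne _ _ _ (by omega : i ≠ m), ← tr_map V.ι k (α.f i),
      ← tr_map V.ι k (E.d i l), ← tr_map V.ι k (F.d j i), ← tr_comp, ← tr_comp, ← tr_add,
      hh i (by omega) j l hj hl]

theorem exists_nullGE (hE : DCoh.IsStrictlyPerfect E) (α : E ⟶ F) (a : ℤ)
    (hF : ∀ i : ℤ, a ≤ i → IsZero (F.homology i)) (x : X) :
    ∃ (W : Scheme.{u}) (k : W ⟶ X) (_ : IsOpenImmersion k), x ∈ k.opensRange ∧ NullGE α a k := by
  obtain ⟨⟨a₀, b₀, hab⟩, hf⟩ := hE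
  let b := max a (b₀ + 1)
  suffices ∀ n : ℕ, a ≤ b - n → ∃ (W : Scheme.{u}) (k : W ⟶ X) (_ : IsOpenImmersion k),
      x ∈ k.opensRange ∧ NullGE α (b - n) k by
    obtain ⟨n, hn⟩ : ∃ n : ℕ, (n : ℤ) = b - a := ⟨(b - a).toNat, by omega⟩
    simpa [show b - (n : ℤ) = a by omega] using this n (by omega)
  intro n
  induction n with
  | zero =>
    intro _
    exact ⟨X, 𝟙 X, inferInstance, ⟨x, rfl⟩, nullGE_top α _ (fun i hi => hab i (Or.inr (by simp at hi; omega))) _⟩
  | succ n ih =>
    intro hn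
    obtain ⟨W, k, hk, ⟨w, rfl⟩, hnull⟩ := ih (by omega)
    obtain ⟨V, hw, hV⟩ := nullGE_step hf (m := b - (n + 1 : ℕ)) (hF _ hn)
      (by rw [show b - ((n + 1 : ℕ) : ℤ) + 1 = b - n by push_cast; omega]; exact hnull) w
    exact ⟨V, V.ι ≫ k, inferInstance, ⟨⟨w, hw⟩, rfl⟩, hV⟩

/-- A map from a strictly perfect complex to one exact in its range is locally null-homotopic. -/
theorem exists_nullAll (hE : DCoh.IsStrictlyPerfect E) (α : E ⟶ F) (a : ℤ)
    (hEa : ∀ i : ℤ, i < a → IsZero (E.X i))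
    (hF : ∀ i : ℤ, a ≤ i → IsZero (F.homology i)) (x : X) :
    ∃ V : X.Opens, x ∈ V ∧ ∃ h : ∀ i j : ℤ, j + 1 = i →
        ((Scheme.Modules.restrictFunctor V.ι).obj (E.X i) ⟶ (Scheme.Modules.restrictFunctor V.ι).obj (F.X j)),
      ∀ (i j l : ℤ) (hj : j + 1 = i) (hl : i + 1 = l),
        (Scheme.Modules.restrictFunctor V.ι).map (α.f i) =
          (Scheme.Modules.restrictFunctor V.ι).map (E.d i l) ≫ h l i hl +
            h i j hj ≫ (Scheme.Modules.restrictFunctor V.ι).map (F.d j i) := by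
  obtain ⟨W, k, hk, hx, hn⟩ := exists_nullGE hE α a hF x
  obtain ⟨h, hh⟩ := (hn.comp k.isoOpensRange.inv).congr k.isoOpensRange_inv_comp
  refine ⟨k.opensRange, hx, h, fun i j l hj hl => ?_⟩
  by_cases hi : a ≤ i
  · exact hh i hi j l hj hl
  · exact ((Scheme.Modules.restrictFunctor _).map_isZero (hEa i (by omega))).eq_of_src _ _

theorem exists_homotopy_zero (hE : DCoh.IsStrictlyPerfect E) (α : E ⟶ F) (a : ℤ)
    (hEa : ∀ i : ℤ, i < a → IsZero (E.X i))
    (hF : ∀ i : ℤ, a ≤ i → IsZero (F.homology i)) (x : X) :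
    ∃ V : X.Opens, x ∈ V ∧ Nonempty (Homotopy ((DCoh.restrictCx V).map α) 0) := by
  obtain ⟨V, hx, h, hh⟩ := exists_nullAll hE α a hEa hF x
  refine ⟨V, hx, ⟨(Homotopy.ofEq ?_).trans (Homotopy.nullHomotopy' (C := (DCoh.restrictCx V).obj E)
    (D := (DCoh.restrictCx V).obj F) h)⟩⟩
  ext1 i
  rw [Homotopy.nullHomotopicMap'_f (show (ComplexShape.up ℤ).Rel (i - 1) i by simp) (show (ComplexShape.up ℤ).Rel i (i + 1) by simp)]
  exact hh i (i - 1) (i + 1) (by omega) rfl

attribute [local instance] HasDerivedCategory.standard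

open CochainComplex CochainComplex.HomComplex in
lemma isZero_homology_cone {G : CochainComplex X.Modules ℤ} (f : G ⟶ F) (a : ℤ)
    (hf : ∀ j : ℤ, a < j → IsIso (HomologicalComplex.homologyMap f j))
    (hfa : Epi (HomologicalComplex.homologyMap f a)) (i : ℤ) (hi : a ≤ i) :
    IsZero ((mappingCone f).homology i) := by
  have hT : DerivedCategory.Q.mapTriangle.obj (mappingCone.triangle f) ∈ Pretriangulated.distinguishedTriangles :=
    (DerivedCategory.mem_distTriang_iff _).2 ⟨_, _, f, ⟨Iso.refl _⟩⟩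
  have ha : PullPerf.Apx a (DerivedCategory.Q.map f) := by
    refine ⟨fun j hj => ?_, ?_⟩
    · exact (NatIso.isIso_map_iff (DerivedCategory.homologyFunctorFactors X.Modules j) f).2 (hf j hj)
    · refine ((MorphismProperty.epimorphisms X.Modules).arrow_mk_iso_iff
        (((Functor.mapArrowFunctor _ _).mapIso (DerivedCategory.homologyFunctorFactors X.Modules a)).app (Arrow.mk f))).2 hfa
  have hC := (PullPerf.apx_iff_isLE a _ hT).1 ha
  exact IsZero.of_iso ((DerivedCategory.isLE_iff _ _).1 hC i (by omega))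
    ((DerivedCategory.homologyFunctorFactors X.Modules i).app (mappingCone f)).symm

open CochainComplex CochainComplex.HomComplex in
/-- Lifting of maps out of strictly perfect complexes, locally and up to homotopy. -/
theorem exists_lift {G : CochainComplex X.Modules ℤ} (hE : DCoh.IsStrictlyPerfect E) (α : E ⟶ F) (f : G ⟶ F)
    (a : ℤ) (hEa : ∀ i : ℤ, i < a → IsZero (E.X i))
    (hf : ∀ j : ℤ, a < j → IsIso (HomologicalComplex.homologyMap f j))
    (hfa : Epi (HomologicalComplex.homologyMap f a)) (x : X) :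
    ∃ (V : X.Opens) (β : (DCoh.restrictCx V).obj E ⟶ (DCoh.restrictCx V).obj G), x ∈ V ∧
      Nonempty (Homotopy (β ≫ (DCoh.restrictCx V).map f) ((DCoh.restrictCx V).map α)) := by
  obtain ⟨V, hx, h, hh⟩ := exists_nullAll hE (α ≫ mappingCone.inr f) a hEa (isZero_homology_cone f a hf hfa) x
  let R := Scheme.Modules.restrictFunctor V.ι
  let hp : ∀ i j : ℤ, j + 1 = i → (R.obj (E.X i) ⟶ R.obj (G.X i)) := fun i j hj =>
    h i j hj ≫ R.map ((mappingCone.fst f).1.v j i hj)
  let hs : ∀ i j : ℤ, j + 1 = i → (R.obj (E.X i) ⟶ R.obj (F.X j)) := fun i j hj =>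
    h i j hj ≫ R.map ((mappingCone.snd f).v j j (add_zero j))
  have e₁ : ∀ (i j l : ℤ) (hj : j + 1 = i) (hl : i + 1 = l),
      hp i j hj ≫ R.map (G.d i l) = R.map (E.d i l) ≫ hp l i hl := by
    intro i j l hj hl
    have := congrArg (· ≫ R.map ((mappingCone.fst f).1.v i l hl)) (show R.map ((α ≫ mappingCone.inr f).f i) = R.map (E.d i l) ≫ h l i hl +
      h i j hj ≫ R.map ((mappingCone f).d j i) from hh i j l hj hl)
    simp only [HomologicalComplex.comp_f, Preadditive.add_comp, Category.assoc, ← R.map_comp,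
      mappingCone.inr_f_fst_v, comp_zero, Functor.map_zero, mappingCone.d_fst_v f j i l hj hl, Functor.map_neg,
      Preadditive.comp_neg] at this
    simp only [hp, Category.assoc, ← R.map_comp]
    exact (eq_of_sub_eq_zero ((sub_eq_add_neg _ _).trans this.symm)).symm
  have e₂ : ∀ (i j l : ℤ) (hj : j + 1 = i) (hl : i + 1 = l),
      R.map (α.f i) = R.map (E.d i l) ≫ hs l i hl + (hp i j hj ≫ R.map (f.f i) + hs i j hj ≫ R.map (F.d j i)) := by
    intro i j l hj hl
    have := congrArg (· ≫ R.map ((mappingCone.snd f).v i i (add_zero i))) (show R.map ((α ≫ mappingCone.inr f).f i) = R.map (E.d i l) ≫ h l i hl +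
      h i j hj ≫ R.map ((mappingCone f).d j i) from hh i j l hj hl)
    simp only [HomologicalComplex.comp_f, Preadditive.add_comp, Category.assoc, ← R.map_comp,
      mappingCone.inr_f_snd_v, Category.comp_id, mappingCone.d_snd_v f j i hj] at this
    simp only [hp, hs, Category.assoc, ← R.map_comp, ← Preadditive.comp_add, ← R.map_add]
    exact this
  let β : (DCoh.restrictCx V).obj E ⟶ (DCoh.restrictCx V).obj G :=
    { f := fun i => hp i (i - 1) (by omega)
      comm' := fun i l hl => by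
        obtain rfl : i + 1 = l := hl
        change hp i (i - 1) _ ≫ R.map (G.d i (i + 1)) = R.map (E.d i (i + 1)) ≫ hp (i + 1) (i + 1 - 1) _
        rw [e₁ i (i - 1) (i + 1) (by omega) rfl]
        congr 1
        congr <;> omega }
  refine ⟨V, β, hx, ⟨(Homotopy.equivSubZero).symm ((Homotopy.ofEq ?_).trans
    (Homotopy.nullHomotopy' (C := (DCoh.restrictCx V).obj E) (D := (DCoh.restrictCx V).obj F) fun i j hij => -hs i j hij))⟩⟩
  ext1 i
  rw [Homotopy.nullHomotopicMap'_f (show (ComplexShape.up ℤ).Rel (i - 1) i by simp)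
    (show (ComplexShape.up ℤ).Rel i (i + 1) by simp)]
  change hp i (i - 1) _ ≫ R.map (f.f i) - R.map (α.f i) =
    R.map (E.d i (i + 1)) ≫ (-hs (i + 1) i _) + (-hs i (i - 1) _) ≫ R.map (F.d (i - 1) i)
  rw [e₂ i (i - 1) (i + 1) (by omega) rfl, Preadditive.comp_neg, Preadditive.neg_comp]
  abel

/-- Morphisms in the derived category out of strictly perfect complexes are locally morphisms of complexes. -/
theorem exists_map (hE : DCoh.IsStrictlyPerfect E) (α : DerivedCategory.Q.obj E ⟶ DerivedCategory.Q.obj F) (x : X) :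
    ∃ V : X.Opens, x ∈ V ∧ ∀ [PreservesFiniteLimits (Scheme.Modules.restrictFunctor V.ι)],
      ∃ β : (DCoh.restrictCx V).obj E ⟶ (DCoh.restrictCx V).obj F,
        (Scheme.Modules.restrictFunctor V.ι).mapDerivedCategory.map α =
          (Scheme.Modules.restrictFunctor V.ι).mapDerivedCategoryFactors.hom.app E ≫ DerivedCategory.Q.map β ≫
            (Scheme.Modules.restrictFunctor V.ι).mapDerivedCategoryFactors.inv.app F := by
  obtain ⟨F', γ, s, hs, rfl⟩ := DerivedCategory.left_fac α
  obtain ⟨⟨a, b, hab⟩, hf⟩ := hE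
  have hq : ∀ j, IsIso (HomologicalComplex.homologyMap s j) := fun j => by
    have := (NatIso.isIso_map_iff (DerivedCategory.homologyFunctorFactors X.Modules j) s).1
      (haveI := hs; inferInstanceAs (IsIso ((DerivedCategory.homologyFunctor X.Modules j).map (DerivedCategory.Q.map s))))
    exact this
  haveI := hq a
  obtain ⟨V, β, hx, ⟨H⟩⟩ := exists_lift (G := F) ⟨⟨a, b, hab⟩, hf⟩ γ s a (fun i hi => hab i (Or.inl hi))
    (fun j _ => hq j) inferInstance x
  refine ⟨V, hx, fun {_} => ⟨β, ?_⟩⟩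
  let R := Scheme.Modules.restrictFunctor V.ι
  haveI := hs
  have hH : DerivedCategory.Q.map β ≫ DerivedCategory.Q.map ((DCoh.restrictCx V).map s) =
      DerivedCategory.Q.map ((DCoh.restrictCx V).map γ) := by
    rw [← Functor.map_comp]
    have h₁ := congrArg DerivedCategory.Qh.map (HomotopyCategory.eq_of_homotopy _ _ H)
    exact (NatIso.naturality_1 (DerivedCategory.quotientCompQhIso _) _).symm.trans
      ((congrArg (fun t => _ ≫ t ≫ _) h₁).trans (NatIso.naturality_1 (DerivedCategory.quotientCompQhIso _) _))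
  rw [Functor.map_comp, Functor.map_inv, IsIso.comp_inv_eq]
  rw [Category.assoc, Category.assoc]
  have nγ := R.mapDerivedCategoryFactors.hom.naturality γ
  have ns := R.mapDerivedCategoryFactors.hom.naturality s
  dsimp at nγ ns
  rw [← cancel_mono (R.mapDerivedCategoryFactors.hom.app F')]
  simp only [Category.assoc]
  rw [ns, Iso.inv_hom_id_app_assoc, hH, nγ]

end Groth.Agent.DCat.HtpyLift
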