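import Mathlib.CategoryTheory.Abelian.RightDerived
import Mathlib.CategoryTheory.Limits.Preserves.Shapes.Kernels
import Mathlib.Algebra.Homology.ShortComplex.ShortExact
import Mathlib.Algebra.Homology.ShortComplex.Abelian

/-!
Coresolutions by injective objects split into short exact sequences, and the dimension-shifting
description of the right derived functors.
-/

set_option autoImplicit false
set_option backward.isDefEq.respectTransparency false

universe v v' u u'

open CategoryTheory CategoryTheory.Limits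

namespace Groth.Agent.DCat.InjChain

variable {C : Type u} [Category.{v} C] [Abelian C]

/-- A coresolution, as a sequence of short exact sequences with injective middle terms. -/
structure Chain (C : Type u) [Category.{v} C] [Abelian C] where
  Z : ℕ → C
  J : ℕ → C
  i : ∀ k, Z k ⟶ J k
  p : ∀ k, J k ⟶ Z (k + 1)
  w : ∀ k, i k ≫ p k = 0
  ses : ∀ k, (ShortComplex.mk (i k) (p k) (w k)).ShortExact
  inj : ∀ k, Injective (J k)

/-- Morphisms of coresolutions. -/
structure Hom (c d : Chain C) where
  u : ∀ k, c.Z k ⟶ d.Z k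
  v : ∀ k, c.J k ⟶ d.J k
  comm_i : ∀ k, c.i k ≫ v k = u k ≫ d.i k
  comm_p : ∀ k, c.p k ≫ u (k + 1) = v k ≫ d.p k

def Hom.id (c : Chain C) : Hom c c where
  u k := 𝟙 _
  v k := 𝟙 _
  comm_i k := by simp
  comm_p k := by simp

def Hom.comp {c d e : Chain C} (φ : Hom c d) (ψ : Hom d e) : Hom c e where
  u k := φ.u k ≫ ψ.u k
  v k := φ.v k ≫ ψ.v k
  comm_i k := by rw [reassoc_of% (φ.comm_i k), ψ.comm_i k, Category.assoc]
  comm_p k := by rw [reassoc_of% (φ.comm_p k), ψ.comm_p k, Category.assoc]

/-- Morphisms of the first terms extend. -/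
theorem exists_hom (c d : Chain C) (f : c.Z 0 ⟶ d.Z 0) : ∃ φ : Hom c d, φ.u 0 = f := by
  have step : ∀ k (u : c.Z k ⟶ d.Z k), ∃ (v : c.J k ⟶ d.J k) (u' : c.Z (k + 1) ⟶ d.Z (k + 1)),
      c.i k ≫ v = u ≫ d.i k ∧ c.p k ≫ u' = v ≫ d.p k := by
    intro k u
    have := d.inj k
    have := (c.ses k).mono_f
    have := (c.ses k).epi_g
    let v : c.J k ⟶ d.J k := Injective.factorThru (u ≫ d.i k) (c.i k)
    have hv : c.i k ≫ v = u ≫ d.i k := Injective.comp_factorThru _ _
    have hw : c.i k ≫ v ≫ d.p k = 0 := by rw [reassoc_of% hv, d.w, comp_zero]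
    exact ⟨v, (c.ses k).exact.desc (v ≫ d.p k) hw, hv, (c.ses k).exact.g_desc _ hw⟩
  choose v u' h₁ h₂ using step
  let u : ∀ k, c.Z k ⟶ d.Z k := fun k => Nat.rec f (fun k r => u' k r) k
  exact ⟨⟨u, fun k => v k (u k), fun k => h₁ k (u k), fun k => h₂ k (u k)⟩, rfl⟩

/-- Extensions of the same morphism differ, after the first step, by maps through the injectives. -/
theorem exists_eq_add {c d : Chain C} (φ ψ : Hom c d) (h : φ.u 0 = ψ.u 0) (k : ℕ) :
    ∃ s : c.Z (k + 1) ⟶ d.J k, φ.u (k + 1) - ψ.u (k + 1) = s ≫ d.p k := by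
  have key : ∀ (k : ℕ) (e : c.J k ⟶ d.Z k),
      c.i k ≫ (φ.v k - ψ.v k - e ≫ d.i k) = 0 →
      ∃ s : c.Z (k + 1) ⟶ d.J k, φ.u (k + 1) - ψ.u (k + 1) = s ≫ d.p k := by
    intro k e he
    have := (c.ses k).epi_g
    have : Epi (c.p k) := (c.ses k).epi_g
    refine ⟨(c.ses k).exact.desc _ he, ?_⟩
    rw [← cancel_epi (c.p k), (c.ses k).exact.g_desc_assoc _ he]
    simp only [Preadditive.comp_sub, Preadditive.sub_comp, Category.assoc, φ.comm_p, ψ.comm_p, d.w, comp_zero,
      sub_zero]
  induction k with
  | zero => exact key 0 0 (by simp [Preadditive.comp_sub, φ.comm_i, ψ.comm_i, h])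
  | succ k ih =>
    obtain ⟨s, hs⟩ := ih
    have := d.inj k
    have := (c.ses (k + 1)).mono_f
    refine key (k + 1) (Injective.factorThru s (c.i (k + 1)) ≫ d.p k) ?_
    rw [Preadditive.comp_sub, Preadditive.comp_sub, φ.comm_i, ψ.comm_i, Category.assoc,
      Injective.comp_factorThru_assoc, ← reassoc_of% hs, Preadditive.sub_comp, sub_self]

variable {D : Type u'} [Category.{v'} D] [Abelian D] (F : C ⥤ D) [F.Additive]

/-- The dimension-shifted derived object in degree `k + 1`. -/
noncomputable abbrev val (c : Chain C) (k : ℕ) : D := cokernel (F.map (c.p k))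

noncomputable def valMap {c d : Chain C} (φ : Hom c d) (k : ℕ) : val F c k ⟶ val F d k :=
  cokernel.map _ _ (F.map (φ.v k)) (F.map (φ.u (k + 1))) (by rw [← F.map_comp, φ.comm_p, F.map_comp])

@[reassoc]
lemma π_valMap {c d : Chain C} (φ : Hom c d) (k : ℕ) :
    cokernel.π (F.map (c.p k)) ≫ valMap F φ k = F.map (φ.u (k + 1)) ≫ cokernel.π (F.map (d.p k)) :=
  cokernel.π_desc _ _ _

theorem valMap_congr {c d : Chain C} (φ ψ : Hom c d) (h : φ.u 0 = ψ.u 0) (k : ℕ) :
    valMap F φ k = valMap F ψ k := by
  obtain ⟨s, hs⟩ := exists_eq_add φ ψ h k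
  rw [← cancel_epi (cokernel.π (F.map (c.p k))), π_valMap, π_valMap, ← sub_eq_zero, ← Preadditive.sub_comp,
    ← F.map_sub, hs, F.map_comp, Category.assoc, cokernel.condition, comp_zero]

theorem valMap_id (c : Chain C) (k : ℕ) : valMap F (Hom.id c) k = 𝟙 _ := by
  rw [← cancel_epi (cokernel.π (F.map (c.p k))), π_valMap]
  simp [Hom.id]

theorem valMap_comp {c d e : Chain C} (φ : Hom c d) (ψ : Hom d e) (k : ℕ) :
    valMap F (φ.comp ψ) k = valMap F φ k ≫ valMap F ψ k := by
  rw [← cancel_epi (cokernel.π (F.map (c.p k))), π_valMap, π_valMap_assoc, π_valMap]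
  simp [Hom.comp]

theorem isIso_valMap {c d : Chain C} (φ : Hom c d) [IsIso (φ.u 0)] (k : ℕ) : IsIso (valMap F φ k) := by
  obtain ⟨ψ, hψ⟩ := exists_hom d c (inv (φ.u 0))
  refine ⟨valMap F ψ k, ?_, ?_⟩
  · rw [← valMap_comp, valMap_congr F _ (Hom.id c) (by simp [Hom.comp, Hom.id, hψ]), valMap_id]
  · rw [← valMap_comp, valMap_congr F _ (Hom.id d) (by simp [Hom.comp, Hom.id, hψ]), valMap_id]

variable [HasInjectiveResolutions C] [PreservesFiniteLimits F]

/-- The coresolution of the chosen injective resolution. -/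
noncomputable def ofResolution {X : C} (R : InjectiveResolution X) : Chain C where
  Z k := kernel (R.cocomplex.d k (k + 1))
  J k := R.cocomplex.X k
  i k := kernel.ι _
  p k := kernel.lift _ (R.cocomplex.d k (k + 1)) (R.cocomplex.d_comp_d _ _ _)
  w k := by
    rw [← cancel_mono (kernel.ι _), Category.assoc, kernel.lift_ι, kernel.condition, zero_comp]
  ses k :=
    { exact := by
        rw [← ShortComplex.exact_map_iff_of_faithful _ (𝟭 C)]
        exact (ShortComplex.exact_iff_of_epi_of_isIso_of_mono
          (S₁ := ShortComplex.mk (kernel.ι (R.cocomplex.d k (k + 1)))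
            (kernel.lift (R.cocomplex.d (k + 1) (k + 1 + 1)) (R.cocomplex.d k (k + 1)) (R.cocomplex.d_comp_d _ _ _))
            (by rw [← cancel_mono (kernel.ι _), Category.assoc, kernel.lift_ι, kernel.condition, zero_comp]))
          (S₂ := ShortComplex.mk _ _ (kernel.condition (R.cocomplex.d k (k + 1))))
          { τ₁ := 𝟙 _, τ₂ := 𝟙 _, τ₃ := kernel.ι _ }).2 (ShortComplex.exact_kernel _)
      mono_f := (inferInstance : Mono (kernel.ι (R.cocomplex.d k (k + 1))))
      epi_g := (ShortComplex.exact_iff_epi_kernel_lift _).1 (R.exact_succ k) }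
  inj k := R.injective k

noncomputable def ofResolutionZero {X : C} (R : InjectiveResolution X) : X ⟶ (ofResolution R).Z 0 :=
  kernel.lift _ (R.ι.f 0) R.ι_f_zero_comp_complex_d

instance isIso_ofResolutionZero {X : C} (R : InjectiveResolution X) : IsIso (ofResolutionZero R) :=
  by
    have e : ofResolutionZero R = (IsLimit.conePointUniqueUpToIso R.isLimitKernelFork (kernelIsKernel (R.cocomplex.d 0 1))).hom := by
      apply equalizer.hom_ext
      refine (kernel.lift_ι _ _ _).trans ?_
      exact (IsLimit.conePointUniqueUpToIso_hom_comp R.isLimitKernelFork (kernelIsKernel (R.cocomplex.d 0 1))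
        WalkingParallelPair.zero).symm
    rw [e]
    infer_instance

variable (k : ℕ)

/-- The image of the kernel is the kernel of the image. -/
noncomputable def mapKernel {X Y : C} (f : X ⟶ Y) :
    IsLimit (KernelFork.ofι (F.map (kernel.ι f)) (by rw [← F.map_comp, kernel.condition, F.map_zero]) :
      KernelFork (F.map f)) :=
  isLimitForkMapOfIsLimit' F (kernel.condition f) (kernelIsKernel f)

/-- Left homology data of the image of a resolution. -/
noncomputable def lhData {X : C} (R : InjectiveResolution X) :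
    (((F.mapHomologicalComplex (ComplexShape.up ℕ)).obj R.cocomplex).sc' k (k + 1) (k + 1 + 1)).LeftHomologyData :=
  let hi := mapKernel F (R.cocomplex.d (k + 1) (k + 1 + 1))
  let S := ((F.mapHomologicalComplex (ComplexShape.up ℕ)).obj R.cocomplex).sc' k (k + 1) (k + 1 + 1)
  have e : hi.lift (KernelFork.ofι S.f S.zero) = F.map ((ofResolution R).p k) := by
    apply Fork.IsLimit.hom_ext hi
    refine (hi.fac _ WalkingParallelPair.zero).trans ?_
    refine Eq.trans ?_ (F.map_comp _ _)
    rw [show (ofResolution R).p k ≫ kernel.ι (R.cocomplex.d (k + 1) (k + 1 + 1)) = R.cocomplex.d k (k + 1) from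
      kernel.lift_ι _ _ _]
    rfl
  { K := F.obj ((ofResolution R).Z (k + 1))
    H := val F (ofResolution R) k
    i := F.map (kernel.ι _)
    π := cokernel.π _
    wi := by
      show F.map (kernel.ι _) ≫ F.map _ = 0
      rw [← F.map_comp, kernel.condition, F.map_zero]
    hi := hi
    wπ := (congrArg (fun t => t ≫ cokernel.π (F.map ((ofResolution R).p k))) e).trans (cokernel.condition _)
    hπ := CokernelCofork.IsColimit.ofπ _ _
      (fun t ht => cokernel.desc _ t ((congrArg (fun r => r ≫ t) e).symm.trans ht))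
      (fun t ht => cokernel.π_desc _ _ _)
      (fun t ht m hm => coequalizer.hom_ext (hm.trans (cokernel.π_desc _ _ _).symm)) }

/-- `H^{k+1}` of the image of a resolution is the dimension-shifted object. -/
noncomputable def valResolutionIso {X : C} (R : InjectiveResolution X) :
    val F (ofResolution R) k ≅ ((F.mapHomologicalComplex (ComplexShape.up ℕ)).obj R.cocomplex).homology (k + 1) :=
  (lhData F k R).homologyIso.symm ≪≫
    ShortComplex.homologyMapIso (((F.mapHomologicalComplex (ComplexShape.up ℕ)).obj R.cocomplex).isoSc' k (k + 1)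
      (k + 1 + 1) (by simp) (by simp)).symm

theorem valResolutionIso_natural {X Y : C} (R : InjectiveResolution X) (S : InjectiveResolution Y)
    (g : R.cocomplex ⟶ S.cocomplex) (φ : Hom (ofResolution R) (ofResolution S))
    (hφ : ∀ j, φ.u j ≫ kernel.ι _ = kernel.ι _ ≫ g.f j) :
    valMap F φ k ≫ (valResolutionIso F k S).hom = (valResolutionIso F k R).hom ≫
      HomologicalComplex.homologyMap ((F.mapHomologicalComplex (ComplexShape.up ℕ)).map g) (k + 1) := by
  let gF := (F.mapHomologicalComplex (ComplexShape.up ℕ)).map g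
  let m := (HomologicalComplex.shortComplexFunctor' D (ComplexShape.up ℕ) k (k + 1) (k + 1 + 1)).map gF
  let γ : ShortComplex.LeftHomologyMapData m (lhData F k R) (lhData F k S) :=
    { φK := F.map (φ.u (k + 1))
      φH := valMap F φ k
      commi := by
        refine ((F.map_comp _ _).symm.trans (congrArg F.map (hφ (k + 1)))).trans (F.map_comp _ _)
      commf' := by
        rw [← cancel_mono (lhData F k S).i, Category.assoc, Category.assoc, ShortComplex.LeftHomologyData.f'_i]
        have hc : F.map (φ.u (k + 1)) ≫ (lhData F k S).i = (lhData F k R).i ≫ m.τ₂ :=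
          ((F.map_comp _ _).symm.trans (congrArg F.map (hφ (k + 1)))).trans (F.map_comp _ _)
        rw [hc, ShortComplex.LeftHomologyData.f'_i_assoc]
        exact m.comm₁₂.symm
      commπ := π_valMap F φ k }
  have e := γ.homologyMap_eq
  let FR := (F.mapHomologicalComplex (ComplexShape.up ℕ)).obj R.cocomplex
  let FS := (F.mapHomologicalComplex (ComplexShape.up ℕ)).obj S.cocomplex
  let iR := FR.isoSc' k (k + 1) (k + 1 + 1) (by simp) (by simp)
  let iS := FS.isoSc' k (k + 1) (k + 1 + 1) (by simp) (by simp)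
  let mF : FR.sc (k + 1) ⟶ FS.sc (k + 1) := (HomologicalComplex.shortComplexFunctor D _ (k + 1)).map gF
  let m' : FR.sc' k (k + 1) (k + 1 + 1) ⟶ FS.sc' k (k + 1) (k + 1 + 1) := m
  have nat : m' ≫ iS.inv = iR.inv ≫ mF :=
    (HomologicalComplex.natIsoSc' D (ComplexShape.up ℕ) k (k + 1) (k + 1 + 1) (by simp) (by simp)).inv.naturality gF
  have n₀ : ShortComplex.homologyMap m' ≫ ShortComplex.homologyMap iS.inv =
      ShortComplex.homologyMap iR.inv ≫ ShortComplex.homologyMap mF :=
    (ShortComplex.homologyMap_comp m' iS.inv).symm.trans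
      (by rw [nat]; exact ShortComplex.homologyMap_comp iR.inv mF)
  show valMap F φ k ≫ (lhData F k S).homologyIso.inv ≫ ShortComplex.homologyMap iS.inv =
    ((lhData F k R).homologyIso.inv ≫ ShortComplex.homologyMap iR.inv) ≫ ShortComplex.homologyMap mF
  refine Eq.trans ?_ (Category.assoc _ _ _).symm
  refine Eq.trans ?_ (congrArg ((lhData F k R).homologyIso.inv ≫ ·) n₀)
  refine (Category.assoc _ _ _).symm.trans ?_
  refine Eq.trans ?_ (Category.assoc _ _ _)
  congr 1
  exact ((Iso.inv_comp_eq _).2 e).symm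

theorem exists_hom_ofResolution {X Y : C} (R : InjectiveResolution X) (S : InjectiveResolution Y)
    (g : R.cocomplex ⟶ S.cocomplex) :
    ∃ φ : Hom (ofResolution R) (ofResolution S), ∀ j, φ.u j ≫ kernel.ι _ = kernel.ι _ ≫ g.f j := by
  refine ⟨
    { u := fun j => kernel.map _ _ (g.f j) (g.f (j + 1)) (g.comm j (j + 1)).symm
      v := fun j => g.f j
      comm_i := fun j => (kernel.lift_ι _ _ _).symm
      comm_p := fun j => ?_ }, fun j => kernel.lift_ι _ _ _⟩
  rw [← cancel_mono (kernel.ι _)]
  dsimp [ofResolution]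
  simp [g.comm j (j + 1)]

variable {c d : Chain C}

/-- The comparison with the right derived functors. -/
noncomputable def toRightDerived (c : Chain C) {X : C} (a : c.Z 0 ≅ X) :
    val F c k ⟶ (F.rightDerived (k + 1)).obj X :=
  valMap F (exists_hom c (ofResolution (injectiveResolution X)) (a.hom ≫ ofResolutionZero (injectiveResolution X))).choose k ≫
    (valResolutionIso F k (injectiveResolution X)).hom ≫ ((injectiveResolution X).isoRightDerivedObj F (k + 1)).inv

instance isIso_toRightDerived (c : Chain C) {X : C} (a : c.Z 0 ≅ X) : IsIso (toRightDerived F k c a) := by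
  let h := exists_hom c (ofResolution (injectiveResolution X)) (a.hom ≫ ofResolutionZero (injectiveResolution X))
  have : IsIso (h.choose.u 0) := by rw [h.choose_spec]; infer_instance
  have := isIso_valMap F h.choose k
  dsimp only [toRightDerived]
  infer_instance

theorem toRightDerived_natural {X Y : C} (a : c.Z 0 ≅ X) (b : d.Z 0 ≅ Y) (φ : Hom c d) (f : X ⟶ Y)
    (h : φ.u 0 ≫ b.hom = a.hom ≫ f) :
    valMap F φ k ≫ toRightDerived F k d b = toRightDerived F k c a ≫ (F.rightDerived (k + 1)).map f := by
  let R := injectiveResolution X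
  let S := injectiveResolution Y
  let g := InjectiveResolution.desc f S R
  have hg : R.ι ≫ g = (CochainComplex.single₀ C).map f ≫ S.ι := InjectiveResolution.desc_commutes _ _ _
  have hg0 : R.ι.f 0 ≫ g.f 0 = f ≫ S.ι.f 0 := by
    rw [← HomologicalComplex.comp_f, hg, HomologicalComplex.comp_f, CochainComplex.single₀_map_f_zero]
  obtain ⟨ψ, hψ⟩ := exists_hom_ofResolution R S g
  have hf : ofResolutionZero R ≫ ψ.u 0 = f ≫ ofResolutionZero S := by
    rw [← cancel_mono (kernel.ι _), Category.assoc, Category.assoc]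
    erw [hψ 0, kernel.lift_ι_assoc, hg0, kernel.lift_ι]
  simp only [toRightDerived, Category.assoc]
  rw [(injectiveResolution X).isoRightDerivedObj_inv_naturality f S g hg0 F (k + 1)]
  dsimp only [Functor.comp_map]
  erw [← reassoc_of% valResolutionIso_natural F k R S g ψ hψ]
  rw [← Category.assoc, ← valMap_comp, ← Category.assoc (valMap F (exists_hom c _ _).choose k), ← valMap_comp]
  congr 1
  apply valMap_congr
  simp only [Hom.comp, (exists_hom d _ (b.hom ≫ ofResolutionZero (injectiveResolution Y))).choose_spec,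
    (exists_hom c _ (a.hom ≫ ofResolutionZero (injectiveResolution X))).choose_spec, Category.assoc,
    reassoc_of% h]
  exact congrArg (a.hom ≫ ·) hf.symm


end Groth.Agent.DCat.InjChain
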