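import Groth.Agent.DCat.KFlatSheaf
import Mathlib.CategoryTheory.Abelian.GrothendieckAxioms.FunctorCategory
import Mathlib.CategoryTheory.Abelian.FunctorCategory
import Mathlib.CategoryTheory.Limits.FunctorCategory.EpiMono

/-! Functorial K-flat resolutions of complexes of O_X-modules. -/

set_option autoImplicit false
set_option backward.isDefEq.respectTransparency false
set_option backward.defeqAttrib.useBackward true
set_option linter.style.haveILetI false

universe u

open CategoryTheory CategoryTheory.Limits AlgebraicGeometry Opposite HomologicalComplex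

namespace Groth.Agent.DCat.KFlatFunctorial

open ModStalk

variable {X : Scheme.{u}}

/-- The sections of `M`, indexed with their opens. -/
abbrev Idx (M : X.Modules) : Type u := Σ V : X.Opens, M.val.obj (op V)

/-- The opens of the sections. -/
abbrev idxU (M : X.Modules) : Idx M → X.Opens := fun i => i.1

/-- The free presheaf on the sections of `M`. -/
noncomputable abbrev G (M : X.Modules) : CohB1.PMod X := freeRep (idxU M)

/-- Functoriality of `G`. -/
noncomputable def mapG {M M' : X.Modules} (φ : M ⟶ M') : G M ⟶ G M' :=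
  freeRepDesc fun i => (gen (U := idxU M') ⟨i.1, φ.val.app (op i.1) i.2⟩ : (G M').obj (op i.1))

/-- The tautological map. -/
noncomputable def taut (M : X.Modules) : G M ⟶ DCoh.toP.obj M := freeRepDesc fun i => i.2

lemma mapG_gen {M M' : X.Modules} (φ : M ⟶ M') (i : Idx M) :
    (mapG φ).app (op i.1) (gen (U := idxU M) i) = gen (U := idxU M') ⟨i.1, φ.val.app (op i.1) i.2⟩ :=
  freeRepDesc_gen _ i

/-- The free presheaf functor. -/
noncomputable def GF : X.Modules ⥤ CohB1.PMod X where
  obj := G
  map := mapG
  map_id M := freeRep_hom_ext fun i => mapG_gen (𝟙 M) i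
  map_comp {M M' M''} φ ψ := freeRep_hom_ext fun i => by
    refine (mapG_gen (φ ≫ ψ) i).trans ?_
    exact ((congrArg ((mapG ψ).app (op i.1)) (mapG_gen φ i)).trans
      (mapG_gen ψ ⟨i.1, φ.val.app (op i.1) i.2⟩)).symm

lemma mapG_taut {M M' : X.Modules} (φ : M ⟶ M') : mapG φ ≫ taut M' = taut M ≫ DCoh.toP.map φ :=
  freeRep_hom_ext fun i => by
    refine ((congrArg ((taut M').app (op i.1)) (mapG_gen φ i)).trans
      (freeRepDesc_gen (U := idxU M') _ ⟨i.1, φ.val.app (op i.1) i.2⟩)).trans ?_
    exact (congrArg ((DCoh.toP.map φ).app (op i.1)) (freeRepDesc_gen (U := idxU M) (fun j => j.2) i)).symm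

/-- The functorial flat cover. -/
noncomputable def cover : X.Modules ⥤ X.Modules := GF ⋙ DCoh.shP

/-- The adjunction. -/
noncomputable abbrev shAdj : DCoh.shP (X := X) ⊣ DCoh.toP :=
  PresheafOfModules.sheafificationAdjunction.{u, u, u, u} (R := X.ringCatSheaf) (𝟙 X.ringCatSheaf.obj)

/-- Its map to the identity. -/
noncomputable def π : cover (X := X) ⟶ 𝟭 X.Modules where
  app M := DCoh.shP.map (taut M) ≫ shAdj.counit.app M
  naturality M M' φ := by
    show DCoh.shP.map (mapG φ) ≫ DCoh.shP.map (taut M') ≫ shAdj.counit.app M' =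
      (DCoh.shP.map (taut M) ≫ shAdj.counit.app M) ≫ φ
    have h : DCoh.shP.map (DCoh.toP.map φ) ≫ shAdj.counit.app M' = shAdj.counit.app M ≫ φ :=
      shAdj.counit.naturality φ
    rw [← Functor.map_comp_assoc, mapG_taut, Functor.map_comp, Category.assoc, h, Category.assoc]

lemma epi_π (M : X.Modules) : Epi (π.app M) := by
  let adj := PresheafOfModules.sheafificationAdjunction.{u, u, u, u} (R := X.ringCatSheaf) (𝟙 X.ringCatSheaf.obj)
  haveI : Epi (taut M) := PresheafOfModules.epi_of_surjective fun V s =>
    ⟨(gen (U := idxU M) ⟨V.unop, s⟩ : (G M).obj V), freeRepDesc_gen (U := idxU M) (fun i => i.2) ⟨V.unop, s⟩⟩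
  haveI : Epi (DCoh.shP.map (taut M)) := by
    haveI : (DCoh.shP (X := X)).IsLeftAdjoint := adj.isLeftAdjoint
    infer_instance
  haveI : Epi (adj.counit.app M) := inferInstance
  exact CategoryTheory.epi_comp (DCoh.shP.map (taut M)) (adj.counit.app M)

lemma isFlat_cover (M : X.Modules) : FlatMod.IsFlat (cover.obj M) := fun x => by
  haveI := projective_stalk_freeRep (idxU M) x
  haveI : Module.Projective (X.presheaf.stalk x) ((DerSch.stalkFunctor X x).obj (DCoh.shP.obj (G M))) :=
    (IsProjective.iff_projective _).2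
      (Projective.of_iso ((shPStalkIso x).app (G M)).symm inferInstance)
  exact (inferInstance : Module.Flat (X.presheaf.stalk x) ((DerSch.stalkFunctor X x).obj (DCoh.shP.obj (G M))))

section

variable (X)

/-- Functors of complexes. -/
abbrev B : Type (u + 1) := CochainComplex X.Modules ℤ ⥤ X.Modules

variable {X}

/-- Evaluation at a complex, on complexes. -/
noncomputable abbrev evC (C : CochainComplex X.Modules ℤ) : CochainComplex (B X) ℤ ⥤ CochainComplex X.Modules ℤ :=
  ((evaluation (CochainComplex X.Modules ℤ) X.Modules).obj C).mapHomologicalComplex (ComplexShape.up ℤ)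

/-- The universal complex. -/
noncomputable def univ : CochainComplex (B X) ℤ where
  X n := HomologicalComplex.eval X.Modules (ComplexShape.up ℤ) n
  d i j := { app := fun C => C.d i j, naturality := fun _ _ g => g.comm i j }
  shape i j h := by ext C : 2; exact C.shape i j h
  d_comp_d' i j k _ _ := by ext C : 2; exact C.d_comp_d i j k

/-- Its value. -/
noncomputable def univIso (C : CochainComplex X.Modules ℤ) : (evC C).obj univ ≅ C :=
  Hom.isoOfComponents (fun n => Iso.refl _) (fun i j _ => (Category.id_comp _).trans (Category.comp_id _).symm)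

/-- Functorial K-flat resolutions. -/
theorem exists_functorial (X : Scheme.{u}) :
    ∃ (P : CochainComplex X.Modules ℤ ⥤ CochainComplex X.Modules ℤ) (ψ : P ⟶ 𝟭 (CochainComplex X.Modules ℤ)),
      ∀ C, IsKFlatFor (shT X) (P.obj C) ∧ QuasiIso (ψ.app C) := by
  let Z : B X := kernel (𝟙 ((univ (X := X)).X 0))
  have hZ : IsZero Z := isZero_kernel_of_mono _
  have hzero : IsZero (zeroD fun _ : ℤ => Z) := by
    rw [IsZero.iff_id_eq_zero]
    ext n : 1
    exact hZ.eq_of_src _ _
  obtain ⟨N, b, c, hN, hc, -, -, -⟩ := exists_cell_res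
    (fun K : CochainComplex (B X) ℤ => ∀ C, IsKFlatFor (shT X) ((evC C).obj K))
    (fun U : B X => ∀ C, FlatMod.IsFlat (U.obj C))
    (fun U => ⟨U ⋙ cover, Functor.whiskerLeft U π,
      haveI : ∀ C, Epi ((Functor.whiskerLeft U π).app C) := fun C => epi_π (U.obj C)
      NatTrans.epi_of_epi_app _, fun C => isFlat_cover _⟩)
    (fun U hU C => IsKFlatFor.of_iso (K := zeroD fun n => (U n).obj C)
      (Hom.isoOfComponents (fun n => Iso.refl _) fun i j _ => by simp [zeroD])
      (isKFlatFor_sheaf_zeroD _ fun n => hU n C))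
    (fun K n h C => IsKFlatFor.of_iso (((evC C).commShiftIso n).app K).symm ((h C).shift n))
    (fun S hS h₁ h₃ C => IsKFlatFor.ext₂ (S := S.map (evC C))
      (fun a q => shortExact_map_of_splitting
        (fun n => (hS n).map fun σ => σ.map ((evaluation (CochainComplex X.Modules ℤ) X.Modules).obj C)) a q) (h₁ C) (h₃ C))
    (fun S σ h₁ h₃ C x => flat_of_splitting _
      ((σ.map ((evaluation (CochainComplex X.Modules ℤ) X.Modules).obj C)).map (DerSch.stalkFunctor X x)) (h₁ C x) (h₃ C x))
    (fun F c hc h C => isKFlatFor_sheaf_colimit (F := F ⋙ evC C) (c := (evC C).mapCocone c)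
      (HomologicalComplex.isColimitOfEval _ _ fun q => isColimitOfPreserves
        ((evaluation (CochainComplex X.Modules ℤ) X.Modules).obj C)
        (isColimitOfPreserves (HomologicalComplex.eval _ (ComplexShape.up ℤ) q) hc)) (fun j => h j C))
    (fun F c hc h C x => by
      haveI : PreservesColimitsOfShape ℕ (DerSch.stalkFunctor X x) :=
        preservesColimitsOfShape_of_equiv (ULiftHomULiftCategory.equiv.{u, u} ℕ).symm _
      exact flat_of_isColimit (isColimitOfPreserves (DerSch.stalkFunctor X x)
        (isColimitOfPreserves ((evaluation (CochainComplex X.Modules ℤ) X.Modules).obj C) hc)) (fun j => h j C x))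
    (0 : zeroD (fun _ => Z) ⟶ univ) (fun C => isKFlatFor_of_isZero ((evC C).map_isZero hzero))
  let P : CochainComplex X.Modules ℤ ⥤ CochainComplex X.Modules ℤ :=
    { obj := fun C => (evC C).obj N
      map := fun {C C'} g => { f := fun n => (N.X n).map g, comm' := fun i j _ => (N.d i j).naturality g }
      map_id := fun C => by ext n : 1; exact (N.X n).map_id C
      map_comp := fun f g => by ext n : 1; exact (N.X n).map_comp f g }
  let ψ : P ⟶ 𝟭 (CochainComplex X.Modules ℤ) :=
    { app := fun C => (evC C).map c ≫ (univIso C).hom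
      naturality := fun {C C'} g => by
        ext n : 1
        show (N.X n).map g ≫ (c.f n).app C' ≫ 𝟙 _ = ((c.f n).app C ≫ 𝟙 _) ≫ g.f n
        rw [Category.comp_id, Category.comp_id]
        exact (c.f n).naturality g }
  haveI := hc
  exact ⟨P, ψ, fun C => ⟨hN C, (inferInstance : QuasiIso ((evC C).map c ≫ (univIso C).hom))⟩⟩

end

end Groth.Agent.DCat.KFlatFunctorial
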