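import Groth.Agent.DCat.DTenEval
import Groth.Agent.DCat.RHomCxProj
import Groth.Agent.DCat.KFlatModule

/-! Hom complexes out of perfect complexes into K-flat complexes are K-flat. -/

set_option autoImplicit false
set_option backward.isDefEq.respectTransparency false
set_option backward.defeqAttrib.useBackward true
set_option linter.style.haveILetI false

universe u

open CategoryTheory CategoryTheory.Limits MonoidalCategory HomologicalComplex CochainComplex.HomComplex

attribute [local instance] HasDerivedCategory.standard

namespace Groth.Agent.DCat.KFlatHom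

variable {A : Type u} [CommRing A]

lemma homPre_comp {P P' P'' : DRing.Cx A} (s : P ⟶ P') (t : P' ⟶ P'') (I : DRing.Cx A) :
    homPre (s ≫ t) I = homPre t I ≫ homPre s I := by
  refine HomologicalComplex.hom_ext _ _ fun n => ModuleCat.hom_ext (LinearMap.ext fun (z : Cochain P'' I n) => ?_)
  refine Cochain.ext _ _ fun p q h => ?_
  change (((homPre (s ≫ t) I).f n z : Cochain P I n)).v p q h =
    (((homPre s I).f n ((homPre t I).f n z : Cochain P' I n)) : Cochain P I n).v p q h
  rw [homPre_apply, homPre_apply, homPre_apply]
  simp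

lemma homPre_id (P I : DRing.Cx A) : homPre (𝟙 P) I = 𝟙 _ := by
  refine HomologicalComplex.hom_ext _ _ fun n => ModuleCat.hom_ext (LinearMap.ext fun (z : Cochain P I n) => ?_)
  refine Cochain.ext _ _ fun p q h => ?_
  change (((homPre (𝟙 P) I).f n z : Cochain P I n)).v p q h = z.v p q h
  rw [homPre_apply]
  simp

/-- The hom complex into a fixed complex turns homotopies into homotopies. -/
noncomputable def homPreHomotopy {P P' : DRing.Cx A} {g g' : P ⟶ P'} (I : DRing.Cx A) (H : Homotopy g g') :
    Homotopy (homPre g I) (homPre g' I) where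
  hom i j := if h : j + 1 = i then ModuleCat.ofHom (X := Cochain P' I i) (Y := Cochain P I j)
      { toFun := fun z => i.negOnePow • (Cochain.ofHomotopy H).comp z (show (-1) + i = j by omega)
        map_add' := fun z z' => by simp
        map_smul' := fun c z => by
          rw [Cochain.comp_smul, smul_comm]
          rfl }
    else 0
  zero i j h := dif_neg (by simpa using h)
  comm i := by
    rw [dNext_eq _ (show (ComplexShape.up ℤ).Rel i (i + 1) by simp),
      prevD_eq _ (show (ComplexShape.up ℤ).Rel (i - 1) i by simp), dif_pos rfl, dif_pos (by omega)]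
    refine ModuleCat.hom_ext (LinearMap.ext fun (z : Cochain P' I i) => ?_)
    change (show Cochain P I i from (homPre g I).f i z) =
      (i + 1).negOnePow • (Cochain.ofHomotopy H).comp (δ i (i + 1) z) (by omega) +
        δ (i - 1) i (i.negOnePow • (Cochain.ofHomotopy H).comp z (show (-1) + i = i - 1 by omega)) +
          (show Cochain P I i from (homPre g' I).f i z)
    rw [homPre_apply, homPre_apply, δ_units_smul,
      δ_comp (Cochain.ofHomotopy H) z (show (-1) + i = i - 1 by omega) 0 (i + 1) i (by omega) (by omega) rfl,
      δ_ofHomotopy, Cochain.sub_comp, smul_add, smul_smul, Int.units_mul_self, one_smul, Int.negOnePow_succ,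
      Units.neg_smul]
    abel

/-- Homotopy equivalent sources give homotopy equivalent hom complexes. -/
noncomputable def homPreEquiv {P P' : DRing.Cx A} (I : DRing.Cx A) (e : HomotopyEquiv P P') :
    HomotopyEquiv (DRing.homCx P' I) (DRing.homCx P I) where
  hom := homPre e.hom I
  inv := homPre e.inv I
  homotopyHomInvId :=
    (Homotopy.ofEq (homPre_comp e.inv e.hom I).symm).trans
      ((homPreHomotopy I e.homotopyInvHomId).trans (Homotopy.ofEq (homPre_id P' I)))
  homotopyInvHomId :=
    (Homotopy.ofEq (homPre_comp e.hom e.inv I).symm).trans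
      ((homPreHomotopy I e.homotopyHomInvId).trans (Homotopy.ofEq (homPre_id P I)))

lemma isKFlatFor_of_retract {K L : DRing.Cx A} (r : Retract K L) (h : IsKFlatFor (modT A) L) :
    IsKFlatFor (modT A) K := fun M hM n => by
  rw [exactAt_iff_isZero_homology]
  have r' := (r.map ((modT A).map₂CochainComplex.obj M)).map (homologyFunctor (ModuleCat.{u} A) (ComplexShape.up ℤ) n)
  refine (IsZero.iff_id_eq_zero _).2 (r'.retract.symm.trans ?_)
  rw [IsZero.eq_of_tgt (show IsZero ((homologyFunctor (ModuleCat.{u} A) (ComplexShape.up ℤ) n).obj _) from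
    (exactAt_iff_isZero_homology _ _).1 (h M hM n)) r'.i 0, zero_comp]

/-- The degreewise splitting of hom complexes out of a sequence. -/
lemma nonempty_homPre_splitting (I : DRing.Cx A) {S : ShortComplex (DRing.Cx A)}
    (σ : ∀ n, Nonempty ((S.map (HomologicalComplex.eval _ (ComplexShape.up ℤ) n)).Splitting))
    (w : homPre S.g I ≫ homPre S.f I = 0) (n : ℤ) :
    Nonempty (((ShortComplex.mk (homPre S.g I) (homPre S.f I) w).map
      (HomologicalComplex.eval _ (ComplexShape.up ℤ) n)).Splitting) := by
  classical
  let σ' := fun n => (σ n).some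
  refine ⟨
    { r := ModuleCat.ofHom (X := CochainComplex.HomComplex.Cochain S.X₂ I n) (Y := CochainComplex.HomComplex.Cochain S.X₃ I n)
        { toFun := fun z => (CochainComplex.HomComplex.Cochain.ofHoms fun m => (σ' m).s).comp z (zero_add n)
          map_add' := fun z z' => by simp
          map_smul' := fun c z => by simp }
      s := ModuleCat.ofHom (X := CochainComplex.HomComplex.Cochain S.X₁ I n) (Y := CochainComplex.HomComplex.Cochain S.X₂ I n)
        { toFun := fun z => (CochainComplex.HomComplex.Cochain.ofHoms fun m => (σ' m).r).comp z (zero_add n)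
          map_add' := fun z z' => by simp
          map_smul' := fun c z => by simp }
      f_r := ?_
      s_g := ?_
      id := ?_ }⟩
  all_goals refine ModuleCat.hom_ext (LinearMap.ext fun z => CochainComplex.HomComplex.Cochain.ext _ _ fun p q h => ?_)
  · change ((CochainComplex.HomComplex.Cochain.ofHoms fun m => (σ' m).s).comp
      ((homPre S.g I).f n z : CochainComplex.HomComplex.Cochain S.X₂ I n) (zero_add n)).v p q h = _
    simp only [homPre_apply, CochainComplex.HomComplex.Cochain.zero_cochain_comp_v,
      CochainComplex.HomComplex.Cochain.ofHom_v, CochainComplex.HomComplex.Cochain.ofHoms_v]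
    have := (σ' p).s_g
    dsimp at this
    rw [reassoc_of% this]
    rfl
  · change (((homPre S.f I).f n ((CochainComplex.HomComplex.Cochain.ofHoms fun m => (σ' m).r).comp z (zero_add n)) :
      CochainComplex.HomComplex.Cochain S.X₁ I n)).v p q h = _
    rw [homPre_apply]
    simp only [CochainComplex.HomComplex.Cochain.zero_cochain_comp_v,
      CochainComplex.HomComplex.Cochain.ofHom_v, CochainComplex.HomComplex.Cochain.ofHoms_v]
    have := (σ' p).f_r
    dsimp at this
    rw [reassoc_of% this]
    rfl
  · change ((show CochainComplex.HomComplex.Cochain S.X₂ I n from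
        (homPre S.g I).f n ((CochainComplex.HomComplex.Cochain.ofHoms fun m => (σ' m).s).comp z (zero_add n))) +
      (CochainComplex.HomComplex.Cochain.ofHoms fun m => (σ' m).r).comp
        ((homPre S.f I).f n z : CochainComplex.HomComplex.Cochain S.X₁ I n) (zero_add n)).v p q h =
        (z : CochainComplex.HomComplex.Cochain S.X₂ I n).v p q h
    simp only [homPre_apply, CochainComplex.HomComplex.Cochain.add_v, CochainComplex.HomComplex.Cochain.zero_cochain_comp_v,
      CochainComplex.HomComplex.Cochain.ofHom_v, CochainComplex.HomComplex.Cochain.ofHoms_v, ← Category.assoc]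
    rw [← Preadditive.add_comp]
    have := (σ' p).id
    dsimp at this
    rw [add_comm] at this
    rw [this, Category.id_comp]

/-- The hom complex out of a shifted unit. -/
theorem nonempty_homCx_unitShift (K : DRing.Cx A) (n : ℤ) :
    Nonempty (DRing.homCx (unitShift A n) K ≅ K ⊗ unitShift A (-n)) := by
  obtain ⟨e₁⟩ := exists_unitShift_tensor (A := A) n (-n) (by omega)
  obtain ⟨e₂⟩ := exists_unitShift_tensor (A := A) (-n) n (by omega)
  have mk : ∀ {U U' : DRing.Cx A} (_ : U ⊗ U' ≅ unitShift A 0),
      tensorRight U ⋙ tensorRight U' ≅ 𝟭 (DRing.Cx A) := fun {U U'} e =>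
    (tensorRightTensor U U').symm ≪≫ (tensoringRight (DRing.Cx A)).mapIso e ≪≫ rightUnitorNatIso (DRing.Cx A)
  let E : DRing.Cx A ≌ DRing.Cx A := CategoryTheory.Equivalence.mk (tensorRight (unitShift A n))
    (tensorRight (unitShift A (-n))) (mk e₁).symm (mk e₂)
  exact ⟨Functor.RepresentableBy.uniqueUpToIso
    (F := (tensorRight (unitShift A n)).op ⋙ yoneda.obj K)
    { homEquiv := fun {M} => curryEquiv M (unitShift A n) K
      homEquiv_comp := fun g f => curryEquiv_naturality g f }
    { homEquiv := fun {M} => (E.toAdjunction.homEquiv M K).symm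
      homEquiv_comp := fun g f => E.toAdjunction.homEquiv_naturality_left_symm g f }⟩

/-- Hom complexes out of bounded complexes of finite projectives into K-flat complexes. -/
theorem isKFlatFor_homCx_bounded {E K : DRing.Cx A} {a b : ℤ} (hE : DRing.VanishesOutside E a b)
    (hEp : DRing.TermwiseFiniteProjective E) (hK : IsKFlatFor (modT A) K) :
    IsKFlatFor (modT A) (DRing.homCx E K) := by
  let P : DRing.Cx A → Prop := fun E => IsKFlatFor (modT A) (DRing.homCx E K)
  have hret : ∀ {X Y : DRing.Cx A}, Retract X Y → P Y → P X := fun {X Y} r h =>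
    isKFlatFor_of_retract ⟨homPre r.r K, homPre r.i K, by rw [← homPre_comp, r.retract, homPre_id]⟩ h
  have hzero : ∀ Z : DRing.Cx A, IsZero Z → P Z := fun Z hZ => isKFlatFor_of_isZero ((IsZero.iff_id_eq_zero _).2 (by
    rw [← homPre_id, hZ.eq_of_src (𝟙 Z) 0]
    refine HomologicalComplex.hom_ext _ _ fun n => ModuleCat.hom_ext (LinearMap.ext fun (z : Cochain Z K n) => ?_)
    refine Cochain.ext _ _ fun p q h => ?_
    change (((homPre (0 : Z ⟶ Z) K).f n z : Cochain Z K n)).v p q h = 0
    rw [homPre_apply]
    simp))
  have hext : ∀ S : ShortComplex (DRing.Cx A),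
      (∀ n, Nonempty ((S.map (HomologicalComplex.eval _ (ComplexShape.up ℤ) n)).Splitting)) →
        P S.X₁ → P S.X₃ → P S.X₂ := by
    intro S σ h₁ h₃
    have w : homPre S.g K ≫ homPre S.f K = 0 := by
      rw [← homPre_comp]
      refine HomologicalComplex.hom_ext _ _ fun n => ModuleCat.hom_ext (LinearMap.ext fun (z : Cochain S.X₃ K n) => ?_)
      refine Cochain.ext _ _ fun p q h => ?_
      change (((homPre (S.f ≫ S.g) K).f n z : Cochain S.X₁ K n)).v p q h = 0
      rw [homPre_apply, S.zero]
      simp
    exact IsKFlatFor.ext₂ (S := ShortComplex.mk (homPre S.g K) (homPre S.f K) w)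
      (fun a q => shortExact_map_of_splitting (fun n => nonempty_homPre_splitting K σ w n) a q) h₃ h₁
  have hfree : ∀ (n : ℤ) (m : ℕ), P
      ((HomologicalComplex.single (ModuleCat.{u} A) (ComplexShape.up ℤ) n).obj (ModuleCat.of A (Fin m → A))) := by
    intro n m
    induction m with
    | zero => exact hzero _ (Functor.map_isZero _ (ModuleCat.isZero_of_subsingleton _))
    | succ m ih =>
      let σ := ShortComplex.Splitting.ofHasBinaryBiproduct (ModuleCat.of A A) (ModuleCat.of A (Fin m → A))
      let F := HomologicalComplex.single (ModuleCat.{u} A) (ComplexShape.up ℤ) n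
      let e : ModuleCat.of A A ⊞ ModuleCat.of A (Fin m → A) ≅ ModuleCat.of A (Fin (m + 1) → A) :=
        ModuleCat.biprodIsoProd _ _ ≪≫ (Fin.consLinearEquiv A (fun _ : Fin (m + 1) => A)).toModuleIso
      refine hret (F.mapIso e).symm.retract
        (hext ((ShortComplex.mk (biprod.inl : ModuleCat.of A A ⟶ ModuleCat.of A A ⊞ ModuleCat.of A (Fin m → A))
          biprod.snd biprod.inl_snd).map F) (fun k => ⟨(σ.map F).map (HomologicalComplex.eval _ (ComplexShape.up ℤ) k)⟩)
          ?_ ih)
      haveI := hasLTen A
      obtain ⟨i⟩ := nonempty_homCx_unitShift K n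
      exact (isKFlatFor_tensor hK (isKFlatFor_unitShift (-n))).of_iso i.symm
  exact bounded_induction P (fun X : ModuleCat.{u} A => Module.Finite A X ∧ Module.Projective A X) hzero
    (fun X hX => by
      haveI := ModuleCat.subsingleton_of_isZero hX
      exact ⟨inferInstance, inferInstance⟩)
    (fun X Y e h => finite_projective_of_iso e h)
    (fun n X h => by
      haveI := h.1
      haveI := h.2
      obtain ⟨m, f, g, -, -, hfg⟩ := Module.Finite.exists_comp_eq_id_of_projective A X
      let r : Retract X (ModuleCat.of A (Fin m → A)) :=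
        ⟨ModuleCat.ofHom g, ModuleCat.ofHom f, ModuleCat.hom_ext hfg⟩
      exact hret (r.map (HomologicalComplex.single (ModuleCat.{u} A) (ComplexShape.up ℤ) n)) (hfree n m))
    hext a (b + 1 - a).toNat E (fun n hn => hE n (Or.inl hn)) (fun n hn => hE n (Or.inr (by omega))) hEp

/-- A bounded above complex of projectives that is perfect is homotopy equivalent to a bounded complex of finite
projectives, so hom complexes out of it into K-flat complexes are K-flat. -/
theorem isKFlatFor_homCx_perfect {P K : DRing.Cx A} (b : ℤ) (hPb : DRing.VanishesAbove P b)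
    (hPp : ∀ i : ℤ, Module.Projective A (P.X i)) (hperf : DRing.IsPerfect A (DRing.toD P))
    (hK : IsKFlatFor (modT A) K) : IsKFlatFor (modT A) (DRing.homCx P K) := by
  obtain ⟨E, a, b', hE, hEp, ⟨e⟩⟩ := hperf
  haveI := isKProjective_of_vanishesAbove P b hPb hPp
  haveI := isKProjective_of_vanishesAbove E b' (fun i hi => hE i (Or.inr hi)) (fun i => (hEp i).2)
  let q := HomotopyCategory.quotient (ModuleCat.{u} A) (ComplexShape.up ℤ)
  let e' : DerivedCategory.Qh.obj (q.obj E) ≅ DerivedCategory.Qh.obj (q.obj P) :=
    (DerivedCategory.quotientCompQhIso _).app E ≪≫ e ≪≫ ((DerivedCategory.quotientCompQhIso _).app P).symm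
  obtain ⟨f, hf⟩ := (CochainComplex.IsKProjective.Qh_map_bijective E (q.obj P)).2 e'.hom
  obtain ⟨g, hg⟩ := (CochainComplex.IsKProjective.Qh_map_bijective P (q.obj E)).2 e'.inv
  let i : q.obj E ≅ q.obj P :=
    { hom := f
      inv := g
      hom_inv_id := (CochainComplex.IsKProjective.Qh_map_bijective E (q.obj E)).1 (by
        rw [Functor.map_comp, hf, hg, e'.hom_inv_id, CategoryTheory.Functor.map_id])
      inv_hom_id := (CochainComplex.IsKProjective.Qh_map_bijective P (q.obj P)).1 (by
        rw [Functor.map_comp, hf, hg, e'.inv_hom_id, CategoryTheory.Functor.map_id]) }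
  exact (isKFlatFor_homCx_bounded hE hEp hK).of_homotopyEquiv
    (homPreEquiv K (HomotopyCategory.homotopyEquivOfIso i)).symm

end Groth.Agent.DCat.KFlatHom
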