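import Groth.Agent.DCat.AcyclicSub
import Mathlib.CategoryTheory.MorphismProperty.LiftingProperty
import Mathlib.CategoryTheory.MorphismProperty.IsSmall
import Mathlib.CategoryTheory.LiftingProperties.Limits
import Mathlib.Order.Zorn
import Mathlib.Order.Shrink
import Mathlib.CategoryTheory.Abelian.CommSq
import Mathlib.Algebra.Homology.HomologySequenceLemmas

/-! Lifting against monomorphisms with acyclic cokernel reduces to small ones. -/

set_option autoImplicit false
set_option backward.isDefEq.respectTransparency false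
set_option backward.defeqAttrib.useBackward true
set_option linter.style.haveILetI false

universe w v u

open CategoryTheory CategoryTheory.Limits HomologicalComplex

namespace Groth.Agent.DCat

variable {A : Type u} [Category.{v} A] [Abelian A]

lemma acyclic_of_iso {K L : CochainComplex A ℤ} (e : K ≅ L) (h : K.Acyclic) : L.Acyclic :=
  fun n => (h n).of_iso e

/-- Index type of the small monomorphisms with acyclic cokernel into quotients of `T`. -/
abbrev SIdx (T : CochainComplex A ℤ) : Type _ :=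
  Σ R : Subobject T, { X : Subobject (cokernel R.arrow) // (cokernel X.arrow).Acyclic }

/-- The small monomorphisms with acyclic cokernel. -/
def smallMonos (T : CochainComplex A ℤ) : MorphismProperty (CochainComplex A ℤ) :=
  MorphismProperty.ofHoms (fun i : SIdx T => i.2.1.arrow)

/-- A mono with acyclic cokernel into a quotient of `T` is isomorphic to a member of `smallMonos T`. -/
lemma exists_smallMono_iso {T X Y : CochainComplex A ℤ} (q : T ⟶ Y) [Epi q] (f : X ⟶ Y) [Mono f]
    (hf : (cokernel f).Acyclic) :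
    ∃ (X' Y' : CochainComplex A ℤ) (f' : X' ⟶ Y'), smallMonos T f' ∧
      Nonempty (Arrow.mk f' ≅ Arrow.mk f) := by
  let R := Subobject.mk (kernel.ι q)
  have hR : R.arrow ≫ q = 0 := by
    rw [← Subobject.underlyingIso_hom_comp_eq_mk, Category.assoc, kernel.condition, comp_zero]
  have hR' : kernel.ι q ≫ cokernel.π R.arrow = 0 := by
    rw [← Subobject.underlyingIso_arrow (kernel.ι q), Category.assoc, cokernel.condition, comp_zero]
  have e : cokernel R.arrow ≅ Y :=
    { hom := cokernel.desc R.arrow q hR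
      inv := Abelian.epiDesc q (cokernel.π R.arrow) hR'
      hom_inv_id := coequalizer.hom_ext (by simp)
      inv_hom_id := by rw [← cancel_epi q]; simp }
  haveI : Mono (f ≫ e.inv) := mono_comp _ _
  let S := Subobject.mk (f ≫ e.inv)
  let eX : (S : CochainComplex A ℤ) ≅ X := Subobject.underlyingIso _
  let eA : Arrow.mk S.arrow ≅ Arrow.mk f := Arrow.isoMk eX e (by
    dsimp [eX]
    rw [← cancel_mono e.inv]
    simp [S, Subobject.underlyingIso_hom_comp_eq_mk])
  have hS : (cokernel S.arrow).Acyclic :=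
    acyclic_of_iso (cokernel.mapIso _ _ eX e (by rw [← cancel_mono e.inv]; simp [eX, S, Subobject.underlyingIso_hom_comp_eq_mk])).symm hf
  exact ⟨_, _, S.arrow, ⟨(⟨R, ⟨S, hS⟩⟩ : SIdx T)⟩, ⟨eA⟩⟩

lemma rlp_smallMonos {T X Y : CochainComplex A ℤ} (q : T ⟶ Y) [Epi q] (f : X ⟶ Y) [Mono f]
    (hf : (cokernel f).Acyclic) {I Z : CochainComplex A ℤ} {p : I ⟶ Z}
    (hp : (smallMonos T).rlp p) : HasLiftingProperty f p := by
  obtain ⟨X', Y', f', hf', ⟨e⟩⟩ := exists_smallMono_iso q f hf
  exact (HasLiftingProperty.iff_of_arrow_iso_left e p).1 (hp f' hf')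

variable [IsGrothendieckAbelian.{v} A]

/-- A partial lift. -/
structure PartialLift {A₀ B I Z : CochainComplex A ℤ} (f : A₀ ⟶ B) [Mono f] (u : A₀ ⟶ I)
    (p : I ⟶ Z) (w : B ⟶ Z) where
  S : Subobject B
  le : Subobject.mk f ≤ S
  acyclic : (cokernel S.arrow).Acyclic
  φ : (S : CochainComplex A ℤ) ⟶ I
  fac : Subobject.ofMkLE f S le ≫ φ = u
  sq : φ ≫ p = S.arrow ≫ w

namespace PartialLift

variable {A₀ B I Z : CochainComplex A ℤ} {f : A₀ ⟶ B} [Mono f] {u : A₀ ⟶ I}
  {p : I ⟶ Z} {w : B ⟶ Z}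

instance : Preorder (PartialLift f u p w) where
  le a b := ∃ h : a.S ≤ b.S, Subobject.ofLE _ _ h ≫ b.φ = a.φ
  le_refl a := ⟨le_rfl, by simp⟩
  le_trans a b c hab hbc := by
    obtain ⟨h₁, e₁⟩ := hab
    obtain ⟨h₂, e₂⟩ := hbc
    exact ⟨h₁.trans h₂, by rw [← Subobject.ofLE_comp_ofLE _ _ _ h₁ h₂, Category.assoc, e₂, e₁]⟩

lemma bddAbove_of_isChain {c : Set (PartialLift f u p w)} (hc : IsChain (· ≤ ·) c)
    (hne : c.Nonempty) : BddAbove c := by
  classical
  let s : Set (Subobject B) := PartialLift.S '' c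
  letI : LinearOrder s :=
    { (inferInstance : PartialOrder s) with
      le_total := by
        rintro ⟨_, a, ha, rfl⟩ ⟨_, b, hb, rfl⟩
        obtain h | h := hc.total ha hb
        · exact Or.inl h.1
        · exact Or.inr h.1
      toDecidableLE := Classical.decRel _ }
  have : Small.{v} s := small_of_injective (f := Subtype.val) Subtype.val_injective
  let J := Shrink.{v} s
  haveI : Nonempty J := ⟨equivShrink _ ⟨_, _, hne.choose_spec, rfl⟩⟩
  have hex : ∀ j : J, ∃ a ∈ c, a.S = ((equivShrink s).symm j).1 := fun j =>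
    ((equivShrink s).symm j).2
  choose e hec heS using hex
  let E : J → Subobject B := fun j => (e j).S
  have hE : Monotone E := fun j j' h => by
    simp only [E, heS]
    exact (orderIsoShrink s).symm.monotone h
  let U := ⨆ j, E j
  have hle : ∀ j, E j ≤ U := le_iSup E
  have hcompat : ∀ j j' (h : E j ≤ E j'), Subobject.ofLE _ _ h ≫ (e j').φ = (e j).φ := by
    intro j j' h
    obtain ⟨h', e'⟩ | ⟨h', e'⟩ := hc.total (hec j) (hec j')
    · exact e'
    · rw [← e', ← Category.assoc, Subobject.ofLE_comp_ofLE, Subobject.ofLE_refl, Category.id_comp]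
  let cI : Cocone ((hE.functor ⋙ Subobject.representative (X := B) ⋙ MonoOver.forget B) ⋙ Over.forget B) :=
    { pt := I
      ι :=
        { app := fun j => (e j).φ
          naturality := fun j j' g => by
            dsimp
            rw [Category.comp_id, ← hcompat j j' (hE (leOfHom g))]
            congr 1 } }
  have hcol := unionColimit hE (U := U) rfl
  let φ : (U : CochainComplex A ℤ) ⟶ I := hcol.desc cI
  have hφ : ∀ j, Subobject.ofLE _ _ (hle j) ≫ φ = (e j).φ := fun j => hcol.fac cI j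
  obtain ⟨j₀⟩ := (inferInstance : Nonempty J)
  refine ⟨⟨U, (e j₀).le.trans (hle j₀), ?_, φ, ?_, ?_⟩, fun a ha => ?_⟩
  · intro m
    refine exactAt_of_kernel_cokernel _ (n := m - 1) (l := m + 1) (by omega) rfl ?_
    let K := kernel ((cokernel U.arrow).d m (m + 1))
    let πU := cokernel.π U.arrow
    let P := pullback (πU.f m) (kernel.ι ((cokernel U.arrow).d m (m + 1)))
    have hSU : ((ShortComplex.mk U.arrow πU (cokernel.condition _)).map
        (HomologicalComplex.eval A (ComplexShape.up ℤ) (m + 1))).Exact :=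
      (ShortComplex.exact_cokernel U.arrow).map _
    have hb : (pullback.fst (πU.f m) (kernel.ι ((cokernel U.arrow).d m (m + 1))) ≫ B.d m (m + 1)) ≫
        πU.f (m + 1) = 0 := by
      rw [Category.assoc, ← Hom.comm, pullback.condition_assoc, kernel.condition, comp_zero]
    haveI : Mono ((ShortComplex.mk U.arrow πU (cokernel.condition _)).map
        (HomologicalComplex.eval A (ComplexShape.up ℤ) (m + 1))).f :=
      inferInstanceAs (Mono (U.arrow.f (m + 1)))
    obtain ⟨f', hf'⟩ : ∃ f' : P ⟶ (U : CochainComplex A ℤ).X (m + 1), f' ≫ U.arrow.f (m + 1) =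
        pullback.fst (πU.f m) (kernel.ι ((cokernel U.arrow).d m (m + 1))) ≫ B.d m (m + 1) :=
      ⟨hSU.lift _ hb, hSU.lift_f _ hb⟩
    rw [← cancel_epi (pullback.snd (πU.f m) (kernel.ι ((cokernel U.arrow).d m (m + 1)))), comp_zero,
      ← pullback.condition_assoc]
    refine eq_zero_of_union hE rfl (m + 1) f' _ fun j T x y hy => ?_
    let πj := cokernel.π (E j).arrow
    let cj : cokernel (E j).arrow ⟶ cokernel U.arrow :=
      cokernel.desc _ πU (by rw [← Subobject.ofLE_arrow (hle j), Category.assoc, cokernel.condition, comp_zero])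
    have hz : (x ≫ pullback.fst (πU.f m) (kernel.ι ((cokernel U.arrow).d m (m + 1))) ≫ πj.f m) ≫
        (cokernel (E j).arrow).d m (m + 1) = 0 := by
      rw [Category.assoc, Category.assoc, Hom.comm, ← reassoc_of% hf', ← reassoc_of% hy, ← comp_f_assoc,
        Subobject.ofLE_arrow, ← comp_f, cokernel.condition, zero_f, comp_zero]
    have hA : (cokernel (E j).arrow).Acyclic := (e j).acyclic
    obtain ⟨T', r, hr, z, hz'⟩ := (((cokernel (E j).arrow).exactAt_iff' (m - 1) m (m + 1)
      (by simp) (by simp)).1 (hA m)).exact_up_to_refinements _ hz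
    dsimp at hz'
    rw [← cancel_epi r, comp_zero]
    have e' : πU.f m = πj.f m ≫ cj.f m := by rw [← comp_f, cokernel.π_desc]
    have key := congrArg (fun t => t ≫ cj.f m) hz'
    simp only [Category.assoc, ← e'] at key
    rw [reassoc_of% key, ← Hom.comm_assoc, cokernel.condition, comp_zero, comp_zero]
  · have e' : Subobject.ofMkLE f U ((e j₀).le.trans (hle j₀)) =
        Subobject.ofMkLE f (E j₀) (e j₀).le ≫ Subobject.ofLE _ _ (hle j₀) :=
      (Subobject.ofMkLE_comp_ofLE _ _ _ _ _).symm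
    rw [e', Category.assoc, hφ, (e j₀).fac]
  · refine hcol.hom_ext fun j => ?_
    change Subobject.ofLE _ _ (hle j) ≫ φ ≫ p = Subobject.ofLE _ _ (hle j) ≫ U.arrow ≫ w
    rw [reassoc_of% hφ j, Subobject.ofLE_arrow_assoc, (e j).sq]
  · let j : J := equivShrink s ⟨a.S, a, ha, rfl⟩
    have hj : (e j).S = a.S := by rw [heS]; simp [j]
    have : a ≤ e j := by
      obtain h | h := hc.total ha (hec j)
      · exact h
      · obtain ⟨h', e'⟩ := h
        exact ⟨hj.ge, by rw [← e', ← Category.assoc, Subobject.ofLE_comp_ofLE, Subobject.ofLE_refl,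
          Category.id_comp]⟩
    exact le_trans this ⟨hle j, hφ j⟩

end PartialLift

variable {G : A} {G' : CochainComplex A ℤ} (hG : IsSeparator G) (hG' : IsSeparator G')

/-- The cokernel of a preimage of a subobject of a cokernel. -/
lemma acyclic_cokernel_of_preimage {B Q P Y E : CochainComplex A ℤ} {S : CochainComplex A ℤ}
    (π : B ⟶ Q) (ι : E ⟶ Q) [Mono ι] (hE : E.Acyclic) (hQ : Q.Acyclic)
    (s : S ⟶ B) (hs : s ≫ π = 0) (hπ : IsColimit (CokernelCofork.ofπ π hs))
    (yB : Y ⟶ B) (yE : Y ⟶ E) [Epi yE] (hw : yB ≫ π = yE ≫ ι)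
    (p' : P ⟶ B) [Mono p'] (inl : S ⟶ P) (inr : Y ⟶ P) (hinl : inl ≫ p' = s) (hinr : inr ≫ p' = yB)
    (hext : ∀ ⦃Z : CochainComplex A ℤ⦄ (g : P ⟶ Z), inl ≫ g = 0 → inr ≫ g = 0 → g = 0) :
    (cokernel p').Acyclic := by
  have hπe : Epi π := ⟨fun g g' h => Cofork.IsColimit.hom_ext hπ h⟩
  have hQE : (cokernel ι).Acyclic := by
    have hS : (ShortComplex.mk ι (cokernel.π ι) (cokernel.condition _)).ShortExact :=
      { exact := ShortComplex.exact_cokernel _ }
    refine hS.acyclic_X₃ ⟨fun n => ?_⟩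
    rw [quasiIsoAt_iff_exactAt _ _ (hE n)]
    exact hQ n
  have h₁ : p' ≫ π ≫ cokernel.π ι = 0 := hext _
    (by rw [reassoc_of% hinl, reassoc_of% hs, zero_comp])
    (by rw [reassoc_of% hinr, reassoc_of% hw, cokernel.condition, comp_zero])
  have h₂ : s ≫ cokernel.π p' = 0 := by rw [← hinl, Category.assoc, cokernel.condition, comp_zero]
  obtain ⟨t, ht⟩ : { t : Q ⟶ cokernel p' // π ≫ t = cokernel.π p' } :=
    CokernelCofork.IsColimit.desc' hπ _ h₂
  have h₃ : ι ≫ t = 0 := by
    rw [← cancel_epi yE, comp_zero, ← reassoc_of% hw, ht, ← hinr, Category.assoc,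
      cokernel.condition, comp_zero]
  have e : cokernel ι ≅ cokernel p' :=
    { hom := cokernel.desc ι t h₃
      inv := cokernel.desc p' (π ≫ cokernel.π ι) h₁
      hom_inv_id := by
        rw [← cancel_epi (cokernel.π ι), cokernel.π_desc_assoc, ← cancel_epi π, reassoc_of% ht,
          cokernel.π_desc, Category.comp_id]
      inv_hom_id := by
        rw [← cancel_epi (cokernel.π p'), cokernel.π_desc_assoc, Category.assoc, cokernel.π_desc, ht,
          Category.comp_id] }
  exact acyclic_of_iso e hQE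

include hG' in
/-- Enlarge a subobject with acyclic cokernel along a small mono. -/
lemma exists_larger {K : Type v} (hK : ∀ (Q : CochainComplex A ℤ), Q.Acyclic → ¬ IsZero Q →
      ∃ E : Subobject Q, E.arrow ≠ 0 ∧ (E : CochainComplex A ℤ).Acyclic ∧
        Gen G' K (E : CochainComplex A ℤ))
    {I Z : CochainComplex A ℤ} {p : I ⟶ Z}
    (hp : (smallMonos (∐ fun _ : Shrink.{v} (Subobject (∐ fun _ : K => G')) => G')).rlp p)
    {B : CochainComplex A ℤ} (S : Subobject B) (hS : (cokernel S.arrow).Acyclic)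
    (htop : ¬ IsIso S.arrow) :
    ∃ (P : CochainComplex A ℤ) (i : (S : CochainComplex A ℤ) ⟶ P) (p' : P ⟶ B) (_ : Mono p'),
      i ≫ p' = S.arrow ∧ (cokernel p').Acyclic ∧ (¬ ∃ b, b ≫ S.arrow = p') ∧
        HasLiftingProperty i p := by
  let π := cokernel.π S.arrow
  have hQ : ¬ IsZero (cokernel S.arrow) := fun h => htop (by
    have : Epi S.arrow := Preadditive.epi_of_cokernel_zero (h.eq_of_tgt _ _)
    exact isIso_of_mono_of_epi _)
  obtain ⟨E, hE0, hE, hEgen⟩ := hK _ hS hQ
  obtain ⟨q₀, hq₀⟩ := hEgen.exists_epi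
  let πE := pullback.snd π E.arrow
  obtain ⟨g, hg⟩ := exists_small_lift hG' πE (𝟙 _) q₀
  obtain ⟨Y, hY, hYg, -⟩ := exists_gen_subobject G' g
  let yB : (Y : CochainComplex A ℤ) ⟶ B := Y.arrow ≫ pullback.fst π E.arrow
  let yE : (Y : CochainComplex A ℤ) ⟶ (E : CochainComplex A ℤ) := Y.arrow ≫ πE
  haveI : Mono yB := mono_comp _ _
  haveI hyE : Epi yE := Preadditive.epi_of_cancel_zero _ fun h hh => hg h fun k => by
    obtain ⟨b, hb⟩ := hYg k
    rw [← hb, Category.assoc, ← Category.assoc Y.arrow, hh, comp_zero]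
  have hw : yB ≫ π = yE ≫ E.arrow := by
    simp only [yB, yE, πE, Category.assoc, pullback.condition]
  obtain ⟨X, xS, xY, hpb⟩ : ∃ (X : CochainComplex A ℤ) (xS : X ⟶ (S : CochainComplex A ℤ))
      (xY : X ⟶ (Y : CochainComplex A ℤ)), IsPullback xS xY S.arrow yB :=
    ⟨_, _, _, IsPullback.of_hasPullback S.arrow yB⟩
  haveI : Mono xY := hpb.mono_snd_of_mono
  have hxy : xY ≫ yE = 0 := by
    rw [← cancel_mono E.arrow, Category.assoc, ← hw, ← reassoc_of% hpb.w, cokernel.condition,
      comp_zero, zero_comp]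
  have hsh : (ShortComplex.mk xY yE hxy).ShortExact :=
    { exact := ShortComplex.exact_of_f_is_kernel _ (KernelFork.IsLimit.ofι' xY hxy fun {W} k hk =>
        have hk' : (k ≫ yB) ≫ π = 0 := by rw [Category.assoc, hw, reassoc_of% hk, zero_comp]
        ⟨hpb.lift (Abelian.monoLift S.arrow _ hk') k (Abelian.monoLift_comp _ _ _), hpb.lift_snd _ _ _⟩) }
  have hX : (cokernel xY).Acyclic := acyclic_of_iso
    (hsh.gIsCokernel.coconePointUniqueUpToIso (colimit.isColimit _)) hE
  haveI hlift : HasLiftingProperty xY p := by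
    obtain ⟨qY, hqY⟩ := hY.exists_epi
    exact rlp_smallMonos qY xY hX hp
  obtain ⟨P, inl, inr, hpo⟩ : ∃ (P : CochainComplex A ℤ) (inl : (S : CochainComplex A ℤ) ⟶ P)
      (inr : (Y : CochainComplex A ℤ) ⟶ P), IsPushout xS xY inl inr :=
    ⟨_, _, _, IsPushout.of_hasPushout xS xY⟩
  let p' := hpo.desc S.arrow yB hpb.w
  haveI : Mono p' := hpo.mono_of_isPullback_of_mono hpb _ (hpo.inl_desc _ _ _) (hpo.inr_desc _ _ _)
  refine ⟨P, inl, p', inferInstance, hpo.inl_desc _ _ _, ?_, ?_, hpo.hasLiftingProperty p⟩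
  · exact acyclic_cokernel_of_preimage π E.arrow hE hS S.arrow (cokernel.condition _)
      (cokernelIsCokernel _) yB yE hw p' inl inr (hpo.inl_desc _ _ _) (hpo.inr_desc _ _ _)
      fun Z g h₁ h₂ => hpo.hom_ext (by rw [h₁, comp_zero]) (by rw [h₂, comp_zero])
  · rintro ⟨b, hb⟩
    apply hE0
    rw [← cancel_epi yE, ← hw, comp_zero, ← hpo.inr_desc S.arrow yB hpb.w, Category.assoc]
    change inr ≫ p' ≫ π = 0
    rw [← hb, Category.assoc, cokernel.condition, comp_zero, comp_zero]

include hG hG'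

/-- The small monomorphisms with acyclic cokernel detect lifting against all of them. -/
theorem exists_small_test :
    ∃ T : CochainComplex A ℤ, ∀ ⦃I Z : CochainComplex A ℤ⦄ (p : I ⟶ Z), (smallMonos T).rlp p →
      ∀ ⦃A₀ B : CochainComplex A ℤ⦄ (f : A₀ ⟶ B) [Mono f], (cokernel f).Acyclic →
        HasLiftingProperty f p := by
  obtain ⟨K, hK⟩ := exists_small_acyclic hG hG'
  refine ⟨∐ fun _ : Shrink.{v} (Subobject (∐ fun _ : K => G')) => G',
    fun I Z p hp A₀ B f _ hf => ⟨fun {u w} sq => ?_⟩⟩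
  have h0 : (cokernel (Subobject.mk f).arrow).Acyclic :=
    acyclic_of_iso (cokernel.mapIso f (Subobject.mk f).arrow (Subobject.underlyingIso f).symm
      (Iso.refl _) (by simp)) hf
  have e₀ : Subobject.ofMkLE f (Subobject.mk f) le_rfl ≫ (Subobject.underlyingIso f).hom = 𝟙 _ := by
    rw [← cancel_mono f]; simp
  let a₀ : PartialLift f u p w :=
    { S := Subobject.mk f
      le := le_rfl
      acyclic := h0
      φ := (Subobject.underlyingIso f).hom ≫ u
      fac := by rw [reassoc_of% e₀]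
      sq := by rw [Category.assoc, sq.w, ← Category.assoc, Subobject.underlyingIso_hom_comp_eq_mk] }
  haveI : Nonempty (PartialLift f u p w) := ⟨a₀⟩
  obtain ⟨a, ha⟩ := zorn_le_nonempty (α := PartialLift f u p w)
    fun c hc hne => PartialLift.bddAbove_of_isChain hc hne
  by_cases htop : IsIso a.S.arrow
  · refine ⟨⟨{ l := inv a.S.arrow ≫ a.φ, fac_left := ?_, fac_right := ?_ }⟩⟩
    · have e : f ≫ inv a.S.arrow = Subobject.ofMkLE f a.S a.le := by
        rw [IsIso.comp_inv_eq, Subobject.ofMkLE_arrow]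
      rw [reassoc_of% e, a.fac]
    · rw [Category.assoc, a.sq, IsIso.inv_hom_id_assoc]
  exfalso
  obtain ⟨P, i, p', hp', fac, hcok, hne, hlift⟩ := exists_larger hG' hK hp a.S a.acyclic htop
  have sq' : CommSq a.φ i p (p' ≫ w) := ⟨by rw [a.sq, reassoc_of% fac]⟩
  have hlt : a.S ≤ Subobject.mk p' := Subobject.le_mk_of_comm i fac
  have e₁ : Subobject.ofLE a.S _ hlt ≫ (Subobject.underlyingIso p').hom = i := by
    rw [← cancel_mono p', Category.assoc, Subobject.underlyingIso_hom_comp_eq_mk,
      Subobject.ofLE_arrow, fac]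
  let a' : PartialLift f u p w :=
    { S := Subobject.mk p'
      le := a.le.trans hlt
      acyclic := acyclic_of_iso (cokernel.mapIso _ _ (Subobject.underlyingIso p')
        (Iso.refl _) (by simp)).symm hcok
      φ := (Subobject.underlyingIso p').hom ≫ sq'.lift
      fac := by
        rw [← Subobject.ofMkLE_comp_ofLE f a.S (Subobject.mk p') a.le hlt, Category.assoc, reassoc_of% e₁, sq'.fac_left,
          a.fac]
      sq := by rw [Category.assoc, sq'.fac_right, ← Category.assoc, Subobject.underlyingIso_hom_comp_eq_mk] }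
  have hle : a ≤ a' := ⟨hlt, by dsimp [a']; rw [reassoc_of% e₁, sq'.fac_left]⟩
  obtain ⟨hge, -⟩ := ha hle
  exact hne ⟨(Subobject.underlyingIso p').inv ≫ Subobject.ofLE _ _ hge, by
    rw [Category.assoc, Subobject.ofLE_arrow]; exact Subobject.underlyingIso_arrow p'⟩

end Groth.Agent.DCat
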