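import Groth.Agent.Dual22Lib.BCMain
import Groth.Agent.TorB16.BaseChange
import Mathlib.AlgebraicGeometry.Morphisms.Flat

/-!
# Base change for a morphism between flat schemes over an arbitrary base
-/

set_option autoImplicit false
set_option backward.isDefEq.respectTransparency false
set_option backward.defeqAttrib.useBackward true
set_option linter.style.haveILetI false
set_option linter.unusedVariables false

universe u

open CategoryTheory CategoryTheory.Limits AlgebraicGeometry TensorProduct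
open Groth.Agent.Dual22Lib Groth.Agent.Dual22Lib.BCSquare Groth.Agent.Dual22Lib.BCMain

attribute [local instance] HasDerivedCategory.standard

namespace Groth.Agent.DCat.SectionBC

/-- Tor vanishing of `A → A ⊗_R R'` against an `R`-flat `A`-module. -/
theorem torZero_of_flat (R A R' : Type u) [CommRing R] [CommRing A] [CommRing R'] [Algebra R A] [Algebra R R']
    [Module.Flat R A] (N : Type u) [AddCommGroup N] [Module A N] [Module R N] [IsScalarTower R A N]
    [Module.Flat R N] (i : ℕ) (hi : 0 < i) :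
    Subsingleton (DRing.Tor A i (TensorProduct R A R') N) := by
  obtain ⟨n, rfl⟩ : ∃ n, i = n + 1 := ⟨i - 1, by omega⟩
  obtain ⟨φ, hφ⟩ := TorB16.baseChange_of_vanishing (A := R) (A' := A) (P := R') (Q' := N) (fun q hq => by
    obtain ⟨k, rfl⟩ : ∃ k, q = k + 1 := ⟨q - 1, by omega⟩
    haveI : Module.Flat R (ModuleCat.of R A) := ‹Module.Flat R A›
    exact HTor16.tor_subsingleton_of_flat_right (ModuleCat.of R R') k (ModuleCat.of R A)) (n + 1)
  haveI : Module.Flat R (ModuleCat.of R N) := ‹Module.Flat R N›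
  haveI : Subsingleton (DRing.Tor R (n + 1) R' N) :=
    HTor16.tor_subsingleton_of_flat_right (ModuleCat.of R R') n (ModuleCat.of R N)
  exact hφ.2.subsingleton

/-- Tor vanishing, in terms of ring maps. -/
theorem torZero_ringHom {R A R' C : CommRingCat.{u}} (ρ : R ⟶ A) (σ : R ⟶ R') (ψ : A ⟶ C)
    (hρ : ρ.hom.Flat) (hψ : (ρ ≫ ψ).hom.Flat) :
    letI := ρ.hom.toAlgebra
    letI := σ.hom.toAlgebra
    BCModule.TorZero (Algebra.TensorProduct.includeLeftRingHom (R := R) (A := A) (B := R'))
      ((ModuleCat.restrictScalars.{u} ψ.hom).obj (ModuleCat.of C C)) := by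
  letI := ρ.hom.toAlgebra
  letI := σ.hom.toAlgebra
  haveI : Module.Flat R A := hρ
  intro i hi
  letI : Algebra A C := ψ.hom.toAlgebra
  letI : Algebra R C := (ρ ≫ ψ).hom.toAlgebra
  haveI : IsScalarTower R A C := IsScalarTower.of_algebraMap_eq fun _ => rfl
  haveI : Module.Flat R C := hψ
  have h := torZero_of_flat R A R' C i hi
  have e : (Algebra.TensorProduct.includeLeftRingHom (R := R) (A := A) (B := R')).toModule =
      (inferInstance : Module A (TensorProduct R A R')) := by
    refine Module.ext' _ _ fun a x => ?_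
    show (Algebra.TensorProduct.includeLeftRingHom (R := R) (A := A) (B := R')) a * x = a • x
    induction x using TensorProduct.induction_on with
    | zero => simp
    | add x y hx hy => rw [mul_add, hx, hy, smul_add]
    | tmul b c =>
      show (a ⊗ₜ[R] (1 : R')) * (b ⊗ₜ[R] c) = _
      rw [Algebra.TensorProduct.tmul_mul_tmul, one_mul]
      rfl
  rw [e]
  exact h

variable {S S' X P X' P' : Scheme.{u}}

/-- Base change for a morphism of flat `S`-schemes, along `S' → S`. -/
theorem good_section (i : X ⟶ P) [QuasiCompact i] [QuasiSeparated i] (h : P ⟶ S) [Flat h] [Flat (i ≫ h)]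
    (g : S' ⟶ S) (m : P' ⟶ P) (h' : P' ⟶ S') (hP : IsPullback m h' h g) {i' : X' ⟶ P'} {g' : X' ⟶ X}
    (hsq : IsPullback g' i' i m) : Good i m i' g' := by
  refine good_of_cover hsq fun y => ?_
  obtain ⟨W, hW, hsW, -⟩ := exists_isAffineOpen_mem_and_subset (show h (m y) ∈ (⊤ : S.Opens) from trivial)
  have hgy : g (h' y) = h (m y) := by
    rw [← Scheme.Hom.comp_apply, ← Scheme.Hom.comp_apply, hP.w]
  obtain ⟨W', hW', hyW', hleW'⟩ := exists_isAffineOpen_mem_and_subset
    (show h' y ∈ g ⁻¹ᵁ W from show g (h' y) ∈ W from hgy ▸ hsW)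
  obtain ⟨U, hU, hyU, hleU⟩ := exists_isAffineOpen_mem_and_subset (show m y ∈ h ⁻¹ᵁ W from hsW)
  let ρ := h.appLE W U hleU
  let σ := g.appLE W W' hleW'
  letI := ρ.hom.toAlgebra
  letI := σ.hom.toAlgebra
  let φ : Γ(P, U) ⟶ CommRingCat.of (TensorProduct Γ(S, W) Γ(P, U) Γ(S', W')) :=
    CommRingCat.ofHom Algebra.TensorProduct.includeLeftRingHom
  have hS : IsPullback (Spec.map φ)
      (Spec.map (CommRingCat.ofHom (Algebra.TensorProduct.includeRight
        (R := Γ(S, W)) (A := Γ(P, U)) (B := Γ(S', W'))).toRingHom)) (Spec.map ρ) (Spec.map σ) :=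
    isPullback_SpecMap_of_isPushout _ _ _ _ (CommRingCat.isPushout_tensorProduct Γ(S, W) Γ(P, U) Γ(S', W'))
  have e₁ : Spec.map ρ ≫ hW.fromSpec = hU.fromSpec ≫ h := IsAffineOpen.SpecMap_appLE_fromSpec h hW hU hleU
  have e₂ : Spec.map σ ≫ hW.fromSpec = hW'.fromSpec ≫ g := IsAffineOpen.SpecMap_appLE_fromSpec g hW hW' hleW'
  let μ := pullback.map (Spec.map ρ) (Spec.map σ) h g hU.fromSpec hW'.fromSpec hW.fromSpec e₁ e₂
  let b := hS.isoPullback.hom ≫ μ ≫ hP.isoPullback.inv
  haveI : IsOpenImmersion b := by dsimp only [b, μ]; infer_instance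
  have hb₁ : b ≫ m = Spec.map φ ≫ hU.fromSpec := by
    simp [b, μ]
  have hb₂ : b ≫ h' = Spec.map (CommRingCat.ofHom (Algebra.TensorProduct.includeRight
        (R := Γ(S, W)) (A := Γ(P, U)) (B := Γ(S', W'))).toRingHom) ≫ hW'.fromSpec := by
    simp [b, μ]
  have hyb : y ∈ b.opensRange := by
    have hy₁ : m y ∈ Set.range hU.fromSpec := by rw [hU.range_fromSpec]; exact hyU
    have hy₂ : h' y ∈ Set.range hW'.fromSpec := by rw [hW'.range_fromSpec]; exact hyW'
    have hz : hP.isoPullback.hom y ∈ Set.range μ := by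
      rw [Scheme.Pullback.range_map]
      refine ⟨?_, ?_⟩
      · rw [Set.mem_preimage]
        rw [← Scheme.Hom.comp_apply, IsPullback.isoPullback_hom_fst]
        exact hy₁
      · rw [Set.mem_preimage]
        rw [← Scheme.Hom.comp_apply, IsPullback.isoPullback_hom_snd]
        exact hy₂
    obtain ⟨z, hz⟩ := hz
    refine ⟨hS.isoPullback.inv z, ?_⟩
    show b (hS.isoPullback.inv z) = y
    have e : hS.isoPullback.inv ≫ b = μ ≫ hP.isoPullback.inv := by simp [b]
    rw [← Scheme.Hom.comp_apply, e, Scheme.Hom.comp_apply, hz, ← Scheme.Hom.comp_apply, Iso.hom_inv_id]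
    rfl
  haveI : CompactSpace (pullback i hU.fromSpec : Scheme.{u}) :=
    QuasiCompact.compactSpace_of_compactSpace (pullback.snd i hU.fromSpec)
  haveI : QuasiSeparatedSpace (pullback i hU.fromSpec : Scheme.{u}) :=
    quasiSeparatedSpace_of_quasiSeparated (pullback.snd i hU.fromSpec)
  refine ⟨_, _, hU.fromSpec, b, Spec.map φ, inferInstance, inferInstance,
    pullback i hU.fromSpec, _, pullback.fst i hU.fromSpec, pullback.snd i hU.fromSpec,
    pullback.fst (pullback.snd i hU.fromSpec) (Spec.map φ),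
    pullback.snd (pullback.snd i hU.fromSpec) (Spec.map φ),
    hb₁.symm, hyb, IsPullback.of_hasPullback _ _, IsPullback.of_hasPullback _ _, ?_⟩
  refine goodSrc_qcqs _ _ _ _ _ _ _ (IsPullback.of_hasPullback _ _)
    (BCTor.torSrc_pullback_of_appLE i hU _ (fun V hV hV' => ?_) pullback.condition)
  refine torZero_ringHom ρ σ (i.appLE U V hV') (HasRingHomProperty.appLE (P := @Flat) h inferInstance ⟨W, hW⟩ ⟨U, hU⟩ hleU) ?_
  rw [Scheme.Hom.appLE_comp_appLE]
  exact HasRingHomProperty.appLE (P := @Flat) (i ≫ h) inferInstance ⟨W, hW⟩ ⟨V, hV⟩ _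

end Groth.Agent.DCat.SectionBC
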