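import Groth.Agent.DCat.ConvBaseChange
import Groth.Agent.DCat.SectionBC
import Groth.Agent.DCat.PhiDiag
import Groth.Agent.AmpleLib.Relative
import Groth.Agent.DQCoh.BettiRank

/-!
# Base change of kernels of relative equivalences
-/

set_option autoImplicit false
set_option backward.isDefEq.respectTransparency false
set_option backward.defeqAttrib.useBackward true
set_option linter.style.haveILetI false
set_option linter.unusedVariables false

universe u

open CategoryTheory CategoryTheory.Limits AlgebraicGeometry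
open Groth.Agent.Dual22Lib

attribute [local instance] HasDerivedCategory.standard
attribute [-instance] Int.instConditionallyCompleteLinearOrder

namespace Groth.Agent.DCat.RelEquivBC

/-- The structure module is K-flat in degree zero, and pulls back to itself. -/
theorem nonempty_Lpull_inD_structure {X Y : Scheme.{u}} (f : X ⟶ Y) [DCoh.HasLpull f] :
    Nonempty ((DCoh.Lpull f).obj (DCoh.inD Y (Coh.structureModule Y)) ≅ DCoh.inD X (Coh.structureModule X)) := by
  obtain ⟨e⟩ := AmpleLib.exists_pullStructureIso f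
  exact ⟨(DCoh.Lpull f).mapIso ((DerivedCategory.singleFunctorIsoCompQ _ 0).app _) ≪≫
    PullPerf.lpullIso f (RHomLeft.isKFlatFor_structure Y) ≪≫
    DerivedCategory.Q.mapIso ((HomologicalComplex.singleMapHomologicalComplex (Scheme.Modules.pullback f)
      (ComplexShape.up ℤ) 0).app _) ≪≫ ((DerivedCategory.singleFunctorIsoCompQ _ 0).app _).symm ≪≫
    (DerivedCategory.singleFunctor _ 0).mapIso e⟩

/-- The structure module in degree zero has quasi-coherent cohomology. -/
theorem isQCohD_inD_structure (X : Scheme.{u}) : DCoh.IsQCohD (DCoh.inD X (Coh.structureModule X)) :=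
  DQCoh.isQCohD_of_iso ((DerivedCategory.singleFunctorIsoCompQ _ 0).app _).symm (DQCoh.isQCohD_Q _ fun i => by
    by_cases hi : i = 0
    · subst hi
      exact Coherent.isQCoh_of_iso ((DQCoh.topStructIso X) ≪≫
        (HomologicalComplex.singleObjXSelf (ComplexShape.up ℤ) 0 _).symm) (h := DQCoh.isQCoh_top _)
    · exact Coherent.isQCoh_of_isZero (HomologicalComplex.isZero_single_obj_X _ _ _ _ hi))

/-- A separated morphism: the derived direct image of `O` along the diagonal. -/
theorem nonempty_Rpush_diag {S X : Scheme.{u}} (a : X ⟶ S) [IsSeparated a] [DCoh.HasRpush (pullback.diagonal a)] :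
    Nonempty ((DCoh.Rpush (pullback.diagonal a)).obj (DCoh.inD X (Coh.structureModule X)) ≅ FMK.diagO a) := by
  haveI : IsClosedImmersion (pullback.diagonal a) := IsSeparated.isClosedImmersion_diagonal
  haveI := PhiDiag.preservesHomology_push (pullback.diagonal a)
  obtain ⟨e⟩ := PhiDiag.nonempty_rpushFac (pullback.diagonal a)
  exact ⟨(DCoh.Rpush _).mapIso ((DerivedCategory.singleFunctorIsoCompQ _ 0).app _) ≪≫ e.app _ ≪≫
    DerivedCategory.Q.mapIso ((HomologicalComplex.singleMapHomologicalComplex _ (ComplexShape.up ℤ) 0).app _) ≪≫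
    ((DerivedCategory.singleFunctorIsoCompQ _ 0).app _).symm⟩

theorem nonempty_glue {C₁ C₂ C₃ C₄ : Type*} [Category C₁] [Category C₂] [Category C₃] [Category C₄]
    {F : C₁ ⥤ C₂} {L : C₂ ⥤ C₄} {L' : C₁ ⥤ C₃} {F' : C₃ ⥤ C₄} (τ : F ⋙ L ⟶ L' ⋙ F') (E : C₁) (h : IsIso (τ.app E))
    {A : C₂} {B : C₃} {C : C₄} (e : F.obj E ≅ A) (o : L'.obj E ≅ B) (e' : F'.obj B ≅ C) :
    Nonempty (L.obj A ≅ C) :=
  ⟨L.mapIso e.symm ≪≫ @asIso _ _ _ _ (τ.app E) h ≪≫ F'.mapIso o ≪≫ e'⟩

/-- Base change of the diagonal kernel. -/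
theorem nonempty_pull_diag {S S' X : Scheme.{u}} (a : X ⟶ S) [Flat a] [IsSeparated a] (g : S' ⟶ S)
    (m : pullback (pullback.snd a g) (pullback.snd a g) ⟶ pullback a a)
    (hm₁ : m ≫ pullback.fst a a = pullback.fst (pullback.snd a g) (pullback.snd a g) ≫ pullback.fst a g)
    (hm₂ : m ≫ pullback.snd a a = pullback.snd (pullback.snd a g) (pullback.snd a g) ≫ pullback.fst a g)
    [DCoh.HasLpull m] : Nonempty ((DCoh.Lpull m).obj (FMK.diagO a) ≅ FMK.diagO (pullback.snd a g)) := by
  let a' := pullback.snd a g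
  haveI : IsClosedImmersion (pullback.diagonal a) := IsSeparated.isClosedImmersion_diagonal
  haveI := hasRpush (pullback.diagonal a)
  haveI := hasRpush (pullback.diagonal a')
  haveI := hasLpull (pullback.fst a g)
  have hP := ConvBaseChange.isPullback_base a a g m hm₁ hm₂
  have h1 : pullback.fst a g ≫ pullback.diagonal a = pullback.diagonal a' ≫ m := by
    apply pullback.hom_ext
    · simp [hm₁, a']
    · simp [hm₂, a']
  have hbig : IsPullback (pullback.fst a g)
      (pullback.diagonal a' ≫ pullback.snd a' a' ≫ a') (pullback.diagonal a ≫ pullback.snd a a ≫ a) g := by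
    simpa [a'] using IsPullback.of_hasPullback a g
  have hsq : IsPullback (pullback.fst a g) (pullback.diagonal a') (pullback.diagonal a) m :=
    IsPullback.of_bot hbig h1 hP
  haveI : Flat (pullback.diagonal a ≫ pullback.snd a a ≫ a) := by
    rw [← Category.assoc, pullback.diagonal_snd, Category.id_comp]
    infer_instance
  obtain ⟨e⟩ := nonempty_Rpush_diag a
  obtain ⟨e'⟩ := nonempty_Rpush_diag a'
  haveI := hasRpush m
  haveI := hasRpush (pullback.fst a g)
  obtain ⟨adjg⟩ := nonempty_pullPushAdj m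
  obtain ⟨adjg'⟩ := nonempty_pullPushAdj (pullback.fst a g)
  obtain ⟨ee⟩ := BCSquare.exists_e hsq.w
  obtain ⟨eO⟩ := nonempty_Lpull_inD_structure (pullback.fst a g)
  have hg := SectionBC.good_section (pullback.diagonal a) (pullback.snd a a ≫ a) g m _ hP hsq
    inferInstance inferInstance inferInstance inferInstance inferInstance inferInstance adjg adjg' ee _
    (isQCohD_inD_structure X)
  exact nonempty_glue (BCAlg.bc adjg adjg' ee) _ hg e eO e'

/-- Base change of kernels of relative equivalences. -/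
theorem main {S S₁ X Y : Scheme.{u}} (a : X ⟶ S) (b : Y ⟶ S) (g : S₁ ⟶ S)
    [Smooth a] [IsProper a] [Smooth b] [IsProper b]
    (K : CochainComplex (pullback a b).Modules ℤ)
    [DCoh.HasLpull (FMK.p12 a b a)] [DCoh.HasRpush (FMK.p13 a b a)]
    [∀ L : CochainComplex (FMK.T a b a).Modules ℤ, DCoh.HasLTensorCx L]
    [DCoh.HasLpull (FMK.p12 b a b)] [DCoh.HasRpush (FMK.p13 b a b)]
    [∀ L : CochainComplex (FMK.T b a b).Modules ℤ, DCoh.HasLTensorCx L]
    (hK : FMK.IsRelEquivKernel a b K)
    [DCoh.HasLpull (FMK.p12 (pullback.snd a g) (pullback.snd b g) (pullback.snd a g))]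
    [DCoh.HasRpush (FMK.p13 (pullback.snd a g) (pullback.snd b g) (pullback.snd a g))]
    [∀ L : CochainComplex (FMK.T (pullback.snd a g) (pullback.snd b g) (pullback.snd a g)).Modules ℤ, DCoh.HasLTensorCx L]
    [DCoh.HasLpull (FMK.p12 (pullback.snd b g) (pullback.snd a g) (pullback.snd b g))]
    [DCoh.HasRpush (FMK.p13 (pullback.snd b g) (pullback.snd a g) (pullback.snd b g))]
    [∀ L : CochainComplex (FMK.T (pullback.snd b g) (pullback.snd a g) (pullback.snd b g)).Modules ℤ, DCoh.HasLTensorCx L]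
    (m : pullback (pullback.snd a g) (pullback.snd b g) ⟶ pullback a b)
    (hm₁ : m ≫ pullback.fst a b = pullback.fst (pullback.snd a g) (pullback.snd b g) ≫ pullback.fst a g)
    (hm₂ : m ≫ pullback.snd a b = pullback.snd (pullback.snd a g) (pullback.snd b g) ≫ pullback.fst b g)
    [DCoh.HasLpull m]
    (K₁ : CochainComplex (pullback (pullback.snd a g) (pullback.snd b g)).Modules ℤ)
    (hK₁ : Nonempty (DCoh.toD _ K₁ ≅ (DCoh.Lpull m).obj (DCoh.toD _ K))) :
    FMK.IsRelEquivKernel (pullback.snd a g) (pullback.snd b g) K₁ := by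
  obtain ⟨hKp, K', hK', ⟨e₁⟩, ⟨e₂⟩⟩ := hK
  obtain ⟨eK₁⟩ := hK₁
  let mba := pullback.map (pullback.snd b g) (pullback.snd a g) b a (pullback.fst b g) (pullback.fst a g) g
    pullback.condition.symm pullback.condition.symm
  let maa := pullback.map (pullback.snd a g) (pullback.snd a g) a a (pullback.fst a g) (pullback.fst a g) g
    pullback.condition.symm pullback.condition.symm
  let mbb := pullback.map (pullback.snd b g) (pullback.snd b g) b b (pullback.fst b g) (pullback.fst b g) g
    pullback.condition.symm pullback.condition.symm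
  haveI := hasLpull mba
  haveI := hasLpull maa
  haveI := hasLpull mbb
  obtain ⟨K'₁, hK'₁, ⟨eK'₁⟩⟩ := PullPerf.exists_kflat_rep ((DCoh.Lpull mba).obj (DCoh.toD _ K'))
  refine ⟨PCTriangle.perfect_iso eK₁.symm (PullPerf.isPerfect_Lpull _ _ hKp), K'₁,
    PCTriangle.perfect_iso eK'₁.symm (PullPerf.isPerfect_Lpull _ _ hK'), ?_, ?_⟩
  · obtain ⟨c⟩ := ConvBaseChange.nonempty_pull_conv a b a g K K' (PerfLift.isQCohD_perfect hKp)
      (PerfLift.isQCohD_perfect hK') m hm₁ hm₂ mba (pullback.lift_fst _ _ _) (pullback.lift_snd _ _ _)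
      maa (pullback.lift_fst _ _ _) (pullback.lift_snd _ _ _) K₁ ⟨eK₁⟩ K'₁ ⟨eK'₁⟩
    obtain ⟨d⟩ := nonempty_pull_diag a g maa (pullback.lift_fst _ _ _) (pullback.lift_snd _ _ _)
    exact ⟨d.symm ≪≫ (DCoh.Lpull maa).mapIso e₁ ≪≫ c⟩
  · obtain ⟨c⟩ := ConvBaseChange.nonempty_pull_conv b a b g K' K (PerfLift.isQCohD_perfect hK')
      (PerfLift.isQCohD_perfect hKp) mba (pullback.lift_fst _ _ _) (pullback.lift_snd _ _ _) m hm₁ hm₂
      mbb (pullback.lift_fst _ _ _) (pullback.lift_snd _ _ _) K'₁ ⟨eK'₁⟩ K₁ ⟨eK₁⟩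
    obtain ⟨d⟩ := nonempty_pull_diag b g mbb (pullback.lift_fst _ _ _) (pullback.lift_snd _ _ _)
    exact ⟨d.symm ≪≫ (DCoh.Lpull mbb).mapIso e₂ ≪≫ c⟩

end Groth.Agent.DCat.RelEquivBC
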