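import Groth.Agent.DCat.KernelDual17
import Groth.Agent.DCat.RelEquivBC
import Groth.Agent.Dual22Lib.FMAdj
import Groth.Agent.Dual6Lib.BCShriekGlobal
import Groth.Agent.DualLib.ShriekNat

/-!
# Both adjoints of a Fourier–Mukai functor with perfect kernel, through relative dualizing complexes
-/

set_option autoImplicit false
set_option backward.isDefEq.respectTransparency false
set_option backward.defeqAttrib.useBackward true
set_option linter.style.haveILetI false
set_option synthInstance.maxHeartbeats 100000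

universe u

open CategoryTheory CategoryTheory.Limits AlgebraicGeometry HomologicalComplex
open Groth.Agent.DCat Groth.Agent.ModStalk

attribute [local instance] HasDerivedCategory.standard
attribute [-instance] Int.instConditionallyCompleteLinearOrder

namespace Groth.Agent.DCat.KernelAdj17

open Groth.Agent.Dual22Lib Groth.Agent.Dual6Lib

/-- The relative dualizing complex commutes with flat base change. -/
theorem nonempty_dualizing_baseChange {X Y X' Y' : Scheme.{u}} [CompactSpace X] [QuasiSeparatedSpace X]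
    [CompactSpace Y] [QuasiSeparatedSpace Y] [CompactSpace X'] [QuasiSeparatedSpace X']
    [CompactSpace Y'] [QuasiSeparatedSpace Y']
    (f : X ⟶ Y) (g : Y' ⟶ Y) (f' : X' ⟶ Y') (g' : X' ⟶ X) (hsq : IsPullback g' f' f g)
    [IsProper f] [Flat f] [LocallyOfFinitePresentation f] [Flat g] [DCoh.HasRpush f] [DCoh.HasRpush f']
    [DCoh.HasLpull g'] (hf : DCoh.RpushPreservesQCoh f) (hf' : DCoh.RpushPreservesQCoh f')
    (a : DCoh.DQCoh Y ⥤ DCoh.DQCoh X) (a' : DCoh.DQCoh Y' ⥤ DCoh.DQCoh X')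
    (adj : DCoh.RpushQ f hf ⊣ a) (adj' : DCoh.RpushQ f' hf' ⊣ a')
    (O : DCoh.DQCoh Y) (eO : O.obj ≅ DCoh.inD Y (Coh.structureModule Y))
    (O' : DCoh.DQCoh Y') (eO' : O'.obj ≅ DCoh.inD Y' (Coh.structureModule Y')) :
    Nonempty ((DCoh.Lpull g').obj (a.obj O).obj ≅ (a'.obj O').obj) := by
  haveI : QuasiCompact g := quasiCompact_of_compactSpace g
  haveI : QuasiSeparated g := QuasiSeparated.of_quasiSeparatedSpace g
  haveI : Flat g' := MorphismProperty.of_isPullback hsq.flip inferInstance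
  haveI : QuasiCompact g' := quasiCompact_of_compactSpace g'
  haveI : QuasiSeparated g' := QuasiSeparated.of_quasiSeparatedSpace g'
  haveI : IsProper f' := MorphismProperty.of_isPullback hsq inferInstance
  haveI : Flat f' := MorphismProperty.of_isPullback hsq inferInstance
  haveI : LocallyOfFinitePresentation f' := MorphismProperty.of_isPullback hsq inferInstance
  haveI := hasRpush g
  haveI := hasRpush g'
  haveI := hasLpull g
  haveI := hasLpull f
  haveI := hasLpull f'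
  have hg : DCoh.RpushPreservesQCoh g := fun M hM => DQCoh.isQCohD_Rpush g M hM
  have hg' : DCoh.RpushPreservesQCoh g' := fun M hM => DQCoh.isQCohD_Rpush g' M hM
  obtain ⟨adjg⟩ := BCShriekGlobal.exists_adjQ g hg (XiIso.lpullPreservesQCoh g)
  obtain ⟨adjg'⟩ := BCShriekGlobal.exists_adjQ g' hg' (XiIso.lpullPreservesQCoh g')
  obtain ⟨e, he⟩ := BCShriekSquare.exists_bc (hf := hf) (hf' := hf') hsq adjg adjg'
  haveI := BCShriekGlobal.isIso_bs_global hsq adj adj' O
    (Or.inl fun V hV C hC => SuppAdjQC.killed_rightAdjoint f (PPFlat.pp_flat f) hf a adj V hV C hC)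
    (Or.inl fun V hV C hC => SuppAdjQC.killed_rightAdjoint f' (PPFlat.pp_flat f') hf' a' adj' V hV C hC)
    (BCAlg.bc adjg adjg' e) he fun V hV _ _ => Or.inl (by
      have hsqj : IsPullback (f ⁻¹ᵁ V).ι (f ∣_ V) f V.ι := (isPullback_morphismRestrict f V).flip
      haveI : IsAffine V := hV
      haveI : IsProper (f ∣_ V) := MorphismProperty.of_isPullback hsqj inferInstance
      haveI : Flat (f ∣_ V) := MorphismProperty.of_isPullback hsqj inferInstance
      haveI : LocallyOfFinitePresentation (f ∣_ V) := MorphismProperty.of_isPullback hsqj inferInstance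
      intro _
      exact PPFlat.pp_flat (f ∣_ V))
  obtain ⟨l⟩ := RelEquivBC.nonempty_Lpull_inD_structure g
  let i : (Dual3.LpullQ g (XiIso.lpullPreservesQCoh g)).obj O ≅ O' :=
    (ObjectProperty.fullyFaithfulι _).preimageIso ((DCoh.Lpull g).mapIso eO ≪≫ l ≪≫ eO'.symm)
  exact ⟨(ObjectProperty.ι _).mapIso (asIso (BCFormal.bs adj adj' (BCAlg.bc adjg adjg' e) he O) ≪≫ a'.mapIso i)⟩

/-- Inverse image along the identity. -/
theorem nonempty_Lpull_id (X : Scheme.{u}) [DCoh.HasLpull (𝟙 X)] : Nonempty (DCoh.Lpull (𝟙 X) ≅ 𝟭 (DCoh.D X)) := by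
  haveI := PullPerf.preservesFiniteLimits_restrict (𝟙 X)
  obtain ⟨r⟩ := BCSquare.nonempty_Lpull_rd (𝟙 X)
  obtain ⟨c⟩ := DualLib.ShriekNat.nonempty_mapD_id (Scheme.Modules.restrictFunctor (𝟙 X)) Scheme.Modules.restrictFunctorId
  exact ⟨r ≪≫ c⟩

/-- Internal homs commute with inverse image along isomorphisms. -/
theorem nonempty_RH_pull {X Y : Scheme.{u}} (σ : X ⟶ Y) [IsIso σ] [DCoh.HasLpull σ]
    (T : CochainComplex Y.Modules ℤ) (hT : IsKFlatFor (shT Y) T) [DCoh.HasLTensorCx T] [DCoh.HasRSheafHom T]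
    (T' : CochainComplex X.Modules ℤ) [DCoh.HasLTensorCx T'] [DCoh.HasRSheafHom T']
    (eT : DCoh.toD X T' ≅ (DCoh.Lpull σ).obj (DCoh.toD Y T)) (M : DCoh.D Y) :
    Nonempty ((DCoh.RSheafHom T').obj ((DCoh.Lpull σ).obj M) ≅ (DCoh.Lpull σ).obj ((DCoh.RSheafHom T).obj M)) := by
  haveI := hasRpush σ
  let T₀ := (PullTensorNat.pullC σ).obj T
  haveI := LTensorSheaf.hasLTensorCx T₀
  obtain ⟨ap⟩ := nonempty_pullPushAdj σ
  obtain ⟨c⟩ := PullTensorNat.nonempty_natIso σ hT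
  obtain ⟨cT⟩ := TensorCongr.nonempty_congr (E := T') (E' := T₀) (eT ≪≫ PullPerf.lpullIso σ hT)
  let A₁ : DCoh.LTensorCx T ⋙ DCoh.Lpull σ ⊣ DCoh.Rpush σ ⋙ DCoh.RSheafHom T := (DCoh.RSheafHomAdj T).comp ap
  let A₂ : DCoh.Lpull σ ⋙ DCoh.LTensorCx T' ⊣ DCoh.RSheafHom T' ⋙ DCoh.Rpush σ := ap.comp (DCoh.RSheafHomAdj T')
  let r := (A₁.ofNatIsoLeft (c ≪≫ Functor.isoWhiskerLeft _ cT.symm)).rightAdjointUniq A₂
  obtain ⟨u⟩ := FMAdj.nonempty_pull_push_iso σ
  obtain ⟨h₁, h₂⟩ := BCSquare.full_faithful_Rpush σ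
  haveI : IsIso ap.counit := inferInstance
  exact ⟨((DCoh.Lpull σ).mapIso ((DCoh.RSheafHom T).mapIso (u.app M).symm ≪≫ r.app ((DCoh.Lpull σ).obj M)) ≪≫
    (asIso ap.counit).app _).symm⟩

variable {S X Y : Scheme.{u}} (a : X ⟶ S) (b : Y ⟶ S)

/-- Adjunctions on `D_qc` give adjunctions on perfect objects. -/
theorem nonempty_restrict_perf
    (K : CochainComplex (pullback a b).Modules ℤ) (K' : CochainComplex (pullback b a).Modules ℤ)
    [DCoh.HasLpull (pullback.fst a b)] [DCoh.HasLTensorCx K] [DCoh.HasRpush (pullback.snd a b)]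
    [DCoh.HasLpull (pullback.fst b a)] [DCoh.HasLTensorCx K'] [DCoh.HasRpush (pullback.snd b a)]
    (h : ∀ M : DCoh.D X, DCoh.IsQCohD M → DCoh.IsQCohD ((FMK.phi a b K).obj M))
    (h' : ∀ N : DCoh.D Y, DCoh.IsQCohD N → DCoh.IsQCohD ((FMK.phi b a K').obj N))
    (adj : FMK.phiOn a b K DCoh.IsQCohD DCoh.IsQCohD h ⊣ FMK.phiOn b a K' DCoh.IsQCohD DCoh.IsQCohD h')
    (g : ∀ M : DCoh.D X, SGA6.perfP X M → SGA6.perfP Y ((FMK.phi a b K).obj M))
    (g' : ∀ N : DCoh.D Y, SGA6.perfP Y N → SGA6.perfP X ((FMK.phi b a K').obj N)) :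
    Nonempty (FMK.phiOn a b K (SGA6.perfP X) (SGA6.perfP Y) g ⊣ FMK.phiOn b a K' (SGA6.perfP Y) (SGA6.perfP X) g') :=
  ⟨adj.restrictFullyFaithful
    (ObjectProperty.fullyFaithfulιOfLE (P := SGA6.perfP X) (P' := DCoh.IsQCohD) fun _ hM => PerfLift.isQCohD_perfect hM)
    (ObjectProperty.fullyFaithfulιOfLE (P := SGA6.perfP Y) (P' := DCoh.IsQCohD) fun _ hM => PerfLift.isQCohD_perfect hM)
    (Functor.fullyFaithfulCancelRight (ObjectProperty.ι _) (Iso.refl _))
    (Functor.fullyFaithfulCancelRight (ObjectProperty.ι _) (Iso.refl _))⟩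

/-- The twisted kernel gives the right adjoint. -/
theorem nonempty_adj_right [IsNoetherian S] [IsProper a] [Flat a] [IsProper b] [Flat b]
    (K : CochainComplex (pullback a b).Modules ℤ) (hK : DCoh.IsPerfect (DCoh.toD _ K))
    [DCoh.HasLpull (pullback.fst a b)] [DCoh.HasLTensorCx K] [DCoh.HasRpush (pullback.snd a b)]
    [DCoh.HasRSheafHom K]
    [DCoh.HasRpush a] (hRa : DCoh.RpushPreservesQCoh a) [DCoh.HasShriek a hRa]
    (OS : DCoh.DQCoh S) (hOS : OS.obj ≅ DCoh.inD S (Coh.structureModule S))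
    (W : CochainComplex (pullback a b).Modules ℤ) [DCoh.HasLTensorCx W]
    (hW : Nonempty (DCoh.toD _ W ≅ (DCoh.Lpull (pullback.fst a b)).obj (DCoh.dualizingCx a hRa OS)))
    [DCoh.HasLpull (pullbackSymmetry b a).hom]
    (K' : CochainComplex (pullback b a).Modules ℤ)
    (hK' : Nonempty (DCoh.toD _ K' ≅ (DCoh.Lpull (pullbackSymmetry b a).hom).obj
      ((DCoh.LTensorCx W).obj ((DCoh.RSheafHom K).obj (DCoh.inD _ (Coh.structureModule (pullback a b)))))))
    [DCoh.HasLpull (pullback.fst b a)] [DCoh.HasLTensorCx K'] [DCoh.HasRpush (pullback.snd b a)]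
    (h : ∀ M : DCoh.D X, SGA6.perfP X M → SGA6.perfP Y ((FMK.phi a b K).obj M))
    (h' : ∀ N : DCoh.D Y, SGA6.perfP Y N → SGA6.perfP X ((FMK.phi b a K').obj N)) :
    Nonempty (FMK.phiOn a b K (SGA6.perfP X) (SGA6.perfP Y) h ⊣ FMK.phiOn b a K' (SGA6.perfP Y) (SGA6.perfP X) h') := by
  let q := pullback.snd a b
  let σ := (pullbackSymmetry b a).hom
  haveI : IsLocallyNoetherian X := LocallyOfFiniteType.isLocallyNoetherian a
  haveI : IsLocallyNoetherian Y := LocallyOfFiniteType.isLocallyNoetherian b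
  haveI : CompactSpace X := QuasiCompact.compactSpace_of_compactSpace a
  haveI : CompactSpace Y := QuasiCompact.compactSpace_of_compactSpace b
  haveI : IsNoetherian X := { }
  haveI : IsNoetherian Y := { }
  haveI : LocallyOfFinitePresentation a := LocallyOfFinitePresentation.iff_locallyOfFiniteType.2 inferInstance
  haveI : CompactSpace ↥(pullback a b) := QuasiCompact.compactSpace_of_compactSpace q
  haveI : QuasiSeparatedSpace ↥(pullback a b) := quasiSeparatedSpace_of_quasiSeparated q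
  haveI : CompactSpace ↥(pullback b a) := QuasiCompact.compactSpace_of_compactSpace (pullback.fst b a)
  haveI : QuasiSeparatedSpace ↥(pullback b a) := quasiSeparatedSpace_of_quasiSeparated (pullback.fst b a)
  have hKq : DCoh.IsQCohD (DCoh.toD _ K) := PerfLift.isQCohD_perfect hK
  have hq : DCoh.RpushPreservesQCoh q := fun M hM => DQCoh.isQCohD_Rpush q M hM
  haveI : DCoh.HasShriek q hq := AdjGeom.isLeftAdjoint_RpushQ q hq
  let OY : DCoh.DQCoh Y := ⟨DCoh.inD Y (Coh.structureModule Y), RelEquivBC.isQCohD_inD_structure Y⟩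
  obtain ⟨eW⟩ := hW
  obtain ⟨eK'⟩ := hK'
  obtain ⟨bc⟩ := nonempty_dualizing_baseChange a b q (pullback.fst a b) (IsPullback.of_hasPullback a b) hRa hq
    _ _ (DCoh.shriekAdj a hRa) (DCoh.shriekAdj q hq) OS hOS OY (Iso.refl _)
  obtain ⟨t⟩ := KernelDual17.nonempty_twist K hK W
  let eK'' : DCoh.toD _ K' ≅ (DCoh.Lpull σ).obj ((DCoh.RSheafHom K).obj (DCoh.dualizingCx q hq OY)) :=
    eK' ≪≫ (DCoh.Lpull σ).mapIso (t ≪≫ (DCoh.RSheafHom K).mapIso (eW ≪≫ bc))
  have hK'q : DCoh.IsQCohD (DCoh.toD _ K') := DQCoh.isQCohD_of_iso eK''.symm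
    (DQCoh.isQCohD_Lpull σ _ (DQCoh.isQCohD_RHom_perfect K hK _ (((DCoh.shriek q hq).obj OY).property)))
  have g : ∀ M : DCoh.D X, DCoh.IsQCohD M → DCoh.IsQCohD ((FMK.phi a b K).obj M) := fun M hM =>
    DQCoh.isQCohD_Rpush q _ (DQCoh.isQCohD_LTensorCx K hKq _ (DQCoh.isQCohD_Lpull _ _ hM))
  have g' : ∀ N : DCoh.D Y, DCoh.IsQCohD N → DCoh.IsQCohD ((FMK.phi b a K').obj N) := fun N hN =>
    DQCoh.isQCohD_Rpush (pullback.snd b a) _ (DQCoh.isQCohD_LTensorCx K' hK'q _ (DQCoh.isQCohD_Lpull _ _ hN))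
  obtain ⟨A⟩ := FMAdj.nonempty_adj a b K hK hKq hq OY (Iso.refl _) K' ⟨eK''⟩ g g'
  exact nonempty_restrict_perf a b K K' g g' A h h'

/-- The twisted kernel gives the left adjoint, given the base change of the dualizing complex. -/
theorem nonempty_adj_left_qc [CompactSpace S] [QuasiSeparatedSpace S] [CompactSpace X] [QuasiSeparatedSpace X]
    [CompactSpace Y] [QuasiSeparatedSpace Y] [IsProper b] [Flat b] [LocallyOfFinitePresentation b]
    (K : CochainComplex (pullback a b).Modules ℤ) (hK : DCoh.IsPerfect (DCoh.toD _ K))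
    [DCoh.HasLpull (pullback.fst a b)] [DCoh.HasLTensorCx K] [DCoh.HasRpush (pullback.snd a b)]
    [DCoh.HasRSheafHom K] [DCoh.HasLpull (pullbackSymmetry b a).hom]
    (W : CochainComplex (pullback a b).Modules ℤ) [DCoh.HasLTensorCx W]
    (hWp : DCoh.IsPerfect (DCoh.toD _ W)) (hWe : KernelDual17.EndTrivial (DCoh.toD _ W))
    [DCoh.HasRpush (pullback.snd b a)] (hq' : DCoh.RpushPreservesQCoh (pullback.snd b a))
    [DCoh.HasShriek (pullback.snd b a) hq'] (OX : DCoh.DQCoh X) (hOX : OX.obj ≅ DCoh.inD X (Coh.structureModule X))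
    (bc : DCoh.dualizingCx (pullback.snd b a) hq' OX ≅ (DCoh.Lpull (pullbackSymmetry b a).hom).obj (DCoh.toD _ W))
    (K'' : CochainComplex (pullback b a).Modules ℤ)
    (hK'' : Nonempty (DCoh.toD _ K'' ≅ (DCoh.Lpull (pullbackSymmetry b a).hom).obj
      ((DCoh.LTensorCx W).obj ((DCoh.RSheafHom K).obj (DCoh.inD _ (Coh.structureModule (pullback a b)))))))
    [DCoh.HasLpull (pullback.fst b a)] [DCoh.HasLTensorCx K'']
    (h : ∀ M : DCoh.D X, DCoh.IsQCohD M → DCoh.IsQCohD ((FMK.phi a b K).obj M))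
    (h'' : ∀ N : DCoh.D Y, DCoh.IsQCohD N → DCoh.IsQCohD ((FMK.phi b a K'').obj N)) :
    Nonempty (FMK.phiOn b a K'' DCoh.IsQCohD DCoh.IsQCohD h'' ⊣ FMK.phiOn a b K DCoh.IsQCohD DCoh.IsQCohD h) := by
  let σ := (pullbackSymmetry b a).hom
  let σ' := (pullbackSymmetry a b).hom
  haveI := hasLpull σ'
  haveI := hasLpull (σ' ≫ σ)
  haveI := hasLpull (𝟙 (pullback a b))
  obtain ⟨eK''⟩ := hK''
  have hT := KernelDual17.isPerfect_twist K hK W hWp
  have hK''p : DCoh.IsPerfect (DCoh.toD _ K'') := PCTriangle.perfect_iso eK''.symm (PullPerf.isPerfect_Lpull σ _ hT)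
  haveI := RHomExist.hasRSheafHom K''
  obtain ⟨T, hTk, ⟨eT⟩⟩ := PullPerf.exists_kflat_rep
    ((DCoh.LTensorCx W).obj ((DCoh.RSheafHom K).obj (DCoh.inD _ (Coh.structureModule (pullback a b)))))
  haveI := LTensorSheaf.hasLTensorCx T
  haveI := RHomExist.hasRSheafHom T
  obtain ⟨r⟩ := nonempty_RH_pull σ T hTk K'' (eK'' ≪≫ (DCoh.Lpull σ).mapIso eT.symm) (DCoh.toD _ W)
  obtain ⟨k⟩ := KernelDual17.nonempty_RH_twist K hK W hWe T eT
  obtain ⟨c⟩ := nonempty_LpullComp σ' σ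
  obtain ⟨c'⟩ := FMAdj.nonempty_Lpull_congr (f := σ' ≫ σ) (g := 𝟙 (pullback a b)) (by
    apply pullback.hom_ext <;> simp [σ, σ'])
  obtain ⟨c''⟩ := nonempty_Lpull_id (pullback a b)
  refine FMAdj.nonempty_adj b a K'' hK''p (PerfLift.isQCohD_perfect hK''p) hq' OX hOX K ⟨?_⟩ h'' h
  exact ((DCoh.Lpull σ').mapIso ((DCoh.RSheafHom K'').mapIso bc ≪≫ r ≪≫ (DCoh.Lpull σ).mapIso k) ≪≫
    (c ≪≫ c' ≪≫ c'').app _).symm

end Groth.Agent.DCat.KernelAdj17
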