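import Groth.Agent.DCat.KernelDual17
import Groth.Agent.DualLib.ShriekGor
import Groth.Agent.DualLib.EndShriek
import Groth.Agent.DualLib.ShriekPieces
import Groth.Agent.Dual22Lib.ShSymm
import Groth.Agent.DualLib.ShriekNat

/-!
# The relative dualizing complex of a flat proper morphism: endomorphisms, perfectness
-/

set_option autoImplicit false
set_option backward.isDefEq.respectTransparency false
set_option backward.defeqAttrib.useBackward true
set_option linter.style.haveILetI false

universe u

open CategoryTheory CategoryTheory.Limits AlgebraicGeometry HomologicalComplex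
open Groth.Agent.ModStalk

attribute [local instance] HasDerivedCategory.standard
attribute [-instance] Int.instConditionallyCompleteLinearOrder

namespace Groth.Agent.DCat.KernelGor17

variable {Y S : Scheme.{u}} [IsNoetherian S] (b : Y ⟶ S) [IsProper b] [Flat b] [DCoh.HasRpush b]
  (hb : DCoh.RpushPreservesQCoh b) (a : DCoh.DQCoh S ⥤ DCoh.DQCoh Y) (adj : DCoh.RpushQ b hb ⊣ a)
  (O : DCoh.DQCoh S) (eO : O.obj ≅ DCoh.inD S (Coh.structureModule S))

/-- A proper morphism as its own compactification. -/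
noncomputable abbrev idComp : DEt.Compactification b := ⟨Y, 𝟙 Y, b, inferInstance, inferInstance, Category.id_comp b⟩

include adj eO in
/-- The dualizing complex has trivial endomorphisms. -/
theorem endTrivial : KernelDual17.EndTrivial (a.obj O).obj := by
  intro E hE e
  haveI : ∀ (U V : Scheme.{u}) (j : U ⟶ V) [IsOpenImmersion j], PreservesFiniteLimits (Scheme.Modules.restrictFunctor j) :=
    fun U V j _ => PullPerf.preservesFiniteLimits_restrict j
  haveI : ∀ (R : CommRingCat.{u}), PreservesFiniteLimits (tilde.functor R) := AffSchLib.preservesFiniteLimits_tilde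
  let c := idComp b
  haveI : DCoh.HasRpush c.fbar := ‹DCoh.HasRpush b›
  haveI : IsLocallyNoetherian Y := LocallyOfFiniteType.isLocallyNoetherian b
  haveI : CompactSpace Y := QuasiCompact.compactSpace_of_compactSpace b
  haveI : IsNoetherian Y := { }
  obtain ⟨r⟩ := DualLib.ShriekNat.nonempty_res_id (X := Y)
  let i : (Dual3.shriekC c a).obj O ≅ (a.obj O).obj := (ObjectProperty.ι _).mapIso (r.app (a.obj O))
  obtain ⟨-, hend⟩ := DualLib.EndShriek.relPerfect_and_end c hb a adj O ⟨eO⟩
  haveI := LTensorSheaf.hasLTensorCx E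
  haveI := RHomExist.hasRSheafHom E
  let S₀ := (single Y.Modules (ComplexShape.up ℤ) 0).obj (Coh.structureModule Y)
  obtain ⟨w⟩ := RHomLeft.nonempty_flip_single (DCoh.tensorCx (X := Y)) rfl
  let υ : (DCoh.LTensorCx E).obj (DCoh.inD Y (Coh.structureModule Y)) ≅ DCoh.toD Y E :=
    (DCoh.LTensorCx E).mapIso ((DerivedCategory.singleFunctorIsoCompQ Y.Modules 0).app _) ≪≫
      LTensorSheaf.ltensorCxIso' hE S₀ ≪≫
      DerivedCategory.Q.mapIso (Dual22Lib.ShSymm.symm S₀ E) ≪≫ DerivedCategory.Q.mapIso (w.app E)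
  haveI := DualLib.EndIso.isIso_homEquiv E υ _ (fun x W hx => DualLib.EndShriek.exists_basis (f := b) x W hx)
    fun W hW => by
      obtain ⟨B, iB, j, ij, it, K, hj, ⟨k⟩, h1, h2⟩ := hend W hW
      exact ⟨B, iB, j, ij, it, K, hj, ⟨(DCoh.restrictD j).mapIso (e ≪≫ i.symm) ≪≫ k⟩, h1, h2⟩
  exact ⟨(asIso (((DCoh.RSheafHomAdj E).homEquiv (DCoh.inD Y (Coh.structureModule Y)) (DCoh.toD Y E)) υ.hom)).symm⟩

include adj eO in
/-- For a Gorenstein morphism the dualizing complex is perfect. -/
theorem isPerfect (hG : Dual3.IsGorensteinMor b) : DCoh.IsPerfect (a.obj O).obj := by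
  haveI : ∀ (U V : Scheme.{u}) (j : U ⟶ V) [IsOpenImmersion j], PreservesFiniteLimits (Scheme.Modules.restrictFunctor j) :=
    fun U V j _ => PullPerf.preservesFiniteLimits_restrict j
  haveI : ∀ (R : CommRingCat.{u}), PreservesFiniteLimits (tilde.functor R) := AffSchLib.preservesFiniteLimits_tilde
  let c := idComp b
  haveI : DCoh.HasRpush c.fbar := ‹DCoh.HasRpush b›
  haveI : IsLocallyNoetherian Y := LocallyOfFiniteType.isLocallyNoetherian b
  haveI : CompactSpace Y := QuasiCompact.compactSpace_of_compactSpace b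
  haveI : IsNoetherian Y := { }
  obtain ⟨r⟩ := DualLib.ShriekNat.nonempty_res_id (X := Y)
  let i : (Dual3.shriekC c a).obj O ≅ (a.obj O).obj := (ObjectProperty.ι _).mapIso (r.app (a.obj O))
  refine DQCoh.isPerfect_of_local _ fun x => ?_
  obtain ⟨C⟩ := DualLib.ShriekLocal.nonempty_chart c hb a adj O ⟨eO⟩ x
  obtain ⟨U, hxU, hU⟩ := (DualLib.ShriekGor.invertible_chart_iff C).2 ((DualLib.ShriekGor.gorAt_chart_iff C).1 (hG x))
  exact ⟨_, U.ι, inferInstance, by rwa [Scheme.Opens.opensRange_ι],
    PCTriangle.perfect_iso ((DCoh.restrictD U.ι).mapIso i) (DualLib.ShriekPieces.isPerfect_of_invertible hU)⟩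

end Groth.Agent.DCat.KernelGor17
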