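import Groth.Agent.DCat.KernelAdj17
import Groth.Agent.DCat.KernelGor17

/-!
# The left adjoint of a Fourier–Mukai functor through the relative dualizing complex
-/

set_option autoImplicit false
set_option backward.isDefEq.respectTransparency false
set_option backward.defeqAttrib.useBackward true
set_option linter.style.haveILetI false
set_option synthInstance.maxHeartbeats 100000

universe u

open CategoryTheory CategoryTheory.Limits AlgebraicGeometry
open Groth.Agent.DCat

attribute [local instance] HasDerivedCategory.standard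

namespace Groth.Agent.DCat.KernelAdjGor17

open Groth.Agent.Dual22Lib

variable {S X Y : Scheme.{u}}

/-- Perfectness of the twisted kernel. -/
theorem isPerfect_kernel [IsNoetherian S] (a : X ⟶ S) (b : Y ⟶ S) {Z : Scheme.{u}} (f : Z ⟶ S) [IsProper f] [Flat f]
    (hG : Dual3.IsGorensteinMor f) (r : pullback a b ⟶ Z)
    [DCoh.HasRpush f] (hf : DCoh.RpushPreservesQCoh f) [DCoh.HasShriek f hf]
    (OS : DCoh.DQCoh S) (hOS : OS.obj ≅ DCoh.inD S (Coh.structureModule S)) [DCoh.HasLpull r]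
    (K : CochainComplex (pullback a b).Modules ℤ) (hK : DCoh.IsPerfect (DCoh.toD _ K))
    [DCoh.HasLTensorCx K] [DCoh.HasRSheafHom K]
    (W : CochainComplex (pullback a b).Modules ℤ) [DCoh.HasLTensorCx W]
    (hW : Nonempty (DCoh.toD _ W ≅ (DCoh.Lpull r).obj (DCoh.dualizingCx f hf OS)))
    [DCoh.HasLpull (pullbackSymmetry b a).hom]
    (K' : CochainComplex (pullback b a).Modules ℤ)
    (hK' : Nonempty (DCoh.toD _ K' ≅ (DCoh.Lpull (pullbackSymmetry b a).hom).obj
      ((DCoh.LTensorCx W).obj ((DCoh.RSheafHom K).obj (DCoh.inD _ (Coh.structureModule (pullback a b))))))) :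
    DCoh.IsPerfect (DCoh.toD _ W) ∧ DCoh.IsPerfect (DCoh.toD _ K') := by
  obtain ⟨eW⟩ := hW
  obtain ⟨eK'⟩ := hK'
  have hWp : DCoh.IsPerfect (DCoh.toD _ W) := PCTriangle.perfect_iso eW.symm
    (PullPerf.isPerfect_Lpull r _ (KernelGor17.isPerfect f hf _ (DCoh.shriekAdj f hf) OS hOS hG))
  exact ⟨hWp, PCTriangle.perfect_iso eK'.symm
    (PullPerf.isPerfect_Lpull _ _ (KernelDual17.isPerfect_twist K hK W hWp))⟩

/-- The pulled back dualizing complex has trivial endomorphisms. -/
theorem endTrivial_pull [IsNoetherian S] [IsNoetherian X] [IsNoetherian Y] (a : X ⟶ S) (b : Y ⟶ S) [Flat a] [IsProper b] [Flat b]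
    [DCoh.HasRpush b] (hRb : DCoh.RpushPreservesQCoh b) [DCoh.HasShriek b hRb]
    (OS : DCoh.DQCoh S) (hOS : OS.obj ≅ DCoh.inD S (Coh.structureModule S)) [DCoh.HasLpull (pullback.snd a b)]
    (W : CochainComplex (pullback a b).Modules ℤ)
    (eW : DCoh.toD _ W ≅ (DCoh.Lpull (pullback.snd a b)).obj (DCoh.dualizingCx b hRb OS)) :
    KernelDual17.EndTrivial (DCoh.toD _ W) := by
  haveI : LocallyOfFinitePresentation b := LocallyOfFinitePresentation.iff_locallyOfFiniteType.2 inferInstance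
  let OX : DCoh.DQCoh X := ⟨DCoh.inD X (Coh.structureModule X), RelEquivBC.isQCohD_inD_structure X⟩
  haveI : CompactSpace ↥(pullback a b) := QuasiCompact.compactSpace_of_compactSpace (pullback.fst a b)
  haveI : QuasiSeparatedSpace ↥(pullback a b) := quasiSeparatedSpace_of_quasiSeparated (pullback.fst a b)
  -- the first projection
  let p := pullback.fst a b
  haveI : IsProper p := MorphismProperty.of_isPullback (IsPullback.of_hasPullback a b).flip inferInstance
  haveI : Flat p := MorphismProperty.of_isPullback (IsPullback.of_hasPullback a b).flip inferInstance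
  haveI := hasRpush p
  have hp : DCoh.RpushPreservesQCoh p := fun M hM => DQCoh.isQCohD_Rpush p M hM
  haveI : DCoh.HasShriek p hp := AdjGeom.isLeftAdjoint_RpushQ p hp
  obtain ⟨bp⟩ := KernelAdj17.nonempty_dualizing_baseChange b a p (pullback.snd a b)
    (IsPullback.of_hasPullback a b).flip hRb hp _ _ (DCoh.shriekAdj b hRb) (DCoh.shriekAdj p hp) OS hOS OX (Iso.refl _)
  exact KernelDual17.endTrivial_of_iso (eW ≪≫ bp).symm
    (KernelGor17.endTrivial p hp _ (DCoh.shriekAdj p hp) OX (Iso.refl _))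

/-- The left adjoint on perfect objects. -/
theorem nonempty_adj_left [IsNoetherian S] (a : X ⟶ S) (b : Y ⟶ S) [IsProper a] [Flat a] [IsProper b] [Flat b]
    (K : CochainComplex (pullback a b).Modules ℤ) (hK : DCoh.IsPerfect (DCoh.toD _ K))
    [DCoh.HasLpull (pullback.fst a b)] [DCoh.HasLTensorCx K] [DCoh.HasRpush (pullback.snd a b)]
    [DCoh.HasRSheafHom K]
    (hG : Dual3.IsGorensteinMor b)
    [DCoh.HasRpush b] (hRb : DCoh.RpushPreservesQCoh b) [DCoh.HasShriek b hRb]
    (OS : DCoh.DQCoh S) (hOS : OS.obj ≅ DCoh.inD S (Coh.structureModule S))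
    [DCoh.HasLpull (pullback.snd a b)]
    (W : CochainComplex (pullback a b).Modules ℤ) [DCoh.HasLTensorCx W]
    (hW : Nonempty (DCoh.toD _ W ≅ (DCoh.Lpull (pullback.snd a b)).obj (DCoh.dualizingCx b hRb OS)))
    [DCoh.HasLpull (pullbackSymmetry b a).hom]
    (K'' : CochainComplex (pullback b a).Modules ℤ)
    (hK'' : Nonempty (DCoh.toD _ K'' ≅ (DCoh.Lpull (pullbackSymmetry b a).hom).obj
      ((DCoh.LTensorCx W).obj ((DCoh.RSheafHom K).obj (DCoh.inD _ (Coh.structureModule (pullback a b)))))))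
    [DCoh.HasLpull (pullback.fst b a)] [DCoh.HasLTensorCx K''] [DCoh.HasRpush (pullback.snd b a)]
    (h : ∀ M : DCoh.D X, SGA6.perfP X M → SGA6.perfP Y ((FMK.phi a b K).obj M))
    (h'' : ∀ N : DCoh.D Y, SGA6.perfP Y N → SGA6.perfP X ((FMK.phi b a K'').obj N)) :
    DCoh.IsPerfect (DCoh.toD _ K'') ∧
      Nonempty (FMK.phiOn b a K'' (SGA6.perfP Y) (SGA6.perfP X) h'' ⊣ FMK.phiOn a b K (SGA6.perfP X) (SGA6.perfP Y) h) := by
  obtain ⟨hWp, hK''p⟩ := isPerfect_kernel a b b hG (pullback.snd a b) hRb OS hOS K hK W hW K'' hK''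
  refine ⟨hK''p, ?_⟩
  let q' := pullback.snd b a
  let σ := (pullbackSymmetry b a).hom
  haveI : IsLocallyNoetherian X := LocallyOfFiniteType.isLocallyNoetherian a
  haveI : IsLocallyNoetherian Y := LocallyOfFiniteType.isLocallyNoetherian b
  haveI : CompactSpace X := QuasiCompact.compactSpace_of_compactSpace a
  haveI : CompactSpace Y := QuasiCompact.compactSpace_of_compactSpace b
  haveI : IsNoetherian X := { }
  haveI : IsNoetherian Y := { }
  haveI : LocallyOfFinitePresentation b := LocallyOfFinitePresentation.iff_locallyOfFiniteType.2 inferInstance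
  haveI : CompactSpace ↥(pullback a b) := QuasiCompact.compactSpace_of_compactSpace (pullback.snd a b)
  haveI : QuasiSeparatedSpace ↥(pullback a b) := quasiSeparatedSpace_of_quasiSeparated (pullback.snd a b)
  haveI : CompactSpace ↥(pullback b a) := QuasiCompact.compactSpace_of_compactSpace q'
  haveI : QuasiSeparatedSpace ↥(pullback b a) := quasiSeparatedSpace_of_quasiSeparated q'
  let OX : DCoh.DQCoh X := ⟨DCoh.inD X (Coh.structureModule X), RelEquivBC.isQCohD_inD_structure X⟩
  obtain ⟨eW⟩ := hW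
  have hWe := endTrivial_pull a b hRb OS hOS W eW
  -- the second projection of the symmetric product
  have hq' : DCoh.RpushPreservesQCoh q' := fun M hM => DQCoh.isQCohD_Rpush q' M hM
  haveI : DCoh.HasShriek q' hq' := AdjGeom.isLeftAdjoint_RpushQ q' hq'
  obtain ⟨bq⟩ := KernelAdj17.nonempty_dualizing_baseChange b a q' (pullback.fst b a)
    (IsPullback.of_hasPullback b a) hRb hq' _ _ (DCoh.shriekAdj b hRb) (DCoh.shriekAdj q' hq') OS hOS OX (Iso.refl _)
  haveI := hasLpull (σ ≫ pullback.snd a b)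
  obtain ⟨c₁⟩ := FMAdj.nonempty_Lpull_congr (f := pullback.fst b a) (g := σ ≫ pullback.snd a b)
    (pullbackSymmetry_hom_comp_snd b a).symm
  obtain ⟨c₂⟩ := nonempty_LpullComp σ (pullback.snd a b)
  let bc : DCoh.dualizingCx q' hq' OX ≅ (DCoh.Lpull σ).obj (DCoh.toD _ W) :=
    bq.symm ≪≫ (c₁ ≪≫ c₂.symm).app _ ≪≫ (DCoh.Lpull σ).mapIso eW.symm
  have hKq : DCoh.IsQCohD (DCoh.toD _ K) := PerfLift.isQCohD_perfect hK
  have g : ∀ M : DCoh.D X, DCoh.IsQCohD M → DCoh.IsQCohD ((FMK.phi a b K).obj M) := fun M hM =>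
    DQCoh.isQCohD_Rpush (pullback.snd a b) _
      (DQCoh.isQCohD_LTensorCx K hKq _ (DQCoh.isQCohD_Lpull (pullback.fst a b) _ hM))
  have g'' : ∀ N : DCoh.D Y, DCoh.IsQCohD N → DCoh.IsQCohD ((FMK.phi b a K'').obj N) := fun N hN =>
    DQCoh.isQCohD_Rpush (pullback.snd b a) _ (DQCoh.isQCohD_LTensorCx K'' (PerfLift.isQCohD_perfect hK''p) _
      (DQCoh.isQCohD_Lpull (pullback.fst b a) _ hN))
  obtain ⟨A⟩ := KernelAdj17.nonempty_adj_left_qc a b K hK W hWp hWe hq' OX (Iso.refl _) bc K'' hK'' g g''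
  exact KernelAdj17.nonempty_restrict_perf b a K'' K g'' g A h'' h

end Groth.Agent.DCat.KernelAdjGor17
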