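import Groth.Agent.DCat.RHomEvalDual
import Groth.Agent.DCat.PerfTensor

/-!
# Twisted duals of perfect kernels

For a perfect `K` and an object `W` with `RHom(W, W) = O`: `W ⊗ K^∨ = RHom(K, W)` and `RHom(W ⊗ K^∨, W) = K`.
-/

set_option autoImplicit false
set_option backward.isDefEq.respectTransparency false
set_option backward.defeqAttrib.useBackward true
set_option linter.style.haveILetI false

universe u

open CategoryTheory CategoryTheory.Limits AlgebraicGeometry HomologicalComplex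
open Groth.Agent.ModStalk

attribute [local instance] HasDerivedCategory.standard
attribute [-instance] Int.instConditionallyCompleteLinearOrder

namespace Groth.Agent.DCat.KernelDual17

variable {X : Scheme.{u}}

/-- `RHom(E, E) = O`, for K-flat representatives. -/
def EndTrivial (M : DCoh.D X) : Prop :=
  ∀ (E : CochainComplex X.Modules ℤ), IsKFlatFor (shT X) E → (DerivedCategory.Q.obj E ≅ M) →
    Nonempty ((RHomNat.RH E).obj (DerivedCategory.Q.obj E) ≅ RHomBidual.one X)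

theorem endTrivial_of_iso {M N : DCoh.D X} (e : M ≅ N) (h : EndTrivial M) : EndTrivial N :=
  fun E hE i => h E hE (i ≪≫ e.symm)

/-- Swapping two factors. -/
theorem nonempty_swap {A B : CochainComplex X.Modules ℤ} (hA : IsKFlatFor (shT X) A) (hB : IsKFlatFor (shT X) B)
    [DCoh.HasLTensorCx A] [DCoh.HasLTensorCx B] :
    Nonempty ((DCoh.LTensorCx A).obj (DerivedCategory.Q.obj B) ≅ (DCoh.LTensorCx B).obj (DerivedCategory.Q.obj A)) :=
  ⟨LTensorSheaf.ltensorCxIso' hA B ≪≫ DerivedCategory.Q.mapIso (TotSymm.symmIso (shT X) TotSymm.braid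
    (fun f b => TotSymm.braid_nat₁ f b) (fun a _ _ g => TotSymm.braid_nat₂ a g) B A) ≪≫
    (LTensorSheaf.ltensorCxIso' hB A).symm⟩

/-- `K^∨ ⊗ W = RHom(K, W)`. -/
theorem nonempty_twist (K : CochainComplex X.Modules ℤ) (hK : DCoh.IsPerfect (DCoh.toD _ K))
    [DCoh.HasLTensorCx K] [DCoh.HasRSheafHom K] (W : CochainComplex X.Modules ℤ) [DCoh.HasLTensorCx W] :
    Nonempty ((DCoh.LTensorCx W).obj ((DCoh.RSheafHom K).obj (DCoh.inD X (Coh.structureModule X))) ≅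
      (DCoh.RSheafHom K).obj (DCoh.toD X W)) := by
  obtain ⟨K₀, hK₀, ⟨eK₀⟩⟩ := PullPerf.exists_kflat_rep (DCoh.toD _ K)
  haveI := LTensorSheaf.hasLTensorCx K₀
  haveI := RHomExist.hasRSheafHom K₀
  obtain ⟨cK⟩ := TensorCongr.nonempty_congr_rhom (E := K) (E' := K₀) eK₀.symm
  obtain ⟨W₀, hW₀, ⟨eW₀⟩⟩ := PullPerf.exists_kflat_rep (DCoh.toD _ W)
  haveI := LTensorSheaf.hasLTensorCx W₀
  obtain ⟨cW⟩ := TensorCongr.nonempty_congr (E := W) (E' := W₀) eW₀.symm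
  obtain ⟨D, hD, ⟨eD⟩⟩ := PullPerf.exists_kflat_rep (RHomBidual.dual K₀)
  haveI := LTensorSheaf.hasLTensorCx D
  obtain ⟨t⟩ := RHomDual.nonempty_tensor_dual K₀ hK₀ (PCTriangle.perfect_iso eK₀.symm hK) D hD eD (DCoh.toD _ W)
  obtain ⟨s⟩ := nonempty_swap hW₀ hD
  exact ⟨cW.app _ ≪≫ (DCoh.LTensorCx W₀).mapIso (cK.app _ ≪≫ eD.symm) ≪≫ s ≪≫
    (DCoh.LTensorCx D).mapIso eW₀ ≪≫ t ≪≫ (cK.app _).symm⟩

/-- The twisted dual is perfect. -/
theorem isPerfect_twist (K : CochainComplex X.Modules ℤ) (hK : DCoh.IsPerfect (DCoh.toD _ K))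
    [DCoh.HasLTensorCx K] [DCoh.HasRSheafHom K] (W : CochainComplex X.Modules ℤ) [DCoh.HasLTensorCx W]
    (hW : DCoh.IsPerfect (DCoh.toD X W)) :
    DCoh.IsPerfect ((DCoh.LTensorCx W).obj ((DCoh.RSheafHom K).obj (DCoh.inD X (Coh.structureModule X)))) := by
  obtain ⟨W₀, hW₀, ⟨eW₀⟩⟩ := PullPerf.exists_kflat_rep (DCoh.toD _ W)
  haveI := LTensorSheaf.hasLTensorCx W₀
  obtain ⟨cW⟩ := TensorCongr.nonempty_congr (E := W) (E' := W₀) eW₀.symm
  exact PCTriangle.perfect_iso (cW.app _).symm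
    (PerfTensor.isPerfect_LTensor hW₀ (PCTriangle.perfect_iso eW₀.symm hW) _ (RHomDual.isPerfect_dual K hK))

/-- `RHom(W ⊗ K^∨, W) = K`. -/
theorem nonempty_RH_twist (K : CochainComplex X.Modules ℤ) (hK : DCoh.IsPerfect (DCoh.toD _ K))
    [DCoh.HasLTensorCx K] [DCoh.HasRSheafHom K] (W : CochainComplex X.Modules ℤ) [DCoh.HasLTensorCx W]
    (hW : EndTrivial (DCoh.toD X W)) (T : CochainComplex X.Modules ℤ) [DCoh.HasLTensorCx T] [DCoh.HasRSheafHom T]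
    (eT : DCoh.toD X T ≅ (DCoh.LTensorCx W).obj ((DCoh.RSheafHom K).obj (DCoh.inD X (Coh.structureModule X)))) :
    Nonempty ((DCoh.RSheafHom T).obj (DCoh.toD X W) ≅ DCoh.toD X K) := by
  obtain ⟨K₀, hK₀, ⟨eK₀⟩⟩ := PullPerf.exists_kflat_rep (DCoh.toD _ K)
  haveI := LTensorSheaf.hasLTensorCx K₀
  haveI := RHomExist.hasRSheafHom K₀
  have hK₀p : DCoh.IsPerfect (DerivedCategory.Q.obj K₀) := PCTriangle.perfect_iso eK₀.symm hK
  obtain ⟨cK⟩ := TensorCongr.nonempty_congr_rhom (E := K) (E' := K₀) eK₀.symm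
  obtain ⟨W₀, hW₀, ⟨eW₀⟩⟩ := PullPerf.exists_kflat_rep (DCoh.toD _ W)
  haveI := LTensorSheaf.hasLTensorCx W₀
  obtain ⟨cW⟩ := TensorCongr.nonempty_congr (E := W) (E' := W₀) eW₀.symm
  obtain ⟨D, hD, ⟨eD⟩⟩ := PullPerf.exists_kflat_rep (RHomBidual.dual K₀)
  haveI := LTensorSheaf.hasLTensorCx D
  have hT₀ : IsKFlatFor (shT X) (tot (shT X) D W₀) := LTensorSheaf.isKFlatFor_tot hD hW₀
  haveI := LTensorSheaf.hasLTensorCx (tot (shT X) D W₀)
  haveI := RHomExist.hasRSheafHom (tot (shT X) D W₀)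
  obtain ⟨cT⟩ := TensorCongr.nonempty_congr_rhom (E := T) (E' := tot (shT X) D W₀)
    (eT ≪≫ cW.app _ ≪≫ (DCoh.LTensorCx W₀).mapIso (cK.app _ ≪≫ eD.symm) ≪≫ LTensorSheaf.ltensorCxIso' hW₀ D)
  obtain ⟨c₂⟩ := RHomEvalDual.nonempty_RH_tot hD hW₀
  obtain ⟨u⟩ := hW W₀ hW₀ eW₀
  obtain ⟨b⟩ := RHomBidual.nonempty_bidual hK₀ hK₀p hD eD
  exact ⟨(DCoh.RSheafHom T).mapIso eW₀.symm ≪≫ cT.app _ ≪≫ (c₂.app _).symm ≪≫
    (RHomNat.RH D).mapIso u ≪≫ b.symm ≪≫ eK₀⟩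

end Groth.Agent.DCat.KernelDual17
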