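import Groth.Prelude.Def_DRing2
import Mathlib.Algebra.Homology.DerivedCategory.KProjective
import Mathlib.Algebra.Homology.HomotopyCategory.Pretriangulated
import Mathlib.Algebra.Category.ModuleCat.Projective
import Mathlib.Algebra.Category.ModuleCat.Biproducts
import Mathlib.Algebra.Category.ModuleCat.ChangeOfRings
import Mathlib.RingTheory.Localization.Free
import Mathlib.RingTheory.LocalRing.Module
import Mathlib.RingTheory.TensorProduct.Free
import Mathlib.RingTheory.Finiteness.Projective
import Mathlib.RingTheory.Finiteness.Cardinality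
import Mathlib.LinearAlgebra.Dimension.Constructions
import Mathlib.Data.Int.Interval
import Mathlib.RingTheory.Finiteness.Prod
import Mathlib.CategoryTheory.Preadditive.AdditiveFunctor
import Mathlib.RingTheory.TensorProduct.Finite

/-! Isomorphic bounded complexes of finite projectives differ, locally, by trivial complexes. -/

set_option autoImplicit false
set_option backward.isDefEq.respectTransparency false
set_option backward.defeqAttrib.useBackward true
set_option linter.style.haveILetI false

universe u

open CategoryTheory CategoryTheory.Limits HomologicalComplex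
open scoped TensorProduct

attribute [local instance] HasDerivedCategory.standard

namespace Groth.Agent.DCat.LocalTrivial

variable {R : Type u} [CommRing R]

/-- Contractible, bounded, finite projective. -/
def Triv (C : DRing.Cx R) (a b : ℤ) : Prop :=
  DRing.VanishesOutside C a b ∧ DRing.TermwiseFiniteProjective C ∧ Nonempty (Homotopy (𝟙 C) 0)

lemma finiteProjective_retract {X Y : ModuleCat.{u} R} (i : X ⟶ Y) (r : Y ⟶ X) (h : i ≫ r = 𝟙 X)
    (hY : Module.Finite R Y ∧ Module.Projective R Y) : Module.Finite R X ∧ Module.Projective R X :=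
  haveI := hY.1
  haveI := hY.2
  have hs : Function.Surjective r.hom := fun x => ⟨i.hom x, ConcreteCategory.congr_hom h x⟩
  ⟨Module.Finite.of_surjective r.hom hs, Module.Projective.of_split i.hom r.hom (congrArg ModuleCat.Hom.hom h)⟩

lemma finiteProjective_biprod {X Y : ModuleCat.{u} R} (hX : Module.Finite R X ∧ Module.Projective R X)
    (hY : Module.Finite R Y ∧ Module.Projective R Y) :
    Module.Finite R (X ⊞ Y : ModuleCat.{u} R) ∧ Module.Projective R (X ⊞ Y : ModuleCat.{u} R) :=
  haveI := hX.1
  haveI := hX.2
  haveI := hY.1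
  haveI := hY.2
  have e : (X × Y) ≃ₗ[R] (X ⊞ Y : ModuleCat.{u} R) := (ModuleCat.biprodIsoProd X Y).toLinearEquiv.symm
  ⟨Module.Finite.equiv e, Module.Projective.of_equiv e⟩

lemma isKProjective_of_bounded (M : DRing.Cx R) (a b : ℤ) (hM : DRing.VanishesOutside M a b)
    (hMp : DRing.TermwiseFiniteProjective M) : CochainComplex.IsKProjective M := by
  haveI : CochainComplex.IsStrictlyLE M b :=
    (CochainComplex.isStrictlyLE_iff _ _).2 fun i hi => hM i (Or.inr hi)
  haveI : ∀ n, Projective (M.X n) := fun n =>
    haveI := (hMp n).2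
    (IsProjective.iff_projective (R := R) (M.X n)).1 inferInstance
  exact CochainComplex.isKProjective_of_projective M b

/-- Adding contractible complexes makes quasi-isomorphic complexes of projectives isomorphic. -/
theorem exists_iso_biprod (M N : DRing.Cx R) (a b : ℤ) (hM : DRing.VanishesOutside M a b)
    (hN : DRing.VanishesOutside N a b) (hMp : DRing.TermwiseFiniteProjective M)
    (hNp : DRing.TermwiseFiniteProjective N) (e : DRing.toD M ≅ DRing.toD N) :
    ∃ P Q : DRing.Cx R, Triv P (a - 1) b ∧ Triv Q (a - 1) b ∧ Nonempty (M ⊞ P ≅ N ⊞ Q) := by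
  haveI := isKProjective_of_bounded M a b hM hMp
  haveI := isKProjective_of_bounded N a b hN hNp
  let H := HomotopyCategory.quotient (ModuleCat.{u} R) (ComplexShape.up ℤ)
  let q := DerivedCategory.quotientCompQhIso (ModuleCat.{u} R)
  obtain ⟨g, hg⟩ := (CochainComplex.IsKProjective.Qh_map_bijective M (H.obj N)).surjective
    (q.hom.app M ≫ e.hom ≫ q.inv.app N)
  obtain ⟨g', hg'⟩ := (CochainComplex.IsKProjective.Qh_map_bijective N (H.obj M)).surjective
    (q.hom.app N ≫ e.inv ≫ q.inv.app M)
  have h1 : g ≫ g' = 𝟙 _ := (CochainComplex.IsKProjective.Qh_map_bijective M (H.obj M)).injective (by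
    simp [hg, hg'])
  have h2 : g' ≫ g = 𝟙 _ := (CochainComplex.IsKProjective.Qh_map_bijective N (H.obj N)).injective (by
    simp [hg, hg'])
  obtain ⟨φ, rfl⟩ := H.map_surjective g
  obtain ⟨ψ, rfl⟩ := H.map_surjective g'
  let K := CochainComplex.mappingCone (𝟙 M)
  let ι : M ⟶ K := CochainComplex.mappingCone.inr (𝟙 M)
  let hh : Homotopy (𝟙 M - φ ≫ ψ) 0 :=
    (HomotopyCategory.homotopyOfEq _ _ (by simp only [Functor.map_sub, Functor.map_zero, Functor.map_comp, Functor.map_id]; exact sub_eq_zero.2 h1.symm))
  let ρ : K ⟶ M := CochainComplex.mappingCone.desc (𝟙 M)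
    (CochainComplex.HomComplex.Cochain.ofHomotopy hh) (𝟙 M - φ ≫ ψ) (by
      rw [CochainComplex.HomComplex.δ_ofHomotopy, Category.id_comp, CochainComplex.HomComplex.Cochain.ofHom_zero, sub_zero])
  have hρ : ι ≫ ρ = 𝟙 M - φ ≫ ψ := CochainComplex.mappingCone.inr_desc _ _ _ _
  let X := N ⊞ K
  let i : M ⟶ X := biprod.lift φ ι
  let r : X ⟶ M := biprod.desc ψ ρ
  have hir : i ≫ r = 𝟙 M := by simp [i, r, biprod.lift_desc, hρ]
  let S : ShortComplex (DRing.Cx R) := ShortComplex.mk (kernel.ι r) r (kernel.condition r)
  have σ : S.Splitting := ShortComplex.Splitting.ofExactOfSection S (ShortComplex.exact_kernel r) i hir inferInstance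
  let P := kernel r
  have hXv : DRing.VanishesOutside X (a - 1) b := fun n hn => by
    refine IsZero.of_iso ?_ ((HomologicalComplex.eval _ _ n).mapBiprod N K)
    refine biprod_isZero_iff _ _ |>.2 ⟨hN n (by omega), ?_⟩
    exact IsZero.of_iso (biprod_isZero_iff _ _ |>.2 ⟨hM (n + 1) (by omega), hM n (by omega)⟩)
      (homotopyCofiber.XIsoBiprod (𝟙 M) n (n + 1) rfl)
  have hKp : ∀ n, Module.Finite R (K.X n) ∧ Module.Projective R (K.X n) := fun n =>
    finiteProjective_retract (homotopyCofiber.XIsoBiprod (𝟙 M) n (n + 1) rfl).hom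
      (homotopyCofiber.XIsoBiprod (𝟙 M) n (n + 1) rfl).inv (Iso.hom_inv_id _)
      (finiteProjective_biprod (hMp (n + 1)) (hMp n))
  have hXp : ∀ n, Module.Finite R (X.X n) ∧ Module.Projective R (X.X n) := fun n =>
    finiteProjective_retract ((HomologicalComplex.eval _ _ n).mapBiprod N K).hom
      ((HomologicalComplex.eval _ _ n).mapBiprod N K).inv (Iso.hom_inv_id _)
      (finiteProjective_biprod (hNp n) (hKp n))
  have hP0 : H.map (kernel.ι r) = 0 := by
    have hι0 : H.map (biprod.snd : X ⟶ K) = 0 :=
      (((HomotopyCategory.isZero_quotient_obj_iff K).2 ⟨CochainComplex.mappingCone.homotopyToZeroOfId M⟩)).eq_of_tgt _ _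
    have hri : H.map r ≫ H.map i = 𝟙 _ := by
      have t1 : H.map r = H.map (biprod.fst : X ⟶ N) ≫ H.map ψ := by
        rw [← Functor.map_comp, show r = (biprod.fst : X ⟶ N) ≫ ψ + biprod.snd ≫ ρ from biprod.desc_eq,
          Functor.map_add, H.map_comp biprod.snd, hι0, zero_comp, add_zero]
      have t2 : 𝟙 (H.obj X) = H.map (biprod.fst : X ⟶ N) ≫ H.map biprod.inl := by
        rw [← CategoryTheory.Functor.map_id, ← biprod.total, Functor.map_add, H.map_comp biprod.snd, hι0, zero_comp,
          add_zero, Functor.map_comp]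
      have t3 : H.map i = H.map φ ≫ H.map biprod.inl := by
        rw [show i = φ ≫ biprod.inl + ι ≫ biprod.inr from biprod.lift_eq, Functor.map_add, Functor.map_comp,
          H.map_comp ι, ((HomotopyCategory.isZero_quotient_obj_iff K).2
            ⟨CochainComplex.mappingCone.homotopyToZeroOfId M⟩).eq_of_tgt (H.map ι) 0, zero_comp, add_zero]
      rw [t1, t2, t3, Category.assoc, reassoc_of% h2]
    rw [← Category.comp_id (H.map (kernel.ι r)), ← hri, ← Category.assoc, ← Functor.map_comp, kernel.condition,
      Functor.map_zero, zero_comp]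
  have hPc : H.map (𝟙 P) = H.map (0 : P ⟶ P) := by
    rw [show 𝟙 P = kernel.ι r ≫ σ.r from σ.f_r.symm, Functor.map_comp, hP0, zero_comp, Functor.map_zero]
  refine ⟨P, K, ⟨fun n hn => ?_, fun n => ?_, ⟨HomotopyCategory.homotopyOfEq _ _ hPc⟩⟩,
    ⟨fun n hn => ?_, hKp, ⟨CochainComplex.mappingCone.homotopyToZeroOfId M⟩⟩,
    ⟨biprod.braiding M P ≪≫ σ.isoBinaryBiproduct.symm⟩⟩
  · refine IsZero.of_mono ((kernel.ι r).f n) ?_
    exact hXv n hn
  · exact finiteProjective_retract ((kernel.ι r).f n) (σ.r.f n)
      (by rw [← HomologicalComplex.comp_f]; exact congrArg (fun t : P ⟶ P => t.f n) σ.f_r) (hXp n)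
  · exact IsZero.of_iso (biprod_isZero_iff _ _ |>.2 ⟨hM (n + 1) (by omega), hM n (by omega)⟩)
      (homotopyCofiber.XIsoBiprod (𝟙 M) n (n + 1) rfl)

/-- Boundaries of a contractible complex of finite projectives are finite projective direct summands. -/
theorem exists_boundary (C : DRing.Cx R) (hC : DRing.TermwiseFiniteProjective C) (h : Homotopy (𝟙 C) 0) (i : ℤ) :
    ∃ (B : ModuleCat.{u} R) (π : C.X i ⟶ B) (ι : B ⟶ C.X (i + 1)) (π' : C.X (i + 1) ⟶ B),
      C.d i (i + 1) = π ≫ ι ∧ Function.Surjective π.hom ∧ ι ≫ π' = 𝟙 B ∧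
        Module.Finite R B ∧ Module.Projective R B := by
  have hd : C.d i (i + 1) ≫ h.hom (i + 1) i ≫ C.d i (i + 1) = C.d i (i + 1) := by
    have e := h.comm i
    rw [dNext_eq _ (show (ComplexShape.up ℤ).Rel i (i + 1) by simp),
      prevD_eq _ (show (ComplexShape.up ℤ).Rel (i - 1) i by simp), HomologicalComplex.zero_f, add_zero,
      HomologicalComplex.id_f] at e
    have := congrArg (· ≫ C.d i (i + 1)) e
    simpa [Preadditive.add_comp] using this.symm
  let B := LinearMap.range (C.d i (i + 1)).hom
  let π : C.X i ⟶ ModuleCat.of R B := ModuleCat.ofHom (C.d i (i + 1)).hom.rangeRestrict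
  let ι : ModuleCat.of R B ⟶ C.X (i + 1) := ModuleCat.ofHom B.subtype
  have hπ : Function.Surjective π.hom := LinearMap.surjective_rangeRestrict _
  have hs : ι ≫ h.hom (i + 1) i ≫ π = 𝟙 _ := by
    refine ModuleCat.hom_ext (LinearMap.ext fun v => ?_)
    obtain ⟨x, hx⟩ := v.2
    refine Subtype.ext ?_
    show (C.d i (i + 1)).hom ((h.hom (i + 1) i).hom v.1) = v.1
    rw [← hx]
    exact ConcreteCategory.congr_hom hd x
  exact ⟨ModuleCat.of R B, π, ι, h.hom (i + 1) i ≫ π, rfl, hπ, hs, finiteProjective_retract ι _ hs (hC (i + 1))⟩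

lemma free_refine (M : Type u) [AddCommGroup M] [Module R M] (f g : R)
    (h : Module.Free (Localization.Away f) (Localization.Away f ⊗[R] M)) :
    Module.Free (Localization.Away (f * g)) (Localization.Away (f * g) ⊗[R] M) := by
  letI := (IsLocalization.Away.awayToAwayRight (S := Localization.Away f) (P := Localization.Away (f * g)) f g).toAlgebra
  haveI : IsScalarTower R (Localization.Away f) (Localization.Away (f * g)) :=
    IsScalarTower.of_algebraMap_eq fun a => (IsLocalization.Away.awayToAwayRight_eq f g a).symm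
  exact Module.Free.of_equiv
    (TensorProduct.AlgebraTensorModule.cancelBaseChange R (Localization.Away f) (Localization.Away (f * g))
      (Localization.Away (f * g)) M)

lemma exists_free (p : Ideal R) [p.IsPrime] (M : Type u) [AddCommGroup M] [Module R M] [Module.Finite R M]
    [Module.Projective R M] : ∃ f : R, f ∉ p ∧ Module.Free (Localization.Away f) (Localization.Away f ⊗[R] M) := by
  haveI := Module.finitePresentation_of_projective R M
  haveI : Module.Free (Localization.AtPrime p) (LocalizedModule p.primeCompl M) := Module.free_of_flat_of_isLocalRing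
  obtain ⟨r, hr, hf, -⟩ := Module.FinitePresentation.exists_free_localizedModule_powers p.primeCompl
    (LocalizedModule.mkLinearMap p.primeCompl M) (Localization.AtPrime p)
  exact ⟨r, hr, Module.Free.of_equiv (LocalizedModule.equivTensorProduct (Submonoid.powers r) M)⟩

lemma exists_free_finset (p : Ideal R) [p.IsPrime] {σ : Type} (M : σ → ModuleCat.{u} R)
    [∀ k, Module.Finite R (M k)] [∀ k, Module.Projective R (M k)] (s : Finset σ) :
    ∃ f : R, f ∉ p ∧ ∀ k ∈ s, Module.Free (Localization.Away f) (Localization.Away f ⊗[R] (M k)) := by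
  classical
  induction s using Finset.induction with
  | empty => exact ⟨1, p.ne_top_iff_one.1 (Ideal.IsPrime.ne_top ‹_›), by simp⟩
  | insert k s _ ih =>
    obtain ⟨f, hf, hs⟩ := ih
    obtain ⟨g, hg, hk⟩ := exists_free p (M k)
    refine ⟨f * g, fun h => (Ideal.IsPrime.mem_or_mem ‹_› h).elim hf hg, fun j hj => ?_⟩
    rcases Finset.mem_insert.1 hj with rfl | hj
    · rw [mul_comm]
      exact free_refine _ g f hk
    · exact free_refine _ f g (hs j hj)

/-- Extension of scalars to `R_f`. -/
noncomputable abbrev G (f : R) : ModuleCat.{u} R ⥤ ModuleCat.{u} (Localization.Away f) :=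
  ModuleCat.extendScalars.{u, u, u} (algebraMap R (Localization.Away f))

instance (f : R) : (G f).Additive :=
  haveI : PreservesBinaryBiproducts (G f) := preservesBinaryBiproducts_of_preservesBinaryCoproducts _
  Functor.additive_of_preservesBinaryBiproducts _

/-- Extension of scalars as a tensor product. -/
noncomputable def eG (f : R) (M : ModuleCat.{u} R) :
    ((G f).obj M : Type u) ≃ₗ[Localization.Away f] Localization.Away f ⊗[R] M :=
  let eA : ↑((ModuleCat.restrictScalars (algebraMap R (Localization.Away f))).obj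
      (ModuleCat.of (Localization.Away f) (Localization.Away f))) ≃ₗ[R] Localization.Away f :=
    { AddEquiv.refl (Localization.Away f) with
      map_smul' := fun r a => (Algebra.smul_def r (show Localization.Away f from a)).symm }
  AddEquiv.toLinearEquiv (TensorProduct.congr eA (LinearEquiv.refl R M)).toAddEquiv fun a x => by
    induction x using TensorProduct.induction_on with
    | zero => rw [smul_zero, map_zero, smul_zero]
    | add u v hu hv => rw [smul_add, map_add, hu, hv, map_add, smul_add]
    | tmul b m => rfl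

lemma free_G (f : R) (M : ModuleCat.{u} R) (h : Module.Free (Localization.Away f) (Localization.Away f ⊗[R] M)) :
    Module.Free (Localization.Away f) ((G f).obj M) :=
  Module.Free.of_equiv (eG f M).symm

lemma finite_G (f : R) (M : ModuleCat.{u} R) [Module.Finite R M] :
    Module.Finite (Localization.Away f) ((G f).obj M) :=
  Module.Finite.equiv (eG f M).symm

/-- The trivial complexes of the statement. -/
abbrev IsTrivialFree {S : Type u} [CommRing S] (P : DRing.Cx S) : Prop :=
  (∃ a' b' : ℤ, DRing.VanishesOutside P a' b') ∧ DRing.TermwiseFiniteFree P ∧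
    (∀ i : ℤ, Module.Free S (LinearMap.range (P.d i (i + 1)).hom)) ∧ Nonempty (Homotopy (𝟙 P) 0)

/-- Near a prime a trivial complex has free terms and boundaries. -/
theorem exists_trivialFree (p : Ideal R) [p.IsPrime] {a b : ℤ} {P Q : DRing.Cx R} (hP : Triv P a b) (hQ : Triv Q a b) :
    ∃ f : R, f ∉ p ∧ IsTrivialFree (((G f).mapHomologicalComplex (ComplexShape.up ℤ)).obj P) ∧
      IsTrivialFree (((G f).mapHomologicalComplex (ComplexShape.up ℤ)).obj Q) := by
  classical
  let C : Bool → DRing.Cx R := fun t => if t then P else Q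
  have hC : ∀ t, Triv (C t) a b := fun t => by cases t <;> assumption
  let h := fun t => (hC t).2.2
  choose B π ι π' hd hπ hι hBf hBp using fun x : Bool × ℤ => exists_boundary (C x.1) (hC x.1).2.1 (h x.1).some x.2
  let W : Bool × ℤ × Bool → ModuleCat.{u} R := fun x => if x.2.2 then B (x.1, x.2.1) else (C x.1).X x.2.1
  haveI : ∀ x, Module.Finite R (W x) := fun ⟨t, i, k⟩ => by cases k; exacts [((hC t).2.1 i).1, hBf _]
  haveI : ∀ x, Module.Projective R (W x) := fun ⟨t, i, k⟩ => by cases k; exacts [((hC t).2.1 i).2, hBp _]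
  obtain ⟨f, hf, hfree⟩ := exists_free_finset p W (Finset.univ ×ˢ (Finset.Icc a b ×ˢ Finset.univ))
  have key : ∀ t, IsTrivialFree (((G f).mapHomologicalComplex (ComplexShape.up ℤ)).obj (C t)) := fun t => by
    have hz : ∀ i, i < a ∨ b < i → IsZero ((G f).obj ((C t).X i)) := fun i hi => (G f).map_isZero ((hC t).1 i hi)
    refine ⟨⟨a, b, hz⟩, fun i => ⟨?_, ?_⟩, fun i => ?_, ⟨?_⟩⟩
    · haveI := ((hC t).2.1 i).1
      exact finite_G f ((C t).X i)
    · by_cases hi : i ∈ Finset.Icc a b
      · exact free_G f _ (hfree (t, i, false) (by simp [hi]))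
      · haveI : Subsingleton (((((G f).mapHomologicalComplex (ComplexShape.up ℤ)).obj (C t)).X i : ModuleCat.{u} (Localization.Away f)) : Type u) :=
          ModuleCat.subsingleton_of_isZero (hz i (by rw [Finset.mem_Icc] at hi; omega))
        exact Module.Free.of_subsingleton _ _
    · show Module.Free _ (LinearMap.range ((G f).map ((C t).d i (i + 1))).hom)
      by_cases hi : i ∈ Finset.Icc a b
      · haveI : Epi ((G f).map (π (t, i))) := by
          haveI := (ModuleCat.epi_iff_surjective (π (t, i))).2 (hπ (t, i))
          infer_instance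
        have hinj : Function.Injective ((G f).map (ι (t, i))).hom := Function.LeftInverse.injective
          (g := ((G f).map (π' (t, i))).hom) fun v => by
            have := congrArg (G f).map (hι (t, i))
            rw [Functor.map_comp, CategoryTheory.Functor.map_id] at this
            exact ConcreteCategory.congr_hom this v
        have hr : LinearMap.range ((G f).map ((C t).d i (i + 1))).hom = LinearMap.range ((G f).map (ι (t, i))).hom := by
          rw [show (C t).d i (i + 1) = π (t, i) ≫ ι (t, i) from hd (t, i), Functor.map_comp, ModuleCat.hom_comp,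
            LinearMap.range_comp_of_range_eq_top _ (LinearMap.range_eq_top.2 ((ModuleCat.epi_iff_surjective _).1 ‹_›))]
        haveI : Module.Free (Localization.Away f) ((G f).obj (B (t, i))) :=
          free_G f _ (hfree (t, i, true) (by simp [hi]))
        exact Module.Free.of_equiv ((LinearEquiv.ofInjective _ hinj).trans (LinearEquiv.ofEq _ _ hr.symm))
      · haveI : Subsingleton (LinearMap.range ((G f).map ((C t).d i (i + 1))).hom) := by
          rw [((hC t).1 i (by rw [Finset.mem_Icc] at hi; omega)).eq_of_src ((C t).d i (i + 1)) 0,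
            Functor.map_zero, ModuleCat.hom_zero, LinearMap.range_zero]
          infer_instance
        exact Module.Free.of_subsingleton _ _
    · exact ((G f).mapHomotopy (h t).some).trans (Homotopy.ofEq (Functor.map_zero _ _ _)) |> fun H =>
        (Homotopy.ofEq (CategoryTheory.Functor.map_id _ _).symm).trans H
  exact ⟨f, hf, key true, key false⟩

end Groth.Agent.DCat.LocalTrivial
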