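import Mathlib.CategoryTheory.CofilteredSystem
import Mathlib.Algebra.Category.Grp.Limits
import Mathlib.Algebra.Category.Grp.Abelian
import Mathlib.Order.Directed
import Mathlib.Data.Set.Countable
import Mathlib.CategoryTheory.Filtered.Basic

/-! Mittag-Leffler inverse systems of abelian groups over directed preorders:
exactness properties and lifting of compatible families. -/

set_option autoImplicit false
set_option backward.isDefEq.respectTransparency false

open CategoryTheory CategoryTheory.Limits Opposite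

universe u w

namespace Groth.Agent.DCat.MLSeq

variable {ι : Type u} [Preorder ι]

/-- the transition map on elements -/
abbrev tr (F : ιᵒᵖ ⥤ Type w) {i j : ι} (h : i ≤ j) (x : F.obj (op j)) : F.obj (op i) :=
  F.map (homOfLE h).op x

lemma tr_tr (F : ιᵒᵖ ⥤ Type w) {i j k : ι} (h : i ≤ j) (h' : j ≤ k) (x : F.obj (op k)) :
    tr F h (tr F h' x) = tr F (h.trans h') x := by
  show F.map _ (F.map _ x) = F.map _ x
  rw [← types_comp_apply (F.map (homOfLE h').op) (F.map (homOfLE h).op), ← F.map_comp]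
  rfl

lemma tr_refl (F : ιᵒᵖ ⥤ Type w) {i : ι} (h : i ≤ i) (x : F.obj (op i)) : tr F h x = x := by
  show F.map _ x = x
  rw [show (homOfLE h).op = 𝟙 (op i) from rfl, F.map_id]; rfl

/-- Mittag-Leffler, elementwise. -/
lemma ml_iff [IsDirected ι (· ≤ ·)] (F : ιᵒᵖ ⥤ Type w) :
    F.IsMittagLeffler ↔ ∀ i, ∃ j, ∃ hij : i ≤ j, ∀ k, ∀ hjk : j ≤ k, ∀ x : F.obj (op j),
      ∃ y : F.obj (op k), tr F (hij.trans hjk) y = tr F hij x := by
  constructor
  · intro h i
    obtain ⟨j, f, hf⟩ := h (op i)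
    refine ⟨j.unop, leOfHom f.unop, fun k hk x => ?_⟩
    exact hf (k := op k) (homOfLE ((leOfHom f.unop).trans hk)).op ⟨x, rfl⟩
  · intro h ⟨i⟩
    obtain ⟨j, hij, hj⟩ := h i
    refine ⟨op j, (homOfLE hij).op, ?_⟩
    rintro ⟨k⟩ g _ ⟨x, rfl⟩
    obtain ⟨l, hjl, hkl⟩ := exists_ge_ge j k
    obtain ⟨y, hy⟩ := hj l hjl x
    refine ⟨tr F hkl y, ?_⟩
    show tr F (leOfHom g.unop) (tr F hkl y) = _
    rw [tr_tr]
    exact hy

lemma mem_eventualRange_iff (F : ιᵒᵖ ⥤ Type w) {i : ι} (x : F.obj (op i)) :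
    x ∈ F.eventualRange (op i) ↔ ∀ k, ∀ h : i ≤ k, ∃ y, tr F h y = x := by
  rw [Functor.mem_eventualRange_iff]
  constructor
  · intro h k hk; exact h (homOfLE hk).op
  · intro h ⟨k⟩ g; exact h k (leOfHom g.unop)

/-- In a Mittag-Leffler system with countable cofinal index set every element of an eventual range
extends to a compatible family. -/
lemma exists_section_through [IsDirected ι (· ≤ ·)] (F : ιᵒᵖ ⥤ Type w) (hF : F.IsMittagLeffler)
    (hcof : ∃ s : Set ι, s.Countable ∧ ∀ i, ∃ j ∈ s, i ≤ j) {i₀ : ι} {x : F.obj (op i₀)}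
    (hx : x ∈ F.eventualRange (op i₀)) : ∃ σ : F.sections, σ.1 (op i₀) = x := by
  classical
  obtain ⟨s, hs, hs'⟩ := hcof
  obtain ⟨e, he⟩ := hs.exists_eq_range (by obtain ⟨j, hj, -⟩ := hs' i₀; exact ⟨j, hj⟩)
  subst he
  have hub : ∀ a b : ι, ∃ c, a ≤ c ∧ b ≤ c := fun a b => exists_ge_ge a b
  choose ub hub₁ hub₂ using hub
  let g : ℕ → ι := fun n => Nat.rec i₀ (fun m a => ub a (e m)) n
  have hg : ∀ n, g n ≤ g (n + 1) := fun n => hub₁ _ _
  have hge : ∀ n, e n ≤ g (n + 1) := fun n => hub₂ _ _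
  have hmono : Monotone g := monotone_nat_of_le_succ hg
  have step : ∀ (n : ℕ) (z : F.eventualRange (op (g n))),
      ∃ y : F.eventualRange (op (g (n + 1))), tr F (hg n) y.1 = z.1 := by
    intro n z
    obtain ⟨y, hy⟩ := F.surjective_toEventualRanges hF (homOfLE (hg n)).op z
    exact ⟨y, congrArg Subtype.val hy⟩
  choose nxt hnxt using step
  let a : ∀ n, F.eventualRange (op (g n)) := fun n => Nat.rec ⟨x, hx⟩ (fun m z => nxt m z) n
  have ha : ∀ m n, ∀ h : m ≤ n, tr F (hmono h) (a n).1 = (a m).1 := by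
    intro m n h
    induction h with
    | refl => exact tr_refl F _ _
    | @step n h ih =>
      have := hnxt n (a n)
      calc tr F (hmono (Nat.le_trans h n.le_succ)) (a (n + 1)).1
          = tr F (hmono h) (tr F (hg n) (nxt n (a n)).1) := (tr_tr F _ _ _).symm
        _ = tr F (hmono h) (a n).1 := by rw [this]
        _ = (a m).1 := ih
  have hn : ∀ i, ∃ n, i ≤ g n := fun i => by
    obtain ⟨_, ⟨n, rfl⟩, hn⟩ := hs' i
    exact ⟨n + 1, hn.trans (hge n)⟩
  choose N hN using hn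
  have hval : ∀ i n, ∀ h : i ≤ g n, tr F (hN i) (a (N i)).1 = tr F h (a n).1 := by
    intro i n h
    rw [← ha (N i) (max (N i) n) (le_max_left _ _), ← ha n (max (N i) n) (le_max_right _ _),
      tr_tr, tr_tr]
  refine ⟨⟨fun i => tr F (hN i.unop) (a (N i.unop)).1, ?_⟩, ?_⟩
  · rintro ⟨i⟩ ⟨j⟩ f
    show tr F (leOfHom f.unop) (tr F (hN i) _) = tr F (hN j) _
    rw [tr_tr]
    exact (hval j (N i) _).symm
  · show tr F (hN i₀) _ = x
    rw [hval i₀ 0 le_rfl]
    exact tr_refl F _ _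

lemma nonempty_sections [IsDirected ι (· ≤ ·)] [Nonempty ι] (F : ιᵒᵖ ⥤ Type w) (hF : F.IsMittagLeffler)
    (hcof : ∃ s : Set ι, s.Countable ∧ ∀ i, ∃ j ∈ s, i ≤ j) (hne : ∀ i, Nonempty (F.obj i)) :
    Nonempty F.sections := by
  let i₀ : ι := Classical.arbitrary ι
  haveI : IsCofilteredOrEmpty ιᵒᵖ := inferInstance
  obtain ⟨x, hx⟩ := (F.toEventualRanges_nonempty hF (op i₀)).some
  obtain ⟨σ, -⟩ := exists_section_through F hF hcof hx
  exact ⟨σ⟩

section Groups

variable {A B C : ιᵒᵖ ⥤ AddCommGrpCat.{w}} (u : A ⟶ B) (v : B ⟶ C)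

/-- transition map of a system of groups -/
abbrev trg (A : ιᵒᵖ ⥤ AddCommGrpCat.{w}) {i j : ι} (h : i ≤ j) (x : A.obj (op j)) : A.obj (op i) :=
  (A.map (homOfLE h).op).hom x

lemma trg_trg {i j k : ι} (h : i ≤ j) (h' : j ≤ k) (x : A.obj (op k)) :
    trg A h (trg A h' x) = trg A (h.trans h') x :=
  tr_tr (A ⋙ forget AddCommGrpCat) h h' x

lemma trg_nat {i j : ι} (h : i ≤ j) (x : A.obj (op j)) :
    trg B h ((u.app (op j)).hom x) = (u.app (op i)).hom (trg A h x) :=
  (NatTrans.naturality_apply u (homOfLE h).op x).symm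

lemma ml_iff_g [IsDirected ι (· ≤ ·)] (A : ιᵒᵖ ⥤ AddCommGrpCat.{w}) :
    (A ⋙ forget AddCommGrpCat).IsMittagLeffler ↔
      ∀ i, ∃ j, ∃ hij : i ≤ j, ∀ k, ∀ hjk : j ≤ k, ∀ x : A.obj (op j),
        ∃ y : A.obj (op k), trg A (hij.trans hjk) y = trg A hij x :=
  ml_iff (A ⋙ forget AddCommGrpCat)

/-- A termwise quotient of a Mittag-Leffler system is Mittag-Leffler. -/
lemma ml_of_surjective [IsDirected ι (· ≤ ·)] (hv : ∀ i, Function.Surjective (v.app i).hom)
    (hB : (B ⋙ forget AddCommGrpCat).IsMittagLeffler) :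
    (C ⋙ forget AddCommGrpCat).IsMittagLeffler := by
  rw [ml_iff_g] at hB ⊢
  intro i
  obtain ⟨j, hij, hj⟩ := hB i
  refine ⟨j, hij, fun k hjk c => ?_⟩
  obtain ⟨b, rfl⟩ := hv (op j) c
  obtain ⟨y, hy⟩ := hj k hjk b
  exact ⟨(v.app (op k)).hom y, by rw [trg_nat, trg_nat, hy]⟩

/-- An extension of Mittag-Leffler systems is Mittag-Leffler. -/
lemma ml_of_exact [IsDirected ι (· ≤ ·)] (hv : ∀ i, Function.Surjective (v.app i).hom)
    (hex : ∀ i, (v.app i).hom.ker = (u.app i).hom.range)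
    (hA : (A ⋙ forget AddCommGrpCat).IsMittagLeffler) (hC : (C ⋙ forget AddCommGrpCat).IsMittagLeffler) :
    (B ⋙ forget AddCommGrpCat).IsMittagLeffler := by
  rw [ml_iff_g] at hA hC ⊢
  intro i
  obtain ⟨j, hij, hj⟩ := hA i
  obtain ⟨k, hjk, hk⟩ := hC j
  refine ⟨k, hij.trans hjk, fun l hkl b => ?_⟩
  obtain ⟨c, hc⟩ := hk l hkl ((v.app (op k)).hom b)
  obtain ⟨bl, rfl⟩ := hv (op l) c
  rw [trg_nat, trg_nat] at hc
  have hker : trg B hjk b - trg B (hjk.trans hkl) bl ∈ (u.app (op j)).hom.range := by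
    rw [← hex]
    show (v.app (op j)).hom (_ - _) = 0
    rw [map_sub, hc, sub_self]
  obtain ⟨a, ha⟩ := hker
  obtain ⟨al, hal⟩ := hj l (hjk.trans hkl) a
  refine ⟨bl + (u.app (op l)).hom al, ?_⟩
  have : trg B hij (trg B hjk b) =
      trg B hij (trg B (hjk.trans hkl) bl) + trg B hij ((u.app (op j)).hom a) := by
    rw [ha]; simp only [trg, map_sub]; abel
  rw [← trg_trg (A := B) hij hjk b, this, trg_trg, trg_nat, ← hal, ← trg_nat]
  simp only [trg, map_add]

/-- Compatible families lift along a map whose kernels are the images of a Mittag-Leffler system. -/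
lemma exists_lift_sections [IsDirected ι (· ≤ ·)] [Nonempty ι]
    (hcof : ∃ s : Set ι, s.Countable ∧ ∀ i, ∃ j ∈ s, i ≤ j)
    (hex : ∀ i, (v.app i).hom.ker = (u.app i).hom.range)
    (hA : (A ⋙ forget AddCommGrpCat).IsMittagLeffler)
    (c : (C ⋙ forget AddCommGrpCat).sections)
    (hc : ∀ i, ∃ b, (v.app i).hom b = c.1 i) :
    ∃ b : (B ⋙ forget AddCommGrpCat).sections, ∀ i, (v.app i).hom (b.1 i) = c.1 i := by
  let T : ιᵒᵖ ⥤ Type w :=
    { obj := fun i => { b : B.obj i // (v.app i).hom b = c.1 i }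
      map := fun {i j} f => ↾fun b => ⟨(B.map f).hom b.1, by
        rw [show (v.app j).hom ((B.map f).hom b.1) = (C.map f).hom ((v.app i).hom b.1) from
          NatTrans.naturality_apply v f b.1, b.2]
        exact c.2 f⟩
      map_id := fun i => by
        ext b
        show (B.map (𝟙 i)).hom b.1 = b.1
        rw [B.map_id]
        rfl
      map_comp := fun f g => by
        ext b
        show (B.map (f ≫ g)).hom b.1 = (B.map g).hom ((B.map f).hom b.1)
        rw [B.map_comp]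
        rfl }
  have hne : ∀ i, Nonempty (T.obj i) := fun i => ⟨⟨(hc i).choose, (hc i).choose_spec⟩⟩
  have hT : T.IsMittagLeffler := by
    rw [ml_iff]
    rw [ml_iff_g] at hA
    intro i
    obtain ⟨j, hij, hj⟩ := hA i
    refine ⟨j, hij, fun k hjk b => ?_⟩
    obtain ⟨bk⟩ := hne (op k)
    have hker : b.1 - trg B hjk bk.1 ∈ (u.app (op j)).hom.range := by
      rw [← hex]
      show (v.app (op j)).hom (_ - _) = 0
      have h1 : (v.app (op j)).hom (trg B hjk bk.1) = c.1 (op j) := (tr T hjk bk).2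
      rw [map_sub, h1, b.2, sub_self]
    obtain ⟨a, ha⟩ := hker
    obtain ⟨ak, hak⟩ := hj k hjk a
    refine ⟨⟨bk.1 + (u.app (op k)).hom ak, ?_⟩, Subtype.ext ?_⟩
    · have h1 : (v.app (op k)).hom ((u.app (op k)).hom ak) = 0 := by
        have : (u.app (op k)).hom ak ∈ (v.app (op k)).hom.ker := by rw [hex]; exact ⟨ak, rfl⟩
        exact this
      rw [map_add, h1, add_zero, bk.2]
    · show trg B (hij.trans hjk) (bk.1 + _) = trg B hij b.1
      rw [show trg B hij b.1 = trg B hij (trg B hjk bk.1 + (u.app (op j)).hom a) by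
        rw [ha, add_sub_cancel]]
      have e1 : trg B hij (trg B hjk bk.1) = trg B (hij.trans hjk) bk.1 := trg_trg hij hjk _
      have e2 : trg B (hij.trans hjk) ((u.app (op k)).hom ak) = trg B hij ((u.app (op j)).hom a) := by
        rw [trg_nat, hak, ← trg_nat]
      simp only [trg] at e1 e2 ⊢
      rw [map_add, map_add, e1, e2]
  obtain ⟨σ⟩ := nonempty_sections T hT hcof hne
  exact ⟨⟨fun i => (σ.1 i).1, fun f => congrArg Subtype.val (σ.2 f)⟩, fun i => (σ.1 i).2⟩

end Groups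

section Limit

variable {A B : ιᵒᵖ ⥤ AddCommGrpCat.{w}}

/-- the morphism `ℤ ⟶ M` with value `x` -/
def elt {M : AddCommGrpCat.{w}} (x : M) : AddCommGrpCat.of (ULift.{w} ℤ) ⟶ M :=
  AddCommGrpCat.ofHom ((zmultiplesHom M x).comp AddEquiv.ulift.toAddMonoidHom)

@[simp] lemma elt_apply {M : AddCommGrpCat.{w}} (x : M) : (elt x).hom ⟨1⟩ = x :=
  (one_smul ℤ x : _)

lemma elt_comp {M N : AddCommGrpCat.{w}} (x : M) (f : M ⟶ N) : elt x ≫ f = elt (f.hom x) := by
  ext ⟨n⟩
  simp [elt]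

/-- elements of a limit cone from compatible families -/
lemma exists_of_section {c : Cone A} (hc : IsLimit c) (σ : (A ⋙ forget AddCommGrpCat).sections) :
    ∃ x : c.pt, ∀ i, (c.π.app i).hom x = σ.1 i := by
  let s : Cone A :=
    { pt := AddCommGrpCat.of (ULift.{w} ℤ)
      π := { app := fun i => elt (σ.1 i)
             naturality := fun i j f => by
              simp only [Functor.const_obj_map, Category.id_comp, elt_comp]
              exact congrArg elt (σ.2 f).symm } }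
  exact ⟨(hc.lift s).hom ⟨1⟩, fun i => by
    show ((hc.lift s) ≫ c.π.app i).hom ⟨1⟩ = σ.1 i
    rw [hc.fac]
    exact elt_apply _⟩

lemma ext_of_limit {c : Cone A} (hc : IsLimit c) {x y : c.pt}
    (h : ∀ i, (c.π.app i).hom x = (c.π.app i).hom y) : x = y := by
  have : elt x = elt y := hc.hom_ext fun i => by
    rw [elt_comp, elt_comp]; exact congrArg elt (h i)
  rw [← elt_apply x, ← elt_apply y, this]

/-- the compatible family of an element of a cone -/
def sectionOf (c : Cone A) (x : c.pt) : (A ⋙ forget AddCommGrpCat).sections :=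
  ⟨fun i => (c.π.app i).hom x, fun f => by
    show (A.map f).hom _ = _
    rw [← ConcreteCategory.comp_apply, c.w]
    rfl⟩

end Limit

lemma nat_cofinal : ∃ s : Set ℕ, s.Countable ∧ ∀ i, ∃ j ∈ s, i ≤ j :=
  ⟨Set.univ, Set.countable_univ, fun i => ⟨i, trivial, le_rfl⟩⟩

end Groth.Agent.DCat.MLSeq
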