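import Groth.Agent.DCat.OpenDerived
import Groth.Agent.Coherent.ModExt
import Mathlib.Topology.Sheaves.SheafCondition.UniqueGluing
import Mathlib.Algebra.Homology.DerivedCategory.ShortExact

/-! Mayer–Vietoris for two opens: the sheaf sequence and the triangles it gives. -/

set_option autoImplicit false
set_option backward.isDefEq.respectTransparency false
set_option backward.defeqAttrib.useBackward true
set_option linter.style.haveILetI false

universe u

open CategoryTheory CategoryTheory.Limits AlgebraicGeometry Opposite TopologicalSpace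

attribute [local instance] HasDerivedCategory.standard

namespace Groth.Agent.DCat.MV

variable {X : Scheme.{u}}

/-- `j_* j^*`. -/
noncomputable def R (U : X.Opens) : X.Modules ⥤ X.Modules :=
  Scheme.Modules.restrictFunctor U.ι ⋙ Scheme.Modules.pushforward U.ι

instance (U : X.Opens) : (R U).Additive := by unfold R; infer_instance

/-- `M ⟶ j_* j^* M`. -/
noncomputable def η (U : X.Opens) : 𝟭 X.Modules ⟶ R U := (Scheme.Modules.restrictAdjunction U.ι).unit

/-- Sections of `j_* j^* M`. -/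
noncomputable def sec (U : X.Opens) (M : X.Modules) (W : X.Opens) :
    Γ((R U).obj M, W) ≅ Γ(M, U.ι ''ᵁ U.ι ⁻¹ᵁ W) := Iso.refl _

lemma map_sec (U : X.Opens) (M : X.Modules) {W W' : X.Opens} (i : W' ⟶ W) :
   ((R U).obj M).presheaf.map i.op ≫ (sec U M W').hom =
     (sec U M W).hom ≫ M.presheaf.map (homOfLE (U.ι.image_mono (U.ι.preimage_mono i.le))).op := rfl

lemma smul_sec (U : X.Opens) (M : X.Modules) (W : X.Opens) (r : Γ(X, W)) (s : Γ((R U).obj M, W)) :
    (sec U M W).hom (r • s) = (((U.ι.appIso _).inv (U.ι.app W r)) • ((sec U M W).hom s)) := rfl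

lemma η_sec (U : X.Opens) (M : X.Modules) (W : X.Opens) :
    ((η U).app M).app W ≫ (sec U M W).hom = M.presheaf.map (homOfLE (U.ι.image_preimage_le W)).op := rfl

lemma app_sec (U : X.Opens) {M N : X.Modules} (φ : M ⟶ N) (W : X.Opens) :
    ((R U).map φ).app W ≫ (sec U N W).hom = (sec U M W).hom ≫ φ.app _ := rfl
lemma image_le {U V : X.Opens} (h : V ≤ U) (W : X.Opens) :
    V.ι ''ᵁ V.ι ⁻¹ᵁ W ≤ U.ι ''ᵁ U.ι ⁻¹ᵁ W := by
  intro x hx
  obtain ⟨⟨y, hy⟩, hyW, rfl⟩ := hx
  exact ⟨⟨y, h hy⟩, hyW, rfl⟩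

lemma map_map' (M : X.Modules) {W₁ W₂ W₂' W₃ : X.Opens} (a : W₂ ⟶ W₃) (b : W₁ ⟶ W₂) (a' : W₂' ⟶ W₃) (b' : W₁ ⟶ W₂') :
    M.presheaf.map a.op ≫ M.presheaf.map b.op = M.presheaf.map a'.op ≫ M.presheaf.map b'.op := by
  rw [← Functor.map_comp, ← Functor.map_comp]; rfl

lemma map_mk (M : X.Modules) {W₁ W₂ W₃ : X.Opens} (a : W₁ ≤ W₂) (b : W₂ ≤ W₃) (s : Γ(M, W₃)) :
    M.presheaf.map (homOfLE a).op (M.presheaf.map (homOfLE b).op s) = M.presheaf.map (homOfLE (a.trans b)).op s := by
  rw [← ConcreteCategory.comp_apply, ← Functor.map_comp]; rfl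

lemma res_smul {U V : X.Opens} (h : V ≤ U) (M : X.Modules) (W : X.Opens) (r : Γ(X, W))
    (s : Γ(M, U.ι ''ᵁ U.ι ⁻¹ᵁ W)) :
    M.presheaf.map (homOfLE (image_le h W)).op (((U.ι.appIso _).inv (U.ι.app W r)) • s) =
      ((V.ι.appIso _).inv (V.ι.app W r)) • M.presheaf.map (homOfLE (image_le h W)).op s := by
  rw [Scheme.Modules.map_smul]
  congr 1
  rw [Scheme.Opens.ι_appIso, Scheme.Opens.ι_appIso, Scheme.Opens.ι_app, Scheme.Opens.ι_app]
  change X.presheaf.map _ (X.presheaf.map _ r) = X.presheaf.map _ r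
  rw [← ConcreteCategory.comp_apply, ← Functor.map_comp]
  rfl

/-- The sections of the restriction map. -/
noncomputable def resSec {U V : X.Opens} (h : V ≤ U) (M : X.Modules) (W : X.Opens) :
    Γ((R U).obj M, W) ⟶ Γ((R V).obj M, W) :=
  (sec U M W).hom ≫ M.presheaf.map (homOfLE (image_le h W)).op ≫ (sec V M W).inv

lemma resSec_nat {U V : X.Opens} (h : V ≤ U) (M : X.Modules) {W W' : X.Opens} (i : W' ⟶ W) :
    ((R U).obj M).presheaf.map i.op ≫ resSec h M W' = resSec h M W ≫ ((R V).obj M).presheaf.map i.op := by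
  rw [← cancel_mono (sec V M W').hom]
  simp only [resSec, Category.assoc, Iso.inv_hom_id, Category.comp_id, map_sec, Iso.inv_hom_id_assoc]
  rw [reassoc_of% map_sec]
  exact congrArg ((sec U M W).hom ≫ ·) (map_map' M _ _ _ _)

lemma resSec_smul {U V : X.Opens} (h : V ≤ U) (M : X.Modules) (W : X.Opens) (r : Γ(X, W)) (s : Γ((R U).obj M, W)) :
    resSec h M W (r • s) = r • resSec h M W s := by
  have inj : Function.Injective (sec V M W).hom := fun a b e => by simpa using congrArg (sec V M W).inv e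
  apply inj
  simp only [resSec, ConcreteCategory.comp_apply, smul_sec, Iso.inv_hom_id_apply]
  exact res_smul h M W r _

/-- Restriction `j_{U*}(M|_U) ⟶ j_{V*}(M|_V)` for `V ≤ U`, at a module. -/
noncomputable def resApp {U V : X.Opens} (h : V ≤ U) (M : X.Modules) : (R U).obj M ⟶ (R V).obj M :=
  ⟨PresheafOfModules.homMk
    { app := fun W => resSec h M W.unop, naturality := fun W W' i => resSec_nat h M i.unop }
    (fun W r s => resSec_smul h M W.unop r s)⟩

lemma resApp_app {U V : X.Opens} (h : V ≤ U) (M : X.Modules) (W : X.Opens) :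
    (resApp h M).app W = resSec h M W := rfl

lemma res_sec {U V : X.Opens} (h : V ≤ U) (M : X.Modules) (W : X.Opens) :
    (resApp h M).app W ≫ (sec V M W).hom = (sec U M W).hom ≫ M.presheaf.map (homOfLE (image_le h W)).op := by
  simp [resApp_app, resSec]

/-- Restriction, natural in the module. -/
noncomputable def res {U V : X.Opens} (h : V ≤ U) : R U ⟶ R V where
  app := resApp h
  naturality M N φ := Scheme.Modules.hom_ext _ _ fun W => by
    rw [← cancel_mono (sec V N W).hom, Scheme.Modules.Hom.comp_app, Scheme.Modules.Hom.comp_app,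
      Category.assoc, Category.assoc, res_sec, app_sec, reassoc_of% app_sec, reassoc_of% res_sec]
    exact congrArg ((sec U M W).hom ≫ ·) ((φ.mapPresheaf.naturality (homOfLE (image_le h W)).op).symm :)

@[reassoc]
lemma η_res {U V : X.Opens} (h : V ≤ U) : η U ≫ res h = η V := by
  ext M : 2
  refine Scheme.Modules.hom_ext _ _ fun W => ?_
  change ((η U).app M ≫ resApp h M).app W = _
  rw [← cancel_mono (sec V M W).hom, Scheme.Modules.Hom.comp_app, Category.assoc, res_sec]
  refine (Category.assoc _ _ _).symm.trans (Eq.trans (congrArg (· ≫ M.presheaf.map (homOfLE (image_le h W)).op)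
    (η_sec U M W)) (Eq.trans ?_ (η_sec V M W).symm))
  exact (M.presheaf.map_comp _ _).symm.trans rfl

variable (U V : X.Opens)

/-- The middle term. -/
noncomputable def Mid : X.Modules ⥤ X.Modules where
  obj M := (R U).obj M ⊞ (R V).obj M
  map φ := biprod.map ((R U).map φ) ((R V).map φ)
  map_id M := by apply biprod.hom_ext <;> simp
  map_comp φ ψ := by apply biprod.hom_ext <;> simp

instance : (Mid U V).Additive where
  map_add {M N φ ψ} := by
    apply biprod.hom_ext <;> simp [Mid]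

/-- The first map. -/
noncomputable def f : 𝟭 X.Modules ⟶ Mid U V where
  app M := biprod.lift ((η U).app M) ((η V).app M)
  naturality M N φ := by
    apply biprod.hom_ext
    · simpa [Mid] using (η U).naturality φ
    · simpa [Mid] using (η V).naturality φ

/-- The second map. -/
noncomputable def g : Mid U V ⟶ R (U ⊓ V) where
  app M := biprod.desc ((res inf_le_left).app M) (-(res inf_le_right).app M)
  naturality M N φ := by
    apply biprod.hom_ext'
    · simp [Mid]
    · simp [Mid]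

lemma f_g : f U V ≫ g U V = 0 := by
  ext M : 2
  change biprod.lift ((η U).app M) ((η V).app M) ≫ biprod.desc ((res inf_le_left).app M) (-(res inf_le_right).app M) = 0
  rw [biprod.lift_desc, Preadditive.comp_neg, ← NatTrans.comp_app, ← NatTrans.comp_app, η_res, η_res, add_neg_cancel]

/-- The sequence at a module. -/
noncomputable def seq (M : X.Modules) : ShortComplex X.Modules :=
  ShortComplex.mk ((f U V).app M) ((g U V).app M) (congrArg (fun t => NatTrans.app t M) (f_g U V))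

variable {U V}

lemma cover_le (hUV : U ⊔ V = ⊤) (W : X.Opens) :
    W ≤ iSup (fun b : Bool => if b then U.ι ''ᵁ U.ι ⁻¹ᵁ W else V.ι ''ᵁ V.ι ⁻¹ᵁ W) := by
  intro x hx
  have : x ∈ U ⊔ V := hUV ▸ trivial
  rcases this with h | h
  · exact Opens.mem_iSup.2 ⟨true, ⟨⟨x, h⟩, hx, rfl⟩⟩
  · exact Opens.mem_iSup.2 ⟨false, ⟨⟨x, h⟩, hx, rfl⟩⟩

lemma injective_f (hUV : U ⊔ V = ⊤) (M : X.Modules) (W : X.Opens) (s t : Γ(M, W))
    (h₁ : ((η U).app M).app W s = ((η U).app M).app W t) (h₂ : ((η V).app M).app W s = ((η V).app M).app W t) :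
    s = t := by
  refine TopCat.Sheaf.eq_of_locally_eq' (⟨M.presheaf, M.isSheaf⟩ : TopCat.Sheaf Ab X) _ W
    (fun b => homOfLE (by cases b <;> exact Scheme.Hom.image_preimage_le _ W)) (cover_le hUV W) s t ?_
  intro b
  cases b
  · exact h₂
  · exact h₁

lemma exists_glue (hUV : U ⊔ V = ⊤) (M : X.Modules) (W : X.Opens)
    (a' : Γ((R U).obj M, W)) (b' : Γ((R V).obj M, W))
    (h' : resSec inf_le_left M W a' = resSec (inf_le_right : U ⊓ V ≤ V) M W b') :
    ∃ s : Γ(M, W), ((η U).app M).app W s = a' ∧ ((η V).app M).app W s = b' := by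
  let a : Γ(M, U.ι ''ᵁ U.ι ⁻¹ᵁ W) := (sec U M W).hom a'
  let b : Γ(M, V.ι ''ᵁ V.ι ⁻¹ᵁ W) := (sec V M W).hom b'
  have h : M.presheaf.map (homOfLE (image_le inf_le_left W)).op a =
      M.presheaf.map (homOfLE (image_le (inf_le_right : U ⊓ V ≤ V) W)).op b :=
    congrArg (sec (U ⊓ V) M W).hom h'
  let fam : ∀ i : Bool, Γ(M, if i then U.ι ''ᵁ U.ι ⁻¹ᵁ W else V.ι ''ᵁ V.ι ⁻¹ᵁ W) :=
    fun i => Bool.rec (motive := fun i => Γ(M, if i then U.ι ''ᵁ U.ι ⁻¹ᵁ W else V.ι ''ᵁ V.ι ⁻¹ᵁ W)) b a i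
  have hc : TopCat.Presheaf.IsCompatible M.presheaf
      (fun b : Bool => if b then U.ι ''ᵁ U.ι ⁻¹ᵁ W else V.ι ''ᵁ V.ι ⁻¹ᵁ W) fam := by
    rintro (_ | _) (_ | _)
    · rfl
    · have e : V.ι ''ᵁ V.ι ⁻¹ᵁ W ⊓ U.ι ''ᵁ U.ι ⁻¹ᵁ W ≤ (U ⊓ V).ι ''ᵁ (U ⊓ V).ι ⁻¹ᵁ W := by
        rintro x ⟨⟨⟨y, hy⟩, hyW, rfl⟩, ⟨⟨z, hz⟩, -, hzy⟩⟩
        have hyU : y ∈ U := by
          have : z = y := hzy
          exact this ▸ hz
        exact ⟨⟨y, hyU, hy⟩, hyW, rfl⟩
      have := congrArg (M.presheaf.map (homOfLE e).op) h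
      rw [map_mk, map_mk] at this
      exact this.symm
    · have e : U.ι ''ᵁ U.ι ⁻¹ᵁ W ⊓ V.ι ''ᵁ V.ι ⁻¹ᵁ W ≤ (U ⊓ V).ι ''ᵁ (U ⊓ V).ι ⁻¹ᵁ W := by
        rintro x ⟨⟨⟨y, hy⟩, hyW, rfl⟩, ⟨⟨z, hz⟩, -, hzy⟩⟩
        have hyV : y ∈ V := by
          have : z = y := hzy
          exact this ▸ hz
        exact ⟨⟨y, hy, hyV⟩, hyW, rfl⟩
      have := congrArg (M.presheaf.map (homOfLE e).op) h
      rw [map_mk, map_mk] at this
      exact this
    · rfl

  obtain ⟨s, hs, -⟩ := TopCat.Sheaf.existsUnique_gluing' (⟨M.presheaf, M.isSheaf⟩ : TopCat.Sheaf Ab X)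
    (fun b : Bool => if b then U.ι ''ᵁ U.ι ⁻¹ᵁ W else V.ι ''ᵁ V.ι ⁻¹ᵁ W) W
    (fun b => homOfLE (by cases b <;> exact Scheme.Hom.image_preimage_le _ W)) (cover_le hUV W) fam hc
  exact ⟨s, hs true, hs false⟩

lemma comp_app_apply {A B C : X.Modules} (φ : A ⟶ B) (ψ : B ⟶ C) (W : X.Opens) (x : Γ(A, W)) :
    (φ ≫ ψ).app W x = ψ.app W (φ.app W x) := rfl

lemma mono_f (hUV : U ⊔ V = ⊤) (M : X.Modules) : Mono ((f U V).app M) := by
  refine (Scheme.Modules.toPresheaf X).mono_of_mono_map ?_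
  refine @NatTrans.mono_of_mono_app _ _ _ _ _ _ _ fun W => ?_
  rw [AddCommGrpCat.mono_iff_injective]
  intro s t h
  have h' : ((f U V).app M).app W.unop s = ((f U V).app M).app W.unop t := h
  refine injective_f hUV M W.unop s t ?_ ?_
  · have := congrArg ((biprod.fst : (Mid U V).obj M ⟶ _).app W.unop) h'
    exact (congrArg (fun k : M ⟶ (R U).obj M => k.app W.unop s) (biprod.lift_fst _ _)).symm.trans
      (this.trans (congrArg (fun k : M ⟶ (R U).obj M => k.app W.unop t) (biprod.lift_fst _ _)))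
  · have := congrArg ((biprod.snd : (Mid U V).obj M ⟶ _).app W.unop) h'
    exact (congrArg (fun k : M ⟶ (R V).obj M => k.app W.unop s) (biprod.lift_snd _ _)).symm.trans
      (this.trans (congrArg (fun k : M ⟶ (R V).obj M => k.app W.unop t) (biprod.lift_snd _ _)))

lemma mid_ext {M : X.Modules} {W : X.Opens} (x y : Γ((Mid U V).obj M, W))
    (h₁ : (biprod.fst : (Mid U V).obj M ⟶ _).app W x = (biprod.fst : (Mid U V).obj M ⟶ _).app W y)
    (h₂ : (biprod.snd : (Mid U V).obj M ⟶ _).app W x = (biprod.snd : (Mid U V).obj M ⟶ _).app W y) : x = y := by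
  have ht : ∀ z : Γ((Mid U V).obj M, W), (biprod.fst ≫ biprod.inl +
      biprod.snd ≫ biprod.inr : (Mid U V).obj M ⟶ (Mid U V).obj M).app W z = z := fun z =>
    (congrArg (fun t : (Mid U V).obj M ⟶ (Mid U V).obj M => t.app W z) biprod.total).trans rfl
  rw [← ht x, ← ht y]
  rw [Scheme.Modules.Hom.add_app]
  simp only [Scheme.Modules.Hom.comp_app]
  refine (AddCommGrpCat.hom_add_apply _ _ x).trans ((?_ : _ = _).trans (AddCommGrpCat.hom_add_apply _ _ y).symm)
  exact congrArg₂ (HAdd.hAdd : Γ((Mid U V).obj M, W) → Γ((Mid U V).obj M, W) → Γ((Mid U V).obj M, W))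
    (congrArg ((biprod.inl : (R U).obj M ⟶ (Mid U V).obj M).app W) h₁)
    (congrArg ((biprod.inr : (R V).obj M ⟶ (Mid U V).obj M).app W) h₂)

lemma app_g (M : X.Modules) (W : X.Opens) (x : Γ((Mid U V).obj M, W)) :
    ((g U V).app M).app W x =
      resSec inf_le_left M W ((biprod.fst : (Mid U V).obj M ⟶ (R U).obj M).app W x) -
      resSec (inf_le_right : U ⊓ V ≤ V) M W
        ((biprod.snd : (Mid U V).obj M ⟶ (R V).obj M).app W x) := by
  have : (g U V).app M = biprod.fst ≫ resApp inf_le_left M - biprod.snd ≫ resApp inf_le_right M := by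
    apply biprod.hom_ext' <;> simp [g, res]
  rw [this, Scheme.Modules.Hom.sub_app]
  simp only [Scheme.Modules.Hom.comp_app, resApp_app, AddCommGrpCat.hom_sub, AddMonoidHom.sub_apply,
    ConcreteCategory.comp_apply]
  rfl

lemma mono_app {A B : X.Modules} (φ : A ⟶ B) [Mono φ] (W : X.Opens) : Function.Injective (φ.app W) := by
  haveI : PreservesLimits (Scheme.Modules.toPresheaf X) :=
    inferInstanceAs (PreservesLimits (SheafOfModules.forget X.ringCatSheaf ⋙ PresheafOfModules.toPresheaf _))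
  haveI := (NatTrans.mono_iff_mono_app ((Scheme.Modules.toPresheaf X).map φ)).1 inferInstance (op W)
  exact (AddCommGrpCat.mono_iff_injective (((Scheme.Modules.toPresheaf X).map φ).app (op W))).1 inferInstance

lemma exact_seq (hUV : U ⊔ V = ⊤) (M : X.Modules) : (seq U V M).Exact := by
  haveI : Mono (seq U V M).f := mono_f hUV M
  let k := kernel.lift (seq U V M).g (seq U V M).f (seq U V M).zero
  suffices IsIso k by
    refine ShortComplex.exact_of_f_is_kernel _ ?_
    exact IsLimit.ofIsoLimit (kernelIsKernel (seq U V M).g)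
      (Fork.ext (asIso k).symm (by simp [k]))
  rw [Scheme.Modules.Hom.isIso_iff_isIso_app]
  intro W
  rw [ConcreteCategory.isIso_iff_bijective]
  have hk : ∀ s, (kernel.ι (seq U V M).g).app W (k.app W s) = (seq U V M).f.app W s := fun s => by
    exact congrArg (fun t : M ⟶ (Mid U V).obj M => t.app W s) (kernel.lift_ι (seq U V M).g (seq U V M).f (seq U V M).zero)
  refine ⟨fun s t hst => ?_, fun y => ?_⟩
  · exact mono_app (seq U V M).f W ((hk s).symm.trans ((congrArg _ hst).trans (hk t)))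
  · let x : Γ((Mid U V).obj M, W) := (kernel.ι (seq U V M).g).app W y
    have hx : ((g U V).app M).app W x = 0 :=
      (congrArg (fun t : kernel (seq U V M).g ⟶ (seq U V M).X₃ => t.app W y) (kernel.condition (seq U V M).g)).trans rfl
    rw [app_g, sub_eq_zero] at hx
    obtain ⟨s, hs₁, hs₂⟩ := exists_glue hUV M W _ _ hx
    refine ⟨s, mono_app (kernel.ι (seq U V M).g) W ((hk s).trans ?_)⟩
    apply mid_ext
    · refine Eq.trans ?_ hs₁
      exact congrArg (fun t : M ⟶ (R U).obj M => t.app W s) (biprod.lift_fst _ _)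
    · refine Eq.trans ?_ hs₂
      exact congrArg (fun t : M ⟶ (R V).obj M => t.app W s) (biprod.lift_snd _ _)

lemma epi_g (I : X.Modules) [Injective I] : Epi ((g U V).app I) := by
  refine (Scheme.Modules.toPresheaf X).epi_of_epi_map ?_
  refine @NatTrans.epi_of_epi_app _ _ _ _ _ _ _ fun W => ?_
  rw [AddCommGrpCat.epi_iff_surjective]
  intro y
  obtain ⟨a, ha⟩ := (AddCommGrpCat.epi_iff_surjective _).1
    ((Coherent.isFlasque_toAb_of_injective I).epi
      (homOfLE (image_le (inf_le_left : U ⊓ V ≤ U) W.unop)).op) y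
  refine ⟨(biprod.inl : (R U).obj I ⟶ (Mid U V).obj I).app W.unop a, ?_⟩
  refine Eq.trans ?_ ha
  exact congrArg (fun t : (R U).obj I ⟶ (R (U ⊓ V)).obj I => t.app W.unop a) (biprod.inl_desc _ _)

theorem shortExact_seq (hUV : U ⊔ V = ⊤) (I : X.Modules) [Injective I] : (seq U V I).ShortExact :=
  ShortComplex.ShortExact.mk' (exact_seq hUV I) (mono_f hUV I) (epi_g I)

variable (U V) in
/-- The sequence on a complex. -/
noncomputable def seqCx (I : CochainComplex X.Modules ℤ) : ShortComplex (CochainComplex X.Modules ℤ) :=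
  ShortComplex.mk
    (X₁ := I) (X₂ := ((Mid U V).mapHomologicalComplex (ComplexShape.up ℤ)).obj I)
    (X₃ := ((R (U ⊓ V)).mapHomologicalComplex (ComplexShape.up ℤ)).obj I)
    { f := fun n => (f U V).app (I.X n), comm' := fun i j _ => ((f U V).naturality (I.d i j)).symm }
    { f := fun n => (g U V).app (I.X n), comm' := fun i j _ => ((g U V).naturality (I.d i j)).symm }
    (HomologicalComplex.hom_ext _ _ fun n => (seq U V (I.X n)).zero)

variable {B : Type (u + 1)} [Category.{u} B] [Abelian B] (G : X.Modules ⥤ B) [G.Additive]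

lemma shortExact_map (hUV : U ⊔ V = ⊤) (I : CochainComplex X.Modules ℤ) (hI : ∀ n, Injective (I.X n)) :
    ((seqCx U V I).map (G.mapHomologicalComplex (ComplexShape.up ℤ))).ShortExact := by
  refine HomologicalComplex.shortExact_of_degreewise_shortExact _ fun n => ?_
  haveI := hI n
  haveI : Injective (seq U V (I.X n)).X₁ := hI n
  have h := (((shortExact_seq hUV (I.X n)).splittingOfInjective).map G).shortExact
  exact h

variable (U V) in
/-- The middle term splits. -/
noncomputable def midIso (I : CochainComplex X.Modules ℤ) :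
    ((Mid U V).mapHomologicalComplex (ComplexShape.up ℤ)).obj I ≅
      ((R U).mapHomologicalComplex (ComplexShape.up ℤ)).obj I ⊞
        ((R V).mapHomologicalComplex (ComplexShape.up ℤ)).obj I where
  hom := biprod.lift
    { f := fun n => (biprod.fst : (R U).obj (I.X n) ⊞ (R V).obj (I.X n) ⟶ (R U).obj (I.X n))
      comm' := fun i j _ => (biprod.map_fst ((R U).map (I.d i j)) ((R V).map (I.d i j))).symm }
    { f := fun n => (biprod.snd : (R U).obj (I.X n) ⊞ (R V).obj (I.X n) ⟶ (R V).obj (I.X n))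
      comm' := fun i j _ => (biprod.map_snd ((R U).map (I.d i j)) ((R V).map (I.d i j))).symm }
  inv := biprod.desc
    { f := fun n => (biprod.inl : (R U).obj (I.X n) ⟶ (R U).obj (I.X n) ⊞ (R V).obj (I.X n))
      comm' := fun i j _ => biprod.inl_map ((R U).map (I.d i j)) ((R V).map (I.d i j)) }
    { f := fun n => (biprod.inr : (R V).obj (I.X n) ⟶ (R U).obj (I.X n) ⊞ (R V).obj (I.X n))
      comm' := fun i j _ => biprod.inr_map ((R U).map (I.d i j)) ((R V).map (I.d i j)) }
  hom_inv_id := by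
    rw [biprod.lift_desc]
    exact HomologicalComplex.hom_ext _ _ fun n => biprod.total
  inv_hom_id := by
    apply biprod.hom_ext' <;> apply biprod.hom_ext <;>
      simp only [biprod.inl_desc_assoc, biprod.inr_desc_assoc, Category.comp_id, Category.assoc,
        biprod.lift_fst, biprod.lift_snd, biprod.inl_fst, biprod.inl_snd, biprod.inr_fst, biprod.inr_snd] <;>
      refine HomologicalComplex.hom_ext _ _ fun n => ?_
    · exact biprod.inl_fst
    · exact biprod.inl_snd
    · exact biprod.inr_fst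
    · exact biprod.inr_snd

/-- The Mayer–Vietoris triangle of a complex with injective terms, after an additive functor. -/
theorem exists_triangle (hUV : U ⊔ V = ⊤) (I : CochainComplex X.Modules ℤ) (hI : ∀ n, Injective (I.X n))
    {P₁ P₂ P₃ P₄ : DerivedCategory B}
    (e₁ : DerivedCategory.Q.obj ((G.mapHomologicalComplex (ComplexShape.up ℤ)).obj I) ≅ P₁)
    (e₂ : DerivedCategory.Q.obj ((G.mapHomologicalComplex (ComplexShape.up ℤ)).obj
      (((R U).mapHomologicalComplex (ComplexShape.up ℤ)).obj I)) ≅ P₂)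
    (e₃ : DerivedCategory.Q.obj ((G.mapHomologicalComplex (ComplexShape.up ℤ)).obj
      (((R V).mapHomologicalComplex (ComplexShape.up ℤ)).obj I)) ≅ P₃)
    (e₄ : DerivedCategory.Q.obj ((G.mapHomologicalComplex (ComplexShape.up ℤ)).obj
      (((R (U ⊓ V)).mapHomologicalComplex (ComplexShape.up ℤ)).obj I)) ≅ P₄) :
    ∃ (a : P₁ ⟶ P₂ ⊞ P₃) (b : P₂ ⊞ P₃ ⟶ P₄) (c : P₄ ⟶ P₁⟦(1 : ℤ)⟧),
      Pretriangulated.Triangle.mk a b c ∈ Pretriangulated.distinguishedTriangles := by
  let F := G.mapHomologicalComplex (ComplexShape.up ℤ) ⋙ DerivedCategory.Q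
  haveI : F.Additive := inferInstance
  haveI := preservesBinaryBiproducts_of_preservesBiproducts F
  let T := DerivedCategory.triangleOfSES (shortExact_map G hUV I hI)
  have hT := DerivedCategory.triangleOfSES_distinguished (shortExact_map G hUV I hI)
  let e : T.obj₂ ≅ P₂ ⊞ P₃ := F.mapIso (midIso U V I) ≪≫ F.mapBiprod _ _ ≪≫ biprod.mapIso e₂ e₃
  exact ⟨e₁.inv ≫ T.mor₁ ≫ e.hom, e.inv ≫ T.mor₂ ≫ e₄.hom, e₄.inv ≫ T.mor₃ ≫ e₁.hom⟦(1 : ℤ)⟧',
    Pretriangulated.isomorphic_distinguished _ hT _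
      (Pretriangulated.Triangle.isoMk _ _ e₁.symm e.symm e₄.symm (by simp [T]) (by simp [T])
        (by simp [T, ← Functor.map_comp]))⟩

end Groth.Agent.DCat.MV
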