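import Groth.Agent.DCat.LTensorModule
import Groth.Agent.DCat.KFlatModule
import Mathlib.Algebra.Category.Ring.FilteredColimits
import Mathlib.CategoryTheory.Limits.ConcreteCategory.Filtered
import Mathlib.Algebra.Category.ModuleCat.ChangeOfRings
import Mathlib.LinearAlgebra.Matrix.ToLin
import Mathlib.RingTheory.Finiteness.Projective
import Mathlib.Data.Int.Interval

/-! Perfect complexes over a filtered colimit of rings come from a stage. -/

set_option autoImplicit false
set_option backward.isDefEq.respectTransparency false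
set_option backward.defeqAttrib.useBackward true
set_option linter.style.haveILetI false

universe u

open CategoryTheory CategoryTheory.Limits Matrix ModuleCat
open scoped ChangeOfRings TensorProduct

attribute [local instance] HasDerivedCategory.standard

namespace Groth.Agent.DCat.PerfDescend

section Model

variable {S R : Type u} [CommRing S] [CommRing R] (φ : S →+* R) {n : ℕ}

/-- The range of an idempotent matrix. -/
abbrev M (E : Matrix (Fin n) (Fin n) S) : Submodule S (Fin n → S) := LinearMap.range E.mulVecLin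

lemma fixed {E : Matrix (Fin n) (Fin n) S} (hE : E * E = E) {v : Fin n → S} (hv : v ∈ M E) : E *ᵥ v = v := by
  obtain ⟨w, rfl⟩ := hv
  show E *ᵥ (E *ᵥ w) = E *ᵥ w
  rw [mulVec_mulVec, hE]

lemma projective_M {E : Matrix (Fin n) (Fin n) S} (hE : E * E = E) : Module.Projective S (M E) :=
  Module.Projective.of_split (M E).subtype (E.mulVecLin.codRestrict (M E) fun v => ⟨v, rfl⟩)
    (LinearMap.ext fun v => Subtype.ext (fixed hE v.2))

variable {P : ModuleCat.{u} R} (s : P →ₗ[R] (Fin n → R)) (π : (Fin n → R) →ₗ[R] P)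
  (E : Matrix (Fin n) (Fin n) S)

/-- Comparison map of the model. -/
noncomputable def ψ : ModuleCat.of S (M E) ⟶ (ModuleCat.restrictScalars.{u} φ).obj P :=
  ModuleCat.ofHom (Y := (ModuleCat.restrictScalars.{u} φ).obj P)
    { toFun := fun v => π (φ ∘ v.1)
      map_add' := fun v w => by
        show π (φ ∘ (v.1 + w.1)) = π (φ ∘ v.1) + π (φ ∘ w.1)
        rw [← map_add]
        congr 1
        ext k
        simp
      map_smul' := fun r v => by
        show π (φ ∘ (r • v.1)) = φ r • π (φ ∘ v.1)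
        rw [← map_smul]
        congr 1
        ext k
        simp }

/-- The extended comparison map. -/
noncomputable def θ : (ModuleCat.extendScalars.{u, u, u} φ).obj (ModuleCat.of S (M E)) ⟶ P :=
  ModuleCat.ExtendRestrictScalarsAdj.HomEquiv.fromExtendScalars φ (ψ φ π E)

lemma θ_one_tmul (v : M E) :
    (θ φ π E).hom ((1 : R) ⊗ₜ[S, φ] (v : (ModuleCat.of S (M E) : Type u))) = π (φ ∘ v.1) := by
  exact one_smul R _

/-- The inverse. -/
noncomputable def θinv : P ⟶ (ModuleCat.extendScalars.{u, u, u} φ).obj (ModuleCat.of S (M E)) :=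
  ModuleCat.ofHom (∑ k : Fin n, ((LinearMap.proj k).comp s).smulRight
    (((1 : R) ⊗ₜ[S, φ] ((⟨E *ᵥ Pi.single k 1, ⟨_, rfl⟩⟩ : M E) : (ModuleCat.of S (M E) : Type u))) :
      ((ModuleCat.extendScalars.{u, u, u} φ).obj (ModuleCat.of S (M E)) : Type u)))

lemma sum_smul_col (A : Matrix (Fin n) (Fin n) R) (w : Fin n → R) :
    ∑ k, w k • (A *ᵥ Pi.single k 1) = A *ᵥ w := by
  ext i
  simp [Finset.sum_apply, mulVec, dotProduct, mul_comm]

lemma θinv_apply (x : P) :
    (θinv φ s E).hom x = ∑ k : Fin n, s x k • (((1 : R) ⊗ₜ[S, φ] ((⟨E *ᵥ Pi.single k 1, ⟨_, rfl⟩⟩ : M E) :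
      (ModuleCat.of S (M E) : Type u))) : ((ModuleCat.extendScalars.{u, u, u} φ).obj (ModuleCat.of S (M E)) : Type u)) :=
  (LinearMap.sum_apply _ _ _).trans rfl

lemma one_tmul_sum (a : Fin n → S) (u : Fin n → M E) :
    (((1 : R) ⊗ₜ[S, φ] ((∑ k, a k • u k : M E) : (ModuleCat.of S (M E) : Type u))) :
      ((ModuleCat.extendScalars.{u, u, u} φ).obj (ModuleCat.of S (M E)) : Type u)) =
    ∑ k, φ (a k) • (((1 : R) ⊗ₜ[S, φ] (u k : (ModuleCat.of S (M E) : Type u))) :
      ((ModuleCat.extendScalars.{u, u, u} φ).obj (ModuleCat.of S (M E)) : Type u)) := by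
  let η := ((ModuleCat.extendRestrictScalarsAdj.{u} φ).unit.app (ModuleCat.of S (M E))).hom
  show η (∑ k, a k • u k) = _
  refine (map_sum η _ _).trans (Finset.sum_congr rfl fun k _ => ?_)
  exact map_smul η (a k) (u k)

/-- The model has the right base change. -/
noncomputable def modelIso (hπs : ∀ x, π (s x) = x) (hE : E * E = E)
    (h : E.map φ = LinearMap.toMatrix' (s.comp π)) :
    (ModuleCat.extendScalars.{u, u, u} φ).obj (ModuleCat.of S (M E)) ≅ P where
  hom := θ φ π E
  inv := θinv φ s E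
  hom_inv_id := by
    refine ModuleCat.ExtendScalars.hom_ext (f := φ) fun v => ?_
    show (θinv φ s E).hom ((θ φ π E).hom ((1 : R) ⊗ₜ[S, φ] v)) = (1 : R) ⊗ₜ[S, φ] v
    rw [θ_one_tmul]
    have hw : s (π (φ ∘ (v : M E).1)) = φ ∘ (v : M E).1 := by
      have h1 : E.map φ *ᵥ (φ ∘ (v : M E).1) = s (π (φ ∘ (v : M E).1)) := by
        rw [h, LinearMap.toMatrix'_mulVec]
        rfl
      rw [← h1]
      funext i
      rw [← RingHom.map_mulVec, fixed hE (v : M E).2]
      rfl
    rw [θinv_apply, hw]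
    have hv : (v : M E) = ∑ k, (v : M E).1 k • (⟨E *ᵥ Pi.single k 1, ⟨_, rfl⟩⟩ : M E) := Subtype.ext <| by
      rw [AddSubmonoidClass.coe_finsetSum]
      simp only [SetLike.val_smul]
      rw [sum_smul_col, fixed hE (v : M E).2]
    refine Eq.trans ?_ (congrArg (fun w : M E => ((1 : R) ⊗ₜ[S, φ] (w : (ModuleCat.of S (M E) : Type u)))) hv).symm
    exact (one_tmul_sum φ E _ _).symm
  inv_hom_id := by
    refine ModuleCat.hom_ext (LinearMap.ext fun x => ?_)
    show (θ φ π E).hom ((θinv φ s E).hom x) = x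
    have hc : ∀ k, (φ ∘ (E *ᵥ Pi.single k 1)) = E.map φ *ᵥ Pi.single k 1 := fun k => by
      funext i
      rw [Function.comp_apply, RingHom.map_mulVec]
      congr 1
      congr 1
      funext l
      simp [Pi.single_apply, apply_ite φ]
    rw [θinv_apply]
    refine ((map_sum (θ φ π E).hom _ _).trans (Finset.sum_congr rfl fun k _ => (map_smul (θ φ π E).hom _ _).trans
      (congrArg (s x k • ·) ((θ_one_tmul φ π E _).trans (congrArg π (hc k)))))).trans ?_
    simp only [← map_smul, ← map_sum]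
    rw [sum_smul_col, h, LinearMap.toMatrix'_mulVec, LinearMap.comp_apply, hπs, hπs]

end Model

/-- The descended complex, with its base change. -/
theorem exists_model {S R : Type u} [CommRing S] [CommRing R] (φ : S →+* R) {n : ℕ} (P : DRing.Cx R)
    (s : ∀ i, P.X i →ₗ[R] (Fin n → R)) (π : ∀ i, (Fin n → R) →ₗ[R] P.X i) (hπs : ∀ i x, π i (s i x) = x)
    (E D : ℤ → Matrix (Fin n) (Fin n) S) (a b : ℤ) (hout : ∀ i, i < a ∨ b < i → E i = 0)
    (hEE : ∀ i, E i * E i = E i) (hD1 : ∀ i, E (i + 1) * D i = D i) (hDD : ∀ i, D (i + 1) * D i = 0)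
    (hE : ∀ i, (E i).map φ = LinearMap.toMatrix' ((s i).comp (π i)))
    (hD : ∀ i, (D i).map φ = LinearMap.toMatrix' ((s (i + 1)).comp ((P.d i (i + 1)).hom.comp (π i)))) :
    ∃ L : DRing.Cx S, DRing.VanishesOutside L a b ∧ DRing.TermwiseFiniteProjective L ∧
      Nonempty (((ModuleCat.extendScalars.{u, u, u} φ).mapHomologicalComplex (ComplexShape.up ℤ)).obj L ≅ P) := by
  let dd : ∀ i, M (E i) →ₗ[S] M (E (i + 1)) := fun i =>
    LinearMap.restrict (D i).mulVecLin fun v _ => ⟨D i *ᵥ v, by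
      show E (i + 1) *ᵥ (D i *ᵥ v) = D i *ᵥ v
      rw [mulVec_mulVec, hD1]⟩
  let L : DRing.Cx S := CochainComplex.of (fun i => ModuleCat.of S (M (E i))) (fun i => ModuleCat.ofHom (dd i))
    (fun i => ModuleCat.hom_ext (LinearMap.ext fun v => Subtype.ext (by
      show D (i + 1) *ᵥ (D i *ᵥ (v : Fin n → S)) = 0
      rw [mulVec_mulVec, hDD, zero_mulVec])))
  refine ⟨L, fun i hi => @ModuleCat.isZero_of_subsingleton S _ (L.X i) ((subsingleton_iff_forall_eq 0).2 fun v => ?_),
    fun i => ⟨inferInstanceAs (Module.Finite S (M (E i))), projective_M (hEE i)⟩, ⟨?_⟩⟩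
  · show (v : M (E i)) = 0
    refine Subtype.ext ?_
    exact (fixed (hEE i) (v : M (E i)).2).symm.trans
      ((congrArg (· *ᵥ (v : M (E i)).1) (hout i hi)).trans (zero_mulVec _))
  refine HomologicalComplex.Hom.isoOfComponents (fun i => modelIso φ (s i) (π i) (E i) (hπs i) (hEE i) (hE i))
    fun i j hij => ?_
  obtain rfl : i + 1 = j := hij
  refine ModuleCat.ExtendScalars.hom_ext (f := φ) fun v => ?_
  show (P.d i (i + 1)).hom ((θ φ (π i) (E i)).hom ((1 : R) ⊗ₜ[S, φ] v)) =
    (θ φ (π (i + 1)) (E (i + 1))).hom ((ModuleCat.extendScalars.{u, u, u} φ).map (L.d i (i + 1)) ((1 : R) ⊗ₜ[S, φ] v))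
  rw [θ_one_tmul]
  have hd : (ModuleCat.extendScalars.{u, u, u} φ).map (L.d i (i + 1)) ((1 : R) ⊗ₜ[S, φ] v) =
      (1 : R) ⊗ₜ[S, φ] (dd i (v : M (E i))) := by
    rw [ModuleCat.ExtendScalars.map_tmul]
    simp [L]
  rw [hd, θ_one_tmul]
  have h2 : φ ∘ (D i *ᵥ (v : M (E i)).1) = s (i + 1) ((P.d i (i + 1)).hom (π i (φ ∘ (v : M (E i)).1))) := by
    funext k
    rw [Function.comp_apply, RingHom.map_mulVec, hD, LinearMap.toMatrix'_mulVec]
    rfl
  show _ = π (i + 1) (φ ∘ (D i *ᵥ (v : M (E i)).1))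
  rw [h2, hπs]

section Stage

variable {J : Type u} [SmallCategory J] [IsFiltered J] {F : J ⥤ CommRingCat.{u}} {c : Cocone F} (hc : IsColimit c)

include hc in
lemma exists_lift_matrix {ι : Type} [Finite ι] {n : ℕ} (A : ι → Matrix (Fin n) (Fin n) c.pt) :
    ∃ (j : J) (A₀ : ι → Matrix (Fin n) (Fin n) (F.obj j)), ∀ k, (A₀ k).map (c.ι.app j).hom = A k := by
  classical
  cases nonempty_fintype ι
  choose jx y hy using fun x : ι × Fin n × Fin n => Concrete.isColimit_exists_rep F hc (A x.1 x.2.1 x.2.2)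
  obtain ⟨j, hj⟩ := IsFiltered.sup_objs_exists (Finset.univ.image jx)
  let p : ∀ x, jx x ⟶ j := fun x => (hj (Finset.mem_image_of_mem _ (Finset.mem_univ x))).some
  refine ⟨j, fun k r t => (F.map (p (k, r, t))).hom (y (k, r, t)), fun k => Matrix.ext fun r t => ?_⟩
  exact (ConcreteCategory.congr_hom (c.w (p (k, r, t))) (y (k, r, t))).trans (hy (k, r, t))

include hc in
lemma exists_stage_eq {ι : Type} [Finite ι] {n : ℕ} {j : J} (A B : ι → Matrix (Fin n) (Fin n) (F.obj j))
    (h : ∀ k, (A k).map (c.ι.app j).hom = (B k).map (c.ι.app j).hom) :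
    ∃ (j' : J) (f : j ⟶ j'), ∀ k, (A k).map (F.map f).hom = (B k).map (F.map f).hom := by
  classical
  cases nonempty_fintype ι
  suffices ∀ t : Finset (ι × Fin n × Fin n), ∃ (j' : J) (f : j ⟶ j'),
      ∀ x ∈ t, (F.map f).hom (A x.1 x.2.1 x.2.2) = (F.map f).hom (B x.1 x.2.1 x.2.2) by
    obtain ⟨j', f, hf⟩ := this Finset.univ
    exact ⟨j', f, fun k => Matrix.ext fun r t => hf (k, r, t) (Finset.mem_univ _)⟩
  intro t
  induction t using Finset.induction with
  | empty => exact ⟨j, 𝟙 j, by simp⟩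
  | insert x t _ ih =>
    obtain ⟨j', f, hf⟩ := ih
    have he : c.ι.app j' ((F.map f).hom (A x.1 x.2.1 x.2.2)) = c.ι.app j' ((F.map f).hom (B x.1 x.2.1 x.2.2)) := by
      have := congrFun (congrFun (h x.1) x.2.1) x.2.2
      exact (ConcreteCategory.congr_hom (c.w f) _).trans (this.trans (ConcreteCategory.congr_hom (c.w f) _).symm)
    obtain ⟨k, g, g', hk⟩ := Concrete.isColimit_exists_of_rep_eq F hc _ _ he
    refine ⟨IsFiltered.coeq g g', f ≫ g ≫ IsFiltered.coeqHom g g', fun z hz => ?_⟩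
    rcases Finset.mem_insert.1 hz with rfl | hz
    · conv_rhs => rw [IsFiltered.coeq_condition g g']
      simp only [Functor.map_comp, CommRingCat.hom_comp, RingHom.comp_apply]
      exact congrArg _ hk
    · simp only [Functor.map_comp, CommRingCat.hom_comp, RingHom.comp_apply, hf z hz]

include hc in
/-- Perfect objects descend to a stage. -/
theorem exists_descends [∀ j : J, DRing.HasLBaseChange (c.ι.app j).hom] (K : Dual.D c.pt)
    (hK : DRing.IsPerfect c.pt K) :
    ∃ (j : J) (Kj : Dual.D (F.obj j)), DRing.IsPerfect (F.obj j) Kj ∧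
      Nonempty ((DRing.LBaseChange (c.ι.app j).hom).obj Kj ≅ K) := by
  classical
  obtain ⟨P, a, b, hv, hP, ⟨e⟩⟩ := hK
  let I := {i : ℤ // i ∈ Finset.Icc a b}
  haveI := fun i => (hP i).1
  haveI := fun i => (hP i).2
  choose m g hg using fun i : ℤ => Module.Finite.exists_fin' c.pt (P.X i)
  let n := (Finset.Icc a b).sup m
  have hdec : ∀ i, ∃ (s : P.X i →ₗ[c.pt] (Fin n → c.pt)) (π : (Fin n → c.pt) →ₗ[c.pt] P.X i),
      (∀ x, π (s x) = x) ∧ (i ∉ Finset.Icc a b → π = 0) := fun i => by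
    by_cases hi : i ∈ Finset.Icc a b
    · have hm : m i ≤ n := Finset.le_sup hi
      let π := (g i).comp (LinearMap.funLeft c.pt c.pt (Fin.castLE hm))
      obtain ⟨s, hs⟩ := Module.projective_lifting_property π LinearMap.id
        ((hg i).comp (LinearMap.funLeft_surjective_of_injective _ _ _ (Fin.castLE_injective hm)))
      exact ⟨s, π, fun x => LinearMap.congr_fun hs x, fun h => absurd hi h⟩
    · haveI := ModuleCat.subsingleton_of_isZero (hv i (by rw [Finset.mem_Icc] at hi; omega))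
      exact ⟨0, 0, fun x => Subsingleton.elim _ _, fun _ => rfl⟩
  choose s π hπs hπ0 using hdec
  let E' : ℤ → Matrix (Fin n) (Fin n) c.pt := fun i => LinearMap.toMatrix' ((s i).comp (π i))
  let D' : ℤ → Matrix (Fin n) (Fin n) c.pt := fun i =>
    LinearMap.toMatrix' ((s (i + 1)).comp ((P.d i (i + 1)).hom.comp (π i)))
  have e1 : ∀ i, E' i * E' i = E' i := fun i => by
    simp only [E']
    rw [← LinearMap.toMatrix'_comp]
    congr 1
    refine LinearMap.ext fun x => ?_
    simp [hπs]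
  have e2 : ∀ i, E' (i + 1) * D' i = D' i := fun i => by
    simp only [E', D']
    rw [← LinearMap.toMatrix'_comp]
    congr 1
    refine LinearMap.ext fun x => ?_
    simp [hπs]
  have e3 : ∀ i, D' (i + 1) * D' i = 0 := fun i => by
    simp only [D']
    rw [← LinearMap.toMatrix'_comp]
    refine (congrArg LinearMap.toMatrix' ?_).trans (map_zero _)
    refine LinearMap.ext fun x => ?_
    simp only [LinearMap.comp_apply, hπs, LinearMap.zero_apply]
    refine (congrArg _ ?_).trans (map_zero _)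
    exact ConcreteCategory.congr_hom (P.d_comp_d i (i + 1) (i + 1 + 1)) _
  obtain ⟨j₀, A₀, hA₀⟩ := exists_lift_matrix hc (Sum.elim (fun i : I => E' i.1) (fun i : I => D' i.1))
  let ext (j : J) (x : I → Matrix (Fin n) (Fin n) (F.obj j)) : ℤ → Matrix (Fin n) (Fin n) (F.obj j) :=
    fun i => if hi : i ∈ Finset.Icc a b then x ⟨i, hi⟩ else 0
  let E₀ := ext j₀ fun i => A₀ (Sum.inl i)
  let D₀ := ext j₀ fun i => A₀ (Sum.inr i)
  have hE₀ : ∀ i, (E₀ i).map (c.ι.app j₀).hom = E' i := fun i => by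
    simp only [E₀, ext]
    split_ifs with hi
    · exact hA₀ (Sum.inl ⟨i, hi⟩)
    · rw [show E' i = 0 by simp [E', hπ0 i hi]]; exact Matrix.map_zero _ (map_zero _)
  have hD₀ : ∀ i, (D₀ i).map (c.ι.app j₀).hom = D' i := fun i => by
    simp only [D₀, ext]
    split_ifs with hi
    · exact hA₀ (Sum.inr ⟨i, hi⟩)
    · rw [show D' i = 0 by simp [D', hπ0 i hi]]; exact Matrix.map_zero _ (map_zero _)
  obtain ⟨j, f, hf⟩ := exists_stage_eq hc
    (Sum.elim (fun i : I => E₀ i.1 * E₀ i.1) (Sum.elim (fun i : I => E₀ (i.1 + 1) * D₀ i.1) (fun i : I => D₀ (i.1 + 1) * D₀ i.1)))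
    (Sum.elim (fun i : I => E₀ i.1) (Sum.elim (fun i : I => D₀ i.1) (fun _ : I => 0))) fun k => by
      rcases k with i | i | i <;> simp only [Sum.elim_inl, Sum.elim_inr, Matrix.map_mul, hE₀, hD₀, e1, e2, e3]
      exact (Matrix.map_zero _ (map_zero _)).symm
  have out : ∀ i, i ∉ Finset.Icc a b → E₀ i = 0 ∧ D₀ i = 0 := fun i hi => ⟨dif_neg hi, dif_neg hi⟩
  have hw : (c.ι.app j).hom.comp (F.map f).hom = (c.ι.app j₀).hom := congrArg CommRingCat.Hom.hom (c.w f)
  have hmap : ∀ A : Matrix (Fin n) (Fin n) (F.obj j₀),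
      (A.map (F.map f).hom).map (c.ι.app j).hom = A.map (c.ι.app j₀).hom := fun A => by
    rw [Matrix.map_map, ← hw]
    rfl
  obtain ⟨L, hL, hLp, ⟨i⟩⟩ := exists_model (c.ι.app j).hom P s π hπs (fun i => (E₀ i).map (F.map f).hom)
    (fun i => (D₀ i).map (F.map f).hom) a b
    (fun i hi => by rw [(out i (by rw [Finset.mem_Icc]; omega)).1]; exact Matrix.map_zero _ (map_zero _))
    (fun i => by
      by_cases hi : i ∈ Finset.Icc a b
      · rw [← Matrix.map_mul]
        exact hf (Sum.inl ⟨i, hi⟩)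
      · rw [(out i hi).1]; simp [Matrix.map_zero _ (map_zero _)])
    (fun i => by
      by_cases hi : i ∈ Finset.Icc a b
      · rw [← Matrix.map_mul]
        exact hf (Sum.inr (Sum.inl ⟨i, hi⟩))
      · rw [(out i hi).2]; simp [Matrix.map_zero _ (map_zero _)])
    (fun i => by
      by_cases hi : i ∈ Finset.Icc a b
      · rw [← Matrix.map_mul]
        exact (hf (Sum.inr (Sum.inr ⟨i, hi⟩))).trans (Matrix.map_zero _ (map_zero _))
      · rw [(out i hi).2]; simp [Matrix.map_zero _ (map_zero _)])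
    (fun i => (hmap _).trans (hE₀ i)) (fun i => (hmap _).trans (hD₀ i))
  have hLk : IsKFlatFor (modT (F.obj j)) L := isKFlatFor_of_flat L b (fun k hk => hL k (Or.inr hk))
    fun k => haveI := (hLp k).2; inferInstance
  exact ⟨j, DRing.toD L, ⟨L, a, b, hL, hLp, ⟨Iso.refl _⟩⟩,
    ⟨lbaseChangeIso (c.ι.app j).hom hLk ≪≫ DerivedCategory.Q.mapIso i ≪≫ e⟩⟩

end Stage

end Groth.Agent.DCat.PerfDescend
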