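import Groth.Agent.DCat.ProjNatural
import Groth.Agent.DCat.PhiBaseChange
import Groth.Agent.DCat.ConvBaseChange
import Groth.Agent.DQCoh.Push

/-!
# Composition of Fourier–Mukai functors
-/

set_option autoImplicit false
set_option backward.isDefEq.respectTransparency false
set_option backward.defeqAttrib.useBackward true
set_option linter.style.haveILetI false
set_option linter.unusedVariables false

universe u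

open CategoryTheory CategoryTheory.Limits AlgebraicGeometry HomologicalComplex
open Groth.Agent.Dual22Lib Groth.Agent.ModStalk

attribute [local instance] HasDerivedCategory.standard

namespace Groth.Agent.DCat.PhiConv

section Glue

universe v w

variable {X₀ X W W₀ V V₀ P P₀ T T₀ Y Q Q₀ Z : Type v} [Category.{w} X₀] [Category.{w} X] [Category.{w} W]
  [Category.{w} W₀] [Category.{w} P] [Category.{w} P₀] [Category.{w} T] [Category.{w} T₀] [Category.{w} Y]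
  [Category.{w} Q] [Category.{w} Z]

/-- The composite of the first functor followed by the second. -/
theorem nonempty_glue_comp (ι : X₀ ⥤ X) (p : X ⥤ P) (tK : P ⥤ P) (q : P ⥤ Y) (p' : Y ⥤ Q) (tM : Q ⥤ Q)
    (q' : Q ⥤ Z) (p₁₂ : P ⥤ T) (p₂₃ : T ⥤ Q) (tL : T ⥤ T) (tK' : T ⥤ T) (tI : T ⥤ T)
    (ιP : P₀ ⥤ P) (F : X₀ ⥤ P₀) (eF : F ⋙ ιP ≅ ι ⋙ p ⋙ tK)
    (ιT : T₀ ⥤ T) (G : P₀ ⥤ T₀) (eG : G ⋙ ιT ≅ ιP ⋙ p₁₂)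
    (eB : ιP ⋙ q ⋙ p' ≅ ιP ⋙ p₁₂ ⋙ p₂₃) (eP : ιT ⋙ p₂₃ ⋙ tM ≅ ιT ⋙ tL ⋙ p₂₃)
    (eK : tK ⋙ p₁₂ ≅ p₁₂ ⋙ tK') (eI : tK' ⋙ tL ≅ tI) :
    Nonempty (ι ⋙ (p ⋙ tK ⋙ q) ⋙ (p' ⋙ tM ⋙ q') ≅ ι ⋙ (p ⋙ p₁₂) ⋙ tI ⋙ (p₂₃ ⋙ q')) :=
  ⟨calc
    ι ⋙ (p ⋙ tK ⋙ q) ⋙ (p' ⋙ tM ⋙ q') ≅ (ι ⋙ p ⋙ tK) ⋙ (q ⋙ p') ⋙ tM ⋙ q' := Iso.refl _
    _ ≅ (F ⋙ ιP) ⋙ (q ⋙ p') ⋙ tM ⋙ q' := Functor.isoWhiskerRight eF.symm _
    _ ≅ F ⋙ (ιP ⋙ q ⋙ p') ⋙ tM ⋙ q' := Iso.refl _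
    _ ≅ F ⋙ (ιP ⋙ p₁₂ ⋙ p₂₃) ⋙ tM ⋙ q' := Functor.isoWhiskerLeft F (Functor.isoWhiskerRight eB _)
    _ ≅ F ⋙ (ιP ⋙ p₁₂) ⋙ p₂₃ ⋙ tM ⋙ q' := Iso.refl _
    _ ≅ F ⋙ (G ⋙ ιT) ⋙ p₂₃ ⋙ tM ⋙ q' := Functor.isoWhiskerLeft F (Functor.isoWhiskerRight eG.symm _)
    _ ≅ F ⋙ G ⋙ (ιT ⋙ p₂₃ ⋙ tM) ⋙ q' := Iso.refl _
    _ ≅ F ⋙ G ⋙ (ιT ⋙ tL ⋙ p₂₃) ⋙ q' :=
      Functor.isoWhiskerLeft F (Functor.isoWhiskerLeft G (Functor.isoWhiskerRight eP _))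
    _ ≅ F ⋙ (G ⋙ ιT) ⋙ tL ⋙ p₂₃ ⋙ q' := Iso.refl _
    _ ≅ F ⋙ (ιP ⋙ p₁₂) ⋙ tL ⋙ p₂₃ ⋙ q' := Functor.isoWhiskerLeft F (Functor.isoWhiskerRight eG _)
    _ ≅ (F ⋙ ιP) ⋙ p₁₂ ⋙ tL ⋙ p₂₃ ⋙ q' := Iso.refl _
    _ ≅ (ι ⋙ p ⋙ tK) ⋙ p₁₂ ⋙ tL ⋙ p₂₃ ⋙ q' := Functor.isoWhiskerRight eF _
    _ ≅ ι ⋙ p ⋙ (tK ⋙ p₁₂) ⋙ tL ⋙ p₂₃ ⋙ q' := Iso.refl _
    _ ≅ ι ⋙ p ⋙ (p₁₂ ⋙ tK') ⋙ tL ⋙ p₂₃ ⋙ q' :=
      Functor.isoWhiskerLeft ι (Functor.isoWhiskerLeft p (Functor.isoWhiskerRight eK _))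
    _ ≅ ι ⋙ (p ⋙ p₁₂) ⋙ (tK' ⋙ tL) ⋙ (p₂₃ ⋙ q') := Iso.refl _
    _ ≅ ι ⋙ (p ⋙ p₁₂) ⋙ tI ⋙ (p₂₃ ⋙ q') :=
      Functor.isoWhiskerLeft ι (Functor.isoWhiskerLeft _ (Functor.isoWhiskerRight eI _))⟩

/-- The functor of the composite kernel. -/
theorem nonempty_glue_kernel (ι : X₀ ⥤ X) (pX : X ⥤ W) (tN : W ⥤ W) (qZ : W ⥤ Z) (p₁₃ : W ⥤ T) (tI : T ⥤ T)
    (r₁₃ : T ⥤ W) (ιW : W₀ ⥤ W) (F : X₀ ⥤ W₀) (eF : F ⋙ ιW ≅ ι ⋙ pX)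
    (eP : ιW ⋙ tN ≅ ιW ⋙ p₁₃ ⋙ tI ⋙ r₁₃) :
    Nonempty (ι ⋙ (pX ⋙ tN ⋙ qZ) ≅ ι ⋙ (pX ⋙ p₁₃) ⋙ tI ⋙ (r₁₃ ⋙ qZ)) :=
  ⟨calc
    ι ⋙ (pX ⋙ tN ⋙ qZ) ≅ (ι ⋙ pX) ⋙ tN ⋙ qZ := Iso.refl _
    _ ≅ (F ⋙ ιW) ⋙ tN ⋙ qZ := Functor.isoWhiskerRight eF.symm _
    _ ≅ F ⋙ (ιW ⋙ tN) ⋙ qZ := Iso.refl _
    _ ≅ F ⋙ (ιW ⋙ p₁₃ ⋙ tI ⋙ r₁₃) ⋙ qZ := Functor.isoWhiskerLeft F (Functor.isoWhiskerRight eP _)
    _ ≅ (F ⋙ ιW) ⋙ p₁₃ ⋙ tI ⋙ r₁₃ ⋙ qZ := Iso.refl _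
    _ ≅ (ι ⋙ pX) ⋙ p₁₃ ⋙ tI ⋙ r₁₃ ⋙ qZ := Functor.isoWhiskerRight eF _
    _ ≅ ι ⋙ (pX ⋙ p₁₃) ⋙ tI ⋙ (r₁₃ ⋙ qZ) := Iso.refl _⟩

end Glue

variable {S X Y Z : Scheme.{u}} (a : X ⟶ S) (b : Y ⟶ S) (c : Z ⟶ S)

/-- The composite of two Fourier–Mukai functors is the functor of the composite kernel. -/
theorem nonempty_phi_comp [QuasiCompact a] [QuasiSeparated a] [QuasiCompact b] [QuasiSeparated b]
    (hflat : Flat a ∨ Flat c)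
    (K : CochainComplex (pullback a b).Modules ℤ) (M : CochainComplex (pullback b c).Modules ℤ)
    (hK : DCoh.IsQCohD (DCoh.toD _ K)) (hM : DCoh.IsQCohD (DCoh.toD _ M))
    [DCoh.HasLpull (pullback.fst a b)] [DCoh.HasLTensorCx K] [DCoh.HasRpush (pullback.snd a b)]
    [DCoh.HasLpull (pullback.fst b c)] [DCoh.HasLTensorCx M] [DCoh.HasRpush (pullback.snd b c)]
    [DCoh.HasLpull (FMK.p12 a b c)] [DCoh.HasLpull (FMK.p23 a b c)] [DCoh.HasRpush (FMK.p13 a b c)]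
    [DCoh.HasLpull (pullback.fst a c)] [DCoh.HasRpush (pullback.snd a c)]
    (L : CochainComplex (FMK.T a b c).Modules ℤ) [DCoh.HasLTensorCx L]
    (hL : Nonempty (DCoh.toD _ L ≅ (DCoh.Lpull (FMK.p23 a b c)).obj (DCoh.toD _ M)))
    (N : CochainComplex (pullback a c).Modules ℤ) [DCoh.HasLTensorCx N]
    (hN : Nonempty (DCoh.toD _ N ≅ FMK.conv a b c K L)) :
    Nonempty (ObjectProperty.ι (DCoh.IsQCohD (X := X)) ⋙ FMK.phi a c N ≅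
      ObjectProperty.ι (DCoh.IsQCohD (X := X)) ⋙ FMK.phi a b K ⋙ FMK.phi b c M) := by
  obtain ⟨eL⟩ := hL
  obtain ⟨eN⟩ := hN
  haveI : QuasiCompact (FMK.p13 a b c) :=
    MorphismProperty.of_isPullback (ConvBaseChange.isPullback_p13 a b c).flip inferInstance
  haveI : QuasiSeparated (FMK.p13 a b c) :=
    MorphismProperty.of_isPullback (ConvBaseChange.isPullback_p13 a b c).flip inferInstance
  haveI := hasLpull (FMK.p13 a b c)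
  haveI := hasRpush (FMK.p23 a b c)
  -- the kernels on the triple product
  obtain ⟨K', hK', ⟨eK'⟩⟩ := PullPerf.exists_kflat_rep ((DCoh.Lpull (FMK.p12 a b c)).obj (DCoh.toD _ K))
  obtain ⟨L₀, hL₀, ⟨eL₀⟩⟩ := PullPerf.exists_kflat_rep (DCoh.toD _ L)
  haveI := LTensorSheaf.hasLTensorCx K'
  haveI := LTensorSheaf.hasLTensorCx L₀
  haveI := LTensorSheaf.hasLTensorCx (tot (shT (FMK.T a b c)) K' L₀)
  obtain ⟨cL⟩ := TensorCongr.nonempty_congr (E := L₀) (E' := L) eL₀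
  obtain ⟨eI⟩ := TensorAssoc.nonempty_LTensor_comp K' L₀ hL₀
  have eC : DerivedCategory.Q.obj (tot (shT (FMK.T a b c)) K' L₀) ≅
      (DCoh.LTensorCx L).obj ((DCoh.Lpull (FMK.p12 a b c)).obj (DCoh.toD _ K)) :=
    (LTensorSheaf.ltensorCxIso' hL₀ K').symm ≪≫ cL.app _ ≪≫ (DCoh.LTensorCx L).mapIso eK'
  have hLq : DCoh.IsQCohD (DCoh.toD _ L) := DQCoh.isQCohD_of_iso eL.symm (DQCoh.isQCohD_Lpull _ _ hM)
  have hC : DCoh.IsQCohD (DerivedCategory.Q.obj (tot (shT (FMK.T a b c)) K' L₀)) :=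
    DQCoh.isQCohD_of_iso eC.symm (DQCoh.isQCohD_LTensorCx L hLq _ (DQCoh.isQCohD_Lpull _ _ hK))
  -- base change, projection formulas
  have hsq : IsPullback (FMK.p12 a b c) (FMK.p23 a b c) (pullback.snd a b) (pullback.fst b c) :=
    IsPullback.of_hasPullback _ _
  have hfl : Flat (pullback.snd a b) ∨ Flat (pullback.fst b c) := by
    rcases hflat with h | h
    · exact Or.inl inferInstance
    · exact Or.inr inferInstance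
  obtain ⟨eB⟩ := PhiBaseChange.nonempty_bc (pullback.snd a b) (pullback.fst b c) _ _ hsq hfl
  obtain ⟨eP₁⟩ := ProjNatural.nonempty_proj₁ (FMK.p23 a b c) M hM L ⟨eL⟩
  obtain ⟨eP₂⟩ := ProjNatural.nonempty_proj₂ (FMK.p13 a b c) N _ hC
    ⟨eN ≪≫ (DCoh.Rpush (FMK.p13 a b c)).mapIso eC.symm⟩
  obtain ⟨eK⟩ := PhiBaseChange.nonempty_LTensor_Lpull (FMK.p12 a b c) K K' ⟨eK'⟩
  obtain ⟨eLsq⟩ := PhiBaseChange.nonempty_Lpull_square (FMK.p13 a b c) (pullback.fst a c) (FMK.p12 a b c)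
    (pullback.fst a b) (FMK.p13_fst a b c)
  obtain ⟨eRsq⟩ := BCSquare.exists_e (f := pullback.snd a c) (g := pullback.snd b c) (f' := FMK.p23 a b c)
    (g' := FMK.p13 a b c) (FMK.p13_snd a b c)
  -- the functors on the full subcategories
  let F : ObjectProperty.FullSubcategory (DCoh.IsQCohD (X := X)) ⥤
      ObjectProperty.FullSubcategory (DCoh.IsQCohD (X := pullback a b)) :=
    ObjectProperty.lift _ (ObjectProperty.ι _ ⋙ DCoh.Lpull (pullback.fst a b) ⋙ DCoh.LTensorCx K)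
      fun E => DQCoh.isQCohD_LTensorCx K hK _ (DQCoh.isQCohD_Lpull (pullback.fst a b) _ E.property)
  let G : ObjectProperty.FullSubcategory (DCoh.IsQCohD (X := pullback a b)) ⥤
      ObjectProperty.FullSubcategory (DCoh.IsQCohD (X := FMK.T a b c)) :=
    ObjectProperty.lift _ (ObjectProperty.ι _ ⋙ DCoh.Lpull (FMK.p12 a b c))
      fun E => DQCoh.isQCohD_Lpull (FMK.p12 a b c) _ E.property
  let F' : ObjectProperty.FullSubcategory (DCoh.IsQCohD (X := X)) ⥤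
      ObjectProperty.FullSubcategory (DCoh.IsQCohD (X := pullback a c)) :=
    ObjectProperty.lift _ (ObjectProperty.ι _ ⋙ DCoh.Lpull (pullback.fst a c))
      fun E => DQCoh.isQCohD_Lpull (pullback.fst a c) _ E.property
  obtain ⟨e₁⟩ := nonempty_glue_comp (ObjectProperty.ι (DCoh.IsQCohD (X := X))) (DCoh.Lpull (pullback.fst a b))
    (DCoh.LTensorCx K) (DCoh.Rpush (pullback.snd a b)) (DCoh.Lpull (pullback.fst b c)) (DCoh.LTensorCx M)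
    (DCoh.Rpush (pullback.snd b c)) (DCoh.Lpull (FMK.p12 a b c)) (DCoh.Rpush (FMK.p23 a b c)) (DCoh.LTensorCx L)
    (DCoh.LTensorCx K') (DCoh.LTensorCx (tot (shT (FMK.T a b c)) K' L₀))
    (ObjectProperty.ι (DCoh.IsQCohD (X := pullback a b))) F (Iso.refl _)
    (ObjectProperty.ι (DCoh.IsQCohD (X := FMK.T a b c))) G (Iso.refl _) eB eP₁ eK
    (Functor.isoWhiskerLeft _ cL.symm ≪≫ eI)
  obtain ⟨e₂⟩ := nonempty_glue_kernel (ObjectProperty.ι (DCoh.IsQCohD (X := X))) (DCoh.Lpull (pullback.fst a c))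
    (DCoh.LTensorCx N) (DCoh.Rpush (pullback.snd a c)) (DCoh.Lpull (FMK.p13 a b c))
    (DCoh.LTensorCx (tot (shT (FMK.T a b c)) K' L₀)) (DCoh.Rpush (FMK.p13 a b c))
    (ObjectProperty.ι (DCoh.IsQCohD (X := pullback a c))) F' (Iso.refl _) eP₂
  exact ⟨e₂ ≪≫ Functor.isoWhiskerLeft _ (Functor.isoWhiskerRight eLsq _ ≪≫
    Functor.isoWhiskerLeft _ (Functor.isoWhiskerLeft _ eRsq)) ≪≫ e₁.symm⟩

end Groth.Agent.DCat.PhiConv
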