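import Groth.Agent.DCat.PhiConv
import Groth.Agent.DCat.PhiDiag
import Groth.Agent.DCat.PerfTensor
import Groth.Agent.Dual22Lib.PPFlat

/-!
# Kernels of relative equivalences give equivalences
-/

set_option autoImplicit false
set_option backward.isDefEq.respectTransparency false
set_option backward.defeqAttrib.useBackward true
set_option linter.style.haveILetI false
set_option linter.unusedVariables false

universe u

open CategoryTheory CategoryTheory.Limits AlgebraicGeometry HomologicalComplex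
open Groth.Agent.Dual22Lib

attribute [local instance] HasDerivedCategory.standard

namespace Groth.Agent.DCat.PhiEquiv

variable {S X Y : Scheme.{u}} (a : X ⟶ S) (b : Y ⟶ S) [Smooth a] [IsProper a] [Smooth b] [IsProper b]

/-- A kernel with composite kernel the diagonal gives a left inverse. -/
theorem nonempty_comp_iso (K : CochainComplex (pullback a b).Modules ℤ) (hK : DCoh.IsPerfect (DCoh.toD _ K))
    [DCoh.HasLpull (pullback.fst a b)] [DCoh.HasLTensorCx K] [DCoh.HasRpush (pullback.snd a b)]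
    [DCoh.HasLpull (FMK.p12 a b a)] [DCoh.HasRpush (FMK.p13 a b a)]
    [∀ L : CochainComplex (FMK.T a b a).Modules ℤ, DCoh.HasLTensorCx L]
    (K' : CochainComplex (pullback b a).Modules ℤ) (hK' : DCoh.IsPerfect (DCoh.toD _ K'))
    [DCoh.HasLpull (pullback.fst b a)] [DCoh.HasLTensorCx K'] [DCoh.HasRpush (pullback.snd b a)]
    (h : Nonempty (FMK.diagO a ≅ FMK.conv a b a K ((FMK.cxPull (FMK.p23 a b a)).obj K'))) :
    Nonempty (ObjectProperty.ι (DCoh.IsQCohD (X := X)) ⋙ FMK.phi a b K ⋙ FMK.phi b a K' ≅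
      ObjectProperty.ι (DCoh.IsQCohD (X := X))) := by
  obtain ⟨h⟩ := h
  haveI := hasLpull (FMK.p23 a b a)
  haveI := hasLpull (pullback.fst a a)
  haveI := hasRpush (pullback.snd a a)
  obtain ⟨eL⟩ := FlatBC14.nonempty_Lpull_Q (FMK.p23 a b a) K'
  let N := (single (pullback a a).Modules (ComplexShape.up ℤ) 0).obj
    ((Scheme.Modules.pushforward (pullback.diagonal a)).obj (Coh.structureModule X))
  haveI := LTensorSheaf.hasLTensorCx N
  let eN : DCoh.toD _ N ≅ FMK.diagO a := ((DerivedCategory.singleFunctorIsoCompQ _ 0).app _).symm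
  obtain ⟨e₁⟩ := PhiDiag.nonempty_phi_diag a N ⟨eN⟩
  obtain ⟨e₂⟩ := PhiConv.nonempty_phi_comp a b a (Or.inl inferInstance) K K'
    (PerfLift.isQCohD_perfect hK) (PerfLift.isQCohD_perfect hK') _ ⟨eL.symm⟩ N ⟨eN ≪≫ h⟩
  exact ⟨e₂.symm ≪≫ Functor.isoWhiskerLeft _ e₁ ≪≫ Functor.rightUnitor _⟩

/-- Fourier–Mukai functors of perfect kernels preserve perfect objects. -/
theorem isPerfect_phi (K : CochainComplex (pullback a b).Modules ℤ) (hK : DCoh.IsPerfect (DCoh.toD _ K))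
    [DCoh.HasLpull (pullback.fst a b)] [DCoh.HasLTensorCx K] [DCoh.HasRpush (pullback.snd a b)]
    (M : DCoh.D X) (hM : DCoh.IsPerfect M) : DCoh.IsPerfect ((FMK.phi a b K).obj M) := by
  obtain ⟨P, hP, ⟨eP⟩⟩ := PullPerf.exists_kflat_rep (DCoh.toD _ K)
  haveI := LTensorSheaf.hasLTensorCx P
  obtain ⟨c⟩ := TensorCongr.nonempty_congr (E := K) (E' := P) eP.symm
  refine PPFlat.pp_flat (pullback.snd a b) _ (PCTriangle.perfect_iso (c.app _).symm
    (PerfTensor.isPerfect_LTensor hP (PCTriangle.perfect_iso eP.symm hK) _ (PullPerf.isPerfect_Lpull _ M hM)))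

/-- A pair of mutually inverse functors on a full subcategory. -/
theorem isEquivalence_lift {C D : Type*} [Category C] [Category D] (P : ObjectProperty C) (Q : ObjectProperty D)
    (F : C ⥤ D) (G : D ⥤ C) (hF : ∀ M, P M → Q (F.obj M)) (hG : ∀ M, Q M → P (G.obj M))
    (u : Nonempty (P.ι ⋙ F ⋙ G ≅ P.ι)) (v : Nonempty (Q.ι ⋙ G ⋙ F ≅ Q.ι)) :
    (ObjectProperty.lift Q (P.ι ⋙ F) fun M => hF M.obj M.property).IsEquivalence := by
  obtain ⟨u⟩ := u
  obtain ⟨v⟩ := v
  let F' : P.FullSubcategory ⥤ Q.FullSubcategory := ObjectProperty.lift Q (P.ι ⋙ F) fun M => hF M.obj M.property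
  let G' : Q.FullSubcategory ⥤ P.FullSubcategory := ObjectProperty.lift P (Q.ι ⋙ G) fun M => hG M.obj M.property
  exact (CategoryTheory.Equivalence.mk F' G'
    (Functor.fullyFaithfulCancelRight P.ι
      (show 𝟭 _ ⋙ P.ι ≅ (F' ⋙ G') ⋙ P.ι from Functor.leftUnitor _ ≪≫ u.symm))
    (Functor.fullyFaithfulCancelRight Q.ι
      (show (G' ⋙ F') ⋙ Q.ι ≅ 𝟭 _ ⋙ Q.ι from v ≪≫ (Functor.leftUnitor _).symm))).isEquivalence_functor

/-- Equivalence on `D_QCoh`. -/
theorem isEquivalence_qcoh (K : CochainComplex (pullback a b).Modules ℤ)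
    [DCoh.HasLpull (pullback.fst a b)] [DCoh.HasLTensorCx K] [DCoh.HasRpush (pullback.snd a b)]
    [DCoh.HasLpull (FMK.p12 a b a)] [DCoh.HasRpush (FMK.p13 a b a)]
    [∀ L : CochainComplex (FMK.T a b a).Modules ℤ, DCoh.HasLTensorCx L]
    [DCoh.HasLpull (FMK.p12 b a b)] [DCoh.HasRpush (FMK.p13 b a b)]
    [∀ L : CochainComplex (FMK.T b a b).Modules ℤ, DCoh.HasLTensorCx L]
    (hK : FMK.IsRelEquivKernel a b K)
    (h : ∀ M : DCoh.D X, DCoh.IsQCohD M → DCoh.IsQCohD ((FMK.phi a b K).obj M)) :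
    (FMK.phiOn a b K DCoh.IsQCohD DCoh.IsQCohD h).IsEquivalence := by
  obtain ⟨hKp, K', hK', e₁, e₂⟩ := hK
  haveI := hasLpull (pullback.fst b a)
  haveI := hasRpush (pullback.snd b a)
  haveI := LTensorSheaf.hasLTensorCx K'
  exact isEquivalence_lift _ _ _ (FMK.phi b a K') h
    (fun M hM => DQCoh.isQCohD_Rpush (pullback.snd b a) _
      (DQCoh.isQCohD_LTensorCx K' (PerfLift.isQCohD_perfect hK') _ (DQCoh.isQCohD_Lpull (pullback.fst b a) _ hM)))
    (nonempty_comp_iso a b K hKp K' hK' e₁) (nonempty_comp_iso b a K' hK' K hKp e₂)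

/-- Equivalence on perfect objects. -/
theorem isEquivalence_perfect (K : CochainComplex (pullback a b).Modules ℤ)
    [DCoh.HasLpull (pullback.fst a b)] [DCoh.HasLTensorCx K] [DCoh.HasRpush (pullback.snd a b)]
    [DCoh.HasLpull (FMK.p12 a b a)] [DCoh.HasRpush (FMK.p13 a b a)]
    [∀ L : CochainComplex (FMK.T a b a).Modules ℤ, DCoh.HasLTensorCx L]
    [DCoh.HasLpull (FMK.p12 b a b)] [DCoh.HasRpush (FMK.p13 b a b)]
    [∀ L : CochainComplex (FMK.T b a b).Modules ℤ, DCoh.HasLTensorCx L]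
    (hK : FMK.IsRelEquivKernel a b K)
    (h : ∀ M : DCoh.D X, SGA6.perfP X M → SGA6.perfP Y ((FMK.phi a b K).obj M)) :
    (FMK.phiOn a b K (SGA6.perfP X) (SGA6.perfP Y) h).IsEquivalence := by
  obtain ⟨hKp, K', hK', e₁, e₂⟩ := hK
  haveI := hasLpull (pullback.fst b a)
  haveI := hasRpush (pullback.snd b a)
  haveI := LTensorSheaf.hasLTensorCx K'
  obtain ⟨u⟩ := nonempty_comp_iso a b K hKp K' hK' e₁
  obtain ⟨v⟩ := nonempty_comp_iso b a K' hK' K hKp e₂
  exact isEquivalence_lift _ _ _ (FMK.phi b a K') h (fun M hM => isPerfect_phi b a K' hK' M hM)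
    ⟨Functor.isoWhiskerLeft (ObjectProperty.ιOfLE (P := SGA6.perfP X) (P' := DCoh.IsQCohD)
      fun M hM => PerfLift.isQCohD_perfect hM) u⟩
    ⟨Functor.isoWhiskerLeft (ObjectProperty.ιOfLE (P := SGA6.perfP Y) (P' := DCoh.IsQCohD)
      fun M hM => PerfLift.isQCohD_perfect hM) v⟩

end Groth.Agent.DCat.PhiEquiv
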