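import Groth.Agent.DCat.DerivedAdj
import Groth.Agent.DCat.RDPlus
import Groth.Agent.DCat.RDUnbounded
import Mathlib.CategoryTheory.Functor.Derived.Adjunction
import Mathlib.Algebra.Homology.DerivedCategory.RightDerivedFunctorPlus
import Mathlib.Algebra.Homology.DerivedCategory.ExactFunctor

/-! Derived adjunction on bounded below derived categories. -/

set_option autoImplicit false
set_option backward.isDefEq.respectTransparency false
set_option backward.defeqAttrib.useBackward true
set_option linter.style.haveILetI false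

universe w v u

open CategoryTheory CategoryTheory.Limits

namespace Groth.Agent.DCat

theorem nonempty_plus_adj {A B : Type u} [Category.{v} A] [Category.{v} B]
    [Abelian A] [Abelian B] [HasDerivedCategory.{w} A] [HasDerivedCategory.{w} B]
    [EnoughInjectives A] [EnoughInjectives B] {L : A ⥤ B} {R : B ⥤ A} (adj : L ⊣ R)
    [L.Additive] [R.Additive] [PreservesFiniteLimits L] [PreservesFiniteColimits L] :
    Nonempty (L.rightDerivedFunctorPlus ⊣ R.rightDerivedFunctorPlus) := by
  let W₁ := HomotopyCategory.Plus.quasiIso A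
  let W₂ := HomotopyCategory.Plus.quasiIso B
  haveI : W₁.HasRightCalculusOfFractions := by
    simp only [W₁, HomotopyCategory.Plus.quasiIso_eq_subcategoryAcyclic_trW]; infer_instance
  haveI : W₂.HasLeftCalculusOfFractions := by
    simp only [W₂, HomotopyCategory.Plus.quasiIso_eq_subcategoryAcyclic_trW]; infer_instance
  let Lh := L.mapHomotopyCategoryPlus
  let Rh := R.mapHomotopyCategoryPlus
  let QA : HomotopyCategory.Plus A ⥤ DerivedCategory.Plus A := DerivedCategory.Plus.Qh
  let QB : HomotopyCategory.Plus B ⥤ DerivedCategory.Plus B := DerivedCategory.Plus.Qh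
  have hL : W₁.IsInvertedBy (Lh ⋙ QB) := fun X Y s hs => by
    haveI : IsIso (DerivedCategory.Qh.map ((L.mapHomotopyCategory (ComplexShape.up ℤ)).map s.hom)) := by
      haveI := Localization.inverts DerivedCategory.Qh (HomotopyCategory.quasiIso A (ComplexShape.up ℤ)) s.hom hs
      exact (NatIso.isIso_map_iff L.mapDerivedCategoryFactorsh s.hom).1 (Functor.map_isIso L.mapDerivedCategory (DerivedCategory.Qh.map s.hom))
    haveI : IsIso (DerivedCategory.Plus.ι.map ((Lh ⋙ QB).map s)) := ‹_›
    exact isIso_of_reflects_iso _ (DerivedCategory.Plus.ι (C := B))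
  let L' := L.rightDerivedFunctorPlus
  let R' := R.rightDerivedFunctorPlus
  have hu : IsIso L.rightDerivedFunctorPlusUnit := by
    let G := Localization.lift (Lh ⋙ QB) hL QA
    let e : QA ⋙ G ≅ Lh ⋙ QB := Localization.fac _ hL QA
    haveI := Functor.isRightDerivedFunctor_of_inverts W₁ G e
    have e' := L'.rightDerived_fac L.rightDerivedFunctorPlusUnit W₁ G e.inv
    haveI : IsIso (L'.rightDerivedDesc L.rightDerivedFunctorPlusUnit W₁ G e.inv) :=
      (L'.isRightDerivedFunctor_iff_isIso_rightDerivedDesc L.rightDerivedFunctorPlusUnit W₁ G e.inv).1 inferInstance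
    haveI : IsIso (L.rightDerivedFunctorPlusUnit ≫
        Functor.whiskerLeft QA (L'.rightDerivedDesc L.rightDerivedFunctorPlusUnit W₁ G e.inv)) := by
      rw [e']; infer_instance
    exact IsIso.of_isIso_comp_right L.rightDerivedFunctorPlusUnit
      (Functor.whiskerLeft QA (L'.rightDerivedDesc L.rightDerivedFunctorPlusUnit W₁ G e.inv))
  let eL : QA ⋙ L' ≅ Lh ⋙ QB := (asIso L.rightDerivedFunctorPlusUnit).symm
  haveI hαI : IsIso eL.hom := inferInstance
  let α := eL.hom
  let β := R.rightDerivedFunctorPlusUnit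
  haveI : L'.IsLeftDerivedFunctor α W₁ := Functor.isLeftDerivedFunctor_of_inverts W₁ L' eL
  haveI : (L' ⋙ R').IsLeftDerivedFunctor ((Functor.associator _ _ _).inv ≫ Functor.whiskerRight α R') W₁ :=
    isLeftDerived_of_isIso (P := ⊤) (fun X => ⟨X, 𝟙 X, trivial, W₁.id_mem _⟩)
      (fun X Y s _ _ hs => by
        haveI := hL s hs
        exact Functor.map_isIso R' ((Lh ⋙ QB).map s)) _ fun X _ => by
      dsimp [α]
      infer_instance
  let P : ObjectProperty (HomotopyCategory.Plus B) := fun X => ∀ m, Injective (X.obj.as.X m)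
  have hres : ∀ X, ∃ (X' : HomotopyCategory.Plus B) (s : X ⟶ X'), P X' ∧ W₂ s := fun X => by
    obtain ⟨n, hn⟩ := (HomotopyCategory.plus_quotient_obj_iff X.obj.as).1 X.property
    haveI := hn
    obtain ⟨K, i, hq, hK, hn'⟩ := CochainComplex.Plus.modelCategoryQuillen.exists_quasiIso_injective X.obj.as n
    exact ⟨⟨(HomotopyCategory.quotient B _).obj K, (HomotopyCategory.plus_quotient_obj_iff K).2 ⟨n, inferInstance⟩⟩,
      ObjectProperty.homMk ((HomotopyCategory.quotient B _).map i), hK,
      (HomotopyCategory.quotient_map_mem_quasiIso_iff i).2 hq⟩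
  have hinv : ∀ ⦃X Y : HomotopyCategory.Plus B⦄ (s : X ⟶ Y), P X → P Y → W₂ s → IsIso s := by
    intro X Y s hX hY hs
    have hk : ∀ Z : HomotopyCategory.Plus B, P Z → CochainComplex.IsKInjective Z.obj.as := fun Z hZ => by
      obtain ⟨n, hn⟩ := (HomotopyCategory.plus_quotient_obj_iff Z.obj.as).1 Z.property
      haveI := hn
      haveI : ∀ m, Injective (Z.obj.as.X m) := fun m => hZ m
      exact CochainComplex.isKInjective_of_injective Z.obj.as n
    haveI := kInj_isIso s.hom (hk X hX) (hk Y hY) hs
    haveI : IsIso ((HomotopyCategory.Plus.ι B).map s) := this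
    exact isIso_of_reflects_iso _ (HomotopyCategory.Plus.ι B)
  have hinv' : ∀ ⦃X Y : HomotopyCategory.Plus B⦄ (s : X ⟶ Y), P X → P Y → W₂ s → IsIso ((Rh ⋙ QA).map s) :=
    fun X Y s hX hY hs => by haveI := hinv s hX hY hs; infer_instance
  haveI : (R' ⋙ L').IsRightDerivedFunctor (Functor.whiskerRight β L' ≫ (Functor.associator _ _ _).hom) W₂ :=
    isRightDerived_of_isIso hres (fun X Y s hX hY hs => by
        haveI := hinv' s hX hY hs
        exact Functor.map_isIso L' ((Rh ⋙ QA).map s)) _ fun X hX => by
      haveI := isIso_unit_of_mem hres hinv' β hX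
      dsimp
      infer_instance
  let adjP : Lh ⊣ Rh := (adjHot (ComplexShape.up ℤ) adj).restrictFullyFaithful
    (ObjectProperty.fullyFaithfulι _) (ObjectProperty.fullyFaithfulι _) (Iso.refl _) (Iso.refl _)
  exact ⟨adjP.derived W₁ W₂ α β⟩

end Groth.Agent.DCat
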