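import Groth.Agent.ModStalk.SkyStalk
import Groth.Agent.DCat.WayOut
import Groth.Agent.Et18.DerivedExactAdj
import Groth.Agent.CycLib28.PushStalk
import Groth.Agent.AssSch12.Primary
import Groth.Prelude.Def_DCoh2
import Mathlib.AlgebraicGeometry.Morphisms.ClosedImmersion

/-!
# Maps to the sheaf of a closed point
-/

set_option autoImplicit false
set_option backward.isDefEq.respectTransparency false
set_option backward.defeqAttrib.useBackward true
set_option linter.style.haveILetI false
set_option linter.unusedSectionVars false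

universe u v w

open CategoryTheory CategoryTheory.Limits AlgebraicGeometry TopologicalSpace Opposite

attribute [local instance] HasDerivedCategory.standard

namespace Groth.Agent.DCat.PointHom

section LocalAlgebra

variable {R : Type u} [CommRing R] [IsLocalRing R]

/-- A nonzero finite module maps nontrivially to a module with a nonzero element killed by the maximal ideal. -/
theorem exists_ne_zero (H N : Type v) [AddCommGroup H] [Module R H] [Module.Finite R H] [Nontrivial H]
    [AddCommGroup N] [Module R N] (n : N) (hn : n ≠ 0) (hk : ∀ r ∈ IsLocalRing.maximalIdeal R, r • n = 0) :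
    ∃ g : H →ₗ[R] N, g ≠ 0 := by
  let m := IsLocalRing.maximalIdeal R
  letI : Field (R ⧸ m) := Ideal.Quotient.field m
  have htop : (m • ⊤ : Submodule R H) ≠ ⊤ := fun h => by
    have := Submodule.eq_bot_of_le_smul_of_le_jacobson_bot m ⊤ Module.Finite.fg_top h.ge (IsLocalRing.maximalIdeal_le_jacobson _)
    exact top_ne_bot this
  obtain ⟨v, hv⟩ : ∃ v : H, v ∉ (m • ⊤ : Submodule R H) := SetLike.exists_of_lt htop.lt_top |>.imp fun _ h => h.2
  have hv' : (Submodule.mkQ (m • ⊤ : Submodule R H) v) ≠ 0 := by
    simpa [Submodule.Quotient.mk_eq_zero] using hv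
  obtain ⟨f, hf⟩ : ∃ f : (H ⧸ (m • ⊤ : Submodule R H)) →ₗ[R ⧸ m] (R ⧸ m), f (Submodule.mkQ (m • ⊤ : Submodule R H) v) ≠ 0 := by
    by_contra hc
    push Not at hc
    exact hv' ((Module.forall_dual_apply_eq_zero_iff (R ⧸ m) _).1 hc)
  let ψ : (R ⧸ m) →ₗ[R] N := Submodule.liftQ m (LinearMap.toSpanSingleton R N n) fun r hr => hk r hr
  refine ⟨ψ ∘ₗ f.restrictScalars R ∘ₗ Submodule.mkQ _, fun h => ?_⟩
  obtain ⟨r, hr⟩ := Ideal.Quotient.mk_surjective (f (Submodule.mkQ (m • ⊤ : Submodule R H) v))
  have h1 : r • n = 0 := by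
    have h2 := LinearMap.congr_fun h v
    simp only [LinearMap.comp_apply, LinearMap.coe_restrictScalars, LinearMap.zero_apply] at h2
    rw [← hr] at h2
    exact h2
  have hu : IsUnit r := by
    by_contra hnu
    exact hf (hr ▸ Ideal.Quotient.eq_zero_iff_mem.2 hnu)
  exact hn (hu.smul_eq_zero.1 h1)

variable [IsNoetherianRing R]

open DerivedCategory in
/-- Vanishing of cohomology above a degree, tested by maps to a module with an element killed by the maximal ideal. -/
theorem vanish_iff_hom (K : DerivedCategory (ModuleCat.{u} R)) (c : ℤ) [K.IsLE c]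
    (hfin : ∀ i, Module.Finite R ((homologyFunctor (ModuleCat.{u} R) i).obj K)) (N : ModuleCat.{u} R) (n : N)
    (hn : n ≠ 0) (hk : ∀ r ∈ IsLocalRing.maximalIdeal R, r • n = 0) (b : ℤ) :
    (∀ i, b < i → IsZero ((homologyFunctor (ModuleCat.{u} R) i).obj K)) ↔
      ∀ i, b < i → ∀ φ : K ⟶ (singleFunctor (ModuleCat.{u} R) i).obj N, φ = 0 := by
  let t : Triangulated.TStructure (DerivedCategory (ModuleCat.{u} R)) := TStructure.t
  constructor
  · intro h i hi φ
    haveI : K.IsLE b := (isLE_iff K b).2 h
    exact t.zero φ b i hi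
  · intro h
    have key : ∀ k : ℕ, ∀ i, b < i → c - k < i → IsZero ((homologyFunctor (ModuleCat.{u} R) i).obj K) := by
      intro k
      induction k with
      | zero => intro i _ hi; exact isZero_of_isLE K c i (by simpa using hi)
      | succ k ih =>
        intro i hbi hi
        by_cases hki : c - k < i
        · exact ih i hbi hki
        haveI : K.IsLE i := (isLE_iff K i).2 fun j hj => ih j (by omega) (by omega)
        have h1 := epi_homology_truncGEπ K i i
        have h2 : Mono ((homologyFunctor (ModuleCat.{u} R) i).map ((t.truncGEπ i).app K)) := by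
          refine (HomologySequence.mono_homologyMap_mor₂_iff _ (t.triangleLTGE_distinguished i K) i).2 ?_
          haveI : ((t.truncLT i).obj K).IsLE (i - 1) := t.isLE_truncLT_obj _ _ _ (by omega)
          exact (isZero_of_isLE _ (i - 1) i (by omega)).eq_of_src _ _
        have := isIso_of_mono_of_epi ((homologyFunctor (ModuleCat.{u} R) i).map ((t.truncGEπ i).app K))
        haveI : ((t.truncGE i).obj K).IsGE i := inferInstance
        haveI : ((t.truncGE i).obj K).IsLE i := inferInstance
        obtain ⟨H, ⟨e⟩⟩ := exists_iso_singleFunctor_obj_of_isGE_of_isLE ((t.truncGE i).obj K) i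
        let eH : (homologyFunctor (ModuleCat.{u} R) i).obj K ≅ H :=
          asIso ((homologyFunctor (ModuleCat.{u} R) i).map ((t.truncGEπ i).app K)) ≪≫
            (homologyFunctor (ModuleCat.{u} R) i).mapIso e ≪≫
              (singleFunctorCompHomologyFunctorIso (ModuleCat.{u} R) i).app H
        refine IsZero.of_iso ?_ eH
        haveI := hfin i
        haveI : Module.Finite R H := Module.Finite.equiv eH.toLinearEquiv
        by_contra hH
        haveI : Nontrivial H := not_subsingleton_iff_nontrivial.1 fun hs => hH (ModuleCat.isZero_of_subsingleton H)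
        obtain ⟨g, hg⟩ := exists_ne_zero H N n hn hk
        have h0 := h i hbi ((t.truncGEπ i).app K ≫ e.hom ≫ (singleFunctor (ModuleCat.{u} R) i).map (ModuleCat.ofHom g))
        have h0' : e.hom ≫ (singleFunctor (ModuleCat.{u} R) i).map (ModuleCat.ofHom g) = 0 :=
          t.from_truncGE_obj_ext (by rw [h0, comp_zero])
        rw [← cancel_epi e.inv, e.inv_hom_id_assoc, comp_zero] at h0'
        have h0'' : ModuleCat.ofHom g = 0 := (singleFunctor (ModuleCat.{u} R) i).map_injective
          (by rw [h0', Functor.map_zero])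
        exact hg (congrArg ModuleCat.Hom.hom h0'')
    intro i hi
    exact key (c - i + 1).toNat i hi (by omega)

end LocalAlgebra

variable {X : Scheme.{u}} (x : X)

/-- The sheaf of a point. -/
noncomputable abbrev ptMod : X.Modules := (Coh.push (X.fromSpecResidueField x)).obj (Coh.structureModule _)

/-- Stalks of the sheaf of a closed point away from it. -/
theorem subsingleton_stalk_ptMod (hx : IsClosed ({x} : Set X)) (y : X) (hy : y ≠ x) :
    Subsingleton ((ptMod x).presheaf.stalk y) := by
  haveI : IsClosedImmersion (X.fromSpecResidueField x) := isClosed_singleton_iff_isClosedImmersion.1 hx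
  exact CycLib28.subsingleton_stalk_push _ _ (by rw [Scheme.range_fromSpecResidueField]; exact hy)

/-- The stalk of the sheaf of a closed point has a nonzero element killed by the maximal ideal. -/
theorem exists_killed (hx : IsClosed ({x} : Set X)) :
    ∃ n : (DerSch.stalkFunctor X x).obj (ptMod x), n ≠ 0 ∧
      ∀ r ∈ IsLocalRing.maximalIdeal (X.presheaf.stalk x), r • n = 0 := by
  let i := X.fromSpecResidueField x
  haveI : IsClosedImmersion i := isClosed_singleton_iff_isClosedImmersion.1 hx
  let z : Spec (X.residueField x) := IsLocalRing.closedPoint _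
  have hz : i z = x := Scheme.fromSpecResidueField_apply x z
  suffices H : ∀ y : X, y = i z → ∃ n : (DerSch.stalkFunctor X y).obj (ptMod x), n ≠ 0 ∧
      ∀ r ∈ IsLocalRing.maximalIdeal (X.presheaf.stalk y), r • n = 0 from H x hz.symm
  rintro _ rfl
  let O := Coh.structureModule (Spec (X.residueField x))
  haveI : IsIso (CycLib28.pushStalkHom i O z) :=
    TopCat.Presheaf.stalkPushforward.stalkPushforward_iso_of_isInducing Ab.{u} i.isClosedEmbedding.isInducing O.presheaf z
  have hb := ConcreteCategory.bijective_of_isIso (CycLib28.pushStalkHom i O z)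
  have hmax : ∀ a : (Spec (X.residueField x)).presheaf.stalk z,
      a ∈ IsLocalRing.maximalIdeal ((Spec (X.residueField x)).presheaf.stalk z) → a = 0 := by
    intro a ha
    letI : Algebra (X.residueField x) ((Spec (X.residueField x)).presheaf.stalk z) := StructureSheaf.stalkAlgebra _ z
    haveI : IsLocalization.AtPrime ((Spec (X.residueField x)).presheaf.stalk z) z.asIdeal :=
      StructureSheaf.IsLocalization.to_stalk (X.residueField x) z
    obtain ⟨⟨r, s⟩, rfl⟩ := IsLocalization.mk'_surjective z.asIdeal.primeCompl a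
    have hr : r = 0 := by
      by_contra hr
      exact ha ((IsLocalization.AtPrime.isUnit_mk'_iff ((Spec (X.residueField x)).presheaf.stalk z) z.asIdeal r s).2
        (fun hmem => z.2.ne_top (Ideal.eq_top_of_isUnit_mem _ hmem (Ne.isUnit hr))))
    exact hr ▸ IsLocalization.mk'_zero s
  obtain ⟨n, hn⟩ := hb.2 (AssSch12.unitOne z)
  refine ⟨n, fun h0 => ?_, fun r hr => hb.1 ?_⟩
  · rw [h0, map_zero] at hn
    refine one_ne_zero ((AssSch12.bijective_smul_unitOne z).1 (a₁ := 1) (a₂ := 0) ?_)
    dsimp only
    rw [← hn, smul_zero, zero_smul]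
  · refine (CycLib28.pushStalkHom_smul i O z r n).trans ?_
    have h0 : (i.stalkMap z).hom r = 0 := hmax _ fun hu => hr (isUnit_of_map_unit (i.stalkMap z).hom r hu)
    rw [h0]
    refine (zero_smul _ _).trans ?_
    exact (map_zero (CycLib28.pushStalkHom i O z).hom).symm

/-- The sheaf of a closed point is a skyscraper. -/
theorem isIso_unit (hx : IsClosed ({x} : Set X)) : IsIso ((ModStalk.stalkAdj x).unit.app (ptMod x)) := by
  refine ModStalk.isIso_of_stalks _ fun y => ?_
  by_cases hy : y = x
  · subst hy
    have h := (ModStalk.stalkAdj y).left_triangle_components (ptMod y)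
    haveI : IsIso ((ModStalk.stalkAdj y).counit.app ((DerSch.stalkFunctor X y).obj (ptMod y))) := by
      haveI := (ModStalk.stalkAdj y).isIso_counit_of_iso (ModStalk.skyStalkIso y)
      infer_instance
    exact IsIso.of_isIso_fac_right h
  · refine ⟨0, IsZero.eq_of_src ?_ _ _, IsZero.eq_of_src ?_ _ _⟩
    · haveI := subsingleton_stalk_ptMod x hx y hy
      exact @ModuleCat.isZero_of_subsingleton _ _ _ (subsingleton_stalk_ptMod x hx y hy)
    · refine @ModuleCat.isZero_of_subsingleton _ _ _ (subsingleton_of_forall_eq 0 fun u => ?_)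
      let A := (DerSch.stalkFunctor X x).obj (ptMod x)
      obtain ⟨V, hzV, s, rfl⟩ := ((ModStalk.sky x).obj A).presheaf.exists_germ_eq u
      let W : X.Opens := V ⊓ ⟨{x}ᶜ, hx.isOpen_compl⟩
      rw [← TopCat.Presheaf.germ_res_apply ((ModStalk.sky x).obj A).presheaf (homOfLE (inf_le_left : W ≤ V)) y ⟨hzV, hy⟩]
      refine (congrArg _ (ModStalk.sval_ext (A := A) (U := W) fun h => absurd rfl h.2)).trans (map_zero _)

open DerivedCategory in
theorem main [IsLocallyNoetherian X] (hx : IsClosed ({x} : Set X)) (K : DCoh.D X) (hK : DCoh.IsCohD K) (c : ℤ)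
    [K.IsLE c] (b : ℤ) :
    (∀ i : ℤ, b < i → x ∉ CohB1.support (DCoh.HD K i)) ↔
      ∀ i : ℤ, b < i → ∀ φ : K ⟶ (shiftFunctor (DCoh.D X) (-i)).obj (DCoh.inD X (ptMod x)), φ = 0 := by
  let G := DerSch.stalkFunctor X x
  let F := ModStalk.sky (X := X) x
  haveI : G.Additive := Functor.additive_of_preserves_binary_products G
  haveI := ModStalk.preservesFiniteLimits_sky (X := X) x
  haveI := ModStalk.preservesFiniteColimits_sky (X := X) x
  let : CatCommSq (G.mapHomologicalComplex (ComplexShape.up ℤ)) Q Q G.mapDerivedCategory :=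
    ⟨G.mapDerivedCategoryFactors.symm⟩
  let : CatCommSq (F.mapHomologicalComplex (ComplexShape.up ℤ)) Q Q F.mapDerivedCategory :=
    ⟨F.mapDerivedCategoryFactors.symm⟩
  let adjD : G.mapDerivedCategory ⊣ F.mapDerivedCategory :=
    (Et18.DerivedExactAdj.adjCx (ModStalk.stalkAdj x)).localization Q (HomologicalComplex.quasiIso _ _)
      Q (HomologicalComplex.quasiIso _ _) G.mapDerivedCategory F.mapDerivedCategory
  let K' := G.mapDerivedCategory.obj K
  let N := G.obj (ptMod x)
  have eH : ∀ i, Nonempty ((homologyFunctor (ModuleCat.{u} (X.presheaf.stalk x)) i).obj K' ≅ G.obj (DCoh.HD K i)) := fun i => by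
    let C := Q.objPreimage K
    let e : Q.obj C ≅ K := Q.objObjPreimageIso K
    exact ⟨(homologyFunctor _ i).mapIso (G.mapDerivedCategory.mapIso e.symm ≪≫ G.mapDerivedCategoryFactors.app C) ≪≫
      (homologyFunctorFactors _ i).app _ ≪≫ (C.sc i).mapHomologyIso G ≪≫
      G.mapIso (((homologyFunctorFactors X.Modules i).app C).symm ≪≫ (homologyFunctor X.Modules i).mapIso e)⟩
  haveI : K'.IsLE c := (isLE_iff K' c).2 fun i hi => (G.map_isZero (isZero_of_isLE K c i hi)).of_iso (eH i).some
  have hfin : ∀ i, Module.Finite (X.presheaf.stalk x) ((homologyFunctor (ModuleCat.{u} (X.presheaf.stalk x)) i).obj K') := fun i => by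
    haveI : Module.Finite (X.presheaf.stalk x) (G.obj (DCoh.HD K i)) := AssSch12.finite_stalk (hK i) x
    exact Module.Finite.equiv (eH i).some.symm.toLinearEquiv
  have hsupp : ∀ i, x ∉ CohB1.support (DCoh.HD K i) ↔ IsZero ((homologyFunctor (ModuleCat.{u} (X.presheaf.stalk x)) i).obj K') := fun i => by
    rw [(eH i).some.isZero_iff, CohB1.support, Set.mem_ofPred_eq, not_not]
    exact ⟨fun h => @ModuleCat.isZero_of_subsingleton _ _ _ h, fun h => ModuleCat.subsingleton_of_isZero h⟩
  haveI := isIso_unit x hx
  let eT : ∀ i : ℤ, F.mapDerivedCategory.obj ((singleFunctor _ i).obj N) ≅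
      (shiftFunctor (DCoh.D X) (-i)).obj (DCoh.inD X (ptMod x)) := fun i =>
    (F.mapDerivedCategorySingleFunctor i).app N ≪≫
      (singleFunctor X.Modules i).mapIso (asIso ((ModStalk.stalkAdj x).unit.app (ptMod x))).symm ≪≫
      (((singleFunctors X.Modules).shiftIso (-i) i 0 (by omega)).app (ptMod x)).symm
  have hhom : ∀ i : ℤ, (∀ φ : K ⟶ (shiftFunctor (DCoh.D X) (-i)).obj (DCoh.inD X (ptMod x)), φ = 0) ↔
      ∀ ψ : K' ⟶ (singleFunctor _ i).obj N, ψ = 0 := fun i => by
    let E : (K' ⟶ (singleFunctor _ i).obj N) ≃ (K ⟶ (shiftFunctor (DCoh.D X) (-i)).obj (DCoh.inD X (ptMod x))) :=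
      (adjD.homEquiv _ _).trans ((Iso.refl K).homCongr (eT i))
    constructor
    · exact fun h ψ => E.injective ((h _).trans (h _).symm)
    · exact fun h φ => E.symm.injective ((h _).trans (h _).symm)
  obtain ⟨n, hn, hk⟩ := exists_killed x hx
  simp only [hsupp, hhom]
  exact vanish_iff_hom K' c hfin N n hn hk b

end Groth.Agent.DCat.PointHom
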