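import Groth.Agent.DCat.TotHom
import Groth.Agent.DCat.RHomLeft
import Groth.Agent.DCat.OpenDerived
import Groth.Agent.DCat.ShriekTensor
import Groth.Agent.Coherent.ProjFormula

/-! The projection map for total tensor complexes, locally at finite free modules. -/

set_option autoImplicit false
set_option backward.isDefEq.respectTransparency false
set_option backward.defeqAttrib.useBackward true
set_option linter.style.haveILetI false

universe u

open CategoryTheory CategoryTheory.Limits AlgebraicGeometry Opposite TopologicalSpace HomologicalComplex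
open Groth.Agent.ModStalk Groth.Agent.Coherent Groth.Agent.PicLib Groth.Agent.AmpleLib

namespace Groth.Agent.DCat.ProjPerf

variable {X Y : Scheme.{u}} (f : X ⟶ Y)

/-- The projection map, twisted to have the pulled back module on the right. -/
noncomputable def theta (M : X.Modules) (N : Y.Modules) :
    ((shT Y).obj ((Scheme.Modules.pushforward f).obj M)).obj N ⟶
      (Scheme.Modules.pushforward f).obj (((shT X).obj M).obj ((Scheme.Modules.pullback f).obj N)) :=
  (tensorComm ((Scheme.Modules.pushforward f).obj M) N).hom ≫ Coherent.projHom f N M ≫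
    (Scheme.Modules.pushforward f).map (tensorComm (Coherent.pullE f N) M).hom

theorem theta_tmul (M : X.Modules) (N : Y.Modules) (U : Y.Opens)
    (m : Γ((Scheme.Modules.pushforward f).obj M, U)) (a : Γ(N, U)) :
    (theta f M N).app U (tmul m a) =
      (show Γ(CohB1.tensorMod M ((Scheme.Modules.pullback f).obj N), f ⁻¹ᵁ U) from
        tmul (show Γ(M, f ⁻¹ᵁ U) from m) (pullSec f a)) := by
  show (tensorComm (Coherent.pullE f N) M).hom.app (f ⁻¹ᵁ U) ((Coherent.projHom f N M).app U
    ((tensorComm ((Scheme.Modules.pushforward f).obj M) N).hom.app U (tmul m a))) = _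
  refine (congrArg _ ((congrArg _ (Bilin.desc_tmul _ U m a)).trans (Coherent.projHom_tmul U a m))).trans ?_
  exact Bilin.desc_tmul _ _ _ _

theorem theta_nat₁ {M M' : X.Modules} (φ : M ⟶ M') (N : Y.Modules) :
    ((shT Y).map ((Scheme.Modules.pushforward f).map φ)).app N ≫ theta f M' N =
      theta f M N ≫ (Scheme.Modules.pushforward f).map (((shT X).map φ).app ((Scheme.Modules.pullback f).obj N)) :=
  AmpleLib.hom_ext fun U m a => by
    show (theta f M' N).app U ((((shT Y).map ((Scheme.Modules.pushforward f).map φ)).app N).app U (tmul m a)) =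
      (((shT X).map φ).app ((Scheme.Modules.pullback f).obj N)).app (f ⁻¹ᵁ U) ((theta f M N).app U (tmul m a))
    refine ((congrArg _ (PullTensor.tensorBi_map_tmul _ U m a)).trans (theta_tmul f M' N U _ a)).trans ?_
    exact ((congrArg _ (theta_tmul f M N U m a)).trans (PullTensor.tensorBi_map_tmul φ (f ⁻¹ᵁ U) _ _)).symm

theorem theta_nat₂ (M : X.Modules) {N N' : Y.Modules} (ψ : N ⟶ N') :
    ((shT Y).obj ((Scheme.Modules.pushforward f).obj M)).map ψ ≫ theta f M N' =
      theta f M N ≫ (Scheme.Modules.pushforward f).map (((shT X).obj M).map ((Scheme.Modules.pullback f).map ψ)) :=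
  AmpleLib.hom_ext fun U m a => by
    show (theta f M N').app U ((((shT Y).obj ((Scheme.Modules.pushforward f).obj M)).map ψ).app U (tmul m a)) =
      (((shT X).obj M).map ((Scheme.Modules.pullback f).map ψ)).app (f ⁻¹ᵁ U) ((theta f M N).app U (tmul m a))
    refine ((congrArg _ (PullTensor.tensorBi_obj_map_tmul ψ U m a)).trans (theta_tmul f M N' U m _)).trans ?_
    refine Eq.trans ?_ ((congrArg _ (theta_tmul f M N U m a)).trans
      (PullTensor.tensorBi_obj_map_tmul _ (f ⁻¹ᵁ U) _ _)).symm
    exact congrArg (tmul _) (PullTensor.pullback_map_pullSec f ψ U a).symm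

/-- The projection map is invertible for finite locally free modules. -/
theorem isIso_theta (M : X.Modules) {N : Y.Modules} (hN : FlatMod.IsFinLocFree N) : IsIso (theta f M N) := by
  haveI := Coherent.isIso_projHom (f := f) hN M
  unfold theta
  infer_instance

/-- Restriction of the pushforward of a map is invertible if the map is invertible over the preimage. -/
theorem isIso_restrict_push (V : Y.Opens) {A B : X.Modules} (φ : A ⟶ B)
    [IsIso ((Scheme.Modules.restrictFunctor (f ⁻¹ᵁ V).ι).map φ)] :
    IsIso ((Scheme.Modules.restrictFunctor V.ι).map ((Scheme.Modules.pushforward f).map φ)) :=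
  (NatIso.isIso_map_iff (OpenDerived.pushRestrict f V) φ).2
    (inferInstanceAs (IsIso ((Scheme.Modules.pushforward (f ∣_ V)).map
      ((Scheme.Modules.restrictFunctor (f ⁻¹ᵁ V).ι).map φ))))

/-- Restriction of a tensor map is invertible if the map is invertible there. -/
theorem isIso_restrict_tensor (W : Scheme.{u}) (j : W ⟶ X) [IsOpenImmersion j] (M : X.Modules) {N N' : X.Modules}
    (φ : N ⟶ N') [IsIso ((Scheme.Modules.restrictFunctor j).map φ)] :
    IsIso ((Scheme.Modules.restrictFunctor j).map (((shT X).obj M).map φ)) :=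
  ((MorphismProperty.isomorphisms W.Modules).arrow_mk_iso_iff
    (Arrow.isoMk (f := Arrow.mk ((Scheme.Modules.restrictFunctor j).map (((shT X).obj M).map φ)))
      (g := Arrow.mk (((shT W).obj ((Scheme.Modules.restrictFunctor j).obj M)).map ((Scheme.Modules.restrictFunctor j).map φ)))
      (ShriekTensor.restrTen j M N) (ShriekTensor.restrTen j M N') (ShriekTensor.restrTen_nat₂ j M φ).symm)).2
    (inferInstanceAs (IsIso (((shT W).obj ((Scheme.Modules.restrictFunctor j).obj M)).map
      ((Scheme.Modules.restrictFunctor j).map φ))))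

theorem isIso_restrict_pull (V : Y.Opens) {A B : Y.Modules} (φ : A ⟶ B)
    [IsIso ((Scheme.Modules.restrictFunctor V.ι).map φ)] :
    IsIso ((Scheme.Modules.restrictFunctor (f ⁻¹ᵁ V).ι).map ((Scheme.Modules.pullback f).map φ)) :=
  (NatIso.isIso_map_iff (PullPerf.pullRestrict f V) φ).2
    (inferInstanceAs (IsIso ((Scheme.Modules.pullback (f ∣_ V)).map
      ((Scheme.Modules.restrictFunctor V.ι).map φ))))

/-- The projection map over an open only depends on the module over it. -/
theorem isIso_restrict_theta_iff (V : Y.Opens) (M : X.Modules) {N N' : Y.Modules} (g : N ⟶ N')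
    [IsIso ((Scheme.Modules.restrictFunctor V.ι).map g)] :
    IsIso ((Scheme.Modules.restrictFunctor V.ι).map (theta f M N)) ↔
      IsIso ((Scheme.Modules.restrictFunctor V.ι).map (theta f M N')) := by
  let R := Scheme.Modules.restrictFunctor V.ι
  haveI h₁ : IsIso (R.map (((shT Y).obj ((Scheme.Modules.pushforward f).obj M)).map g)) :=
    isIso_restrict_tensor (X := Y) _ V.ι _ g
  haveI := isIso_restrict_pull f V g
  haveI := isIso_restrict_tensor (X := X) _ (f ⁻¹ᵁ V).ι M ((Scheme.Modules.pullback f).map g)
  haveI h₂ : IsIso (R.map ((Scheme.Modules.pushforward f).map (((shT X).obj M).map ((Scheme.Modules.pullback f).map g)))) :=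
    isIso_restrict_push f V _
  have e := congrArg R.map (theta_nat₂ f M g)
  rw [R.map_comp, R.map_comp] at e
  constructor <;> intro h
  · haveI := h
    exact IsIso.of_isIso_fac_left e
  · haveI := h
    exact IsIso.of_isIso_fac_right e.symm

theorem nonempty_restrict_free (W : Scheme.{u}) (j : W ⟶ Y) [IsOpenImmersion j] (n : ℕ) :
    Nonempty ((Scheme.Modules.restrictFunctor j).obj (FlatMod.freeMod Y n) ≅ FlatMod.freeMod W n) := by
  obtain ⟨e⟩ := PerfTensor.nonempty_pullback_free j n
  exact ⟨(Scheme.Modules.restrictFunctorIsoPullback j).app _ ≪≫ e⟩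

theorem isFinLocFree_freeMod (n : ℕ) : FlatMod.IsFinLocFree (FlatMod.freeMod Y n) := fun y => by
  obtain ⟨e⟩ := nonempty_restrict_free (⊤ : Y.Opens).toScheme (⊤ : Y.Opens).ι n
  exact ⟨⊤, n, trivial, ⟨e⟩⟩

/-- Over an open on which the module is free, the projection map is invertible. -/
theorem isIso_restrict_theta (V : Y.Opens) (M : X.Modules) (N : Y.Modules) (n : ℕ)
    (e : (Scheme.Modules.restrictFunctor V.ι).obj N ≅ FlatMod.freeMod V n) :
    IsIso ((Scheme.Modules.restrictFunctor V.ι).map (theta f M N)) := by
  let R := Scheme.Modules.restrictFunctor V.ι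
  let a := JShriek.shriekAdj V.ι
  obtain ⟨e'⟩ := nonempty_restrict_free (Y := Y) _ V.ι n
  haveI : IsIso (R.map (a.counit.app N)) := by
    haveI : IsIso (a.unit.app (R.obj N) ≫ R.map (a.counit.app N)) := by
      rw [a.right_triangle_components]
      infer_instance
    exact IsIso.of_isIso_comp_left (a.unit.app (R.obj N)) _
  let i : R.obj N ≅ R.obj (FlatMod.freeMod Y n) := e ≪≫ e'.symm
  let b := (a.homEquiv (R.obj N) (FlatMod.freeMod Y n)).symm i.hom
  haveI : IsIso (R.map b) := by
    have hb : a.unit.app (R.obj N) ≫ R.map b = i.hom :=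
      (a.homEquiv_unit (f := b)).symm.trans ((a.homEquiv _ _).apply_symm_apply _)
    exact IsIso.of_isIso_fac_left hb
  refine (isIso_restrict_theta_iff f V M (N := (JShriek.shriek V.ι).obj (R.obj N)) (N' := N) (a.counit.app N)).1 ?_
  refine (isIso_restrict_theta_iff f V M b).2 ?_
  haveI := isIso_theta f M (isFinLocFree_freeMod (Y := Y) n)
  infer_instance

/-- The projection map on total complexes. -/
noncomputable def Theta (I : CochainComplex X.Modules ℤ) (P : CochainComplex Y.Modules ℤ) :
    tot (shT Y) (((Scheme.Modules.pushforward f).mapHomologicalComplex (ComplexShape.up ℤ)).obj I) P ⟶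
      ((Scheme.Modules.pushforward f).mapHomologicalComplex (ComplexShape.up ℤ)).obj
        (tot (shT X) I (((Scheme.Modules.pullback f).mapHomologicalComplex (ComplexShape.up ℤ)).obj P)) :=
  TotHom.totHom (shT Y) (shT X) (Scheme.Modules.pushforward f) (Scheme.Modules.pullback f)
    (Scheme.Modules.pushforward f) (theta f) (fun φ N => theta_nat₁ f φ N) (fun M {_ _} ψ => theta_nat₂ f M ψ) I P

theorem Theta_natural (I : CochainComplex X.Modules ℤ) {P P' : CochainComplex Y.Modules ℤ} (g : P ⟶ P') :
    totMap₂ (shT Y) (((Scheme.Modules.pushforward f).mapHomologicalComplex (ComplexShape.up ℤ)).obj I) g ≫ Theta f I P' =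
      Theta f I P ≫ ((Scheme.Modules.pushforward f).mapHomologicalComplex (ComplexShape.up ℤ)).map
        (totMap₂ (shT X) I (((Scheme.Modules.pullback f).mapHomologicalComplex (ComplexShape.up ℤ)).map g)) :=
  TotHom.totHom_natural₂ (shT Y) (shT X) (Scheme.Modules.pushforward f) (Scheme.Modules.pullback f)
    (Scheme.Modules.pushforward f) (theta f) (fun φ N => theta_nat₁ f φ N) (fun M {_ _} ψ => theta_nat₂ f M ψ) I g

end Groth.Agent.DCat.ProjPerf
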