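import Groth.Agent.DCat.ProjNatural
import Groth.Agent.DQCoh.Push
import Groth.Agent.DQCoh.Local

/-!
# The twisted inverse image of an internal Hom
-/

set_option autoImplicit false
set_option backward.isDefEq.respectTransparency false
set_option backward.defeqAttrib.useBackward true
set_option linter.style.haveILetI false
set_option linter.unusedVariables false

universe u

open CategoryTheory CategoryTheory.Limits AlgebraicGeometry

attribute [local instance] HasDerivedCategory.standard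

namespace Groth.Agent.DCat.ShriekRHom

section Generic

universe v w

variable {C C₀ D D₀ : Type v} [Category.{w} C] [Category.{w} C₀] [Category.{w} D] [Category.{w} D₀]

/-- Objects corepresenting the same functor through adjunctions are isomorphic. -/
theorem nonempty_iso {ιC : C₀ ⥤ C} {ιD : D₀ ⥤ D} (hC : ιC.FullyFaithful) (hD : ιD.FullyFaithful)
    {f₀ : C₀ ⥤ D₀} {s : D₀ ⥤ C₀} (adj : f₀ ⊣ s) {f : C ⥤ D} (ef : f₀ ⋙ ιD ≅ ιC ⋙ f)
    {T : D ⥤ D} {H : D ⥤ D} (adjT : T ⊣ H) {T' : C ⥤ C} {H' : C ⥤ C} (adjT' : T' ⊣ H')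
    {T'₀ : C₀ ⥤ C₀} (eT' : T'₀ ⋙ ιC ≅ ιC ⋙ T') (e : ιC ⋙ f ⋙ T ≅ ιC ⋙ T' ⋙ f)
    (G : D₀) (A : D₀) (eA : ιD.obj A ≅ H.obj (ιD.obj G)) (B : C₀) (eB : ιC.obj B ≅ H'.obj (ιC.obj (s.obj G))) :
    Nonempty (s.obj A ≅ B) := by
  let a : ∀ Z : C₀, ((ιC ⋙ T' ⋙ f).obj Z ⟶ ιD.obj G) ≃ (Z ⟶ s.obj A) := fun Z =>
    ((e.app Z).symm.homCongr (Iso.refl _)).trans ((adjT.homEquiv _ _).trans
      (((ef.app Z).symm.homCongr eA.symm).trans (hD.homEquiv.symm.trans (adj.homEquiv Z A))))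
  let b : ∀ Z : C₀, ((ιC ⋙ T' ⋙ f).obj Z ⟶ ιD.obj G) ≃ (Z ⟶ B) := fun Z =>
    ((f.mapIso (eT'.app Z).symm ≪≫ (ef.app (T'₀.obj Z)).symm).homCongr (Iso.refl _)).trans
      (hD.homEquiv.symm.trans ((adj.homEquiv _ _).trans (hC.homEquiv.trans
        (((eT'.app Z)).homCongr (Iso.refl _) |>.trans ((adjT'.homEquiv _ _).trans
          (((Iso.refl _).homCongr eB.symm).trans hC.homEquiv.symm))))))
  have ha' : ∀ (Z : C₀) (φ : f.obj (T'.obj (ιC.obj Z)) ⟶ ιD.obj G), a Z φ =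
      adj.homEquiv Z A (hD.preimage (ef.hom.app Z ≫ adjT.homEquiv (f.obj (ιC.obj Z)) (ιD.obj G) (e.hom.app Z ≫ φ) ≫ eA.inv)) :=
    fun Z φ => by
      conv_rhs => rw [← Category.comp_id φ]
      rfl
  have hb' : ∀ (Z : C₀) (φ : f.obj (T'.obj (ιC.obj Z)) ⟶ ιD.obj G), b Z φ =
      hC.preimage (adjT'.homEquiv (ιC.obj Z) (ιC.obj (s.obj G)) (eT'.inv.app Z ≫
        ιC.map (adj.homEquiv (T'₀.obj Z) G (hD.preimage (ef.hom.app (T'₀.obj Z) ≫ f.map (eT'.hom.app Z) ≫ φ)))) ≫ eB.inv) :=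
    fun Z φ => by
      simp [b, Functor.FullyFaithful.homEquiv, Iso.homCongr]
  have ha : ∀ {Z Z' : C₀} (g : Z' ⟶ Z) (φ : f.obj (T'.obj (ιC.obj Z)) ⟶ ιD.obj G),
      a Z' (f.map (T'.map (ιC.map g)) ≫ φ) = g ≫ a Z φ := fun {Z Z'} g φ => by
    have h₁ : T.map (f.map (ιC.map g)) ≫ e.hom.app Z = e.hom.app Z' ≫ f.map (T'.map (ιC.map g)) := e.hom.naturality g
    have h₂ : ιD.map (f₀.map g) ≫ ef.hom.app Z = ef.hom.app Z' ≫ f.map (ιC.map g) := ef.hom.naturality g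
    rw [ha', ha', ← adj.homEquiv_naturality_left]
    congr 1
    apply hD.map_injective
    simp only [Functor.map_comp, Functor.FullyFaithful.map_preimage]
    erw [← reassoc_of% h₁, adjT.homEquiv_naturality_left]
    simp only [Category.assoc]
    erw [reassoc_of% h₂]
  have hb : ∀ {Z Z' : C₀} (g : Z' ⟶ Z) (φ : f.obj (T'.obj (ιC.obj Z)) ⟶ ιD.obj G),
      b Z' (f.map (T'.map (ιC.map g)) ≫ φ) = g ≫ b Z φ := fun {Z Z'} g φ => by
    have h₁ : ιC.map (T'₀.map g) ≫ eT'.hom.app Z = eT'.hom.app Z' ≫ T'.map (ιC.map g) := eT'.hom.naturality g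
    have h₁' := congrArg f.map h₁
    rw [Functor.map_comp, Functor.map_comp] at h₁'
    have h₁i : T'.map (ιC.map g) ≫ eT'.inv.app Z = eT'.inv.app Z' ≫ ιC.map (T'₀.map g) := eT'.inv.naturality g
    have h₂ : ιD.map (f₀.map (T'₀.map g)) ≫ ef.hom.app (T'₀.obj Z) = ef.hom.app (T'₀.obj Z') ≫ f.map (ιC.map (T'₀.map g)) :=
      ef.hom.naturality (T'₀.map g)
    rw [hb', hb']
    apply hC.map_injective
    simp only [Functor.map_comp, Functor.FullyFaithful.map_preimage]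
    erw [← Category.assoc (ιC.map g), ← adjT'.homEquiv_naturality_left, reassoc_of% h₁i, ← ιC.map_comp,
      ← adj.homEquiv_naturality_left]
    congr 5
    apply hD.map_injective
    simp only [Functor.map_comp, Functor.FullyFaithful.map_preimage]
    erw [reassoc_of% h₂, reassoc_of% h₁']
  exact ⟨Yoneda.ext _ _ (fun {Z} g => b Z ((a Z).symm g)) (fun {Z} g => a Z ((b Z).symm g)) (fun g => by simp)
    (fun g => by simp) fun {Z Z'} f' g => by
      show b Z' ((a Z').symm (f' ≫ g)) = f' ≫ b Z ((a Z).symm g)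
      rw [← hb, Equiv.apply_eq_iff_eq, Equiv.symm_apply_eq, ha, Equiv.apply_symm_apply]⟩

end Generic

variable {X Y : Scheme.{u}}

/-- `f^! RHom(G₁, G₂) = RHom(Lf^* G₁, f^! G₂)`. -/
theorem nonempty_shriek_RHom (f : X ⟶ Y) [QuasiCompact f] [QuasiSeparated f] [DCoh.HasRpush f] [DCoh.HasLpull f]
    (h : DCoh.RpushPreservesQCoh f) [DCoh.HasShriek f h]
    (P : CochainComplex Y.Modules ℤ) [DCoh.HasLTensorCx P] [DCoh.HasRSheafHom P]
    (hP : DCoh.IsQCohD (DCoh.toD Y P)) (G₂ : DCoh.DQCoh Y)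
    (hq : DCoh.IsQCohD ((DCoh.RSheafHom P).obj G₂.obj))
    (P' : CochainComplex X.Modules ℤ) [DCoh.HasLTensorCx P'] [DCoh.HasRSheafHom P']
    (hP' : Nonempty (DCoh.toD X P' ≅ (DCoh.Lpull f).obj (DCoh.toD Y P)))
    (hq' : DCoh.IsQCohD ((DCoh.RSheafHom P').obj ((DCoh.shriek f h).obj G₂).obj)) :
    Nonempty (((DCoh.shriek f h).obj ⟨(DCoh.RSheafHom P).obj G₂.obj, hq⟩).obj ≅
      (DCoh.RSheafHom P').obj ((DCoh.shriek f h).obj G₂).obj) := by
  obtain ⟨e⟩ := ProjNatural.nonempty_proj₁ f P hP P' hP'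
  obtain ⟨eP'⟩ := hP'
  have hP'q : DCoh.IsQCohD (DerivedCategory.Q.obj P') := DQCoh.isQCohD_of_iso eP'.symm (DQCoh.isQCohD_Lpull f _ hP)
  let T'₀ : DCoh.DQCoh X ⥤ DCoh.DQCoh X :=
    ObjectProperty.lift _ (ObjectProperty.ι _ ⋙ DCoh.LTensorCx P')
      fun K => DQCoh.isQCohD_LTensorCx P' hP'q _ K.property
  obtain ⟨i⟩ := nonempty_iso (ObjectProperty.fullyFaithfulι _) (ObjectProperty.fullyFaithfulι _)
    (DCoh.shriekAdj f h) (f := DCoh.Rpush f) (Iso.refl _) (DCoh.RSheafHomAdj P) (DCoh.RSheafHomAdj P')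
    (T'₀ := T'₀) (Iso.refl _) e G₂ ⟨(DCoh.RSheafHom P).obj G₂.obj, hq⟩ (Iso.refl _)
    ⟨(DCoh.RSheafHom P').obj ((DCoh.shriek f h).obj G₂).obj, hq'⟩ (Iso.refl _)
  exact ⟨(ObjectProperty.ι _).mapIso i⟩

end Groth.Agent.DCat.ShriekRHom
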