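import Groth.Agent.DCat.KernelAdj17
import Groth.Agent.DCat.KernelGor17
import Groth.Agent.DCat.ShriekRHom
import Groth.Agent.S3658

/-!
# Duals of perfect objects under proper flat pullback, and duality for perfect objects
-/

set_option autoImplicit false
set_option backward.isDefEq.respectTransparency false
set_option backward.defeqAttrib.useBackward true
set_option linter.style.haveILetI false
set_option linter.unusedSectionVars false
set_option synthInstance.maxHeartbeats 100000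

universe u

open CategoryTheory CategoryTheory.Limits AlgebraicGeometry HomologicalComplex
open Groth.Agent.DCat Groth.Agent.ModStalk Groth.Agent.Dual22Lib

attribute [local instance] HasDerivedCategory.standard
attribute [-instance] Int.instConditionallyCompleteLinearOrder

namespace Groth.Agent.DCat.PullDual17

variable {X : Scheme.{u}}

/-- Perfect objects with the same dual are isomorphic. -/
theorem nonempty_iso_of_dual {M₁ M₂ : CochainComplex X.Modules ℤ} (h₁ : IsKFlatFor (shT X) M₁)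
    (h₂ : IsKFlatFor (shT X) M₂) (p₁ : DCoh.IsPerfect (DerivedCategory.Q.obj M₁))
    (p₂ : DCoh.IsPerfect (DerivedCategory.Q.obj M₂)) (e : RHomBidual.dual M₁ ≅ RHomBidual.dual M₂) :
    Nonempty (DerivedCategory.Q.obj M₁ ≅ DerivedCategory.Q.obj M₂) := by
  obtain ⟨D, hD, ⟨eD⟩⟩ := PullPerf.exists_kflat_rep (RHomBidual.dual M₁)
  obtain ⟨a⟩ := RHomBidual.nonempty_bidual h₁ p₁ hD eD
  obtain ⟨b⟩ := RHomBidual.nonempty_bidual h₂ p₂ hD (eD ≪≫ e)
  exact ⟨a ≪≫ b.symm⟩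

/-- An object with trivial endomorphisms cancels from perfect objects. -/
theorem nonempty_cancel {M₁ M₂ W : CochainComplex X.Modules ℤ} (h₁ : IsKFlatFor (shT X) M₁)
    (h₂ : IsKFlatFor (shT X) M₂) (hW : IsKFlatFor (shT X) W) (p₁ : DCoh.IsPerfect (DerivedCategory.Q.obj M₁))
    (p₂ : DCoh.IsPerfect (DerivedCategory.Q.obj M₂)) (hWe : KernelDual17.EndTrivial (DerivedCategory.Q.obj W))
    (e : DerivedCategory.Q.obj (tot (shT X) M₁ W) ≅ DerivedCategory.Q.obj (tot (shT X) M₂ W)) :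
    Nonempty (DerivedCategory.Q.obj M₁ ≅ DerivedCategory.Q.obj M₂) := by
  obtain ⟨u⟩ := hWe W hW (Iso.refl _)
  obtain ⟨c₁⟩ := RHomEvalDual.nonempty_RH_tot h₁ hW
  obtain ⟨c₂⟩ := RHomEvalDual.nonempty_RH_tot h₂ hW
  haveI := LTensorSheaf.hasLTensorCx (tot (shT X) M₁ W)
  haveI := LTensorSheaf.hasLTensorCx (tot (shT X) M₂ W)
  haveI := RHomExist.hasRSheafHom (tot (shT X) M₁ W)
  haveI := RHomExist.hasRSheafHom (tot (shT X) M₂ W)
  obtain ⟨c⟩ := TensorCongr.nonempty_congr_rhom e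
  exact nonempty_iso_of_dual h₁ h₂ p₁ p₂
    ((RHomNat.RH M₁).mapIso u.symm ≪≫ c₁.app _ ≪≫ c.app _ ≪≫ (c₂.app _).symm ≪≫ (RHomNat.RH M₂).mapIso u)

/-- Duals commute with proper flat inverse images. -/
theorem nonempty_dual_pull {Z : Scheme.{u}} [IsNoetherian X] (f : Z ⟶ X) [IsProper f] [Flat f] [DCoh.HasLpull f]
    (D : CochainComplex X.Modules ℤ) (hD : IsKFlatFor (shT X) D) (hp : DCoh.IsPerfect (DerivedCategory.Q.obj D)) :
    Nonempty ((DCoh.Lpull f).obj (RHomBidual.dual D) ≅ RHomBidual.dual ((PullTensorNat.pullC f).obj D)) := by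
  haveI : LocallyOfFinitePresentation f := LocallyOfFinitePresentation.iff_locallyOfFiniteType.2 inferInstance
  haveI := hasRpush f
  have hf : DCoh.RpushPreservesQCoh f := fun M hM => DQCoh.isQCohD_Rpush f M hM
  haveI : CompactSpace Z := QuasiCompact.compactSpace_of_compactSpace f
  haveI : QuasiSeparatedSpace Z := quasiSeparatedSpace_of_quasiSeparated f
  haveI : DCoh.HasShriek f hf := AdjGeom.isLeftAdjoint_RpushQ f hf
  let OX : DCoh.DQCoh X := ⟨DCoh.inD X (Coh.structureModule X), RelEquivBC.isQCohD_inD_structure X⟩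
  let P' := (PullTensorNat.pullC f).obj D
  have hP'k : IsKFlatFor (shT Z) P' := PullTot.isKFlatFor_pullback f hD
  have hP'p : DCoh.IsPerfect (DerivedCategory.Q.obj P') :=
    PCTriangle.perfect_iso (PullPerf.lpullIso f hD) (PullPerf.isPerfect_Lpull f _ hp)
  haveI := LTensorSheaf.hasLTensorCx D
  haveI := RHomExist.hasRSheafHom D
  haveI := LTensorSheaf.hasLTensorCx P'
  haveI := RHomExist.hasRSheafHom P'
  obtain ⟨W, hW, ⟨eW⟩⟩ := PullPerf.exists_kflat_rep ((DCoh.shriek f hf).obj OX).obj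
  haveI := LTensorSheaf.hasLTensorCx W
  have hq : DCoh.IsQCohD ((DCoh.RSheafHom D).obj OX.obj) := DQCoh.isQCohD_RHom_perfect D hp _ OX.property
  have hq' : DCoh.IsQCohD ((DCoh.RSheafHom P').obj ((DCoh.shriek f hf).obj OX).obj) :=
    DQCoh.isQCohD_RHom_perfect P' hP'p _ ((DCoh.shriek f hf).obj OX).property
  obtain ⟨e₁⟩ := ShriekRHom.nonempty_shriek_RHom f hf D (PerfLift.isQCohD_perfect hp) OX hq P'
    ⟨(PullPerf.lpullIso f hD).symm⟩ hq'
  obtain ⟨t⟩ := Groth.Agent.S3658.result Z X f hf (DCoh.shriek f hf) (DCoh.shriekAdj f hf) OX ⟨Iso.refl _⟩ W ⟨eW⟩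
  obtain ⟨tw⟩ := KernelDual17.nonempty_twist P' hP'p W
  obtain ⟨M₁, hM₁, ⟨eM₁⟩⟩ := PullPerf.exists_kflat_rep ((DCoh.Lpull f).obj (RHomBidual.dual D))
  obtain ⟨M₂, hM₂, ⟨eM₂⟩⟩ := PullPerf.exists_kflat_rep (RHomBidual.dual P')
  have p₁ : DCoh.IsPerfect (DerivedCategory.Q.obj M₁) :=
    PCTriangle.perfect_iso eM₁.symm (PullPerf.isPerfect_Lpull f _ (RHomDual.isPerfect_dual D hp))
  have p₂ : DCoh.IsPerfect (DerivedCategory.Q.obj M₂) :=
    PCTriangle.perfect_iso eM₂.symm (RHomDual.isPerfect_dual P' hP'p)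
  let k : (DCoh.LTensorCx W).obj (DerivedCategory.Q.obj M₁) ≅ (DCoh.LTensorCx W).obj (DerivedCategory.Q.obj M₂) :=
    (DCoh.LTensorCx W).mapIso eM₁ ≪≫ (t.app ⟨_, hq⟩).symm ≪≫ e₁ ≪≫ (DCoh.RSheafHom P').mapIso eW.symm ≪≫
      tw.symm ≪≫ (DCoh.LTensorCx W).mapIso eM₂.symm
  obtain ⟨m⟩ := nonempty_cancel hM₁ hM₂ hW p₁ p₂
    (KernelDual17.endTrivial_of_iso eW.symm
      (KernelGor17.endTrivial f hf (DCoh.shriek f hf) (DCoh.shriekAdj f hf) OX (Iso.refl _)))
    ((LTensorSheaf.ltensorCxIso' hW M₁).symm ≪≫ k ≪≫ LTensorSheaf.ltensorCxIso' hW M₂)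
  exact ⟨eM₁.symm ≪≫ m ≪≫ eM₂⟩

/-- `Rf_* RHom(A, f^! O) = RHom(Rf_* A, O)` for perfect `A` with perfect direct image. -/
theorem nonempty_push_RH {Y : Scheme.{u}} (f : X ⟶ Y) [QuasiCompact f] [QuasiSeparated f] [DCoh.HasRpush f]
    [DCoh.HasLpull f] (hf : DCoh.RpushPreservesQCoh f) [DCoh.HasShriek f hf]
    (A : CochainComplex X.Modules ℤ) [DCoh.HasLTensorCx A] [DCoh.HasRSheafHom A]
    (hA : DCoh.IsPerfect (DerivedCategory.Q.obj A))
    (N : CochainComplex Y.Modules ℤ) [DCoh.HasLTensorCx N] [DCoh.HasRSheafHom N]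
    (hN : DCoh.IsPerfect (DerivedCategory.Q.obj N))
    (eN : DerivedCategory.Q.obj N ≅ (DCoh.Rpush f).obj (DerivedCategory.Q.obj A)) (O : DCoh.DQCoh Y) :
    Nonempty ((DCoh.Rpush f).obj ((DCoh.RSheafHom A).obj ((DCoh.shriek f hf).obj O).obj) ≅
      (DCoh.RSheafHom N).obj O.obj) := by
  have hAq := PerfLift.isQCohD_perfect hA
  have hNq := PerfLift.isQCohD_perfect hN
  have hLf : Dual3.LpullPreservesQCoh f := XiIso.lpullPreservesQCoh f
  let ιX := ObjectProperty.ι (DCoh.IsQCohD (X := X))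
  let ιY := ObjectProperty.ι (DCoh.IsQCohD (X := Y))
  let TA : DCoh.DQCoh X ⥤ DCoh.DQCoh X :=
    ObjectProperty.lift _ (ιX ⋙ DCoh.LTensorCx A) fun M => DQCoh.isQCohD_LTensorCx A hAq _ M.property
  let RA : DCoh.DQCoh X ⥤ DCoh.DQCoh X :=
    ObjectProperty.lift _ (ιX ⋙ DCoh.RSheafHom A) fun M => DQCoh.isQCohD_RHom_perfect A hA _ M.property
  let TN : DCoh.DQCoh Y ⥤ DCoh.DQCoh Y :=
    ObjectProperty.lift _ (ιY ⋙ DCoh.LTensorCx N) fun M => DQCoh.isQCohD_LTensorCx N hNq _ M.property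
  let RN : DCoh.DQCoh Y ⥤ DCoh.DQCoh Y :=
    ObjectProperty.lift _ (ιY ⋙ DCoh.RSheafHom N) fun M => DQCoh.isQCohD_RHom_perfect N hN _ M.property
  let aA : TA ⊣ RA := (DCoh.RSheafHomAdj A).restrictFullyFaithful (ObjectProperty.fullyFaithfulι _)
    (ObjectProperty.fullyFaithfulι _) (Iso.refl _) (Iso.refl _)
  let aN : TN ⊣ RN := (DCoh.RSheafHomAdj N).restrictFullyFaithful (ObjectProperty.fullyFaithfulι _)
    (ObjectProperty.fullyFaithfulι _) (Iso.refl _) (Iso.refl _)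
  obtain ⟨pp⟩ := nonempty_pullPushAdj f
  let af : Dual3.LpullQ f hLf ⊣ DCoh.RpushQ f hf := pp.restrictFullyFaithful (ObjectProperty.fullyFaithfulι _)
    (ObjectProperty.fullyFaithfulι _) (Iso.refl _) (Iso.refl _)
  obtain ⟨π⟩ := ProjNatural.nonempty_proj₂ f N A hAq ⟨eN⟩
  let π' : TN ≅ (Dual3.LpullQ f hLf ⋙ TA) ⋙ DCoh.RpushQ f hf :=
    NatIso.ofComponents (fun M => (ObjectProperty.fullyFaithfulι (DCoh.IsQCohD (X := Y))).preimageIso (π.app M))
      fun {M M'} g => ObjectProperty.hom_ext _ (π.hom.naturality g)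
  let r := ((aN.ofNatIsoLeft π').rightAdjointUniq ((af.comp aA).comp (DCoh.shriekAdj f hf))).app O
  exact ⟨(ιY.mapIso r).symm⟩

end Groth.Agent.DCat.PullDual17
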