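import Groth.Agent.DCat.KFlatModule
import Groth.Agent.DCat.ZeroD
import Mathlib.Algebra.Category.ModuleCat.AB
import Mathlib.Algebra.Homology.Embedding.CochainComplex
import Groth.Agent.CAlgML.Factor

/-! Universally acyclic complexes. -/

set_option autoImplicit false
set_option backward.isDefEq.respectTransparency false
set_option backward.defeqAttrib.useBackward true
set_option linter.style.haveILetI false

universe v u w

open CategoryTheory CategoryTheory.Limits MonoidalCategory HomologicalComplex

namespace Groth.Agent.DCat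

section TruncSeq

variable {B : Type u} [Category.{v} B] [Abelian B] (K : CochainComplex B ℤ)

lemma isIso_ιTruncLE_truncLE {m m' : ℤ} (h : m ≤ m') : IsIso ((K.truncLE m).ιTruncLE m') := by
  haveI := CochainComplex.isStrictlyLE_of_le (K.truncLE m) m m' h
  exact (CochainComplex.isIso_ιTruncLE_iff (K.truncLE m) m').2 inferInstance

lemma isIso_ιTruncLE_f {m q : ℤ} (h : q < m) : IsIso ((K.ιTruncLE m).f q) := by
  let e := ComplexShape.embeddingUpIntLE m
  have hi : e.op.f (m - q).toNat = q := by
    change m - ((m - q).toNat : ℤ) = q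
    omega
  have hb : ¬ e.BoundaryLE (m - q).toNat := by
    simp [e, ComplexShape.boundaryLE_embeddingUpIntLE_iff]
    omega
  change IsIso ((HomologicalComplex.πTruncGE K.op e.op).f q).unop
  haveI : IsIso ((HomologicalComplex.πTruncGE K.op e.op).f q) := by
    dsimp [HomologicalComplex.πTruncGE]
    erw [e.op.isIso_liftExtend_f_iff _ _ hi]
    exact HomologicalComplex.isIso_restrictionToTruncGE' K.op e.op _ (by simpa using hb)
  infer_instance

/-- Transition maps. -/
noncomputable def truncLETrans {m m' : ℤ} (h : m ≤ m') : K.truncLE m ⟶ K.truncLE m' :=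
  haveI := isIso_ιTruncLE_truncLE K h
  inv ((K.truncLE m).ιTruncLE m') ≫ CochainComplex.truncLEMap (K.ιTruncLE m) m'

lemma truncLETrans_ι {m m' : ℤ} (h : m ≤ m') : truncLETrans K h ≫ K.ιTruncLE m' = K.ιTruncLE m := by
  haveI := isIso_ιTruncLE_truncLE K h
  rw [truncLETrans, Category.assoc, CochainComplex.ιTruncLE_naturality, IsIso.inv_hom_id_assoc]

/-- The sequence of canonical truncations. -/
noncomputable def truncLESeq : ℕ ⥤ CochainComplex B ℤ :=
  Functor.ofSequence (X := fun k : ℕ => K.truncLE (k : ℤ))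
    fun k => truncLETrans K (show (k : ℤ) ≤ ((k + 1 : ℕ) : ℤ) by omega)

/-- Its cocone. -/
noncomputable def truncLECocone : Cocone (truncLESeq K) where
  pt := K
  ι := NatTrans.ofSequence (fun k => K.ιTruncLE (k : ℤ)) fun k => by
    dsimp [truncLESeq]
    rw [Functor.ofSequence_map_homOfLE_succ, truncLETrans_ι, Category.comp_id]

/-- Degreewise, the truncations converge. -/
noncomputable def isColimitTruncLEEval (q : ℤ) :
    IsColimit ((HomologicalComplex.eval B (ComplexShape.up ℤ) q).mapCocone (truncLECocone K)) :=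
  isColimitOfEventuallyIso _ (q + 1).toNat fun k hk => isIso_ιTruncLE_f K (show q < (k : ℤ) by omega)

end TruncSeq

section Acyclic

variable {R : Type w} [CommRing R]

lemma exists_isKFlat_of_tensor_acyclic (K : DRing.Cx R)
    (h : ∀ M : ModuleCat.{w} R, (((tensorRight M).mapHomologicalComplex (ComplexShape.up ℤ)).obj K).Acyclic)
    (N : DRing.Cx R) : (tot (modT R) K N).Acyclic := by
  haveI : ∀ a, PreservesColimitsOfShape ℕ ((modT R).obj a) := fun a =>
    inferInstanceAs (PreservesColimitsOfShape ℕ (tensorLeft a))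
  have h₀ : ∀ M : ModuleCat.{w} R, (tot (modT R) K ((HomologicalComplex.single _ (ComplexShape.up ℤ) 0).obj M)).Acyclic := fun M => by
    obtain ⟨e⟩ := exists_tot_single_iso (T := modT R) K M
    exact acyclic_of_iso' e (h M)
  have hsingle : ∀ (n : ℤ) (M : ModuleCat.{w} R),
      (tot (modT R) K ((HomologicalComplex.single _ (ComplexShape.up ℤ) n).obj M)).Acyclic := fun n M => by
    refine acyclic_of_iso' (((modT R).map₂CochainComplex.obj K).mapIso
      (((CochainComplex.singleFunctors (ModuleCat.{w} R)).shiftIso (-n) n 0 (by omega)).app M)) ?_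
    refine acyclic_of_iso' ((((modT R).map₂CochainComplex.obj K).commShiftIso (-n)).app _).symm ?_
    rw [← HomotopyCategory.quotient_obj_mem_subcategoryAcyclic_iff_acyclic]
    exact (HomotopyCategory.subcategoryAcyclic (ModuleCat.{w} R)).prop_of_iso
      (((HomotopyCategory.quotient (ModuleCat.{w} R) (ComplexShape.up ℤ)).commShiftIso (-n)).app _).symm
      (ObjectProperty.le_shift _ (-n) _
        ((HomotopyCategory.quotient_obj_mem_subcategoryAcyclic_iff_acyclic _).2 (h₀ M)))
  have hbdd : ∀ (a : ℤ) (m : ℕ) (N : DRing.Cx R), (∀ n, n < a → IsZero (N.X n)) →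
      (∀ n, a + (m : ℤ) ≤ n → IsZero (N.X n)) → (tot (modT R) K N).Acyclic := fun a m N h₁ h₂ =>
    bounded_induction (fun N => (tot (modT R) K N).Acyclic) (fun _ => True)
      (fun Z hZ => fun n => by
        rw [exactAt_iff_isZero_homology]
        exact (homologyFunctor _ (ComplexShape.up ℤ) n).map_isZero (((modT R).map₂CochainComplex.obj K).map_isZero hZ))
      (fun _ _ => trivial) (fun _ _ _ _ => trivial) (fun n M _ => hsingle n M)
      (fun S hS h₁ h₃ => (shortExact_map_tot (fun a q => shortExact_map_of_splitting hS a q) K).acyclic_X₂ h₁ h₃)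
      a m N h₁ h₂ (fun _ => trivial)
  have habove : ∀ (b : ℤ) (N : DRing.Cx R), (∀ n, b < n → IsZero (N.X n)) → (tot (modT R) K N).Acyclic := by
    intro b N hb
    refine acyclic_colimit (isColimitTot₂ (modT R) K (c := brutalCocone N)
      fun p q => isColimitOfPreserves ((modT R).obj (K.X p)) (isColimitBrutalEval N q)) fun k => ?_
    refine hbdd (-(k : ℤ)) (b + 1 + k).toNat _ (fun n hn => isZero_brutalX N (by omega)) fun n hn => ?_
    by_cases h : -(k : ℤ) ≤ n
    · exact (hb n (by omega)).of_iso (@asIso _ _ _ _ _ (isIso_brutalι N h))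
    · exact isZero_brutalX N h
  exact acyclic_colimit (isColimitTot₂ (modT R) K (c := truncLECocone N)
    fun p q => isColimitOfPreserves ((modT R).obj (K.X p)) (isColimitTruncLEEval N q)) fun k =>
      habove (k : ℤ) _ (fun n hn => CochainComplex.isZero_of_isStrictlyLE (N.truncLE (k : ℤ)) (k : ℤ) n hn)

open TensorProduct in
/-- Exactness after tensoring is detected on finitely presented modules. -/
lemma exact_rTensor_of_finitePresentation {A B C : Type w} [AddCommGroup A] [Module R A] [AddCommGroup B]
    [Module R B] [AddCommGroup C] [Module R C] (f : A →ₗ[R] B) (g : B →ₗ[R] C) (hgf : g ∘ₗ f = 0)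
    (h : ∀ (F : Type w) [AddCommGroup F] [Module R F], Module.FinitePresentation R F →
      Function.Exact (f.rTensor F) (g.rTensor F))
    (M : Type w) [AddCommGroup M] [Module R M] : Function.Exact (f.rTensor M) (g.rTensor M) := by
  intro z
  refine ⟨fun hz => ?_, fun ⟨x, hx⟩ => by
    rw [← hx, ← LinearMap.comp_apply, ← LinearMap.rTensor_comp, hgf, LinearMap.rTensor_zero]; rfl⟩
  obtain ⟨k, q, y, rfl⟩ := Groth.Agent.CAlgML.exists_lTensor_fin_eq z
  have hw : q.rTensor C (TensorProduct.comm R C (Fin k → R) (g.rTensor (Fin k → R) y)) = 0 := by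
    have : q.rTensor C ∘ₗ (TensorProduct.comm R C (Fin k → R)).toLinearMap ∘ₗ g.rTensor (Fin k → R) =
        (TensorProduct.comm R C M).toLinearMap ∘ₗ g.rTensor M ∘ₗ q.lTensor B := TensorProduct.ext' fun a b => rfl
    refine (LinearMap.congr_fun this y).trans ?_
    simp only [LinearMap.comp_apply, hz, map_zero]
  obtain ⟨N, L, hL, f', l, hfac, hx⟩ := Groth.Agent.CAlgML.exists_finitePresentation_factor q _ hw
  have hy : g.rTensor ((Fin N → R) ⧸ L) (f'.lTensor B y) = 0 := by
    have : (TensorProduct.comm R C ((Fin N → R) ⧸ L)).toLinearMap ∘ₗ g.rTensor ((Fin N → R) ⧸ L) ∘ₗ f'.lTensor B =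
        f'.rTensor C ∘ₗ (TensorProduct.comm R C (Fin k → R)).toLinearMap ∘ₗ g.rTensor (Fin k → R) :=
      TensorProduct.ext' fun a b => rfl
    refine (TensorProduct.comm R C ((Fin N → R) ⧸ L)).injective ?_
    rw [map_zero]
    exact (LinearMap.congr_fun this y).trans hx
  obtain ⟨x, hx'⟩ := ((h _ (Groth.Agent.CAlgML.finitePresentation_quotient_pi hL)) _).1 hy
  refine ⟨l.lTensor A x, ?_⟩
  have : f.rTensor M ∘ₗ l.lTensor A = l.lTensor B ∘ₗ f.rTensor ((Fin N → R) ⧸ L) :=
    TensorProduct.ext' fun a b => rfl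
  refine (LinearMap.congr_fun this x).trans ?_
  rw [LinearMap.comp_apply, hx', ← LinearMap.comp_apply, ← LinearMap.lTensor_comp, ← hfac]

/-- Pure acyclic complexes are K-flat. -/
theorem acyclic_tot_of_finitePresentation (K : DRing.Cx R)
    (h : ∀ (M : Type w) [AddCommGroup M] [Module R M], Module.FinitePresentation R M →
      (((tensorRight (ModuleCat.of R M)).mapHomologicalComplex (ComplexShape.up ℤ)).obj K).Acyclic)
    (N : DRing.Cx R) : (tot (modT R) K N).Acyclic := by
  refine exists_isKFlat_of_tensor_acyclic K (fun M n => ?_) N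
  rw [HomologicalComplex.exactAt_iff' _ (n - 1) n (n + 1) (by simp) (by simp)]
  refine (ShortComplex.ShortExact.moduleCat_exact_iff_function_exact _).2 ?_
  refine exact_rTensor_of_finitePresentation (K.d (n - 1) n).hom (K.d n (n + 1)).hom
    (by rw [← ModuleCat.hom_comp, K.d_comp_d]; rfl) (fun F _ _ hF => ?_) M
  have h' := h F hF n
  rw [HomologicalComplex.exactAt_iff' _ (n - 1) n (n + 1) (by simp) (by simp)] at h'
  exact (ShortComplex.ShortExact.moduleCat_exact_iff_function_exact _).1 h'

end Acyclic

end Groth.Agent.DCat
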