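import Groth.Agent.DCat.TotSymm
import Groth.Agent.DCat.RHomDual

/-! Biduality of perfect complexes. -/

set_option autoImplicit false
set_option backward.isDefEq.respectTransparency false
set_option backward.defeqAttrib.useBackward true
set_option linter.style.haveILetI false

universe v w u

open CategoryTheory CategoryTheory.Limits CategoryTheory.Pretriangulated AlgebraicGeometry HomologicalComplex
open Groth.Agent.ModStalk

attribute [local instance] HasDerivedCategory.standard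
attribute [-instance] Int.instConditionallyCompleteLinearOrder

namespace Groth.Agent.DCat.RHomBidual

section Generic

/-- The five lemma, for bijectivity. -/
theorem bijective_middle {A₁ A₂ A₃ A₄ A₅ B₁ B₂ B₃ B₄ B₅ : Type*} [AddCommGroup A₁] [AddCommGroup A₂] [AddCommGroup A₃]
    [AddCommGroup A₄] [AddCommGroup A₅] [AddCommGroup B₁] [AddCommGroup B₂] [AddCommGroup B₃] [AddCommGroup B₄]
    [AddCommGroup B₅]
    (a₁ : A₁ →+ A₂) (a₂ : A₂ →+ A₃) (a₃ : A₃ →+ A₄) (a₄ : A₄ →+ A₅)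
    (b₁ : B₁ →+ B₂) (b₂ : B₂ →+ B₃) (b₃ : B₃ →+ B₄) (b₄ : B₄ →+ B₅)
    (f₁ : A₁ →+ B₁) (f₂ : A₂ →+ B₂) (f₃ : A₃ →+ B₃) (f₄ : A₄ →+ B₄) (f₅ : A₅ →+ B₅)
    (c₁ : ∀ x, f₂ (a₁ x) = b₁ (f₁ x)) (c₂ : ∀ x, f₃ (a₂ x) = b₂ (f₂ x)) (c₃ : ∀ x, f₄ (a₃ x) = b₃ (f₃ x))
    (c₄ : ∀ x, f₅ (a₄ x) = b₄ (f₄ x))
    (za : ∀ x, a₂ (a₁ x) = 0) (ea₃ : ∀ x, a₃ x = 0 → ∃ y, a₂ y = x) (ea₄ : ∀ x, a₄ x = 0 → ∃ y, a₃ y = x)
    (zb : ∀ x, b₄ (b₃ x) = 0) (eb₂ : ∀ x, b₂ x = 0 → ∃ y, b₁ y = x) (eb₃ : ∀ x, b₃ x = 0 → ∃ y, b₂ y = x)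
    (h₁ : Function.Surjective f₁) (h₂ : Function.Bijective f₂) (h₄ : Function.Bijective f₄) (h₅ : Function.Injective f₅) :
    Function.Bijective f₃ := by
  refine ⟨(injective_iff_map_eq_zero f₃).2 fun x hx => ?_, fun w => ?_⟩
  · obtain ⟨y, rfl⟩ := ea₃ x (h₄.1 (by rw [c₃, hx, map_zero, map_zero]))
    obtain ⟨z, hz⟩ := eb₂ (f₂ y) (by rw [← c₂, hx])
    obtain ⟨z, rfl⟩ := h₁ z
    rw [← h₂.1 (hz.symm.trans (c₁ z).symm).symm, za]
  · obtain ⟨y, hy⟩ := h₄.2 (b₃ w)
    obtain ⟨y₃, rfl⟩ := ea₄ y (h₅ (by rw [c₄, hy, zb, map_zero]))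
    obtain ⟨z, hz⟩ := eb₃ (w - f₃ y₃) (by rw [map_sub, ← c₃, hy, sub_self])
    obtain ⟨z, rfl⟩ := h₂.2 z
    exact ⟨y₃ + a₂ z, by rw [map_add, c₂, hz, add_sub_cancel]⟩

theorem additive_left {C : Type w} [Category.{v} C] [Preadditive C] [HasBinaryBiproducts C] [HasZeroObject C]
    {G R : C ⥤ C} (adj : G ⊣ R) : G.Additive := by
  haveI := adj.leftAdjoint_preservesColimits
  haveI : G.IsLeftAdjoint := adj.isLeftAdjoint
  haveI : G.PreservesZeroMorphisms := inferInstance
  haveI := preservesBinaryBiproducts_of_preservesBinaryCoproducts G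
  exact Functor.additive_of_preservesBinaryBiproducts G

/-- A left adjoint turns exactness for maps into a sequence into exactness for maps out. -/
theorem factor_map {C : Type w} [Category.{v} C] [Preadditive C] [HasZeroObject C] [HasShift C ℤ]
    [∀ n : ℤ, (shiftFunctor C n).Additive] [Pretriangulated C] {G R : C ⥤ C} (adj : G ⊣ R) {R₁ R₂ R₃ O : C}
    (a : R₁ ⟶ R₂) (b : R₂ ⟶ R₃) (hex : ∀ (N : C) (g : N ⟶ R₂), g ≫ b = 0 → ∃ g' : N ⟶ R₁, g = g' ≫ a)
    (α : G.obj R₂ ⟶ O) (hα : G.map a ≫ α = 0) : ∃ β : G.obj R₃ ⟶ O, G.map b ≫ β = α := by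
  haveI := additive_left adj
  haveI := adj.right_adjoint_additive
  obtain ⟨β, hβ⟩ := RHomNat.factor_of_hom_exact a b hex (adj.homEquiv _ _ α)
    (by rw [← adj.homEquiv_naturality_left, hα, adj.homEquiv_unit]; simp)
  refine ⟨(adj.homEquiv _ _).symm β, ?_⟩
  rw [← adj.homEquiv_naturality_left_symm, ← hβ, Equiv.symm_apply_apply]

end Generic

variable {X W : Scheme.{u}} (j : W ⟶ X) [IsOpenImmersion j]

/-- The structure sheaf in `D(O_X)`. -/
noncomputable abbrev one (X : Scheme.{u}) : DCoh.D X :=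
  (DerivedCategory.singleFunctor X.Modules 0).obj (Coh.structureModule X)

/-- The dual. -/
noncomputable abbrev dual (E : CochainComplex X.Modules ℤ) : DCoh.D X := (RHomNat.RH E).obj (one X)

theorem isZero_RH_of_isZero {E : CochainComplex X.Modules ℤ} (hE : IsZero E) (M : DCoh.D X) :
    IsZero ((RHomNat.RH E).obj M) := by
  let Y := (RHomNat.RH E).obj M
  let B := DerivedCategory.Q.objPreimage Y
  have hz : IsZero ((RHomNat.LT E).obj Y) :=
    (DerivedCategory.Q.map_isZero (((shT X).map₂CochainComplex.obj B).map_isZero hE)).of_iso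
      ((RHomNat.LT E).mapIso (DerivedCategory.Q.objObjPreimageIso Y).symm ≪≫
        (haveI := LTensorSheaf.hasLTensorCx E; LTensorSheaf.ltensorCxIso' (isKFlatFor_of_isZero hE) B))
  exact (IsZero.iff_id_eq_zero _).2 (((RHomNat.adjE E).homEquiv Y M).symm.injective (hz.eq_of_src _ _))

theorem nonempty_RH_structure (X : Scheme.{u}) (k : ℤ) :
    Nonempty (dual (((single X.Modules (ComplexShape.up ℤ) 0).obj (Coh.structureModule X))⟦k⟧) ≅
      DerivedCategory.Q.obj (((single X.Modules (ComplexShape.up ℤ) 0).obj (Coh.structureModule X))⟦-k⟧)) := by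
  haveI := LTensorSheaf.hasLTensorCx ((single X.Modules (ComplexShape.up ℤ) 0).obj (Coh.structureModule X))
  haveI := LTensorSheaf.hasLTensorCx (((single X.Modules (ComplexShape.up ℤ) 0).obj (Coh.structureModule X))⟦k⟧)
  haveI := RHomExist.hasRSheafHom ((single X.Modules (ComplexShape.up ℤ) 0).obj (Coh.structureModule X))
  haveI := RHomExist.hasRSheafHom (((single X.Modules (ComplexShape.up ℤ) 0).obj (Coh.structureModule X))⟦k⟧)
  obtain ⟨e₀⟩ := RHomLeft.nonempty_RHom_structure (X := X)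
  obtain ⟨e⟩ := RHomLeft.nonempty_RHom_shift ((single X.Modules (ComplexShape.up ℤ) 0).obj (Coh.structureModule X))
    (RHomLeft.isKFlatFor_structure X) k
  exact ⟨e.app _ ≪≫ e₀.app _ ≪≫
    (shiftFunctor (DCoh.D X) (-k)).mapIso ((DerivedCategory.singleFunctorIsoCompQ X.Modules 0).app _) ≪≫
    ((DerivedCategory.Q.commShiftIso (-k)).app _).symm⟩

theorem bijective_comp_of_isIso_rd {A B : DCoh.D X} (φ : A ⟶ B) [IsIso ((PerfLocal.rd j).map φ)]
    (N : CochainComplex W.Modules ℤ) :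
    Function.Bijective fun y : DerivedCategory.Q.obj ((ShriekTot.shriekC j).obj N) ⟶ A => y ≫ φ := by
  let Ψ : ∀ M : DCoh.D X, (DerivedCategory.Q.obj ((ShriekTot.shriekC j).obj N) ⟶ M) ≃
      (DerivedCategory.Q.obj N ⟶ (PerfLocal.rd j).obj M) := fun M =>
    ((((JShriek.shriek j).mapDerivedCategoryFactors.app N).symm).homCongr (Iso.refl M)).trans
      ((JShriek.shriekD j).homEquiv _ M)
  have k : (fun y : DerivedCategory.Q.obj ((ShriekTot.shriekC j).obj N) ⟶ A => y ≫ φ) =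
      (Ψ B).symm ∘ (asIso ((PerfLocal.rd j).map φ)).homToEquiv ∘ Ψ A := by
    funext y
    apply (Ψ B).injective
    simp only [Function.comp_apply, Equiv.apply_symm_apply]
    change (JShriek.shriekD j).homEquiv _ B _ = (JShriek.shriekD j).homEquiv _ A _ ≫ (PerfLocal.rd j).map φ
    rw [← Adjunction.homEquiv_naturality_right]
    simp [Iso.homCongr]
  rw [k]
  exact (Equiv.bijective _).comp ((Equiv.bijective _).comp (Equiv.bijective _))

theorem exists_single_free_map {M : W.Modules} {n : ℕ} (e : M ≅ FlatMod.freeMod W n) (m k : ℤ) :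
    ∃ (_ : CochainComplex X.Modules ℤ)
      (g : ((ShriekTot.shriekC j).obj ((single W.Modules (ComplexShape.up ℤ) m).obj M))⟦k⟧ ⟶
        (single X.Modules (ComplexShape.up ℤ) (m - k)).obj (FlatMod.freeMod X n)),
      IsKFlatFor (shT X) (((ShriekTot.shriekC j).obj ((single W.Modules (ComplexShape.up ℤ) m).obj M))⟦k⟧) ∧
        QuasiIso ((ProjPerf.restrC j).map g) := by
  obtain ⟨r⟩ := ProjPerf.nonempty_restrict_free (Y := X) _ j n
  let φ : (JShriek.shriek j).obj M ⟶ FlatMod.freeMod X n := ((JShriek.shriekAdj j).homEquiv _ _).symm (e.hom ≫ r.inv)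
  haveI hφ : IsIso ((Scheme.Modules.restrictFunctor j).map φ) := by
    have e₁ : (JShriek.shriekAdj j).unit.app M ≫ (Scheme.Modules.restrictFunctor j).map φ = e.hom ≫ r.inv :=
      ((JShriek.shriekAdj j).homEquiv_unit (f := φ)).symm.trans (((JShriek.shriekAdj j).homEquiv _ _).apply_symm_apply _)
    exact IsIso.of_isIso_fac_left e₁
  let g := (single X.Modules (ComplexShape.up ℤ) (m - k)).map φ
  haveI : ∀ q, IsIso (((ProjPerf.restrC j).map g).f q) := fun q => by
    by_cases h : q = m - k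
    · subst h
      change IsIso ((Scheme.Modules.restrictFunctor j).map _)
      rw [single_map_f_self]
      simp only [Functor.map_comp]
      infer_instance
    · exact isIso_of_source_target_iso_zero _ ((Scheme.Modules.restrictFunctor j).map_isZero (isZero_single_obj_X _ _ _ _ h)).isoZero
        ((Scheme.Modules.restrictFunctor j).map_isZero (isZero_single_obj_X _ _ _ _ h)).isoZero
  haveI : IsIso ((ProjPerf.restrC j).map g) := Hom.isIso_of_components _
  let eS : ((ShriekTot.shriekC j).obj ((single W.Modules (ComplexShape.up ℤ) m).obj M))⟦k⟧ ≅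
      (single X.Modules (ComplexShape.up ℤ) (m - k)).obj ((JShriek.shriek j).obj M) :=
    (shiftFunctor _ k).mapIso ((singleMapHomologicalComplex (JShriek.shriek j) (ComplexShape.up ℤ) m).app M) ≪≫
      ((CochainComplex.singleFunctors X.Modules).shiftIso k (m - k) m (by omega)).app _
  refine ⟨((ShriekTot.shriekC j).obj ((single W.Modules (ComplexShape.up ℤ) m).obj M))⟦k⟧, eS.hom ≫ g,
    (ShriekTot.isKFlatFor_shriek j (RHomEval.isKFlatFor_single_free e m)).shift k, ?_⟩
  haveI : IsIso ((ProjPerf.restrC j).map (eS.hom ≫ g)) := by rw [Functor.map_comp]; infer_instance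
  infer_instance

theorem exists_zigzag (V : X.Opens) {E : CochainComplex X.Modules ℤ} {C : CochainComplex (V : Scheme.{u}).Modules ℤ}
    (e : (PerfLocal.rd V.ι).obj (DerivedCategory.Q.obj E) ≅ DerivedCategory.Q.obj C) :
    ∃ (J : CochainComplex X.Modules ℤ) (g₁ : J ⟶ (ShriekTot.shriekC V.ι).obj C) (g₂ : J ⟶ E),
      IsKFlatFor (shT X) J ∧ QuasiIso ((ProjPerf.restrC V.ι).map g₁) ∧ QuasiIso ((ProjPerf.restrC V.ι).map g₂) := by
  obtain ⟨Z, s, hs, t, ht⟩ := DerivedCategory.right_fac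
    (e.inv ≫ (Scheme.Modules.restrictFunctor V.ι).mapDerivedCategoryFactors.hom.app E)
  obtain ⟨N, c, hN, -, hc, -⟩ := exists_kflat_sheaf Z
  haveI := hc
  haveI := hs
  haveI : QuasiIso s := (DerivedCategory.isIso_Q_map_iff_quasiIso _ s).1 hs
  haveI : IsIso (DerivedCategory.Q.map t) := by
    haveI : IsIso (inv (DerivedCategory.Q.map s) ≫ DerivedCategory.Q.map t) := ht ▸ inferInstance
    exact IsIso.of_isIso_comp_left (inv (DerivedCategory.Q.map s)) _
  haveI : QuasiIso t := (DerivedCategory.isIso_Q_map_iff_quasiIso _ t).1 ‹_›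
  let a' := DCat.adjCx (ComplexShape.up ℤ) (JShriek.shriekAdj V.ι)
  haveI hu : ∀ (B : CochainComplex (V : Scheme.{u}).Modules ℤ), IsIso (a'.unit.app B) := fun B => by
    haveI : ∀ n, IsIso ((a'.unit.app B).f n) := fun n =>
      inferInstanceAs (IsIso ((JShriek.shriekAdj V.ι).unit.app (B.X n)))
    exact Hom.isIso_of_components _
  refine ⟨(ShriekTot.shriekC V.ι).obj N, (ShriekTot.shriekC V.ι).map (c ≫ s), (a'.homEquiv N E).symm (c ≫ t),
    ShriekTot.isKFlatFor_shriek V.ι hN, ?_, ?_⟩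
  · refine (quasiIso_iff_comp_left (a'.unit.app N) _).1 ?_
    have e₁ := a'.unit.naturality (c ≫ s)
    simp only [Functor.id_map, Functor.comp_map] at e₁
    exact e₁ ▸ inferInstance
  · refine (quasiIso_iff_comp_left (a'.unit.app N) _).1 ?_
    have e₂ : a'.unit.app N ≫ (ProjPerf.restrC V.ι).map ((a'.homEquiv N E).symm (c ≫ t)) = c ≫ t :=
      (a'.homEquiv_unit (f := (a'.homEquiv N E).symm (c ≫ t))).symm.trans ((a'.homEquiv _ _).apply_symm_apply _)
    rw [e₂]
    infer_instance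

theorem additive_flip (Z : DCoh.D X) : ((TotSymm.LTD (X := X)).flip.obj Z).Additive := by
  obtain ⟨P, hP, ⟨e⟩⟩ := PullPerf.exists_kflat_rep Z
  obtain ⟨e₁⟩ := TotSymm.nonempty_LTD_flip hP
  obtain ⟨e₂⟩ := TotSymm.nonempty_LT_leftT hP
  haveI := additive_left (RHomNat.adjE P)
  exact Functor.additive_of_iso (e₂ ≪≫ e₁.symm ≪≫ (TotSymm.LTD (X := X)).flip.mapIso e)

/-- The pairing: a map `T → E` gives `dual E ⊗ T → O`. -/
noncomputable def Psi (E : CochainComplex X.Modules ℤ) (T : DCoh.D X) :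
    (T ⟶ DerivedCategory.Q.obj E) →+ ((TotSymm.LTD.obj T).obj (dual E) ⟶ one X) :=
  haveI := additive_flip (dual E)
  AddMonoidHom.mk' (fun y => ((TotSymm.LTD (X := X)).flip.obj (dual E)).map y ≫
      (TotSymm.LTDIso.app E).hom.app (dual E) ≫ (RHomNat.adjE E).counit.app (one X))
    fun y y' => by rw [Functor.map_add, Preadditive.add_comp]

theorem Psi_comp {E : CochainComplex X.Modules ℤ} {T T' : DCoh.D X} (t : T' ⟶ T) (y : T ⟶ DerivedCategory.Q.obj E) :
    Psi E T' (t ≫ y) = ((TotSymm.LTD (X := X)).flip.obj (dual E)).map t ≫ Psi E T y := by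
  simp [Psi]

theorem Psi_nat {E E' : CochainComplex X.Modules ℤ} (g : E ⟶ E') {T : DCoh.D X} (y : T ⟶ DerivedCategory.Q.obj E) :
    Psi E' T (y ≫ DerivedCategory.Q.map g) =
      (TotSymm.LTD.obj T).map ((RHomNat.rhat g).app (one X)) ≫ Psi E T y := by
  have hc : (RHomNat.lhat g).app (dual E') ≫ (RHomNat.adjE E').counit.app (one X) =
      (RHomNat.LT E).map ((RHomNat.rhat g).app (one X)) ≫ (RHomNat.adjE E).counit.app (one X) := by
    have h := RHomNat.tr_rhat g (𝟙 (dual E'))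
    rw [Category.id_comp, Adjunction.homEquiv_counit, Adjunction.homEquiv_counit, CategoryTheory.Functor.map_id,
      Category.id_comp] at h
    exact h.symm
  have h₁ := congr_app ((TotSymm.LTDIso (X := X)).hom.naturality g) (dual E')
  have h₂ := ((TotSymm.LTD (X := X)).map y).naturality ((RHomNat.rhat g).app (one X))
  have h₃ := ((TotSymm.LTDIso (X := X)).hom.app E).naturality ((RHomNat.rhat g).app (one X))
  simp only [Functor.comp_map, Functor.comp_obj, NatTrans.comp_app, TotSymm.lhatF] at h₁ h₂ h₃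
  simp only [Psi, AddMonoidHom.mk'_apply, Functor.flip_obj_map, Functor.map_comp, NatTrans.comp_app, Category.assoc,
    Iso.app_hom]
  rw [reassoc_of% h₁, hc]
  erw [← reassoc_of% h₃, ← reassoc_of% h₂]

/-- The pairing is perfect on the extensions by zero from `W`. -/
def Bid (E : CochainComplex X.Modules ℤ) : Prop :=
  ∀ N : CochainComplex W.Modules ℤ, IsKFlatFor (shT W) N →
    Function.Bijective (Psi E (DerivedCategory.Q.obj ((ShriekTot.shriekC j).obj N)))

/-- Tensoring with a complex supported in the open turns isomorphisms over it into isomorphisms. -/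
theorem isIso_LTD_map {N : CochainComplex W.Modules ℤ} (hN : IsKFlatFor (shT W) N) {A B : DCoh.D X} (φ : A ⟶ B)
    [IsIso ((PerfLocal.rd j).map φ)] :
    IsIso ((TotSymm.LTD.obj (DerivedCategory.Q.obj ((ShriekTot.shriekC j).obj N))).map φ) := by
  let J := (ShriekTot.shriekC j).obj N
  have hJ : IsKFlatFor (shT X) J := ShriekTot.isKFlatFor_shriek j hN
  obtain ⟨e⟩ := TotSymm.nonempty_LT_leftT hJ
  refine (NatIso.isIso_map_iff (TotSymm.LTDIso.app J ≪≫ e) φ).2 ?_
  obtain ⟨Z, s, hs, t, ht⟩ := DerivedCategory.right_fac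
    ((DerivedCategory.Q.objObjPreimageIso A).hom ≫ φ ≫ (DerivedCategory.Q.objObjPreimageIso B).inv)
  haveI := hs
  have hφ : φ = (DerivedCategory.Q.objObjPreimageIso A).inv ≫ (inv (DerivedCategory.Q.map s) ≫ DerivedCategory.Q.map t) ≫
      (DerivedCategory.Q.objObjPreimageIso B).hom := by
    rw [← ht]
    simp
  haveI : IsIso ((PerfLocal.rd j).map (DerivedCategory.Q.map t)) := by
    have e := congrArg (PerfLocal.rd j).map ht
    simp only [Functor.map_comp] at e
    exact IsIso.of_isIso_fac_left e.symm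
  haveI := (ProjPerf.isIso_rd_Q_iff j t).1 ‹_›
  haveI : QuasiIso ((ProjPerf.restrC j).map (totMap₂ (shT X) J t)) := by
    haveI := TensorCongr.quasiIso_tot_left (ShriekTensor.isKFlatFor_restr j hJ) ((ProjPerf.restrC j).map t)
    refine (quasiIso_iff_comp_right _ (ProjPerf.restrTot j J _).hom).1 ?_
    rw [ProjPerf.restrTot_natural]
    infer_instance
  haveI hq : QuasiIso (totMap₂ (shT X) J t) := ShriekTot.quasiIso_of_restrict j _
    (fun x hx => ShriekTot.isZero_stalk_tot₁ x (ShriekTot.isZero_stalk_shriekC j N x hx) _)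
    (fun x hx => ShriekTot.isZero_stalk_tot₁ x (ShriekTot.isZero_stalk_shriekC j N x hx) _)
  haveI : IsIso ((RHomEval.leftT hJ).map (DerivedCategory.Q.map t)) := by
    refine (NatIso.isIso_map_iff (RHomEval.leftTIso hJ) t).2 ?_
    exact (DerivedCategory.isIso_Q_map_iff_quasiIso _ _).2
      (AssocNat.quasiIso_map_of_tot (shT X) (DCoh.tensorCx (X := X)) rfl (𝟭 _) J t hq)
  rw [hφ]
  simp only [Functor.map_comp, Functor.map_inv]
  infer_instance

theorem bid_iff {E E' : CochainComplex X.Modules ℤ} (g : E ⟶ E')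
    (h₁ : ∀ N : CochainComplex W.Modules ℤ, IsKFlatFor (shT W) N → Function.Bijective
      fun y : DerivedCategory.Q.obj ((ShriekTot.shriekC j).obj N) ⟶ DerivedCategory.Q.obj E =>
        y ≫ DerivedCategory.Q.map g)
    (h₂ : IsIso ((PerfLocal.rd j).map ((RHomNat.rhat g).app (one X)))) : Bid j E ↔ Bid j E' := by
  refine forall₂_congr fun N hN => ?_
  haveI := isIso_LTD_map j hN ((RHomNat.rhat g).app (one X))
  let T := DerivedCategory.Q.obj ((ShriekTot.shriekC j).obj N)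
  let c := (asIso ((TotSymm.LTD.obj T).map ((RHomNat.rhat g).app (one X)))).symm.homFromEquiv (Z := one X)
  have k : (Psi E' T) ∘ (fun y => y ≫ DerivedCategory.Q.map g) = c ∘ (Psi E T) := by
    funext y
    simp only [Function.comp_apply, Psi_nat]
    rfl
  rw [← (h₁ N hN).of_comp_iff (Psi E' T), k]
  exact (Function.Bijective.of_comp_iff' c.bijective _).symm

theorem bid_qis {E E' : CochainComplex X.Modules ℤ} (g : E ⟶ E') [QuasiIso g] : Bid j E ↔ Bid j E' := by
  haveI := RHomNat.isIso_rhat g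
  refine bid_iff j g (fun N _ => ?_) inferInstance
  exact (asIso (DerivedCategory.Q.map g)).homToEquiv.bijective

theorem bid_ext (S : ShortComplex (CochainComplex X.Modules ℤ))
    (hS : ∀ n, Nonempty ((S.map (HomologicalComplex.eval X.Modules (ComplexShape.up ℤ) n)).Splitting))
    (h₁ : ∀ k : ℤ, Bid j (S.X₁⟦k⟧)) (h₃ : ∀ k : ℤ, Bid j (S.X₃⟦k⟧)) (k : ℤ) : Bid j (S.X₂⟦k⟧) := by
  refine RHomNat.ext_of_middle' (Bid j) (fun _ => True) (fun e => bid_qis j e.hom) (fun _ h => h)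
    (fun {E₁ E₂ E₃ E₄ E₅} u₁ u₂ u₃ u₄ e₁ e₂ e₃ q₁ q₂ q₃ p₁ p₂ p₄ p₅ _ N hN => ?_) S hS h₁ h₃ k trivial
  let J := (ShriekTot.shriekC j).obj N
  let T := DerivedCategory.Q.obj J
  let adj := (RHomNat.adjE J).ofNatIsoLeft (TotSymm.LTDIso.app J).symm
  haveI : (TotSymm.LTD.obj T).Additive := additive_left adj
  let a : ∀ {E E' : CochainComplex X.Modules ℤ}, (E ⟶ E') →
      ((T ⟶ DerivedCategory.Q.obj E) →+ (T ⟶ DerivedCategory.Q.obj E')) :=
    fun g => Preadditive.rightComp T (DerivedCategory.Q.map g)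
  let b : ∀ {E E' : CochainComplex X.Modules ℤ}, (E ⟶ E') →
      (((TotSymm.LTD.obj T).obj (dual E) ⟶ one X) →+ ((TotSymm.LTD.obj T).obj (dual E') ⟶ one X)) :=
    fun g => Preadditive.leftComp (one X) ((TotSymm.LTD.obj T).map ((RHomNat.rhat g).app (one X)))
  refine bijective_middle (a u₁) (a u₂) (a u₃) (a u₄) (b u₁) (b u₂) (b u₃) (b u₄) (Psi E₁ T) (Psi E₂ T) (Psi E₃ T)
    (Psi E₄ T) (Psi E₅ T) (Psi_nat u₁) (Psi_nat u₂) (Psi_nat u₃) (Psi_nat u₄) ?_ ?_ ?_ ?_ ?_ ?_
    (p₁ N hN).2 (p₂ N hN) (p₄ N hN) (p₅ N hN).1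
  · intro x
    change (x ≫ _) ≫ _ = 0
    rw [Category.assoc, q₁.1, comp_zero]
  · intro x hx
    obtain ⟨y, rfl⟩ := q₂.2 T x hx
    exact ⟨y, rfl⟩
  · intro x hx
    obtain ⟨y, rfl⟩ := q₃.2 T x hx
    exact ⟨y, rfl⟩
  · intro x
    change (TotSymm.LTD.obj T).map _ ≫ (TotSymm.LTD.obj T).map _ ≫ x = 0
    rw [← Functor.map_comp_assoc, e₃.rhat_zero, Functor.map_zero, zero_comp]
  · intro x hx
    exact factor_map adj _ _ (fun M m hm => e₁.rhat_exact (one X) M m hm) x hx
  · intro x hx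
    exact factor_map adj _ _ (fun M m hm => e₂.rhat_exact (one X) M m hm) x hx

theorem bid_of_isZero {E : CochainComplex X.Modules ℤ} (hE : IsZero E) : Bid j E := by
  intro N hN
  let J := (ShriekTot.shriekC j).obj N
  let adj := (RHomNat.adjE J).ofNatIsoLeft (TotSymm.LTDIso.app J).symm
  haveI : (TotSymm.LTD.obj (DerivedCategory.Q.obj J)).Additive := additive_left adj
  have hd : IsZero (dual E) := isZero_RH_of_isZero hE _
  have h₁ : ∀ y y' : DerivedCategory.Q.obj J ⟶ DerivedCategory.Q.obj E, y = y' := fun y y' =>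
    (DerivedCategory.Q.map_isZero hE).eq_of_tgt y y'
  exact ⟨fun y y' _ => h₁ y y', fun w => ⟨0, ((TotSymm.LTD.obj _).map_isZero hd).eq_of_src _ _⟩⟩

theorem bid_structure (k : ℤ) : Bid j (((single X.Modules (ComplexShape.up ℤ) 0).obj (Coh.structureModule X))⟦k⟧) := by
  intro N hN
  haveI := RHomEval.isEquivalence_LT_structure X k
  haveI := RHomEval.isEquivalence_LT_structure X (-k)
  obtain ⟨eZ⟩ := nonempty_RH_structure X k
  obtain ⟨e₁⟩ := TotSymm.nonempty_LTD_flip ((RHomLeft.isKFlatFor_structure X).shift (-k))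
  obtain ⟨e₂⟩ := TotSymm.nonempty_LT_leftT ((RHomLeft.isKFlatFor_structure X).shift (-k))
  haveI : ((TotSymm.LTD (X := X)).flip.obj (dual (((single X.Modules (ComplexShape.up ℤ) 0).obj (Coh.structureModule X))⟦k⟧))).IsEquivalence :=
    Functor.isEquivalence_of_iso (e₂ ≪≫ e₁.symm ≪≫ (TotSymm.LTD (X := X)).flip.mapIso eZ.symm)
  haveI := (RHomNat.adjE (((single X.Modules (ComplexShape.up ℤ) 0).obj (Coh.structureModule X))⟦k⟧)).isEquivalence_right_of_isEquivalence_left
  let F := (TotSymm.LTD (X := X)).flip.obj (dual (((single X.Modules (ComplexShape.up ℤ) 0).obj (Coh.structureModule X))⟦k⟧))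
  let c := (TotSymm.LTDIso.app (((single X.Modules (ComplexShape.up ℤ) 0).obj (Coh.structureModule X))⟦k⟧)).hom.app
      (dual (((single X.Modules (ComplexShape.up ℤ) 0).obj (Coh.structureModule X))⟦k⟧)) ≫
    (RHomNat.adjE (((single X.Modules (ComplexShape.up ℤ) 0).obj (Coh.structureModule X))⟦k⟧)).counit.app (one X)
  haveI : IsIso c := inferInstance
  exact (asIso c).homToEquiv.bijective.comp ((Functor.FullyFaithful.ofFullyFaithful F).map_bijective _ _)

theorem bid_free (n : ℕ) (m : ℤ) : Bid j ((single X.Modules (ComplexShape.up ℤ) m).obj (FlatMod.freeMod X n)) := by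
  have hi : ∀ {E E' : CochainComplex X.Modules ℤ}, (E ≅ E') → Bid j E → Bid j E' := fun e h => (bid_qis j e.hom).1 h
  have sh : ∀ (M : X.Modules) (m k : ℤ),
      ((single X.Modules (ComplexShape.up ℤ) m).obj M)⟦k⟧ ≅ (single X.Modules (ComplexShape.up ℤ) (m - k)).obj M :=
    fun M m k => ((CochainComplex.singleFunctors X.Modules).shiftIso k (m - k) m (by omega)).app M
  induction n generalizing m with
  | zero => exact bid_of_isZero j ((single _ _ m).map_isZero ProjPerf.isZero_freeMod_zero)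
  | succ n ih =>
    let T := RHomLeft.sigmaSeq (fun _ : Fin (n + 1) => Coh.structureModule X)
    let sp : T.Splitting := RHomLeft.sigmaSplit (fun _ : Fin (n + 1) => Coh.structureModule X)
    exact hi ((shiftFunctorZero _ ℤ).app _) (bid_ext j (T.map (single X.Modules (ComplexShape.up ℤ) m))
      (fun q => ⟨sp.map (single X.Modules (ComplexShape.up ℤ) m ⋙ HomologicalComplex.eval _ _ q)⟩)
      (fun k => hi ((((CochainComplex.singleFunctors X.Modules).shiftIso (-(m - k)) (m - k) 0 (by omega)).app _) ≪≫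
        (sh _ m k).symm) (bid_structure j _)) (fun k => hi (sh _ m k).symm (ih _)) 0)

/-- Quasi-isomorphisms over the open preserve `Bid`. -/
theorem bid_restrict_iff {E E' : CochainComplex X.Modules ℤ} (g : E ⟶ E')
    (k : IsKFlatFor (shT W) ((ProjPerf.restrC j).obj E)) (k' : IsKFlatFor (shT W) ((ProjPerf.restrC j).obj E'))
    [QuasiIso ((ProjPerf.restrC j).map g)] : Bid j E ↔ Bid j E' := by
  haveI : IsIso ((PerfLocal.rd j).map (DerivedCategory.Q.map g)) := (ProjPerf.isIso_rd_Q_iff j g).2 inferInstance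
  refine bid_iff j g (fun N _ => ?_) (RHomEval.isIso_rd_rhat j g k k' _)
  exact bijective_comp_of_isIso_rd j _ N

/-- Complexes over the open with `Bid` extensions by zero. -/
def BidU (C : CochainComplex W.Modules ℤ) : Prop :=
  IsKFlatFor (shT W) C ∧ ∀ k : ℤ, Bid j (((ShriekTot.shriekC j).obj C)⟦k⟧)

theorem bidU_free {M : W.Modules} {n : ℕ} (e : M ≅ FlatMod.freeMod W n) (m : ℤ) :
    BidU j ((single W.Modules (ComplexShape.up ℤ) m).obj M) := by
  refine ⟨RHomEval.isKFlatFor_single_free e m, fun k => ?_⟩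
  obtain ⟨-, g, hG, hq⟩ := exists_single_free_map j e m k
  haveI := hq
  exact (bid_restrict_iff j g (ShriekTensor.isKFlatFor_restr j hG)
    (ShriekTensor.isKFlatFor_restr j (RHomEval.isKFlatFor_single_free (Iso.refl _) _))).2 (bid_free j n (m - k))

theorem bidU_of_bounded (C : CochainComplex W.Modules ℤ) (a : ℤ) (m : ℕ) (h₁ : ∀ n, n < a → IsZero (C.X n))
    (h₂ : ∀ n, a + (m : ℤ) ≤ n → IsZero (C.X n)) (hfree : ∀ i, ∃ n, Nonempty (C.X i ≅ FlatMod.freeMod W n)) :
    BidU j C := by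
  refine bounded_induction (BidU j) (fun M => ∃ n, Nonempty (M ≅ FlatMod.freeMod W n))
    (fun K hK => ⟨isKFlatFor_of_isZero hK, fun k => bid_of_isZero j
      ((shiftFunctor _ k).map_isZero ((ShriekTot.shriekC j).map_isZero hK))⟩)
    (fun M hM => ⟨0, ⟨hM.iso ProjPerf.isZero_freeMod_zero⟩⟩)
    (fun M N e ⟨n, ⟨f⟩⟩ => ⟨n, ⟨e.symm ≪≫ f⟩⟩) (fun m M ⟨n, ⟨f⟩⟩ => bidU_free j f m)
    (fun S hS p₁ p₃ => ?_) a m C h₁ h₂ hfree
  exact ⟨IsKFlatFor.ext₂ (fun a q => ((hS q).some.map ((shT W).obj a)).shortExact) p₁.1 p₃.1, fun k =>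
    bid_ext j (S.map (ShriekTot.shriekC j)) (fun q => ⟨(hS q).some.map (JShriek.shriek j)⟩) p₁.2 p₃.2 k⟩

/-- The bidual of a perfect complex. -/
theorem nonempty_bidual {K : CochainComplex X.Modules ℤ} (hK : IsKFlatFor (shT X) K)
    (hp : DCoh.IsPerfect (DerivedCategory.Q.obj K)) {D : CochainComplex X.Modules ℤ} (hD : IsKFlatFor (shT X) D)
    (eD : DerivedCategory.Q.obj D ≅ dual K) : Nonempty (DerivedCategory.Q.obj K ≅ dual D) := by
  obtain ⟨e₁⟩ := TotSymm.nonempty_LTD_flip hD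
  obtain ⟨e₂⟩ := TotSymm.nonempty_LT_leftT hD
  let φ : RHomNat.LT D ≅ (TotSymm.LTD (X := X)).flip.obj (dual K) :=
    e₂ ≪≫ e₁.symm ≪≫ (TotSymm.LTD (X := X)).flip.mapIso eD
  let Θ : ∀ T : DCoh.D X, (T ⟶ DerivedCategory.Q.obj K) → (T ⟶ dual D) := fun T y =>
    (RHomNat.adjE D).homEquiv T (one X) (φ.hom.app T ≫ Psi K T y)
  let ev := Θ _ (𝟙 (DerivedCategory.Q.obj K))
  have hΘ : ∀ (T : DCoh.D X) (y : T ⟶ DerivedCategory.Q.obj K), Θ T y = y ≫ ev := fun T y => by
    have h := φ.hom.naturality y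
    simp only [ev, Θ]
    rw [← Adjunction.homEquiv_naturality_left, reassoc_of% h, ← Psi_comp, Category.comp_id]
  haveI : IsIso ev := by
    refine ProjPerf.isIso_of_locally _ fun x => ?_
    obtain ⟨V, C, a, m, hxV, h₁, h₂, hfree, ⟨e⟩⟩ := ProjPerf.exists_free_nhd hp x
    refine ⟨V, hxV, RHomEval.isIso_rd_of_shriek V.ι _ fun N hN => ?_⟩
    have hG := bidU_of_bounded V.ι C a m h₁ h₂ hfree
    obtain ⟨J, g₁, g₂, hJ, q₁, q₂⟩ := exists_zigzag V e
    have gC : Bid V.ι ((ShriekTot.shriekC V.ι).obj C) := (bid_qis V.ι ((shiftFunctorZero _ ℤ).app _).hom).1 (hG.2 0)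
    have kC := ShriekTensor.isKFlatFor_restr V.ι (ShriekTot.isKFlatFor_shriek V.ι hG.1)
    have kJ := ShriekTensor.isKFlatFor_restr V.ι hJ
    haveI := q₁
    haveI := q₂
    have gK : Bid V.ι K := (bid_restrict_iff V.ι g₂ kJ (ShriekTensor.isKFlatFor_restr V.ι hK)).1
      ((bid_restrict_iff V.ι g₁ kJ kC).2 gC)
    let T := DerivedCategory.Q.obj ((ShriekTot.shriekC V.ι).obj N)
    have k : (fun y : T ⟶ DerivedCategory.Q.obj K => y ≫ ev) =
        (RHomNat.adjE D).homEquiv T (one X) ∘ (φ.app T).symm.homFromEquiv ∘ Psi K T := funext fun y => by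
      rw [← hΘ]
      rfl
    rw [k]
    exact (Equiv.bijective _).comp ((Equiv.bijective _).comp (gK N hN))
  exact ⟨asIso ev⟩

end Groth.Agent.DCat.RHomBidual
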