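import Groth.Agent.DCat.RHomNat
import Groth.Agent.DCat.TensorAssoc
import Groth.Agent.DCat.AssocNat

/-! The evaluation map `A ⊗ RHom(E, L) → RHom(E, A ⊗ L)` and its naturality in chain maps of `E`. -/

set_option autoImplicit false
set_option backward.isDefEq.respectTransparency false
set_option backward.defeqAttrib.useBackward true
set_option linter.style.haveILetI false

universe u

open CategoryTheory CategoryTheory.Limits CategoryTheory.Pretriangulated AlgebraicGeometry HomologicalComplex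
open Groth.Agent.ModStalk

attribute [local instance] HasDerivedCategory.standard
attribute [-instance] Int.instConditionallyCompleteLinearOrder

namespace Groth.Agent.DCat.RHomEval


variable {X : Scheme.{u}}


/-- `A ⊗ -` on complexes. -/
noncomputable abbrev lT (A : CochainComplex X.Modules ℤ) : CochainComplex X.Modules ℤ ⥤ CochainComplex X.Modules ℤ :=
  (DCoh.tensorCx (X := X)).obj A

/-- `- ⊗ E` on complexes. -/
noncomputable abbrev rT (E : CochainComplex X.Modules ℤ) : CochainComplex X.Modules ℤ ⥤ CochainComplex X.Modules ℤ :=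
  (DCoh.tensorCx (X := X)).flip.obj E

/-- Associativity as a commutation, with its naturality. -/
noncomputable def kappaPair (A : CochainComplex X.Modules ℤ) :
    { κ : ∀ E : CochainComplex X.Modules ℤ, lT A ⋙ rT E ≅ rT E ⋙ lT A //
      ∀ (E E' : CochainComplex X.Modules ℤ) (g : E ⟶ E'),
        Functor.whiskerLeft (lT A) ((DCoh.tensorCx (X := X)).flip.map g) ≫ (κ E').hom =
          (κ E).hom ≫ Functor.whiskerRight ((DCoh.tensorCx (X := X)).flip.map g) (lT A) } :=
  AssocNat.commPair (shT X) (TensorAssoc.associator X) (DCoh.tensorCx (X := X)) rfl A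

/-- Associativity as a commutation. -/
noncomputable abbrev kappa (A E : CochainComplex X.Modules ℤ) : lT A ⋙ rT E ≅ rT E ⋙ lT A :=
  (kappaPair A).1 E

/-- `- ⊗^L E` descends `- ⊗ E`, for K-flat `E`. -/
noncomputable def rTIso {E : CochainComplex X.Modules ℤ} (hE : IsKFlatFor (shT X) E) :
    DerivedCategory.Q ⋙ RHomNat.LT E ≅ rT E ⋙ DerivedCategory.Q :=
  haveI := LTensorSheaf.hasLTensorCx E
  TensorCongr.fac hE

theorem rTIso_nat {E E' : CochainComplex X.Modules ℤ} (hE : IsKFlatFor (shT X) E) (hE' : IsKFlatFor (shT X) E')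
    (g : E ⟶ E') :
    Functor.whiskerLeft DerivedCategory.Q (RHomNat.lhat g) ≫ (rTIso hE').hom =
      (rTIso hE).hom ≫ Functor.whiskerRight ((DCoh.tensorCx (X := X)).flip.map g) DerivedCategory.Q :=
  NatTrans.ext (funext fun Y => RHomNat.lhat_fac g Y)

theorem inverts_lT {A : CochainComplex X.Modules ℤ} (hA : IsKFlatFor (shT X) A) :
    (HomologicalComplex.quasiIso X.Modules (ComplexShape.up ℤ)).IsInvertedBy (lT A ⋙ DerivedCategory.Q) :=
  AssocNat.inverts_of_tot (shT X) (DCoh.tensorCx (X := X)) rfl A fun f _ => TensorCongr.quasiIso_tot_left hA f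

/-- `A ⊗^L -` for K-flat `A`. -/
noncomputable def leftT {A : CochainComplex X.Modules ℤ} (hA : IsKFlatFor (shT X) A) : DCoh.D X ⥤ DCoh.D X :=
  Localization.lift (lT A ⋙ DerivedCategory.Q) (inverts_lT hA) DerivedCategory.Q

/-- `A ⊗^L -` descends `A ⊗ -`. -/
noncomputable def leftTIso {A : CochainComplex X.Modules ℤ} (hA : IsKFlatFor (shT X) A) :
    DerivedCategory.Q ⋙ leftT hA ≅ lT A ⋙ DerivedCategory.Q :=
  Localization.fac (lT A ⋙ DerivedCategory.Q) (inverts_lT hA) DerivedCategory.Q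

/-- Composites of `A ⊗^L -` with homological functors are homological. -/
theorem isHomological_leftT {A : CochainComplex X.Modules ℤ} (hA : IsKFlatFor (shT X) A)
    {C : Type*} [Category C] [Abelian C] (H : DCoh.D X ⥤ C) [H.IsHomological] : (leftT hA ⋙ H).IsHomological := by
  haveI : (leftT hA).PreservesZeroMorphisms := RHomExist.preservesZeroMorphisms (lT A) (leftTIso hA)
  refine ⟨fun T hT => ?_⟩
  obtain ⟨δ, hδ⟩ := RHomExist.exists_triangle (lT A) (fun S hS => HomologicalComplex.shortExact_of_degreewise_shortExact _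
    fun n => (AssocNat.splitting_of_tot (shT X) (DCoh.tensorCx (X := X)) rfl A S hS n).some.shortExact) (leftTIso hA) hT
  exact H.map_distinguished_exact _ hδ

variable {A : CochainComplex X.Modules ℤ} (hA : IsKFlatFor (shT X) A)

/-- `(A ⊗ Y) ⊗ E ≅ A ⊗ (Y ⊗ E)`. -/
noncomputable def sig {E : CochainComplex X.Modules ℤ} (hE : IsKFlatFor (shT X) E) :
    leftT hA ⋙ RHomNat.LT E ≅ RHomNat.LT E ⋙ leftT hA :=
  AssocNat.sigma DerivedCategory.Q (HomologicalComplex.quasiIso X.Modules (ComplexShape.up ℤ)) (leftTIso hA) (rTIso hE) (kappa A E)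

theorem sig_nat {E E' : CochainComplex X.Modules ℤ} (hE : IsKFlatFor (shT X) E) (hE' : IsKFlatFor (shT X) E') (g : E ⟶ E') :
    Functor.whiskerLeft (leftT hA) (RHomNat.lhat g) ≫ (sig hA hE').hom =
      (sig hA hE).hom ≫ Functor.whiskerRight (RHomNat.lhat g) (leftT hA) :=
  AssocNat.sigma_nat DerivedCategory.Q (HomologicalComplex.quasiIso X.Modules (ComplexShape.up ℤ))
    ((DCoh.tensorCx (X := X)).flip.map g) (leftTIso hA) (rTIso hE) (rTIso hE') (kappa A E) (kappa A E')
    (RHomNat.lhat g) (rTIso_nat hE hE' g) ((kappaPair A).2 _ _ g)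

/-- The evaluation map `A ⊗ RHom(E, L) → RHom(E, A ⊗ L)`. -/
noncomputable def Phi {E : CochainComplex X.Modules ℤ} (hE : IsKFlatFor (shT X) E) (L : DCoh.D X) :
    (leftT hA).obj ((RHomNat.RH E).obj L) ⟶ (RHomNat.RH E).obj ((leftT hA).obj L) :=
  (RHomNat.adjE E).homEquiv _ _
    ((sig hA hE).hom.app ((RHomNat.RH E).obj L) ≫ (leftT hA).map ((RHomNat.adjE E).counit.app L))

theorem tr_Phi {E : CochainComplex X.Modules ℤ} (hE : IsKFlatFor (shT X) E) {Y L : DCoh.D X}
    (x : Y ⟶ (RHomNat.RH E).obj L) :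
    ((RHomNat.adjE E).homEquiv _ _).symm ((leftT hA).map x ≫ Phi hA hE L) =
      (sig hA hE).hom.app Y ≫ (leftT hA).map (((RHomNat.adjE E).homEquiv Y L).symm x) := by
  rw [Adjunction.homEquiv_naturality_left_symm, Phi, Equiv.symm_apply_apply, Adjunction.homEquiv_counit,
    (leftT hA).map_comp]
  exact (sig hA hE).hom.naturality_assoc x _

/-- Naturality of the evaluation map. -/
theorem Phi_nat {E E' : CochainComplex X.Modules ℤ} (hE : IsKFlatFor (shT X) E) (hE' : IsKFlatFor (shT X) E')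
    (g : E ⟶ E') (L : DCoh.D X) :
    (leftT hA).map ((RHomNat.rhat g).app L) ≫ Phi hA hE L =
      Phi hA hE' L ≫ (RHomNat.rhat g).app ((leftT hA).obj L) := by
  refine ((RHomNat.adjE E).homEquiv _ _).symm.injective ?_
  rw [tr_Phi, RHomNat.tr_rhat, Phi, Equiv.symm_apply_apply]
  have h := congr_app (sig_nat hA hE hE' g) ((RHomNat.RH E').obj L)
  simp only [NatTrans.comp_app, Functor.whiskerLeft_app, Functor.whiskerRight_app] at h
  rw [reassoc_of% h, ← (leftT hA).map_comp]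
  refine congrArg (_ ≫ ·) (congrArg (leftT hA).map ?_)
  rw [← Category.id_comp ((RHomNat.rhat g).app L), RHomNat.tr_rhat, Adjunction.homEquiv_counit,
    CategoryTheory.Functor.map_id, Category.id_comp]

/-- Homological functors make `RHom` along an exact pair exact. -/
theorem exPair_exact {C : Type*} [Category C] [Abelian C] (G : DCoh.D X ⥤ C) [G.IsHomological]
    {F₁ F₂ F₃ : CochainComplex X.Modules ℤ} (g : F₁ ⟶ F₂) (h : F₂ ⟶ F₃) (p : RHomNat.ExPair g h) (M : DCoh.D X) :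
    (ShortComplex.mk (G.map ((RHomNat.rhat h).app M)) (G.map ((RHomNat.rhat g).app M))
      (by rw [← G.map_comp, p.rhat_zero, G.map_zero])).Exact :=
  RHomSeq.exact_of_hom_exact G _ _ (p.rhat_zero M) fun N x hx => p.rhat_exact M N x hx

/-- The five lemma for exact pairs. -/
theorem isIso_H_Phi_middle {C : Type*} [Category C] [Abelian C] (H : DCoh.D X ⥤ C) [H.IsHomological]
    {E₁ E₂ E₃ E₄ E₅ : CochainComplex X.Modules ℤ} (u₁ : E₁ ⟶ E₂) (u₂ : E₂ ⟶ E₃) (u₃ : E₃ ⟶ E₄) (u₄ : E₄ ⟶ E₅)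
    (k₁ : IsKFlatFor (shT X) E₁) (k₂ : IsKFlatFor (shT X) E₂) (k₃ : IsKFlatFor (shT X) E₃)
    (k₄ : IsKFlatFor (shT X) E₄) (k₅ : IsKFlatFor (shT X) E₅)
    (e₁ : RHomNat.ExPair u₁ u₂) (e₂ : RHomNat.ExPair u₂ u₃) (e₃ : RHomNat.ExPair u₃ u₄) (L : DCoh.D X)
    (p₁ : IsIso (H.map (Phi hA k₁ L))) (p₂ : IsIso (H.map (Phi hA k₂ L))) (p₄ : IsIso (H.map (Phi hA k₄ L)))
    (p₅ : IsIso (H.map (Phi hA k₅ L))) : IsIso (H.map (Phi hA k₃ L)) := by
  let S := leftT hA
  haveI := isHomological_leftT hA H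
  let R₁ : ComposableArrows C 4 := ComposableArrows.mk₄ ((S ⋙ H).map ((RHomNat.rhat u₄).app L))
    ((S ⋙ H).map ((RHomNat.rhat u₃).app L)) ((S ⋙ H).map ((RHomNat.rhat u₂).app L))
    ((S ⋙ H).map ((RHomNat.rhat u₁).app L))
  let R₂ : ComposableArrows C 4 := ComposableArrows.mk₄ (H.map ((RHomNat.rhat u₄).app (S.obj L)))
    (H.map ((RHomNat.rhat u₃).app (S.obj L))) (H.map ((RHomNat.rhat u₂).app (S.obj L)))
    (H.map ((RHomNat.rhat u₁).app (S.obj L)))
  have hn : ∀ {E E' : CochainComplex X.Modules ℤ} (hE : IsKFlatFor (shT X) E) (hE' : IsKFlatFor (shT X) E')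
      (g : E ⟶ E'), (S ⋙ H).map ((RHomNat.rhat g).app L) ≫ H.map (Phi hA hE L) =
        H.map (Phi hA hE' L) ≫ H.map ((RHomNat.rhat g).app (S.obj L)) := fun hE hE' g => by
    rw [Functor.comp_map, ← H.map_comp, ← H.map_comp, Phi_nat hA hE hE' g L]
  let φ : R₁ ⟶ R₂ := ComposableArrows.homMk₄ (H.map (Phi hA k₅ L)) (H.map (Phi hA k₄ L)) (H.map (Phi hA k₃ L))
    (H.map (Phi hA k₂ L)) (H.map (Phi hA k₁ L)) (hn k₄ k₅ u₄) (hn k₃ k₄ u₃) (hn k₂ k₃ u₂) (hn k₁ k₂ u₁)
  refine Abelian.isIso_of_epi_of_isIso_of_isIso_of_mono (R₁ := R₁) (R₂ := R₂) ?_ ?_ φ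
    (show Epi (H.map (Phi hA k₅ L)) by infer_instance) p₄ p₂ (show Mono (H.map (Phi hA k₁ L)) by infer_instance)
  · exact ComposableArrows.exact_of_δ₀ (exPair_exact (S ⋙ H) u₃ u₄ e₃ L).exact_toComposableArrows
      (ComposableArrows.exact_of_δ₀ (exPair_exact (S ⋙ H) u₂ u₃ e₂ L).exact_toComposableArrows
        (exPair_exact (S ⋙ H) u₁ u₂ e₁ L).exact_toComposableArrows)
  · exact ComposableArrows.exact_of_δ₀ (exPair_exact H u₃ u₄ e₃ _).exact_toComposableArrows
      (ComposableArrows.exact_of_δ₀ (exPair_exact H u₂ u₃ e₂ _).exact_toComposableArrows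
        (exPair_exact H u₁ u₂ e₁ _).exact_toComposableArrows)

end Groth.Agent.DCat.RHomEval
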