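import Groth.Agent.DCat.RHomBidual

/-! `RHom(L, M) ⊗ K = RHom(RHom(K, L), M)` for perfect `K`. -/

set_option autoImplicit false
set_option backward.isDefEq.respectTransparency false
set_option backward.defeqAttrib.useBackward true
set_option linter.style.haveILetI false

universe v₀ u₀ u

open CategoryTheory CategoryTheory.Limits AlgebraicGeometry HomologicalComplex
open Groth.Agent.ModStalk

attribute [local instance] HasDerivedCategory.standard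
attribute [-instance] Int.instConditionallyCompleteLinearOrder

namespace Groth.Agent.DCat.RHomEvalDual

section Assoc

variable {C₀ : Type u₀} [Category.{v₀} C₀] [Abelian C₀] (T : C₀ ⥤ C₀ ⥤ C₀) [T.Additive] [∀ a, (T.obj a).Additive]
  [∀ (K₁ : CochainComplex C₀ ℤ) (K₂ : CochainComplex C₀ ℤ), CochainComplex.HasMapBifunctor K₁ K₂ T]
  (α : bifunctorComp₁₂ T T ≅ bifunctorComp₂₃ T T)
  [∀ (A B C : CochainComplex C₀ ℤ), HasGoodTrifunctor₁₂Obj T T A B C (ComplexShape.up ℤ) (ComplexShape.up ℤ)]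
  [∀ (A B C : CochainComplex C₀ ℤ),
    HasGoodTrifunctor₂₃Obj T T A B C (ComplexShape.up ℤ) (ComplexShape.up ℤ) (ComplexShape.up ℤ)]

/-- Associativity as a composition of `- ⊗ B` and `- ⊗ C`. -/
noncomputable def compOf (Φ : CochainComplex C₀ ℤ ⥤ CochainComplex C₀ ℤ ⥤ CochainComplex C₀ ℤ)
    (hΦ : Φ = T.map₂CochainComplex) (B C : CochainComplex C₀ ℤ) :
    Φ.flip.obj B ⋙ Φ.flip.obj C ≅ Φ.flip.obj (tot T B C) :=
  eqToIso (by rw [hΦ]) ≪≫ (NatIso.ofComponents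
    (fun A => mapBifunctorAssociator α A B C (ComplexShape.up ℤ) (ComplexShape.up ℤ) (ComplexShape.up ℤ))
    (fun {A A'} f => by
      refine Eq.trans (AssocNat.assoc_natural T α f (𝟙 B) (𝟙 C)) ?_
      have e : mapBifunctorMap (𝟙 B) (𝟙 C) T (ComplexShape.up ℤ) = 𝟙 ((T.map₂CochainComplex.obj B).obj C) :=
        (T.map₂CochainComplex.obj B).map_id C
      rw [e]
      rfl) : T.map₂CochainComplex.flip.obj B ⋙ T.map₂CochainComplex.flip.obj C ≅
        T.map₂CochainComplex.flip.obj ((T.map₂CochainComplex.obj B).obj C)) ≪≫ eqToIso (by subst hΦ; rfl)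

end Assoc

/-- Composites which agree before localization agree after it. -/
theorem nonempty_comp_iso {C D : Type*} [Category C] [Category D] (L : C ⥤ D) (W : MorphismProperty C)
    [L.IsLocalization W] {F G H : C ⥤ C} {F' G' H' : D ⥤ D} (eF : L ⋙ F' ≅ F ⋙ L) (eG : L ⋙ G' ≅ G ⋙ L)
    (eH : L ⋙ H' ≅ H ⋙ L) (e : F ⋙ G ≅ H) : Nonempty (F' ⋙ G' ≅ H') := by
  let c : L ⋙ (F' ⋙ G') ≅ L ⋙ H' :=
    (Functor.associator _ _ _).symm ≪≫ Functor.isoWhiskerRight eF _ ≪≫ Functor.associator _ _ _ ≪≫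
      Functor.isoWhiskerLeft _ eG ≪≫ (Functor.associator _ _ _).symm ≪≫ Functor.isoWhiskerRight e L ≪≫ eH.symm
  exact ⟨Localization.liftNatIso L W (L ⋙ (F' ⋙ G')) (L ⋙ H') _ _ c⟩

variable {X : Scheme.{u}}

/-- `(- ⊗^L B) ⊗^L C = - ⊗^L (B ⊗ C)`. -/
theorem nonempty_LT_tot {B C : CochainComplex X.Modules ℤ} (hB : IsKFlatFor (shT X) B) (hC : IsKFlatFor (shT X) C) :
    Nonempty (RHomNat.LT B ⋙ RHomNat.LT C ≅ RHomNat.LT (tot (shT X) B C)) := by
  exact nonempty_comp_iso DerivedCategory.Q (HomologicalComplex.quasiIso X.Modules (ComplexShape.up ℤ))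
    (RHomEval.rTIso hB) (RHomEval.rTIso hC) (RHomEval.rTIso (LTensorSheaf.isKFlatFor_tot hB hC))
    (compOf (shT X) (TensorAssoc.associator X) (DCoh.tensorCx (X := X)) rfl B C)

/-- `RHom(B ⊗ C, -) = RHom(B, RHom(C, -))`. -/
theorem nonempty_RH_tot {B C : CochainComplex X.Modules ℤ} (hB : IsKFlatFor (shT X) B) (hC : IsKFlatFor (shT X) C) :
    Nonempty (RHomNat.RH C ⋙ RHomNat.RH B ≅ RHomNat.RH (tot (shT X) B C)) := by
  obtain ⟨e⟩ := nonempty_LT_tot hB hC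
  exact ⟨(((RHomNat.adjE B).comp (RHomNat.adjE C)).ofNatIsoLeft e).rightAdjointUniq (RHomNat.adjE _)⟩

/-- The evaluation isomorphism. -/
theorem nonempty_eval (K L : CochainComplex X.Modules ℤ) (hK : IsKFlatFor (shT X) K)
    (hKp : DCoh.IsPerfect (DerivedCategory.Q.obj K))
    [DCoh.HasLTensorCx K] [DCoh.HasRSheafHom K] [DCoh.HasLTensorCx L] [DCoh.HasRSheafHom L]
    (D : CochainComplex X.Modules ℤ)
    (eD : DerivedCategory.Q.obj D ≅ (DCoh.RSheafHom K).obj (DerivedCategory.Q.obj L))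
    [DCoh.HasLTensorCx D] [DCoh.HasRSheafHom D] (M : DCoh.D X) :
    Nonempty ((DCoh.LTensorCx K).obj ((DCoh.RSheafHom L).obj M) ≅ (DCoh.RSheafHom D).obj M) := by
  obtain ⟨D₀, hD₀, ⟨e₀⟩⟩ := PullPerf.exists_kflat_rep (RHomBidual.dual K)
  obtain ⟨L₀, hL₀, ⟨eL⟩⟩ := PullPerf.exists_kflat_rep (DerivedCategory.Q.obj L)
  haveI := LTensorSheaf.hasLTensorCx D₀
  haveI := RHomExist.hasRSheafHom D₀
  haveI := LTensorSheaf.hasLTensorCx L₀
  haveI := RHomExist.hasRSheafHom L₀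
  have hT : IsKFlatFor (shT X) (tot (shT X) D₀ L₀) := LTensorSheaf.isKFlatFor_tot hD₀ hL₀
  haveI := LTensorSheaf.hasLTensorCx (tot (shT X) D₀ L₀)
  haveI := RHomExist.hasRSheafHom (tot (shT X) D₀ L₀)
  have hp : DCoh.IsPerfect (DerivedCategory.Q.obj D₀) := PCTriangle.perfect_iso e₀.symm (RHomDual.isPerfect_dual K hKp)
  obtain ⟨eK⟩ := RHomBidual.nonempty_bidual hK hKp hD₀ e₀
  obtain ⟨a⟩ := RHomDual.nonempty_tensor_dual K hK hKp D₀ hD₀ e₀ (DerivedCategory.Q.obj L)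
  let b : DerivedCategory.Q.obj D ≅ DerivedCategory.Q.obj (tot (shT X) D₀ L₀) :=
    eD ≪≫ a.symm ≪≫ (DCoh.LTensorCx D₀).mapIso eL.symm ≪≫ LTensorSheaf.ltensorCxIso' hD₀ L₀ ≪≫
      DerivedCategory.Q.mapIso (TotSymm.symmIso (shT X) TotSymm.braid (fun f b => TotSymm.braid_nat₁ f b)
        (fun a _ _ g => TotSymm.braid_nat₂ a g) L₀ D₀)
  obtain ⟨c₁⟩ := TensorCongr.nonempty_congr_rhom (E := D) (E' := tot (shT X) D₀ L₀) b
  obtain ⟨c₂⟩ := nonempty_RH_tot hD₀ hL₀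
  obtain ⟨c₃⟩ := TensorCongr.nonempty_congr_rhom (E := L₀) (E' := L) eL
  obtain ⟨d⟩ := RHomDual.nonempty_tensor_dual D₀ hD₀ hp K hK eK ((DCoh.RSheafHom L).obj M)
  exact ⟨d ≪≫ (DCoh.RSheafHom D₀).mapIso (c₃.app M).symm ≪≫ c₂.app M ≪≫ (c₁.app M).symm⟩

end Groth.Agent.DCat.RHomEvalDual
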