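import Groth.Agent.DCat.ProjPerfFree
import Groth.Agent.DCat.SuppOpen

/-! Complexes of `O_X`-modules supported in an open: quasi-isomorphisms and K-flatness. -/

set_option autoImplicit false
set_option backward.isDefEq.respectTransparency false
set_option backward.defeqAttrib.useBackward true
set_option linter.style.haveILetI false

universe u

open CategoryTheory CategoryTheory.Limits AlgebraicGeometry Opposite TopologicalSpace HomologicalComplex
open Groth.Agent.ModStalk

attribute [local instance] HasDerivedCategory.standard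
attribute [-instance] Int.instConditionallyCompleteLinearOrder

namespace Groth.Agent.DCat.ShriekTot

variable {X U : Scheme.{u}} (j : U ⟶ X) [IsOpenImmersion j]

theorem isZero_single_stalk {K : CochainComplex X.Modules ℤ} (x : X)
    (h : ∀ n, IsZero ((DerSch.stalkFunctor X x).obj (K.X n))) (n : ℤ) :
    IsZero ((DerSch.stalkFunctor X x).obj (K.homology n)) := by
  refine IsZero.of_iso ?_ ((K.sc n).mapHomologyIso (DerSch.stalkFunctor X x)).symm
  rw [← ShortComplex.exact_iff_isZero_homology]
  exact ShortComplex.exact_of_isZero_X₂ _ (h n)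

/-- A map which is a quasi-isomorphism on the open, between complexes supported in it. -/
theorem quasiIso_of_restrict {K L : CochainComplex X.Modules ℤ} (f : K ⟶ L)
    [QuasiIso ((ProjPerf.restrC j).map f)]
    (hK : ∀ x, x ∉ j.opensRange → ∀ n, IsZero ((DerSch.stalkFunctor X x).obj (K.X n)))
    (hL : ∀ x, x ∉ j.opensRange → ∀ n, IsZero ((DerSch.stalkFunctor X x).obj (L.X n))) : QuasiIso f := by
  refine ⟨fun n => ?_⟩
  rw [quasiIsoAt_iff_isIso_homologyMap]
  haveI : IsIso ((Scheme.Modules.restrictFunctor j).map (homologyMap f n)) := by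
    haveI h : IsIso (homologyMap ((ProjPerf.restrC j).map f) n) := inferInstance
    exact ((MorphismProperty.isomorphisms U.Modules).arrow_mk_iso_iff
      (Arrow.isoMk (f := Arrow.mk (homologyMap ((ProjPerf.restrC j).map f) n))
        (g := Arrow.mk ((Scheme.Modules.restrictFunctor j).map (homologyMap f n)))
        ((K.sc n).mapHomologyIso (Scheme.Modules.restrictFunctor j))
        ((L.sc n).mapHomologyIso (Scheme.Modules.restrictFunctor j))
        (ShortComplex.mapHomologyIso_hom_naturality ((HomologicalComplex.shortComplexFunctor X.Modules _ n).map f)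
          (Scheme.Modules.restrictFunctor j)).symm)).1 h
  exact ShriekTensor.isIso_of_restrict j _ (fun x hx => ModuleCat.subsingleton_of_isZero (isZero_single_stalk x (hK x hx) n))
    (fun x hx => ModuleCat.subsingleton_of_isZero (isZero_single_stalk x (hL x hx) n))

/-- A complex supported in the open and acyclic there is acyclic. -/
theorem acyclic_of_restrict {K : CochainComplex X.Modules ℤ} (h : ((ProjPerf.restrC j).obj K).Acyclic)
    (hK : ∀ x, x ∉ j.opensRange → ∀ n, IsZero ((DerSch.stalkFunctor X x).obj (K.X n))) : K.Acyclic := fun n => by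
  rw [exactAt_iff_isZero_homology]
  refine isZero_of_stalks fun x => ?_
  by_cases hx : x ∈ j.opensRange
  · obtain ⟨y, rfl⟩ := hx
    have h₀ : IsZero ((Scheme.Modules.restrictFunctor j).obj (K.homology n)) :=
      IsZero.of_iso ((exactAt_iff_isZero_homology _ n).1 (h n))
        ((K.sc n).mapHomologyIso (Scheme.Modules.restrictFunctor j)).symm
    exact @SuppOpen.isZero_stalkFunctor _ _ _ (SuppOpen.subsingleton_stalk_of_restrict j _ y
      (SuppOpen.subsingleton_of_isZero_stalkFunctor _ _ ((DerSch.stalkFunctor _ _).map_isZero h₀)))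
  · exact isZero_single_stalk x (hK x hx) n

theorem isZero_stalk_tot₁ {A : CochainComplex X.Modules ℤ} (x : X)
    (h : ∀ n, IsZero ((DerSch.stalkFunctor X x).obj (A.X n))) (B : CochainComplex X.Modules ℤ) (n : ℤ) :
    IsZero ((DerSch.stalkFunctor X x).obj ((tot (shT X) A B).X n)) := by
  have hz : IsZero ((stalkK x).obj A) := (IsZero.iff_id_eq_zero _).2 (by ext n : 1; exact (h n).eq_of_src _ _)
  exact IsZero.of_iso ((HomologicalComplex.eval _ _ n).map_isZero
    (((modT (X.presheaf.stalk x)).map₂CochainComplex.flip.obj ((stalkK x).obj B)).map_isZero hz))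
    ((HomologicalComplex.eval _ _ n).mapIso (stalkTotIso x A B))

theorem isZero_stalk_tot₂ (A : CochainComplex X.Modules ℤ) {B : CochainComplex X.Modules ℤ} (x : X)
    (h : ∀ n, IsZero ((DerSch.stalkFunctor X x).obj (B.X n))) (n : ℤ) :
    IsZero ((DerSch.stalkFunctor X x).obj ((tot (shT X) A B).X n)) := by
  have hz : IsZero ((stalkK x).obj B) := (IsZero.iff_id_eq_zero _).2 (by ext n : 1; exact (h n).eq_of_src _ _)
  exact IsZero.of_iso ((HomologicalComplex.eval _ _ n).map_isZero
    (((modT (X.presheaf.stalk x)).map₂CochainComplex.obj ((stalkK x).obj A)).map_isZero hz))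
    ((HomologicalComplex.eval _ _ n).mapIso (stalkTotIso x A B))

/-- Extension by zero of a complex. -/
noncomputable abbrev shriekC : CochainComplex U.Modules ℤ ⥤ CochainComplex X.Modules ℤ :=
  (JShriek.shriek j).mapHomologicalComplex (ComplexShape.up ℤ)

/-- The unit on complexes. -/
noncomputable def unitC (C : CochainComplex U.Modules ℤ) : C ≅ (ProjPerf.restrC j).obj ((shriekC j).obj C) :=
  Hom.isoOfComponents (fun n => (asIso (JShriek.shriekAdj j).unit).app (C.X n))
    fun a b _ => ((JShriek.shriekAdj j).unit.naturality (C.d a b)).symm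

theorem isZero_stalk_shriekC (C : CochainComplex U.Modules ℤ) (x : X) (hx : x ∉ j.opensRange) (n : ℤ) :
    IsZero ((DerSch.stalkFunctor X x).obj (((shriekC j).obj C).X n)) :=
  JShriek.isZero_stalk_shriek j _ x hx

/-- Extension by zero preserves K-flatness. -/
theorem isKFlatFor_shriek {C : CochainComplex U.Modules ℤ} (hC : IsKFlatFor (shT U) C) :
    IsKFlatFor (shT X) ((shriekC j).obj C) := fun L hL => by
  refine acyclic_of_restrict j ?_ fun x hx => isZero_stalk_tot₂ L x (isZero_stalk_shriekC j C x hx)
  have hL' : ((ProjPerf.restrC j).obj L).Acyclic := fun n => by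
    rw [exactAt_iff_isZero_homology]
    exact IsZero.of_iso ((Scheme.Modules.restrictFunctor j).map_isZero ((exactAt_iff_isZero_homology _ n).1 (hL n)))
      ((L.sc n).mapHomologyIso (Scheme.Modules.restrictFunctor j))
  exact acyclic_of_iso' ((ProjPerf.restrTot j L ((shriekC j).obj C))).symm ((hC.of_iso (unitC j C)) _ hL')

/-- Tensoring a map which is a quasi-isomorphism of K-flats over the open with a complex supported in it. -/
theorem quasiIso_tot_shriek (C : CochainComplex U.Modules ℤ) {B B' : CochainComplex X.Modules ℤ} (g : B ⟶ B')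
    (h : IsKFlatFor (shT U) ((ProjPerf.restrC j).obj B)) (h' : IsKFlatFor (shT U) ((ProjPerf.restrC j).obj B'))
    [QuasiIso ((ProjPerf.restrC j).map g)] : QuasiIso (totMap₂ (shT X) ((shriekC j).obj C) g) :=
  haveI := ProjPerf.quasiIso_restrC_tot j ((shriekC j).obj C) g h h'
  quasiIso_of_restrict j _ (fun x hx => isZero_stalk_tot₁ x (isZero_stalk_shriekC j C x hx) B)
    fun x hx => isZero_stalk_tot₁ x (isZero_stalk_shriekC j C x hx) B'

end Groth.Agent.DCat.ShriekTot
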