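import Groth.Agent.DCat.RHomEval
import Groth.Agent.DCat.ShriekTot
import Groth.Agent.DCat.ProjPerfMain

/-! The evaluation map `A ⊗ RHom(E, L) → RHom(E, A ⊗ L)` is invertible for perfect `E`. -/

set_option autoImplicit false
set_option backward.isDefEq.respectTransparency false
set_option backward.defeqAttrib.useBackward true
set_option linter.style.haveILetI false

universe u

open CategoryTheory CategoryTheory.Limits CategoryTheory.Pretriangulated AlgebraicGeometry HomologicalComplex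
open Groth.Agent.ModStalk

attribute [local instance] HasDerivedCategory.standard
attribute [-instance] Int.instConditionallyCompleteLinearOrder

namespace Groth.Agent.DCat.RHomEval

variable {X W : Scheme.{u}} (j : W ⟶ X) [IsOpenImmersion j]

/-- Invertibility after restriction is tested on extensions by zero. -/
theorem isIso_rd_of_shriek {A B : DCoh.D X} (φ : A ⟶ B)
    (h : ∀ N : CochainComplex W.Modules ℤ, IsKFlatFor (shT W) N →
      Function.Bijective fun x : DerivedCategory.Q.obj ((ShriekTot.shriekC j).obj N) ⟶ A => x ≫ φ) :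
    IsIso ((PerfLocal.rd j).map φ) := by
  refine isIso_of_yoneda_map_bijective _ fun T => ?_
  obtain ⟨N, hN, ⟨e⟩⟩ := PullPerf.exists_kflat_rep T
  let Ψ : ∀ M : DCoh.D X, (DerivedCategory.Q.obj ((ShriekTot.shriekC j).obj N) ⟶ M) ≃ (T ⟶ (PerfLocal.rd j).obj M) :=
    fun M => ((((JShriek.shriek j).mapDerivedCategoryFactors.app N).symm ≪≫
      (JShriek.shriek j).mapDerivedCategory.mapIso e).homCongr (Iso.refl M)).trans ((JShriek.shriekD j).homEquiv T M)
  have k : (fun x : T ⟶ (PerfLocal.rd j).obj A => x ≫ (PerfLocal.rd j).map φ) =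
      Ψ B ∘ (fun x => x ≫ φ) ∘ (Ψ A).symm := by
    funext x
    obtain ⟨y, rfl⟩ := (Ψ A).surjective x
    simp only [Function.comp_apply, Equiv.symm_apply_apply]
    change (JShriek.shriekD j).homEquiv T A _ ≫ _ = (JShriek.shriekD j).homEquiv T B _
    rw [← Adjunction.homEquiv_naturality_right]
    simp [Iso.homCongr]
  rw [k]
  exact (Ψ B).bijective.comp ((h N hN).comp (Ψ A).symm.bijective)

/-- `RHom` of a map which is a quasi-isomorphism over the open is invertible there. -/
theorem isIso_rd_rhat {E E' : CochainComplex X.Modules ℤ} (g : E ⟶ E')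
    (k : IsKFlatFor (shT W) ((ProjPerf.restrC j).obj E)) (k' : IsKFlatFor (shT W) ((ProjPerf.restrC j).obj E'))
    [QuasiIso ((ProjPerf.restrC j).map g)] (M : DCoh.D X) : IsIso ((PerfLocal.rd j).map ((RHomNat.rhat g).app M)) := by
  refine isIso_rd_of_shriek j _ fun N hN => ?_
  let Y := DerivedCategory.Q.obj ((ShriekTot.shriekC j).obj N)
  haveI : IsIso ((RHomNat.lhat g).app Y) :=
    RHomNat.isIso_lhat_app g (ShriekTot.isKFlatFor_shriek j hN) (ShriekTot.quasiIso_tot_shriek j N g k k')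
  have key : (fun x : Y ⟶ (RHomNat.RH E').obj M => x ≫ (RHomNat.rhat g).app M) =
      (RHomNat.adjE E).homEquiv Y M ∘ (asIso ((RHomNat.lhat g).app Y)).symm.homFromEquiv ∘
        ((RHomNat.adjE E').homEquiv Y M).symm := by
    funext x
    refine ((RHomNat.adjE E).homEquiv Y M).symm.injective ?_
    rw [RHomNat.tr_rhat]
    simp
  rw [key]
  exact (Equiv.bijective _).comp ((Equiv.bijective _).comp (Equiv.bijective _))

variable {A : CochainComplex X.Modules ℤ} (hA : IsKFlatFor (shT X) A)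

/-- `A ⊗ -` keeps invertibility over the open. -/
theorem isIso_rd_leftT {M N : DCoh.D X} (φ : M ⟶ N) [IsIso ((PerfLocal.rd j).map φ)] :
    IsIso ((PerfLocal.rd j).map ((leftT hA).map φ)) := by
  obtain ⟨M₀, ⟨eM⟩⟩ : ∃ M₀, Nonempty (DerivedCategory.Q.obj M₀ ≅ M) := ⟨_, ⟨DerivedCategory.Q.objObjPreimageIso M⟩⟩
  obtain ⟨N₀, ⟨eN⟩⟩ : ∃ N₀, Nonempty (DerivedCategory.Q.obj N₀ ≅ N) := ⟨_, ⟨DerivedCategory.Q.objObjPreimageIso N⟩⟩
  obtain ⟨Z, s, hs, t, ht⟩ := DerivedCategory.right_fac (eM.hom ≫ φ ≫ eN.inv)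
  haveI := hs
  have hφ : φ = eM.inv ≫ (inv (DerivedCategory.Q.map s) ≫ DerivedCategory.Q.map t) ≫ eN.hom := by
    rw [← ht]
    simp
  haveI : IsIso ((PerfLocal.rd j).map (DerivedCategory.Q.map t)) := by
    have e := congrArg (PerfLocal.rd j).map ht
    simp only [Functor.map_comp] at e
    exact IsIso.of_isIso_fac_left e.symm
  haveI := (ProjPerf.isIso_rd_Q_iff j t).1 ‹_›
  have hq : QuasiIso ((ProjPerf.restrC j).map (totMap₂ (shT X) A t)) := by
    haveI := TensorCongr.quasiIso_tot_left (ShriekTensor.isKFlatFor_restr j hA) ((ProjPerf.restrC j).map t)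
    refine (quasiIso_iff_comp_right _ (ProjPerf.restrTot j A _).hom).1 ?_
    rw [ProjPerf.restrTot_natural]
    infer_instance
  haveI : IsIso ((PerfLocal.rd j).map ((leftT hA).map (DerivedCategory.Q.map t))) := by
    refine (NatIso.isIso_map_iff (Functor.isoWhiskerRight (leftTIso hA) (PerfLocal.rd j)) t).2 ?_
    exact (ProjPerf.isIso_rd_Q_iff j _).2
      (AssocNat.quasiIso_map_of_tot (shT X) (DCoh.tensorCx (X := X)) rfl (ProjPerf.restrC j) A t hq)
  rw [hφ]
  simp only [Functor.map_comp, Functor.map_inv]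
  infer_instance

/-- The evaluation map is invertible over the open in degree `i`. -/
def Good (E : CochainComplex X.Modules ℤ) : Prop :=
  ∀ (h : IsKFlatFor (shT X) E) (L : DCoh.D X) (i : ℤ),
    IsIso ((PerfLocal.rd j ⋙ DerivedCategory.homologyFunctor W.Modules i).map (Phi hA h L))

theorem good_iff {E E' : CochainComplex X.Modules ℤ} (g : E ⟶ E') (hE : IsKFlatFor (shT X) E) (hE' : IsKFlatFor (shT X) E')
    [QuasiIso ((ProjPerf.restrC j).map g)] : Good j hA E ↔ Good j hA E' := by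
  have hk := ShriekTensor.isKFlatFor_restr j hE
  have hk' := ShriekTensor.isKFlatFor_restr j hE'
  have key : ∀ (L : DCoh.D X) (i : ℤ),
      IsIso ((PerfLocal.rd j ⋙ DerivedCategory.homologyFunctor W.Modules i).map (Phi hA hE L)) ↔
        IsIso ((PerfLocal.rd j ⋙ DerivedCategory.homologyFunctor W.Modules i).map (Phi hA hE' L)) := by
    intro L i
    haveI := isIso_rd_rhat j g hk hk' L
    haveI := isIso_rd_rhat j g hk hk' ((leftT hA).obj L)
    haveI := isIso_rd_leftT j hA ((RHomNat.rhat g).app L)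
    have e := congrArg (PerfLocal.rd j ⋙ DerivedCategory.homologyFunctor W.Modules i).map (Phi_nat hA hE hE' g L)
    simp only [Functor.comp_map, Functor.map_comp] at e ⊢
    exact ⟨fun h => @IsIso.of_isIso_fac_right _ _ _ _ _ _ _ _ inferInstance (@IsIso.comp_isIso _ _ _ _ _ _ _ inferInstance h) e.symm,
      fun h => @IsIso.of_isIso_fac_left _ _ _ _ _ _ _ _ inferInstance (@IsIso.comp_isIso _ _ _ _ _ _ _ h inferInstance) e⟩
  exact ⟨fun h _ L i => (key L i).1 (h hE L i), fun h _ L i => (key L i).2 (h hE' L i)⟩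

theorem good_homotopyEquiv {E E' : CochainComplex X.Modules ℤ} (e : HomotopyEquiv E E') :
    Good j hA E ↔ Good j hA E' := by
  haveI : QuasiIso ((ProjPerf.restrC j).map e.hom) := inferInstance
  exact ⟨fun h k => (good_iff j hA e.hom (k.of_homotopyEquiv e.symm) k).1 h k,
    fun h k => (good_iff j hA e.hom k (k.of_homotopyEquiv e)).2 h k⟩

theorem good_ext (S : ShortComplex (CochainComplex X.Modules ℤ))
    (hS : ∀ n, Nonempty ((S.map (HomologicalComplex.eval X.Modules (ComplexShape.up ℤ) n)).Splitting))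
    (k₁ : IsKFlatFor (shT X) S.X₁) (k₃ : IsKFlatFor (shT X) S.X₃)
    (h₁ : ∀ k : ℤ, Good j hA (S.X₁⟦k⟧)) (h₃ : ∀ k : ℤ, Good j hA (S.X₃⟦k⟧)) (k : ℤ) : Good j hA (S.X₂⟦k⟧) := by
  refine (RHomNat.ext_of_middle (fun E => IsKFlatFor (shT X) E ∧ Good j hA E) (IsKFlatFor (shT X))
    (fun {E E'} e => ⟨fun h => ⟨h.1.of_homotopyEquiv e, (good_homotopyEquiv j hA e).1 h.2⟩,
      fun h => ⟨h.1.of_homotopyEquiv e.symm, (good_homotopyEquiv j hA e).2 h.2⟩⟩)
    (fun e h => h.of_homotopyEquiv e)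
    (fun u₁ u₂ u₃ u₄ e₁ e₂ e₃ p₁ p₂ p₄ p₅ r₃ => ⟨r₃, fun h L i =>
      isIso_H_Phi_middle hA _ u₁ u₂ u₃ u₄ p₁.1 p₂.1 h p₄.1 p₅.1 e₁ e₂ e₃ L (p₁.2 _ L i) (p₂.2 _ L i) (p₄.2 _ L i)
        (p₅.2 _ L i)⟩)
    S hS (fun m => ⟨k₁.shift m, h₁ m⟩) (fun m => ⟨k₃.shift m, h₃ m⟩) k
    ((IsKFlatFor.ext₂ (fun a q => ((hS q).some.map ((shT X).obj a)).shortExact) k₁ k₃).shift k)).2

theorem isIso_Phi_of_isEquivalence {E : CochainComplex X.Modules ℤ} (hE : IsKFlatFor (shT X) E)
    [(RHomNat.LT E).IsEquivalence] (L : DCoh.D X) : IsIso (Phi hA hE L) := by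
  haveI := (RHomNat.adjE E).isEquivalence_right_of_isEquivalence_left
  rw [Phi, Adjunction.homEquiv_unit]
  infer_instance

theorem good_of_isZero {E : CochainComplex X.Modules ℤ} (hE : IsZero E) : Good j hA E := by
  intro h L i
  have hz : ∀ M : DCoh.D X, IsZero ((RHomNat.RH E).obj M) := by
    intro M
    let Y := (RHomNat.RH E).obj M
    let B := DerivedCategory.Q.objPreimage Y
    have hz : IsZero ((RHomNat.LT E).obj Y) :=
      (DerivedCategory.Q.map_isZero (((shT X).map₂CochainComplex.obj B).map_isZero hE)).of_iso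
        ((RHomNat.LT E).mapIso (DerivedCategory.Q.objObjPreimageIso Y).symm ≪≫
          (haveI := LTensorSheaf.hasLTensorCx E; LTensorSheaf.ltensorCxIso' h B))
    exact (IsZero.iff_id_eq_zero _).2 (((RHomNat.adjE E).homEquiv Y M).symm.injective (hz.eq_of_src _ _))
  haveI := RHomExist.preservesZeroMorphisms (lT A) (leftTIso hA)
  haveI : IsIso (Phi hA h L) := isIso_of_source_target_iso_zero _ ((leftT hA).map_isZero (hz L)).isoZero (hz _).isoZero
  infer_instance

theorem isEquivalence_of_isos {D : Type*} [Category D] (F G S : D ⥤ D) [S.IsEquivalence] (e : F ≅ G ⋙ S) (e₀ : G ≅ 𝟭 D) :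
    F.IsEquivalence :=
  Functor.isEquivalence_of_iso (e ≪≫ Functor.isoWhiskerRight e₀ S ≪≫ Functor.leftUnitor _).symm

theorem isEquivalence_LT_structure (X : Scheme.{u}) (k : ℤ) :
    (RHomNat.LT (((single X.Modules (ComplexShape.up ℤ) 0).obj (Coh.structureModule X))⟦k⟧)).IsEquivalence := by
  haveI := LTensorSheaf.hasLTensorCx ((single X.Modules (ComplexShape.up ℤ) 0).obj (Coh.structureModule X))
  haveI := LTensorSheaf.hasLTensorCx (((single X.Modules (ComplexShape.up ℤ) 0).obj (Coh.structureModule X))⟦k⟧)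
  obtain ⟨e₀⟩ := RHomLeft.nonempty_LTensor_structure (X := X)
  obtain ⟨e⟩ := RHomLeft.nonempty_LTensor_shift ((single X.Modules (ComplexShape.up ℤ) 0).obj (Coh.structureModule X))
    (RHomLeft.isKFlatFor_structure X) k
  exact isEquivalence_of_isos _ _ _ e e₀

theorem good_structure (k : ℤ) :
    Good j hA (((single X.Modules (ComplexShape.up ℤ) 0).obj (Coh.structureModule X))⟦k⟧) := fun h L i => by
  haveI := isEquivalence_LT_structure X k
  haveI := isIso_Phi_of_isEquivalence hA h L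
  infer_instance

theorem isKFlatFor_single_free {Z : Scheme.{u}} {M : Z.Modules} {n : ℕ} (e : M ≅ FlatMod.freeMod Z n) (m : ℤ) :
    IsKFlatFor (shT Z) ((single Z.Modules (ComplexShape.up ℤ) m).obj M) :=
  (PullPerf.isKFlatFor_of_strictlyPerfect (P := (single Z.Modules (ComplexShape.up ℤ) m).obj (FlatMod.freeMod Z n))
    ⟨⟨m, m, fun i hi => isZero_single_obj_X _ _ _ _ (by omega)⟩, fun i => by
      by_cases h : i = m
      · subst h
        exact PerfTensor.isFinLocFree_of_iso (singleObjXSelf _ _ _).symm (ProjPerf.isFinLocFree_freeMod n)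
      · exact PerfTensor.isFinLocFree_of_iso ((isZero_single_obj_X _ _ _ _ h).iso ProjPerf.isZero_freeMod_zero).symm
          (ProjPerf.isFinLocFree_freeMod 0)⟩).of_iso ((single _ _ m).mapIso e.symm)

theorem good_free (n : ℕ) (m : ℤ) :
    Good j hA ((single X.Modules (ComplexShape.up ℤ) m).obj (FlatMod.freeMod X n)) := by
  let sI : ∀ (M : X.Modules) (m k : ℤ),
      ((single X.Modules (ComplexShape.up ℤ) m).obj M)⟦k⟧ ≅ (single X.Modules (ComplexShape.up ℤ) (m - k)).obj M :=
    fun M m k => ((CochainComplex.singleFunctors X.Modules).shiftIso k (m - k) m (by omega)).app M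
  induction n generalizing m with
  | zero => exact good_of_isZero j hA ((single _ _ m).map_isZero ProjPerf.isZero_freeMod_zero)
  | succ n ih =>
    let T := RHomLeft.sigmaSeq (fun _ : Fin (n + 1) => Coh.structureModule X)
    let sp : T.Splitting := RHomLeft.sigmaSplit (fun _ : Fin (n + 1) => Coh.structureModule X)
    let S := T.map (single X.Modules (ComplexShape.up ℤ) m)
    let e₀ : ∀ q : ℤ, ((single X.Modules (ComplexShape.up ℤ) 0).obj (Coh.structureModule X))⟦-q⟧ ≅
        (single X.Modules (ComplexShape.up ℤ) q).obj (Coh.structureModule X) := fun q =>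
      ((CochainComplex.singleFunctors X.Modules).shiftIso (-q) q 0 (by omega)).app _
    have h₁ : ∀ k : ℤ, Good j hA (S.X₁⟦k⟧) := fun k =>
      (good_homotopyEquiv j hA (HomotopyEquiv.ofIso (sI _ m k ≪≫ (e₀ (m - k)).symm))).2 (good_structure j hA _)
    have h₃ : ∀ k : ℤ, Good j hA (S.X₃⟦k⟧) := fun k =>
      (good_homotopyEquiv j hA (HomotopyEquiv.ofIso (sI _ m k))).2 (ih _)
    exact (good_homotopyEquiv j hA (HomotopyEquiv.ofIso ((shiftFunctorZero _ ℤ).app S.X₂))).1
      (good_ext j hA S (fun q => ⟨sp.map (single X.Modules (ComplexShape.up ℤ) m ⋙ HomologicalComplex.eval _ _ q)⟩)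
        (((RHomLeft.isKFlatFor_structure X).shift (-m)).of_iso (e₀ m))
        (isKFlatFor_single_free (Iso.refl (FlatMod.freeMod X n)) m) h₁ h₃ 0)

/-- Complexes over the open whose extensions by zero are good. -/
def GoodU (C : CochainComplex W.Modules ℤ) : Prop :=
  IsKFlatFor (shT W) C ∧ ∀ k : ℤ, Good j hA (((ShriekTot.shriekC j).obj C)⟦k⟧)

theorem goodU_free {M : W.Modules} {n : ℕ} (e : M ≅ FlatMod.freeMod W n) (m : ℤ) :
    GoodU j hA ((single W.Modules (ComplexShape.up ℤ) m).obj M) := by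
  refine ⟨isKFlatFor_single_free e m, fun k => ?_⟩
  obtain ⟨r⟩ := ProjPerf.nonempty_restrict_free (Y := X) _ j n
  let φ : (JShriek.shriek j).obj M ⟶ FlatMod.freeMod X n := ((JShriek.shriekAdj j).homEquiv _ _).symm (e.hom ≫ r.inv)
  haveI hφ : IsIso ((Scheme.Modules.restrictFunctor j).map φ) := by
    have e₁ : (JShriek.shriekAdj j).unit.app M ≫ (Scheme.Modules.restrictFunctor j).map φ = e.hom ≫ r.inv :=
      ((JShriek.shriekAdj j).homEquiv_unit (f := φ)).symm.trans (((JShriek.shriekAdj j).homEquiv _ _).apply_symm_apply _)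
    exact IsIso.of_isIso_fac_left e₁
  let g := (single X.Modules (ComplexShape.up ℤ) (m - k)).map φ
  let eS : ((ShriekTot.shriekC j).obj ((single W.Modules (ComplexShape.up ℤ) m).obj M))⟦k⟧ ≅
      (single X.Modules (ComplexShape.up ℤ) (m - k)).obj ((JShriek.shriek j).obj M) :=
    (shiftFunctor _ k).mapIso ((singleMapHomologicalComplex (JShriek.shriek j) (ComplexShape.up ℤ) m).app M) ≪≫
      ((CochainComplex.singleFunctors X.Modules).shiftIso k (m - k) m (by omega)).app _
  haveI : QuasiIso ((ProjPerf.restrC j).map g) := by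
    haveI : ∀ q, IsIso (((ProjPerf.restrC j).map g).f q) := fun q => by
      by_cases h : q = m - k
      · subst h
        change IsIso ((Scheme.Modules.restrictFunctor j).map _)
        rw [single_map_f_self]
        simp only [Functor.map_comp]
        infer_instance
      · exact isIso_of_source_target_iso_zero _ ((Scheme.Modules.restrictFunctor j).map_isZero (isZero_single_obj_X _ _ _ _ h)).isoZero
          ((Scheme.Modules.restrictFunctor j).map_isZero (isZero_single_obj_X _ _ _ _ h)).isoZero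
    haveI : IsIso ((ProjPerf.restrC j).map g) := Hom.isIso_of_components _
    infer_instance
  refine (good_homotopyEquiv j hA (HomotopyEquiv.ofIso eS)).2 ((good_iff j hA g ?_ (isKFlatFor_single_free (Iso.refl _) _)).2
    (good_free j hA n (m - k)))
  exact ((ShriekTot.isKFlatFor_shriek j (isKFlatFor_single_free e m)).shift k).of_iso eS

theorem goodU_of_bounded (C : CochainComplex W.Modules ℤ) (a : ℤ) (m : ℕ) (h₁ : ∀ n, n < a → IsZero (C.X n))
    (h₂ : ∀ n, a + (m : ℤ) ≤ n → IsZero (C.X n)) (hfree : ∀ i, ∃ n, Nonempty (C.X i ≅ FlatMod.freeMod W n)) :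
    GoodU j hA C := by
  refine bounded_induction (GoodU j hA) (fun M => ∃ n, Nonempty (M ≅ FlatMod.freeMod W n))
    (fun K hK => ⟨isKFlatFor_of_isZero hK, fun k => good_of_isZero j hA
      ((shiftFunctor _ k).map_isZero ((ShriekTot.shriekC j).map_isZero hK))⟩)
    (fun M hM => ⟨0, ⟨hM.iso ProjPerf.isZero_freeMod_zero⟩⟩)
    (fun M N e ⟨n, ⟨f⟩⟩ => ⟨n, ⟨e.symm ≪≫ f⟩⟩) (fun m M ⟨n, ⟨f⟩⟩ => goodU_free j hA f m)
    (fun S hS p₁ p₃ => ?_) a m C h₁ h₂ hfree
  refine ⟨IsKFlatFor.ext₂ (fun a q => ((hS q).some.map ((shT W).obj a)).shortExact) p₁.1 p₃.1, fun k => ?_⟩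
  exact good_ext j hA (S.map (ShriekTot.shriekC j))
    (fun q => ⟨(hS q).some.map (JShriek.shriek j)⟩) (ShriekTot.isKFlatFor_shriek j p₁.1)
    (ShriekTot.isKFlatFor_shriek j p₃.1) p₁.2 p₃.2 k

/-- `A ⊗ RHom(E, L) = RHom(E, A ⊗ L)` for perfect `E`. -/
theorem isIso_Phi {E : CochainComplex X.Modules ℤ} (hE : IsKFlatFor (shT X) E)
    (hp : DCoh.IsPerfect (DerivedCategory.Q.obj E)) (L : DCoh.D X) : IsIso (Phi hA hE L) := by
  refine ProjPerf.isIso_of_locally _ fun x => ?_
  obtain ⟨V, C, a, m, hxV, h₁, h₂, hfree, ⟨e⟩⟩ := ProjPerf.exists_free_nhd hp x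
  refine ⟨V, hxV, (DerivedCategory.isIso_iff _ _).2 fun i => ?_⟩
  obtain ⟨Z, s, hs, t, ht⟩ := DerivedCategory.right_fac
    (e.inv ≫ (Scheme.Modules.restrictFunctor V.ι).mapDerivedCategoryFactors.hom.app E)
  obtain ⟨N, c, hN, -, hc, -⟩ := exists_kflat_sheaf Z
  haveI := hc
  haveI := hs
  haveI : QuasiIso s := (DerivedCategory.isIso_Q_map_iff_quasiIso _ s).1 hs
  haveI : IsIso (DerivedCategory.Q.map t) := by
    haveI : IsIso (inv (DerivedCategory.Q.map s) ≫ DerivedCategory.Q.map t) := ht ▸ inferInstance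
    exact IsIso.of_isIso_comp_left (inv (DerivedCategory.Q.map s)) _
  haveI : QuasiIso t := (DerivedCategory.isIso_Q_map_iff_quasiIso _ t).1 ‹_›
  let a' := DCat.adjCx (ComplexShape.up ℤ) (JShriek.shriekAdj V.ι)
  have hG := goodU_of_bounded V.ι hA C a m h₁ h₂ hfree
  let g₁ : (ShriekTot.shriekC V.ι).obj N ⟶ (ShriekTot.shriekC V.ι).obj C := (ShriekTot.shriekC V.ι).map (c ≫ s)
  let g₂ : (ShriekTot.shriekC V.ι).obj N ⟶ E := (a'.homEquiv N E).symm (c ≫ t)
  haveI hu : ∀ (B : CochainComplex (V : Scheme.{u}).Modules ℤ), IsIso (a'.unit.app B) := fun B => by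
    haveI : ∀ n, IsIso ((a'.unit.app B).f n) := fun n =>
      inferInstanceAs (IsIso ((JShriek.shriekAdj V.ι).unit.app (B.X n)))
    exact Hom.isIso_of_components _
  haveI q₁ : QuasiIso ((ProjPerf.restrC V.ι).map g₁) := by
    refine (quasiIso_iff_comp_left (a'.unit.app N) _).1 ?_
    have e₁ := a'.unit.naturality (c ≫ s)
    simp only [Functor.id_map, Functor.comp_map] at e₁
    exact e₁ ▸ inferInstance
  haveI q₂ : QuasiIso ((ProjPerf.restrC V.ι).map g₂) := by
    refine (quasiIso_iff_comp_left (a'.unit.app N) _).1 ?_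
    have e₂ : a'.unit.app N ≫ (ProjPerf.restrC V.ι).map g₂ = c ≫ t :=
      (a'.homEquiv_unit (f := g₂)).symm.trans ((a'.homEquiv _ _).apply_symm_apply _)
    exact e₂ ▸ inferInstance
  have gC : Good V.ι hA ((ShriekTot.shriekC V.ι).obj C) :=
    (good_homotopyEquiv V.ι hA (HomotopyEquiv.ofIso ((shiftFunctorZero _ ℤ).app _))).1 (hG.2 0)
  have kN := ShriekTot.isKFlatFor_shriek V.ι hN
  exact (good_iff V.ι hA g₂ kN hE).1 ((good_iff V.ι hA g₁ kN (ShriekTot.isKFlatFor_shriek V.ι hG.1)).2 gC) hE L i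

end Groth.Agent.DCat.RHomEval
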