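import Groth.Agent.DCat.RHomSeq
import Groth.Agent.DCat.RHomLeft
import Groth.Agent.DCat.TotHom

/-! Functoriality of `- ⊗^L E` and `RHom(E, -)` in chain maps of `E`, and exactness along mapping cones. -/

set_option autoImplicit false
set_option backward.isDefEq.respectTransparency false
set_option backward.defeqAttrib.useBackward true
set_option linter.style.haveILetI false

universe u

open CategoryTheory CategoryTheory.Limits CategoryTheory.Pretriangulated AlgebraicGeometry HomologicalComplex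
open Groth.Agent.ModStalk
open CochainComplex (mappingCone)

attribute [local instance] HasDerivedCategory.standard
attribute [-instance] Int.instConditionallyCompleteLinearOrder

namespace Groth.Agent.DCat.RHomNat

section Generic

universe v w v' u' v''

/-- A functor to a homological functor kills the difference between a pair exact for maps into it and a triangle. -/
theorem factor_of_hom_exact {C : Type w} [Category.{v} C] [Preadditive C] [HasZeroObject C] [HasShift C ℤ]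
    [∀ n : ℤ, (shiftFunctor C n).Additive] [Pretriangulated C] {R₁ R₂ R₃ Z : C} (a : R₁ ⟶ R₂) (b : R₂ ⟶ R₃)
    (hex : ∀ (N : C) (g : N ⟶ R₂), g ≫ b = 0 → ∃ g' : N ⟶ R₁, g = g' ≫ a)
    (α : R₂ ⟶ Z) (hα : a ≫ α = 0) : ∃ β : R₃ ⟶ Z, α = b ≫ β := by
  obtain ⟨F, f, δ, hT⟩ := distinguished_cocone_triangle₁ b
  obtain ⟨f', hf'⟩ := hex F f (comp_distTriang_mor_zero₁₂ _ hT)
  exact Triangle.yoneda_exact₂ _ hT α (show f ≫ α = 0 by rw [hf', Category.assoc, hα, comp_zero])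

variable {A₀ : Type u'} [Category.{v'} A₀] [Abelian A₀] {B₀ : Type w} [Category.{v} B₀] [Abelian B₀]
  {C₀ : Type v''} [Category.{v'} C₀] [Abelian C₀] [HasDerivedCategory C₀]
  (T : A₀ ⥤ B₀ ⥤ C₀) [T.Additive] [∀ a, (T.obj a).Additive]
  [∀ (K₁ : CochainComplex A₀ ℤ) (K₂ : CochainComplex B₀ ℤ), CochainComplex.HasMapBifunctor K₁ K₂ T]
  (Φ : CochainComplex A₀ ℤ ⥤ CochainComplex B₀ ℤ ⥤ CochainComplex C₀ ℤ)

theorem whisker_eq (hΦ : Φ = T.map₂CochainComplex) {N E : CochainComplex B₀ ℤ} (q q' : N ⟶ E) (h : Homotopy q q') :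
    Functor.whiskerRight (Φ.flip.map q) DerivedCategory.Q = Functor.whiskerRight (Φ.flip.map q') DerivedCategory.Q := by
  subst hΦ
  ext A
  have hQ := congrArg DerivedCategory.Qh.map (HomotopyCategory.eq_of_homotopy _ _
    (mapBifunctorMapHomotopy₂ (𝟙 A) h T (ComplexShape.up ℤ)))
  have e₁ := (DerivedCategory.quotientCompQhIso C₀).hom.naturality (totMap₂ T A q)
  have e₂ := (DerivedCategory.quotientCompQhIso C₀).hom.naturality (totMap₂ T A q')
  refine (cancel_epi ((DerivedCategory.quotientCompQhIso C₀).hom.app _)).1 ?_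
  exact (e₁.symm.trans (congrArg (· ≫ _) hQ)).trans e₂

theorem whisker_zero (hΦ : Φ = T.map₂CochainComplex) {N E : CochainComplex B₀ ℤ} (A : CochainComplex A₀ ℤ) :
    (Functor.whiskerRight (Φ.flip.map (0 : N ⟶ E)) DerivedCategory.Q).app A = 0 := by
  subst hΦ
  change DerivedCategory.Q.map ((T.map₂CochainComplex.obj A).map 0) = 0
  rw [Functor.map_zero, Functor.map_zero]

theorem whisker_app_eq (hΦ : Φ = T.map₂CochainComplex) {E E' : CochainComplex B₀ ℤ} (g : E ⟶ E')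
    (A : CochainComplex A₀ ℤ) {P P' : DerivedCategory C₀} (c : (Φ.flip.obj E ⋙ DerivedCategory.Q).obj A ⟶ P)
    (c' : (Φ.flip.obj E' ⋙ DerivedCategory.Q).obj A ⟶ P') (γ : P ⟶ P')
    (h : (Functor.whiskerRight (Φ.flip.map g) DerivedCategory.Q).app A ≫ c' = c ≫ γ) :
    ∃ (d : DerivedCategory.Q.obj (tot T A E) ⟶ P) (d' : DerivedCategory.Q.obj (tot T A E') ⟶ P'),
      HEq d c ∧ HEq d' c' ∧ DerivedCategory.Q.map (totMap₂ T A g) ≫ d' = d ≫ γ := by
  subst hΦ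
  exact ⟨c, c', HEq.rfl, HEq.rfl, h⟩

end Generic

variable {X : Scheme.{u}}

local notation "Cx" X => CochainComplex (Scheme.Modules X) ℤ

/-- `- ⊗^L E`. -/
noncomputable abbrev LT (E : CochainComplex X.Modules ℤ) : DCoh.D X ⥤ DCoh.D X :=
  haveI := LTensorSheaf.hasLTensorCx E
  DCoh.LTensorCx E

/-- The counit of `- ⊗^L E`. -/
noncomputable abbrev cu (E : CochainComplex X.Modules ℤ) : DerivedCategory.Q ⋙ LT E ⟶ DCoh.tensorCxQ E :=
  haveI := LTensorSheaf.hasLTensorCx E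
  LTensorSheaf.counit E

/-- `RHom(E, -)`. -/
noncomputable abbrev RH (E : CochainComplex X.Modules ℤ) : DCoh.D X ⥤ DCoh.D X :=
  haveI := LTensorSheaf.hasLTensorCx E
  haveI := RHomExist.hasRSheafHom E
  DCoh.RSheafHom E

/-- The adjunction. -/
noncomputable abbrev adjE (E : CochainComplex X.Modules ℤ) : LT E ⊣ RH E :=
  haveI := LTensorSheaf.hasLTensorCx E
  haveI := RHomExist.hasRSheafHom E
  DCoh.RSheafHomAdj E

theorem cu_isLeftDerived (E : CochainComplex X.Modules ℤ) :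
    (LT E).IsLeftDerivedFunctor (cu E) (HomologicalComplex.quasiIso X.Modules (ComplexShape.up ℤ)) :=
  haveI := LTensorSheaf.hasLTensorCx E
  inferInstanceAs ((DCoh.LTensorCx E).IsLeftDerivedFunctor (LTensorSheaf.counit E) _)

/-- The action of a chain map on `- ⊗^L E`. -/
noncomputable def lhat {E E' : CochainComplex X.Modules ℤ} (g : E ⟶ E') : LT E ⟶ LT E' :=
  haveI := cu_isLeftDerived E'
  (LT E').leftDerivedLift (cu E') (HomologicalComplex.quasiIso X.Modules (ComplexShape.up ℤ)) (LT E)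
    (cu E ≫ Functor.whiskerRight ((DCoh.tensorCx (X := X)).flip.map g) DerivedCategory.Q)

theorem lhat_fac {E E' : CochainComplex X.Modules ℤ} (g : E ⟶ E') (Y : CochainComplex X.Modules ℤ) :
    (lhat g).app (DerivedCategory.Q.obj Y) ≫ (cu E').app Y =
      (cu E).app Y ≫ (Functor.whiskerRight ((DCoh.tensorCx (X := X)).flip.map g) DerivedCategory.Q).app Y := by
  haveI := cu_isLeftDerived E'
  exact (LT E').leftDerived_fac_app (cu E') _ (LT E) _ Y

theorem lhat_ext {E E' : CochainComplex X.Modules ℤ} {γ₁ γ₂ : LT E ⟶ LT E'}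
    (h : ∀ Y : CochainComplex X.Modules ℤ, γ₁.app (DerivedCategory.Q.obj Y) ≫ (cu E').app Y =
      γ₂.app (DerivedCategory.Q.obj Y) ≫ (cu E').app Y) : γ₁ = γ₂ := by
  haveI := cu_isLeftDerived E'
  exact (LT E').leftDerived_ext (cu E') (HomologicalComplex.quasiIso X.Modules (ComplexShape.up ℤ)) _ _ _
    (NatTrans.ext (funext h))

theorem lhat_comp {E E' E'' : CochainComplex X.Modules ℤ} (g : E ⟶ E') (g' : E' ⟶ E'') :
    lhat (g ≫ g') = lhat g ≫ lhat g' := by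
  refine lhat_ext fun Y => ?_
  rw [lhat_fac, NatTrans.comp_app, Category.assoc, lhat_fac, reassoc_of% (lhat_fac g Y), Functor.map_comp]
  exact congrArg (_ ≫ ·) (by simp)

theorem lhat_homotopy {E E' : CochainComplex X.Modules ℤ} {g g' : E ⟶ E'} (h : Homotopy g g') : lhat g = lhat g' := by
  refine lhat_ext fun Y => ?_
  rw [lhat_fac, lhat_fac, whisker_eq (shT X) (DCoh.tensorCx (X := X)) rfl g g' h]

theorem lhat_id (E : CochainComplex X.Modules ℤ) : lhat (𝟙 E) = 𝟙 (LT E) := by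
  refine lhat_ext fun Y => ?_
  rw [lhat_fac, CategoryTheory.Functor.map_id]
  simp

/-- The value of `lhat` is invertible where the map of total complexes is a quasi-isomorphism. -/
theorem isIso_lhat_app {E E' : CochainComplex X.Modules ℤ} (g : E ⟶ E') {Y : CochainComplex X.Modules ℤ}
    (hY : IsKFlatFor (shT X) Y) (h : QuasiIso (totMap₂ (shT X) Y g)) :
    IsIso ((lhat g).app (DerivedCategory.Q.obj Y)) := by
  haveI := LTensorSheaf.hasLTensorCx E
  haveI := LTensorSheaf.hasLTensorCx E'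
  haveI : IsIso ((cu E).app Y) := LTensorSheaf.isIso_counit E hY
  haveI : IsIso ((cu E').app Y) := LTensorSheaf.isIso_counit E' hY
  haveI := TensorCongr.isIso_whisker_app g h
  exact IsIso.of_isIso_fac_right (lhat_fac g Y)

theorem isIso_lhat {E E' : CochainComplex X.Modules ℤ} (g : E ⟶ E') [QuasiIso g] : IsIso (lhat g) := by
  rw [NatTrans.isIso_iff_isIso_app]
  intro Y
  obtain ⟨A, hA, ⟨e⟩⟩ := PullPerf.exists_kflat_rep Y
  exact (NatTrans.isIso_app_iff_of_iso (lhat g) e).1 (isIso_lhat_app g hA (TensorCongr.quasiIso_tot_left hA g))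

/-- The action of a chain map on `RHom(E, -)`. -/
noncomputable def rhat {E E' : CochainComplex X.Modules ℤ} (g : E ⟶ E') : RH E' ⟶ RH E :=
  conjugateEquiv (adjE E') (adjE E) (lhat g)

theorem tr_rhat {E E' : CochainComplex X.Modules ℤ} (g : E ⟶ E') {Y M : DCoh.D X} (x : Y ⟶ (RH E').obj M) :
    ((adjE E).homEquiv Y M).symm (x ≫ (rhat g).app M) =
      (lhat g).app Y ≫ ((adjE E').homEquiv Y M).symm x :=
  RHomSeq.tr_conj (adjE E) (adjE E') (lhat g) x

theorem rhat_comp {E E' E'' : CochainComplex X.Modules ℤ} (g : E ⟶ E') (g' : E' ⟶ E'') :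
    rhat (g ≫ g') = rhat g' ≫ rhat g := by
  rw [rhat, rhat, rhat, lhat_comp, ← conjugateEquiv_comp (adjE E'') (adjE E') (adjE E)]

instance isIso_rhat {E E' : CochainComplex X.Modules ℤ} (g : E ⟶ E') [QuasiIso g] : IsIso (rhat g) :=
  haveI := isIso_lhat g
  inferInstanceAs (IsIso (conjugateEquiv (adjE E') (adjE E) (lhat g)))

/-- A pair of chain maps inducing exact sequences of maps out of the derived tensor products. -/
def ExPair {E₁ E₂ E₃ : CochainComplex X.Modules ℤ} (g : E₁ ⟶ E₂) (h : E₂ ⟶ E₃) : Prop :=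
  (∀ Y, (lhat g).app Y ≫ (lhat h).app Y = 0) ∧
    ∀ (Y M : DCoh.D X) (z : (LT E₂).obj Y ⟶ M), (lhat g).app Y ≫ z = 0 → ∃ w, z = (lhat h).app Y ≫ w

theorem ExPair.comp_qis {E₁ E₂ E₃ E₃' : CochainComplex X.Modules ℤ} {g : E₁ ⟶ E₂} {h : E₂ ⟶ E₃}
    (H : ExPair g h) (e : E₃ ⟶ E₃') [QuasiIso e] {h' : E₂ ⟶ E₃'} (hh : Homotopy (h ≫ e) h') : ExPair g h' := by
  haveI := isIso_lhat e
  have hl : lhat h' = lhat h ≫ lhat e := by rw [← lhat_homotopy hh, lhat_comp]
  refine ⟨fun Y => ?_, fun Y M z hz => ?_⟩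
  · rw [hl, NatTrans.comp_app, reassoc_of% (H.1 Y), zero_comp]
  · obtain ⟨w, rfl⟩ := H.2 Y M z hz
    exact ⟨inv ((lhat e).app Y) ≫ w, by rw [hl, NatTrans.comp_app, Category.assoc, IsIso.hom_inv_id_assoc]⟩

/-- `Q(A ⊗ E)` is the derived tensor product, for K-flat `A`. -/
noncomputable def aIso {A : CochainComplex X.Modules ℤ} (hA : IsKFlatFor (shT X) A) {Y : DCoh.D X}
    (e : DerivedCategory.Q.obj A ≅ Y) (E : CochainComplex X.Modules ℤ) :
    DerivedCategory.Q.obj (tot (shT X) A E) ≅ (LT E).obj Y :=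
  haveI := LTensorSheaf.hasLTensorCx E
  (LTensorSheaf.ltensorCxIso E hA).symm ≪≫ (LT E).mapIso e

theorem lhat_conj {E E' : CochainComplex X.Modules ℤ} (g : E ⟶ E') {A : CochainComplex X.Modules ℤ}
    (hA : IsKFlatFor (shT X) A) {Y : DCoh.D X} (e : DerivedCategory.Q.obj A ≅ Y) :
    DerivedCategory.Q.map (totMap₂ (shT X) A g) ≫ (aIso hA e E').hom = (aIso hA e E).hom ≫ (lhat g).app Y := by
  haveI h₁ : IsIso ((cu E).app A) := @LTensorSheaf.isIso_counit _ E (LTensorSheaf.hasLTensorCx E) _ hA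
  haveI h₂ : IsIso ((cu E').app A) := @LTensorSheaf.isIso_counit _ E' (LTensorSheaf.hasLTensorCx E') _ hA
  obtain ⟨d, d', hd, hd', h⟩ := whisker_app_eq (shT X) (DCoh.tensorCx (X := X)) rfl g A
    (inv ((cu E).app A) ≫ (LT E).map e.hom)
    (inv ((cu E').app A) ≫ (LT E').map e.hom) ((lhat g).app Y) (by
      rw [Category.assoc, (lhat g).naturality e.hom, ← Category.assoc, ← Category.assoc]
      refine congrArg (· ≫ _) ?_
      rw [IsIso.comp_inv_eq, Category.assoc, lhat_fac, IsIso.inv_hom_id_assoc])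
  obtain rfl := eq_of_heq hd
  obtain rfl := eq_of_heq hd'
  exact h

/-- A degreewise split sequence gives an exact pair. -/
theorem exPair_of_split (S : ShortComplex (CochainComplex X.Modules ℤ))
    (hS : ∀ n, Nonempty ((S.map (HomologicalComplex.eval X.Modules (ComplexShape.up ℤ) n)).Splitting)) :
    ExPair S.f S.g := by
  have key : ∀ (Y : DCoh.D X), ∃ δ, Triangle.mk ((lhat S.f).app Y) ((lhat S.g).app Y) δ ∈ distTriang (DCoh.D X) := by
    intro Y
    obtain ⟨A, hA, ⟨e⟩⟩ := PullPerf.exists_kflat_rep Y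
    obtain ⟨σ⟩ : Nonempty ((n : ℤ) → ((S.map ((shT X).map₂CochainComplex.obj A)).map
        (HomologicalComplex.eval X.Modules (ComplexShape.up ℤ) n)).Splitting) :=
      ⟨fun n => (TotHom.nonempty_splitting_tot₂ (shT X) A S hS n).some⟩
    have hse : (S.map ((shT X).map₂CochainComplex.obj A)).ShortExact :=
      HomologicalComplex.shortExact_of_degreewise_shortExact _ fun n => (σ n).shortExact
    haveI := LTensorSheaf.hasLTensorCx S.X₁
    haveI := LTensorSheaf.hasLTensorCx S.X₂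
    haveI := LTensorSheaf.hasLTensorCx S.X₃
    let a := aIso hA e
    have k : ∀ {E E' : CochainComplex X.Modules ℤ} (g : E ⟶ E'),
        DerivedCategory.Q.map (totMap₂ (shT X) A g) ≫ (a E').hom = (a E).hom ≫ (lhat g).app Y := fun g =>
      lhat_conj g hA e
    exact ⟨(a S.X₃).inv ≫ DerivedCategory.triangleOfSESδ hse ≫ (a S.X₁).hom⟦(1 : ℤ)⟧',
      isomorphic_distinguished _ (DerivedCategory.triangleOfSES_distinguished hse) _
        (Triangle.isoMk _ _ (a S.X₁) (a S.X₂) (a S.X₃) (k S.f) (k S.g) (by simp)).symm⟩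
  refine ⟨fun Y => ?_, fun Y M z hz => ?_⟩
  · obtain ⟨δ, hT⟩ := key Y
    exact comp_distTriang_mor_zero₁₂ _ hT
  · obtain ⟨δ, hT⟩ := key Y
    exact Triangle.yoneda_exact₂ _ hT z hz

/-- Consecutive inclusions into mapping cones give exact pairs. -/
theorem exPair_inr {A B : CochainComplex X.Modules ℤ} (φ : A ⟶ B) :
    ExPair (mappingCone.inr φ) (mappingCone.inr (mappingCone.inr φ)) := by
  have H := exPair_of_split (mappingCone.triangleRotateShortComplex φ)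
    fun n => ⟨mappingCone.triangleRotateShortComplexSplitting φ n⟩
  exact H.comp_qis (E₃' := mappingCone (mappingCone.inr φ)) (mappingCone.rotateHomotopyEquiv φ).hom
    (mappingCone.rotateHomotopyEquivComm₂Homotopy φ)

/-- Exactness of `RHom` along an exact pair. -/
theorem ExPair.rhat_zero {E₁ E₂ E₃ : CochainComplex X.Modules ℤ} {g : E₁ ⟶ E₂} {h : E₂ ⟶ E₃}
    (H : ExPair g h) (M : DCoh.D X) : (rhat h).app M ≫ (rhat g).app M = 0 := by
  refine RHomSeq.eq_zero_of_tr (adjE E₁) ?_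
  rw [tr_rhat, ← Category.id_comp ((rhat h).app M), tr_rhat, ← Category.assoc, H.1, zero_comp]

theorem ExPair.rhat_exact {E₁ E₂ E₃ : CochainComplex X.Modules ℤ} {g : E₁ ⟶ E₂} {h : E₂ ⟶ E₃}
    (H : ExPair g h) (M : DCoh.D X) (Y : DCoh.D X) (x : Y ⟶ (RH E₂).obj M) (hx : x ≫ (rhat g).app M = 0) :
    ∃ y, x = y ≫ (rhat h).app M := by
  obtain ⟨w, hw⟩ := H.2 Y M (((adjE E₂).homEquiv Y M).symm x) (by rw [← tr_rhat, hx, RHomSeq.tr_zero])
  refine ⟨(adjE E₃).homEquiv Y M w, ((adjE E₂).homEquiv Y M).symm.injective ?_⟩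
  rw [tr_rhat, hw, Equiv.symm_apply_apply]

/-- A pair of chain maps giving exact sequences of maps into the objects of `D(O_X)`. -/
def QPair {E₁ E₂ E₃ : CochainComplex X.Modules ℤ} (g : E₁ ⟶ E₂) (h : E₂ ⟶ E₃) : Prop :=
  DerivedCategory.Q.map g ≫ DerivedCategory.Q.map h = 0 ∧
    ∀ (Y : DCoh.D X) (x : Y ⟶ DerivedCategory.Q.obj E₂), x ≫ DerivedCategory.Q.map h = 0 →
      ∃ x', x = x' ≫ DerivedCategory.Q.map g

theorem qPair_inr {A B : CochainComplex X.Modules ℤ} (φ : A ⟶ B) :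
    QPair (mappingCone.inr φ) (mappingCone.inr (mappingCone.inr φ)) :=
  ⟨comp_distTriang_mor_zero₁₂ _ (DerivedCategory.mappingCone_triangle_distinguished (mappingCone.inr φ)),
    fun _ x hx => Triangle.coyoneda_exact₂ _ (DerivedCategory.mappingCone_triangle_distinguished (mappingCone.inr φ)) x hx⟩

/-- The five term pieces: a property of complexes stable under shifts passes to extensions. -/
theorem ext_of_middle' (P R : CochainComplex X.Modules ℤ → Prop)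
    (hiso : ∀ {E E' : CochainComplex X.Modules ℤ}, HomotopyEquiv E E' → (P E ↔ P E'))
    (hR : ∀ {E E' : CochainComplex X.Modules ℤ}, HomotopyEquiv E E' → R E → R E')
    (hmid : ∀ {E₁ E₂ E₃ E₄ E₅ : CochainComplex X.Modules ℤ} (u₁ : E₁ ⟶ E₂) (u₂ : E₂ ⟶ E₃) (u₃ : E₃ ⟶ E₄)
      (u₄ : E₄ ⟶ E₅), ExPair u₁ u₂ → ExPair u₂ u₃ → ExPair u₃ u₄ →
        QPair u₁ u₂ → QPair u₂ u₃ → QPair u₃ u₄ → P E₁ → P E₂ → P E₄ → P E₅ → R E₃ → P E₃)
    (S : ShortComplex (CochainComplex X.Modules ℤ))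
    (hS : ∀ n, Nonempty ((S.map (HomologicalComplex.eval X.Modules (ComplexShape.up ℤ) n)).Splitting))
    (h₁ : ∀ k : ℤ, P (S.X₁⟦k⟧)) (h₃ : ∀ k : ℤ, P (S.X₃⟦k⟧)) (k : ℤ) (h₂ : R (S.X₂⟦k⟧)) : P (S.X₂⟦k⟧) := by
  let σ := fun n => (hS n).some
  obtain ⟨m, rfl⟩ : ∃ m, k = m + 1 + 1 := ⟨k - 2, by omega⟩
  let h₀ := CochainComplex.homOfDegreewiseSplit S σ
  let φ := h₀⟦m⟧'
  let i₀ := mappingCone.inr φ
  let i₁ := mappingCone.inr i₀
  let i₂ := mappingCone.inr i₁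
  let i₃ := mappingCone.inr i₂
  let i₄ := mappingCone.inr i₃
  have hu : ∀ {E E' : CochainComplex X.Modules ℤ}, (E ≅ E') → (P E ↔ P E') := fun e => hiso (HomotopyEquiv.ofIso e)
  have he : ∀ {E E' : CochainComplex X.Modules ℤ}, HomotopyEquiv E E' → (P E ↔ P E') := fun e => hiso e
  have he1 : ∀ {E E' : CochainComplex X.Modules ℤ}, HomotopyEquiv E E' → (P (E⟦(1 : ℤ)⟧) ↔ P (E'⟦(1 : ℤ)⟧)) :=
    fun {E E'} e => hiso (HomotopyCategory.homotopyEquivOfIso
      (((HomotopyCategory.quotient X.Modules (ComplexShape.up ℤ)).commShiftIso (1 : ℤ)).app E ≪≫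
        (shiftFunctor _ (1 : ℤ)).mapIso (HomotopyCategory.isoOfHomotopyEquiv e) ≪≫
        (((HomotopyCategory.quotient X.Modules (ComplexShape.up ℤ)).commShiftIso (1 : ℤ)).app E').symm))
  have sh : ∀ (E : CochainComplex X.Modules ℤ) (a b c : ℤ), a + b = c → (E⟦a⟧⟦b⟧ ≅ E⟦c⟧) := fun E a b c h =>
    ((CategoryTheory.shiftFunctorAdd' (CochainComplex X.Modules ℤ) a b c h).app E).symm
  have q₁ : ∀ j, P (S.X₁⟦(1 : ℤ)⟧⟦j⟧) := fun j => (hu (sh S.X₁ 1 j (1 + j) rfl)).2 (h₁ _)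
  have p₁ : P (mappingCone i₀) :=
    (he (mappingCone.rotateHomotopyEquiv φ)).1 ((hu (sh S.X₃ m 1 (m + 1) rfl)).2 (h₃ _))
  have p₂ : P (mappingCone i₁) :=
    (he (mappingCone.rotateHomotopyEquiv i₀)).1 ((hu (sh (S.X₁⟦(1 : ℤ)⟧) m 1 (m + 1) rfl)).2 (q₁ _))
  have p₄ : P (mappingCone i₃) :=
    (he (mappingCone.rotateHomotopyEquiv i₂)).1 ((he1 (mappingCone.rotateHomotopyEquiv φ)).1
      ((hu ((shiftFunctor _ (1 : ℤ)).mapIso (sh S.X₃ m 1 (m + 1) rfl) ≪≫ sh S.X₃ (m + 1) 1 (m + 1 + 1) rfl)).2 (h₃ _)))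
  have p₅ : P (mappingCone i₄) :=
    (he (mappingCone.rotateHomotopyEquiv i₃)).1 ((he1 (mappingCone.rotateHomotopyEquiv i₀)).1
      ((hu ((shiftFunctor _ (1 : ℤ)).mapIso (sh (S.X₁⟦(1 : ℤ)⟧) m 1 (m + 1) rfl) ≪≫
        sh (S.X₁⟦(1 : ℤ)⟧) (m + 1) 1 (m + 1 + 1) rfl)).2 (q₁ _)))
  have e : (mappingCone φ)⟦(1 : ℤ)⟧ ≅ S.X₂⟦m + 1 + 1⟧ :=
    (shiftFunctor _ (1 : ℤ)).mapIso ((mappingCone.shiftIso h₀ m).symm ≪≫
      (shiftFunctor _ m).mapIso (CochainComplex.mappingConeHomOfDegreewiseSplitIso S σ) ≪≫ sh S.X₂ 1 m (m + 1) (by omega)) ≪≫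
      sh S.X₂ (m + 1) 1 (m + 1 + 1) rfl
  have r₃ : R (mappingCone i₂) := hR (mappingCone.rotateHomotopyEquiv i₁) (hR (HomotopyEquiv.ofIso e.symm) h₂)
  have p₃ : P (mappingCone i₂) := hmid i₂ (mappingCone.inr i₂) (mappingCone.inr i₃) (mappingCone.inr i₄)
    (exPair_inr i₁) (exPair_inr i₂) (exPair_inr i₃) (qPair_inr i₁) (qPair_inr i₂) (qPair_inr i₃) p₁ p₂ p₄ p₅ r₃
  exact (hu e).1 ((he (mappingCone.rotateHomotopyEquiv i₁)).2 p₃)

/-- `ext_of_middle'` without exactness in `D(O_X)`. -/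
theorem ext_of_middle (P R : CochainComplex X.Modules ℤ → Prop)
    (hiso : ∀ {E E' : CochainComplex X.Modules ℤ}, HomotopyEquiv E E' → (P E ↔ P E'))
    (hR : ∀ {E E' : CochainComplex X.Modules ℤ}, HomotopyEquiv E E' → R E → R E')
    (hmid : ∀ {E₁ E₂ E₃ E₄ E₅ : CochainComplex X.Modules ℤ} (u₁ : E₁ ⟶ E₂) (u₂ : E₂ ⟶ E₃) (u₃ : E₃ ⟶ E₄)
      (u₄ : E₄ ⟶ E₅), ExPair u₁ u₂ → ExPair u₂ u₃ → ExPair u₃ u₄ → P E₁ → P E₂ → P E₄ → P E₅ → R E₃ → P E₃)
    (S : ShortComplex (CochainComplex X.Modules ℤ))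
    (hS : ∀ n, Nonempty ((S.map (HomologicalComplex.eval X.Modules (ComplexShape.up ℤ) n)).Splitting))
    (h₁ : ∀ k : ℤ, P (S.X₁⟦k⟧)) (h₃ : ∀ k : ℤ, P (S.X₃⟦k⟧)) (k : ℤ) (h₂ : R (S.X₂⟦k⟧)) : P (S.X₂⟦k⟧) := by
  exact ext_of_middle' P R hiso hR (fun u₁ u₂ u₃ u₄ e₁ e₂ e₃ _ _ _ => hmid u₁ u₂ u₃ u₄ e₁ e₂ e₃) S hS h₁ h₃ k h₂

end Groth.Agent.DCat.RHomNat
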