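import Groth.Agent.DCat.SerreTrace17
import Groth.Agent.DCat.KernelDual17
import Groth.Agent.Dual22Lib.PerfLift
import Groth.Prelude.Def_KLin2
import Groth.Prelude.Def_SGA6

/-!
# The Serre functor on perfect complexes
-/

set_option autoImplicit false
set_option backward.isDefEq.respectTransparency false
set_option backward.defeqAttrib.useBackward true
set_option linter.style.haveILetI false
set_option synthInstance.maxHeartbeats 100000

universe u

open CategoryTheory CategoryTheory.Limits AlgebraicGeometry HomologicalComplex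
open Groth.Agent.ModStalk
open DerivedCategory (Q)

attribute [local instance] HasDerivedCategory.standard
attribute [-instance] Int.instConditionallyCompleteLinearOrder

namespace Groth.Agent.DCat.SerreFunctor17

open RHomEval SerreLeft17 SerreTrace17 RHomBidual

/-- Tensoring with an invertible complex is an equivalence. -/
theorem exists_inverse {X : Scheme.{u}} {W : CochainComplex X.Modules ℤ} (hW : IsKFlatFor (shT X) W)
    (pW : DCoh.IsPerfect (Q.obj W)) (eW : KernelDual17.EndTrivial (Q.obj W)) :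
    ∃ (D : CochainComplex X.Modules ℤ) (_ : IsKFlatFor (shT X) D), DCoh.IsPerfect (Q.obj D) ∧
      Nonempty (RHomNat.LT W ⋙ RHomNat.LT D ≅ 𝟭 _) ∧ Nonempty (RHomNat.LT D ⋙ RHomNat.LT W ≅ 𝟭 _) := by
  haveI := LTensorSheaf.hasLTensorCx W
  haveI := RHomExist.hasRSheafHom W
  let S₀ := (single X.Modules (ComplexShape.up ℤ) 0).obj (Coh.structureModule X)
  haveI := LTensorSheaf.hasLTensorCx S₀
  obtain ⟨D, hD, ⟨eD⟩⟩ := PullPerf.exists_kflat_rep (dual W)
  haveI := LTensorSheaf.hasLTensorCx D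
  have pD : DCoh.IsPerfect (Q.obj D) := PCTriangle.perfect_iso eD.symm (RHomDual.isPerfect_dual W pW)
  obtain ⟨t⟩ := KernelDual17.nonempty_twist W pW W
  obtain ⟨u⟩ := eW W hW (Iso.refl _)
  obtain ⟨s⟩ := KernelDual17.nonempty_swap hW hD
  let i : (DCoh.LTensorCx W).obj (Q.obj D) ≅ Q.obj S₀ :=
    (DCoh.LTensorCx W).mapIso eD ≪≫ t ≪≫ u ≪≫ (DerivedCategory.singleFunctorIsoCompQ X.Modules 0).app _
  obtain ⟨e₀⟩ := RHomLeft.nonempty_LTensor_structure (X := X)
  haveI := LTensorSheaf.hasLTensorCx (tot (shT X) D W)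
  haveI := LTensorSheaf.hasLTensorCx (tot (shT X) W D)
  obtain ⟨a⟩ := RHomEvalDual.nonempty_LT_tot hW hD
  obtain ⟨a'⟩ := RHomEvalDual.nonempty_LT_tot hD hW
  obtain ⟨b⟩ := TensorCongr.nonempty_congr (E := tot (shT X) W D) (E' := S₀)
    ((LTensorSheaf.ltensorCxIso' hD W).symm ≪≫ s.symm ≪≫ i)
  obtain ⟨b'⟩ := TensorCongr.nonempty_congr (E := tot (shT X) D W) (E' := S₀)
    ((LTensorSheaf.ltensorCxIso' hW D).symm ≪≫ i)
  exact ⟨D, hD, pD, ⟨a ≪≫ b ≪≫ e₀⟩, ⟨a' ≪≫ b' ≪≫ e₀⟩⟩

variable {k : Type u} [Field k] {X : Scheme.{u}} [X.Over (Spec (CommRingCat.of k))]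
  {W : CochainComplex X.Modules ℤ} (hW : IsKFlatFor (shT X) W)

variable {K L : CochainComplex X.Modules ℤ}

/-- Derived tensor products are linear. -/
theorem LT_map_smul (hK : IsKFlatFor (shT X) K) {M N : DCoh.D X} (a : k) (f : M ⟶ N) :
    (RHomNat.LT K).map (a • f) = a • (RHomNat.LT K).map f := by
  haveI := LTensorSheaf.hasLTensorCx K
  have h := DualLib.EndIso.LTensor_map_smul (A := k) K hK M a
  rw [← Category.id_comp f, ← Linear.smul_comp, Functor.map_comp, h, Linear.smul_comp, Category.id_comp,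
    Category.id_comp]

/-- `W ⊗^L -` is linear. -/
theorem leftT_map_smul {M N : DCoh.D X} (a : k) (f : M ⟶ N) :
    (leftT hW).map (a • f) = a • (leftT hW).map f := by
  rw [← cancel_epi ((ltIso hW).hom.app M), Linear.comp_smul, ← (ltIso hW).hom.naturality,
    ← (ltIso hW).hom.naturality, LT_map_smul hW, Linear.smul_comp]

theorem leftT_map_add {M N : DCoh.D X} (f g : M ⟶ N) :
    (leftT hW).map (f + g) = (leftT hW).map f + (leftT hW).map g := by
  haveI := RHomBidual.additive_left (RHomNat.adjE W)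
  rw [← cancel_epi ((ltIso hW).hom.app M), Preadditive.comp_add, ← (ltIso hW).hom.naturality,
    ← (ltIso hW).hom.naturality, ← (ltIso hW).hom.naturality, Functor.map_add, Preadditive.add_comp]

theorem tp_smul (hL : IsKFlatFor (shT X) L) {M : DCoh.D X} (a : k) (u : Q.obj L ⟶ M) :
    tp hL (a • u) = a • tp hL u := by
  refine ((RHomNat.adjE L).homEquiv _ _).symm.injective ?_
  conv_rhs => rw [Adjunction.homEquiv_counit, LT_map_smul hL, Linear.smul_comp, ← Adjunction.homEquiv_counit]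
  rw [tp, tp, Equiv.symm_apply_apply, Equiv.symm_apply_apply, Linear.comp_smul]

theorem tp_add (hL : IsKFlatFor (shT X) L) {M : DCoh.D X} (u v : Q.obj L ⟶ M) :
    tp hL (u + v) = tp hL u + tp hL v := by
  haveI := RHomBidual.additive_left (RHomNat.adjE L)
  refine ((RHomNat.adjE L).homEquiv _ _).symm.injective ?_
  conv_rhs => rw [Adjunction.homEquiv_counit, Functor.map_add, Preadditive.add_comp, ← Adjunction.homEquiv_counit,
    ← Adjunction.homEquiv_counit]
  rw [tp, tp, tp, Equiv.symm_apply_apply, Equiv.symm_apply_apply, Equiv.symm_apply_apply, Preadditive.comp_add]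

theorem trW_smul (hL : IsKFlatFor (shT X) L) (pL : DCoh.IsPerfect (Q.obj L)) (a : k)
    (u : Q.obj L ⟶ (leftT hW).obj (Q.obj L)) : trW hW hL pL (a • u) = a • trW hW hL pL u := by
  simp only [trW, tp_smul hL, Linear.smul_comp]

theorem trW_add (hL : IsKFlatFor (shT X) L) (pL : DCoh.IsPerfect (Q.obj L))
    (u v : Q.obj L ⟶ (leftT hW).obj (Q.obj L)) : trW hW hL pL (u + v) = trW hW hL pL u + trW hW hL pL v := by
  simp only [trW, tp_add hL, Preadditive.add_comp]

variable (T : (one X ⟶ Q.obj W) →ₗ[k] k)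

/-- The Serre pairing. -/
noncomputable def pair (hL : IsKFlatFor (shT X) L) (pL : DCoh.IsPerfect (Q.obj L)) (K : CochainComplex X.Modules ℤ) :
    (Q.obj K ⟶ Q.obj L) →ₗ[k] Module.Dual k (Q.obj L ⟶ (leftT hW).obj (Q.obj K)) :=
  LinearMap.mk₂ k (fun f h => T (trW hW hL pL (h ≫ (leftT hW).map f)))
    (fun f f' h => by rw [leftT_map_add, Preadditive.comp_add, trW_add hW, map_add])
    (fun a f h => by rw [leftT_map_smul, Linear.comp_smul, trW_smul hW, map_smul])
    (fun f h h' => by rw [Preadditive.add_comp, trW_add hW, map_add])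
    (fun a f h => by rw [Linear.smul_comp, trW_smul hW, map_smul])

theorem pair_apply (hL : IsKFlatFor (shT X) L) (pL : DCoh.IsPerfect (Q.obj L)) (f : Q.obj K ⟶ Q.obj L)
    (h : Q.obj L ⟶ (leftT hW).obj (Q.obj K)) :
    pair hW T hL pL K f h = T (trW hW hL pL (h ≫ (leftT hW).map f)) := rfl

theorem pair_comp {L' : CochainComplex X.Modules ℤ} (hL : IsKFlatFor (shT X) L) (pL : DCoh.IsPerfect (Q.obj L))
    (hL' : IsKFlatFor (shT X) L') (pL' : DCoh.IsPerfect (Q.obj L')) (f : Q.obj K ⟶ Q.obj L)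
    (g : Q.obj L ⟶ Q.obj L') (h : Q.obj L' ⟶ (leftT hW).obj (Q.obj K)) :
    pair hW T hL' pL' K (f ≫ g) h = pair hW T hL pL K f (g ≫ h) := by
  rw [pair_apply, pair_apply, Category.assoc, trW_comm hW hL pL hL' pL' g, Category.assoc, Functor.map_comp]

theorem pair_precomp {K' : CochainComplex X.Modules ℤ} (hL : IsKFlatFor (shT X) L) (pL : DCoh.IsPerfect (Q.obj L))
    (e : Q.obj K' ⟶ Q.obj K) (f : Q.obj K ⟶ Q.obj L) (h : Q.obj L ⟶ (leftT hW).obj (Q.obj K')) :
    pair hW T hL pL K' (e ≫ f) h = pair hW T hL pL K f (h ≫ (leftT hW).map e) := by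
  rw [pair_apply, pair_apply, Functor.map_comp, Category.assoc]

theorem bijective_pair [(leftT hW).IsEquivalence] (pW : DCoh.IsPerfect (Q.obj W))
    (hT : ∀ Y : DCoh.D X, DCoh.IsQCohD Y →
      Function.Bijective fun φ : Y ⟶ Q.obj W => T.comp (Linear.rightComp k (one X) φ))
    (hK : IsKFlatFor (shT X) K) (pK : DCoh.IsPerfect (Q.obj K))
    (hL : IsKFlatFor (shT X) L) (pL : DCoh.IsPerfect (Q.obj L)) :
    Function.Bijective (pair hW T hL pL K) := by
  haveI := isIso_Phi hW hL pL (Q.obj K)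
  haveI := isIso_Phi hW hL pL (Q.obj L)
  haveI := isIso_omega hK hL pL
  haveI := LTensorSheaf.hasLTensorCx K
  haveI := LTensorSheaf.hasLTensorCx L
  haveI := LTensorSheaf.hasLTensorCx W
  haveI := RHomExist.hasRSheafHom L
  let Y := (leftT hW).obj ((RHomNat.RH L).obj (Q.obj K))
  have hY : DCoh.IsQCohD Y := Dual22Lib.PerfLift.isQCohD_perfect (PCTriangle.perfect_iso ((ltIso hW).app _)
    (PerfTensor.isPerfect_LTensor hW pW _ (PCTriangle.perfect_iso
      (((TotSymm.LTDIso.app K).app (dual L)).symm ≪≫ asIso (omega hK hL))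
      (PerfTensor.isPerfect_LTensor hK pK _ (RHomDual.isPerfect_dual L pL)))))
  let ξ : (Q.obj L ⟶ (leftT hW).obj (Q.obj K)) ≃ₗ[k] (one X ⟶ Y) :=
    LinearEquiv.ofBijective
      { toFun := fun h => tp hL h ≫ inv (Phi hW hL (Q.obj K))
        map_add' := fun h h' => by rw [tp_add, Preadditive.add_comp]
        map_smul' := fun a h => by rw [tp_smul, Linear.smul_comp, RingHom.id_apply] }
      ((asIso (Phi hW hL (Q.obj K))).symm.homToEquiv.bijective.comp (bijective_tp hL _))
  let φ : (Q.obj K ⟶ Q.obj L) → (Y ⟶ Q.obj W) := fun f =>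
    (leftT hW).map ((RHomNat.RH L).map f ≫ tr hL pL) ≫ (leftUnit hW).hom
  have hφ : Function.Bijective φ := (leftUnit hW).homToEquiv.bijective.comp
    (((Functor.FullyFaithful.ofFullyFaithful (leftT hW)).map_bijective _ _).comp (bijective_tr hK hL pL))
  have key : ∀ f h, pair hW T hL pL K f h = (T.comp (Linear.rightComp k (one X) (φ f))) (ξ h) := fun f h => by
    have h₂ : (RHomNat.RH L).map ((leftT hW).map f) ≫ inv (Phi hW hL (Q.obj L)) =
        inv (Phi hW hL (Q.obj K)) ≫ (leftT hW).map ((RHomNat.RH L).map f) := by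
      rw [IsIso.comp_inv_eq, Category.assoc, IsIso.eq_inv_comp, Phi_nat_obj]
    show T _ = T ((tp hL h ≫ inv (Phi hW hL (Q.obj K))) ≫ φ f)
    simp only [trW, tp_nat, φ, Category.assoc, Functor.map_comp, reassoc_of% h₂]
  refine ⟨fun f f' e => hφ.1 ((hT Y hY).1 (LinearMap.ext fun x => ?_)), fun Λ => ?_⟩
  · obtain ⟨h, rfl⟩ := ξ.surjective x
    exact (key f h).symm.trans ((LinearMap.congr_fun e h).trans (key f' h))
  · obtain ⟨ψ, hψ⟩ := (hT Y hY).2 (Λ.comp ξ.symm.toLinearMap)
    obtain ⟨f, rfl⟩ := hφ.2 ψ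
    exact ⟨f, LinearMap.ext fun h => (key f h).trans
      ((LinearMap.congr_fun hψ (ξ h)).trans (congrArg Λ (ξ.symm_apply_apply h)))⟩

omit [X.Over (Spec (CommRingCat.of k))] in
theorem perfect_LT (hK : IsKFlatFor (shT X) K) (pK : DCoh.IsPerfect (Q.obj K)) {M : DCoh.D X}
    (hM : DCoh.IsPerfect M) : DCoh.IsPerfect ((RHomNat.LT K).obj M) :=
  haveI := LTensorSheaf.hasLTensorCx K
  PerfTensor.isPerfect_LTensor hK pK M hM

/-- The Serre functor. -/
theorem exists_serreFunctor (pW : DCoh.IsPerfect (Q.obj W)) (eW : KernelDual17.EndTrivial (Q.obj W))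
    (hT : ∀ Y : DCoh.D X, DCoh.IsQCohD Y →
      Function.Bijective fun φ : Y ⟶ Q.obj W => T.comp (Linear.rightComp k (one X) φ))
    (F : DCoh.D X ⥤ DCoh.D X) (η : F ≅ leftT hW) :
    ∃ σ : KLin.SerreFunctor k (SGA6.perfP X).FullSubcategory,
      Nonempty (σ.S.functor ⋙ ObjectProperty.ι (SGA6.perfP X) ≅ ObjectProperty.ι (SGA6.perfP X) ⋙ F) := by
  obtain ⟨D, hD, pD, ⟨i₁⟩, ⟨i₂⟩⟩ := exists_inverse hW pW eW
  let E : DCoh.D X ≌ DCoh.D X := CategoryTheory.Equivalence.mk (RHomNat.LT W) (RHomNat.LT D) i₁.symm i₂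
  haveI : (RHomNat.LT W).IsEquivalence := E.isEquivalence_functor
  haveI : (leftT hW).IsEquivalence := Functor.isEquivalence_of_iso (ltIso hW)
  haveI : F.IsEquivalence := Functor.isEquivalence_of_iso η.symm
  let ι := ObjectProperty.ι (SGA6.perfP X)
  have pF : ∀ M, DCoh.IsPerfect M → DCoh.IsPerfect (F.obj M) := fun M hM =>
    PCTriangle.perfect_iso ((η ≪≫ (ltIso hW).symm).app M).symm (perfect_LT hW pW hM)
  let S : (SGA6.perfP X).FullSubcategory ⥤ (SGA6.perfP X).FullSubcategory :=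
    ObjectProperty.lift _ (ι ⋙ F) fun M => pF M.obj M.property
  let ff := ObjectProperty.fullyFaithfulι (SGA6.perfP X)
  haveI : S.Faithful := ⟨fun {A B f g} h => ff.map_injective (F.map_injective (congrArg ι.map h))⟩
  haveI : S.Full := ⟨fun {A B} g => ⟨ff.preimage (F.preimage (ι.map g)), ff.map_injective (by
    show F.map (ι.map (ff.preimage (F.preimage (ι.map g)))) = ι.map g
    rw [Functor.FullyFaithful.map_preimage, F.map_preimage])⟩⟩
  haveI : S.EssSurj := ⟨fun M => ⟨⟨(RHomNat.LT D).obj M.obj, perfect_LT hD pD M.property⟩,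
    ⟨ff.preimageIso ((η ≪≫ (ltIso hW).symm).app _ ≪≫ i₂.app M.obj)⟩⟩⟩
  haveI : S.IsEquivalence := { }
  have hsmul : ∀ {A B : DCoh.D X} (a : k) (f : A ⟶ B), F.map (a • f) = a • F.map f := fun a f => by
    rw [← cancel_mono (η.hom.app _), η.hom.naturality, leftT_map_smul hW, Linear.comp_smul, Linear.smul_comp,
      ← η.hom.naturality]
  have hlin : S.Linear k := ⟨fun {A B} f r => ff.map_injective (hsmul r (ι.map f))⟩
  choose P hP eP using fun M : (SGA6.perfP X).FullSubcategory => PullPerf.exists_kflat_rep M.obj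
  have pP : ∀ M, DCoh.IsPerfect (Q.obj (P M)) := fun M => PCTriangle.perfect_iso (eP M).some.symm M.property
  let e : ∀ M : (SGA6.perfP X).FullSubcategory, Q.obj (P M) ≅ M.obj := fun M => (eP M).some
  let tr' : ∀ {A B : (SGA6.perfP X).FullSubcategory}, (A ⟶ B) → (Q.obj (P A) ⟶ Q.obj (P B)) :=
    fun {A B} f => (e A).hom ≫ ι.map f ≫ (e B).inv
  let θ : ∀ A B : (SGA6.perfP X).FullSubcategory,
      (B ⟶ S.obj A) →ₗ[k] (Q.obj (P B) ⟶ (leftT hW).obj (Q.obj (P A))) := fun A B =>
    { toFun := fun h => (e B).hom ≫ ι.map h ≫ η.hom.app A.obj ≫ (leftT hW).map (e A).inv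
      map_add' := fun h h' => by rw [Functor.map_add, Preadditive.add_comp, Preadditive.comp_add]
      map_smul' := fun a h => by
        rw [show ι.map (a • h) = a • ι.map h from rfl, Linear.smul_comp, Linear.comp_smul, RingHom.id_apply] }
  let c : ∀ A B : (SGA6.perfP X).FullSubcategory, (A ⟶ B) →ₗ[k] Module.Dual k (B ⟶ S.obj A) := fun A B =>
    { toFun := fun f => (pair hW T (hP B) (pP B) (P A) (tr' f)).comp (θ A B)
      map_add' := fun f g => by
        simp only [tr', Functor.map_add, Preadditive.add_comp, Preadditive.comp_add, map_add, LinearMap.add_comp]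
      map_smul' := fun a f => by
        simp only [tr', show ι.map (a • f) = a • ι.map f from rfl, Linear.smul_comp, Linear.comp_smul, map_smul,
          LinearMap.smul_comp, RingHom.id_apply] }
  have hc : ∀ A B, Function.Bijective (c A B) := fun A B => by
    have ht : Function.Bijective (tr' (A := A) (B := B)) :=
      (e A).symm.homFromEquiv.bijective.comp ((e B).symm.homToEquiv.bijective.comp (ff.map_bijective A B))
    have hθ : Function.Bijective (θ A B) :=
      (e B).symm.homFromEquiv.bijective.comp ((η.app A.obj ≪≫ (leftT hW).mapIso (e A).symm).homToEquiv.bijective.comp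
        (ff.map_bijective B (S.obj A)))
    let θe := LinearEquiv.ofBijective (θ A B) hθ
    have hp := bijective_pair hW T pW hT (hP A) (pP A) (hP B) (pP B)
    refine ⟨fun f g h => ht.1 (hp.1 (LinearMap.ext fun x => ?_)), fun Λ => ?_⟩
    · obtain ⟨y, rfl⟩ := hθ.2 x
      exact LinearMap.congr_fun h y
    · obtain ⟨z, hz⟩ := hp.2 (Λ.comp θe.symm.toLinearMap)
      obtain ⟨f, rfl⟩ := ht.2 z
      exact ⟨f, LinearMap.ext fun y => (LinearMap.congr_fun hz (θe y)).trans (congrArg Λ (θe.symm_apply_apply y))⟩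
  refine ⟨⟨S.asEquivalence, hlin, fun A B => LinearEquiv.ofBijective (c A B) (hc A B),
    fun {A B B'} f g h => ?_, fun {A' A B} x f h => ?_⟩, ⟨Iso.refl _⟩⟩
  · show pair hW T _ _ _ (tr' (f ≫ g)) (θ A B' h) = pair hW T _ _ _ (tr' f) (θ A B (g ≫ h))
    have e₁ : tr' (f ≫ g) = tr' f ≫ tr' g := by simp [tr']
    have e₂ : θ A B (g ≫ h) = tr' g ≫ θ A B' h := by simp [θ, tr']
    rw [e₁, e₂, pair_comp hW T (hP B) (pP B) (hP B') (pP B')]
  · show pair hW T _ _ _ (tr' (x ≫ f)) (θ A' B h) = pair hW T _ _ _ (tr' f) (θ A B (h ≫ S.map x))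
    have e₁ : tr' (x ≫ f) = tr' x ≫ tr' f := by simp [tr']
    have e₂ : θ A B (h ≫ S.map x) = θ A' B h ≫ (leftT hW).map (tr' x) := by
      show (e B).hom ≫ ι.map (h ≫ S.map x) ≫ η.hom.app A.obj ≫ (leftT hW).map (e A).inv =
        ((e B).hom ≫ ι.map h ≫ η.hom.app A'.obj ≫ (leftT hW).map (e A').inv) ≫
          (leftT hW).map ((e A').hom ≫ ι.map x ≫ (e A).inv)
      have hn : F.map (ι.map x) ≫ η.hom.app A.obj = η.hom.app A'.obj ≫ (leftT hW).map (ι.map x) :=
        η.hom.naturality (ι.map x)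
      rw [ι.map_comp, show ι.map (S.map x) = F.map (ι.map x) from rfl]
      simp only [Category.assoc, Functor.map_comp]
      rw [reassoc_of% hn, ← (leftT hW).map_comp_assoc (e A').inv, Iso.inv_hom_id,
        CategoryTheory.Functor.map_id, Category.id_comp]
    rw [e₁, e₂, pair_precomp]

end Groth.Agent.DCat.SerreFunctor17
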