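import Groth.Agent.DCat.RHomBidual

/-!
# Naturality of the evaluation map in the left tensor factor
-/

set_option autoImplicit false
set_option backward.isDefEq.respectTransparency false
set_option backward.defeqAttrib.useBackward true
set_option linter.style.haveILetI false
set_option synthInstance.maxHeartbeats 100000

universe v v' w w' v₀ u₀ u

open CategoryTheory CategoryTheory.Limits AlgebraicGeometry HomologicalComplex
open Groth.Agent.ModStalk

attribute [local instance] HasDerivedCategory.standard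
attribute [-instance] Int.instConditionallyCompleteLinearOrder

namespace Groth.Agent.DCat.SerreLeft17

section Twist

variable {C : Type w} [Category.{v} C] {D : Type w'} [Category.{v'} D] (L : C ⥤ D) (W : MorphismProperty C)
  [L.IsLocalization W] {a a' b : C ⥤ C} (δ : a ⟶ a') {S S' B : D ⥤ D}
  (eS : L ⋙ S ≅ a ⋙ L) (eS' : L ⋙ S' ≅ a' ⋙ L) (eB : L ⋙ B ≅ b ⋙ L)
  (κ : a ⋙ b ≅ b ⋙ a) (κ' : a' ⋙ b ≅ b ⋙ a') (δh : S ⟶ S')

/-- The commutation is natural in the first functor. -/
theorem sigma_nat_left (hδ : ∀ c, δh.app (L.obj c) ≫ eS'.hom.app c = eS.hom.app c ≫ L.map (δ.app c))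
    (hκ : ∀ c, b.map (δ.app c) ≫ κ'.hom.app c = κ.hom.app c ≫ δ.app (b.obj c)) :
    Functor.whiskerRight δh B ≫ (AssocNat.sigma L W eS' eB κ').hom =
      (AssocNat.sigma L W eS eB κ).hom ≫ Functor.whiskerLeft B δh := by
  refine Localization.natTrans_ext L W fun c => ?_
  simp only [NatTrans.comp_app, Functor.whiskerLeft_app, Functor.whiskerRight_app, AssocNat.sigma_app,
    Category.assoc, Functor.comp_obj]
  rw [← B.map_comp_assoc, hδ, B.map_comp_assoc]
  have hn := eB.hom.naturality (δ.app c)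
  dsimp at hn
  rw [reassoc_of% hn, ← L.map_comp_assoc, hκ, L.map_comp_assoc]
  have hi : eS.inv.app (b.obj c) ≫ δh.app (L.obj (b.obj c)) = L.map (δ.app (b.obj c)) ≫ eS'.inv.app (b.obj c) := by
    rw [← cancel_mono (eS'.hom.app (b.obj c)), Category.assoc, hδ, Category.assoc, Iso.inv_hom_id_app,
      Iso.inv_hom_id_app_assoc]
    exact (Category.comp_id _).symm
  rw [δh.naturality, reassoc_of% hi]

end Twist

section Generic

variable {C₀ : Type u₀} [Category.{v₀} C₀] [Abelian C₀] (T : C₀ ⥤ C₀ ⥤ C₀) [T.Additive] [∀ a, (T.obj a).Additive]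
  [∀ (K₁ : CochainComplex C₀ ℤ) (K₂ : CochainComplex C₀ ℤ), CochainComplex.HasMapBifunctor K₁ K₂ T]

theorem commOf_nat₁ (α : bifunctorComp₁₂ T T ≅ bifunctorComp₂₃ T T)
    [∀ (A B C : CochainComplex C₀ ℤ), HasGoodTrifunctor₁₂Obj T T A B C (ComplexShape.up ℤ) (ComplexShape.up ℤ)]
    [∀ (A B C : CochainComplex C₀ ℤ),
      HasGoodTrifunctor₂₃Obj T T A B C (ComplexShape.up ℤ) (ComplexShape.up ℤ) (ComplexShape.up ℤ)]
    (Φ : CochainComplex C₀ ℤ ⥤ CochainComplex C₀ ℤ ⥤ CochainComplex C₀ ℤ)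
    (hΦ : Φ = T.map₂CochainComplex) {A A' : CochainComplex C₀ ℤ} (f : A ⟶ A') (C B : CochainComplex C₀ ℤ) :
    (Φ.flip.obj C).map ((Φ.map f).app B) ≫ (AssocNat.commOf T α Φ hΦ A' C).hom.app B =
      (AssocNat.commOf T α Φ hΦ A C).hom.app B ≫ (Φ.map f).app ((Φ.flip.obj C).obj B) := by
  subst hΦ
  have h := AssocNat.assoc_natural T α f (𝟙 B) (𝟙 C)
  have e : mapBifunctorMap (𝟙 B) (𝟙 C) T (ComplexShape.up ℤ) = 𝟙 ((T.map₂CochainComplex.obj B).obj C) :=
    (T.map₂CochainComplex.obj B).map_id C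
  rw [e] at h
  simp [AssocNat.commOf]
  exact h

/-- Symmetry, natural in both variables. -/
theorem exists_symm [T.flip.Additive] [∀ a, (T.flip.obj a).Additive]
    [∀ (K₁ : CochainComplex C₀ ℤ) (K₂ : CochainComplex C₀ ℤ), CochainComplex.HasMapBifunctor K₁ K₂ T.flip]
    (β : ∀ a b, (T.obj a).obj b ≅ (T.flip.obj a).obj b)
    (hβ₁ : ∀ {a a' : C₀} (f : a ⟶ a') (b : C₀), (T.map f).app b ≫ (β a' b).hom = (β a b).hom ≫ (T.flip.map f).app b)
    (hβ₂ : ∀ (a : C₀) {b b' : C₀} (g : b ⟶ b'), (T.obj a).map g ≫ (β a b').hom = (β a b).hom ≫ (T.flip.obj a).map g)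
    (Φ : CochainComplex C₀ ℤ ⥤ CochainComplex C₀ ℤ ⥤ CochainComplex C₀ ℤ) (hΦ : Φ = T.map₂CochainComplex) :
    ∃ e : ∀ K, Φ.flip.obj K ≅ Φ.obj K,
      ∀ (K K' : CochainComplex C₀ ℤ) (f : K ⟶ K'), Φ.flip.map f ≫ (e K').hom = (e K).hom ≫ Φ.map f := by
  subst hΦ
  exact ⟨fun K => NatIso.ofComponents (fun M => TotSymm.symmIso T β hβ₁ hβ₂ M K)
      fun {M M'} f => TotSymm.symmIso_natural T β hβ₁ hβ₂ f (𝟙 K),
    fun K K' f => NatTrans.ext (funext fun M => TotSymm.symmIso_natural T β hβ₁ hβ₂ (𝟙 M) f)⟩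

end Generic

variable {X : Scheme.{u}}

open RHomEval

theorem kappa_nat₁ {A A' : CochainComplex X.Modules ℤ} (f : A ⟶ A') (E B : CochainComplex X.Modules ℤ) :
    (rT E).map (((DCoh.tensorCx (X := X)).map f).app B) ≫ (kappa A' E).hom.app B =
      (kappa A E).hom.app B ≫ ((DCoh.tensorCx (X := X)).map f).app ((rT E).obj B) :=
  commOf_nat₁ (shT X) (TensorAssoc.associator X) (DCoh.tensorCx (X := X)) rfl f E B

/-- The symmetry of the tensor product of complexes. -/
noncomputable def symmCx (K : CochainComplex X.Modules ℤ) : rT K ≅ lT K :=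
  (exists_symm (shT X) TotSymm.braid (fun f b => TotSymm.braid_nat₁ f b) (fun a _ _ g => TotSymm.braid_nat₂ a g)
    (DCoh.tensorCx (X := X)) rfl).choose K

theorem symmCx_nat {K K' : CochainComplex X.Modules ℤ} (f : K ⟶ K') :
    (DCoh.tensorCx (X := X)).flip.map f ≫ (symmCx K').hom = (symmCx K).hom ≫ (DCoh.tensorCx (X := X)).map f :=
  (exists_symm (shT X) TotSymm.braid (fun f b => TotSymm.braid_nat₁ f b) (fun a _ _ g => TotSymm.braid_nat₂ a g)
    (DCoh.tensorCx (X := X)) rfl).choose_spec K K' f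

variable {A A' : CochainComplex X.Modules ℤ} (hA : IsKFlatFor (shT X) A) (hA' : IsKFlatFor (shT X) A')

local notation "qisX" => HomologicalComplex.quasiIso (Scheme.Modules X) (ComplexShape.up ℤ)

/-- `A ⊗^L -` is functorial in `A`. -/
noncomputable def leftMap (f : A ⟶ A') : leftT hA ⟶ leftT hA' :=
  letI : Localization.Lifting DerivedCategory.Q qisX (lT A ⋙ DerivedCategory.Q) (leftT hA) := ⟨leftTIso hA⟩
  letI : Localization.Lifting DerivedCategory.Q qisX (lT A' ⋙ DerivedCategory.Q) (leftT hA') := ⟨leftTIso hA'⟩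
  Localization.liftNatTrans DerivedCategory.Q qisX (lT A ⋙ DerivedCategory.Q) (lT A' ⋙ DerivedCategory.Q) _ _
    (Functor.whiskerRight ((DCoh.tensorCx (X := X)).map f) DerivedCategory.Q)

theorem leftMap_fac (f : A ⟶ A') (B : CochainComplex X.Modules ℤ) :
    (leftMap hA hA' f).app (DerivedCategory.Q.obj B) ≫ (leftTIso hA').hom.app B =
      (leftTIso hA).hom.app B ≫ DerivedCategory.Q.map (((DCoh.tensorCx (X := X)).map f).app B) := by
  simp [leftMap]

/-- `- ⊗^L A = A ⊗^L -`. -/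
noncomputable def ltIso : RHomNat.LT A ≅ leftT hA :=
  letI : Localization.Lifting DerivedCategory.Q qisX (rT A ⋙ DerivedCategory.Q) (RHomNat.LT A) := ⟨rTIso hA⟩
  letI : Localization.Lifting DerivedCategory.Q qisX (lT A ⋙ DerivedCategory.Q) (leftT hA) := ⟨leftTIso hA⟩
  Localization.liftNatIso DerivedCategory.Q qisX (rT A ⋙ DerivedCategory.Q) (lT A ⋙ DerivedCategory.Q) _ _
    (Functor.isoWhiskerRight (symmCx A) DerivedCategory.Q)

theorem ltIso_fac (B : CochainComplex X.Modules ℤ) :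
    (ltIso hA).hom.app (DerivedCategory.Q.obj B) ≫ (leftTIso hA).hom.app B =
      (rTIso hA).hom.app B ≫ DerivedCategory.Q.map ((symmCx A).hom.app B) := by
  simp [ltIso]

theorem ltIso_nat (f : A ⟶ A') :
    RHomNat.lhat f ≫ (ltIso hA').hom = (ltIso hA).hom ≫ leftMap hA hA' f := by
  refine Localization.natTrans_ext DerivedCategory.Q qisX fun B => ?_
  simp only [NatTrans.comp_app]
  rw [← cancel_mono ((leftTIso hA').hom.app B), Category.assoc, Category.assoc, ltIso_fac, leftMap_fac,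
    reassoc_of% (ltIso_fac hA B)]
  have h₁ := congr_app (rTIso_nat hA hA' f) B
  have h₂ := congr_app (symmCx_nat f) B
  simp only [NatTrans.comp_app, Functor.whiskerLeft_app, Functor.whiskerRight_app] at h₁ h₂
  rw [reassoc_of% h₁, ← Functor.map_comp, ← Functor.map_comp, h₂]

theorem sig_nat_left {E : CochainComplex X.Modules ℤ} (hE : IsKFlatFor (shT X) E) (f : A ⟶ A') :
    Functor.whiskerRight (leftMap hA hA' f) (RHomNat.LT E) ≫ (sig hA' hE).hom =
      (sig hA hE).hom ≫ Functor.whiskerLeft (RHomNat.LT E) (leftMap hA hA' f) :=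
  sigma_nat_left DerivedCategory.Q qisX ((DCoh.tensorCx (X := X)).map f) (leftTIso hA) (leftTIso hA') (rTIso hE)
    (kappa A E) (kappa A' E) (leftMap hA hA' f) (leftMap_fac hA hA' f) (kappa_nat₁ f E)

/-- The evaluation map is natural in the left factor. -/
theorem Phi_nat_left {E : CochainComplex X.Modules ℤ} (hE : IsKFlatFor (shT X) E) (f : A ⟶ A') (L : DCoh.D X) :
    (leftMap hA hA' f).app ((RHomNat.RH E).obj L) ≫ Phi hA' hE L =
      Phi hA hE L ≫ (RHomNat.RH E).map ((leftMap hA hA' f).app L) := by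
  refine ((RHomNat.adjE E).homEquiv _ _).symm.injective ?_
  rw [Adjunction.homEquiv_naturality_left_symm, Adjunction.homEquiv_naturality_right_symm, Phi, Phi,
    Equiv.symm_apply_apply, Equiv.symm_apply_apply, Category.assoc]
  have h := congr_app (sig_nat_left hA hA' hE f) ((RHomNat.RH E).obj L)
  simp only [NatTrans.comp_app, Functor.whiskerLeft_app, Functor.whiskerRight_app] at h
  rw [reassoc_of% h]
  exact congrArg (_ ≫ ·) ((leftMap hA hA' f).naturality _).symm

/-- The evaluation map is natural in the coefficient object. -/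
theorem Phi_nat_obj {E : CochainComplex X.Modules ℤ} (hE : IsKFlatFor (shT X) E) {L L' : DCoh.D X} (φ : L ⟶ L') :
    (leftT hA).map ((RHomNat.RH E).map φ) ≫ Phi hA hE L' =
      Phi hA hE L ≫ (RHomNat.RH E).map ((leftT hA).map φ) := by
  refine ((RHomNat.adjE E).homEquiv _ _).symm.injective ?_
  rw [tr_Phi, Adjunction.homEquiv_naturality_right_symm, Phi, Equiv.symm_apply_apply, Category.assoc,
    ← (leftT hA).map_comp]
  refine congrArg (_ ≫ ·) (congrArg (leftT hA).map ?_)
  rw [Adjunction.homEquiv_counit]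
  exact (RHomNat.adjE E).counit.naturality φ

/-- The unit object. -/
noncomputable def unitCx (A : CochainComplex X.Modules ℤ) :
    (lT A).obj ((single X.Modules (ComplexShape.up ℤ) 0).obj (Coh.structureModule X)) ≅ A :=
  (RHomLeft.nonempty_flip_single (DCoh.tensorCx (X := X)) rfl).some.app A

/-- `A ⊗^L O = A`. -/
noncomputable def leftUnit : (leftT hA).obj (RHomBidual.one X) ≅ DerivedCategory.Q.obj A :=
  (leftT hA).mapIso ((DerivedCategory.singleFunctorIsoCompQ X.Modules 0).app (Coh.structureModule X)) ≪≫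
    (leftTIso hA).app _ ≪≫ DerivedCategory.Q.mapIso (unitCx A)

theorem leftUnit_nat (f : A ⟶ A') :
    (leftMap hA hA' f).app (RHomBidual.one X) ≫ (leftUnit hA').hom =
      (leftUnit hA).hom ≫ DerivedCategory.Q.map f := by
  let S₀ := (single X.Modules (ComplexShape.up ℤ) 0).obj (Coh.structureModule X)
  have hu : ((DCoh.tensorCx (X := X)).map f).app S₀ ≫ (unitCx A').hom = (unitCx A).hom ≫ f :=
    (RHomLeft.nonempty_flip_single (DCoh.tensorCx (X := X)) rfl).some.hom.naturality f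
  simp only [leftUnit, Iso.trans_hom, Functor.mapIso_hom, Iso.app_hom, Category.assoc]
  rw [← (leftMap hA hA' f).naturality_assoc]
  refine congrArg (_ ≫ ·) ?_
  rw [← Category.assoc ((leftMap hA hA' f).app _)]
  refine (congrArg (· ≫ _) (leftMap_fac hA hA' f S₀)).trans ?_
  rw [Category.assoc, ← Functor.map_comp, ← Functor.map_comp, hu]
  rfl

end Groth.Agent.DCat.SerreLeft17
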