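import Groth.Agent.DualLib.FieldFunctional
import Groth.Agent.DualLib.RingBase
import Groth.Agent.DCat.RelEquivBC
import Groth.Agent.DCat.PullPush
import Groth.Agent.DQCoh.Push

/-!
# The duality pairing of a proper scheme over a field
-/

set_option autoImplicit false
set_option backward.isDefEq.respectTransparency false
set_option backward.defeqAttrib.useBackward true
set_option linter.style.haveILetI false

universe u

open CategoryTheory CategoryTheory.Limits CategoryTheory.Pretriangulated AlgebraicGeometry Opposite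
open Groth.Agent.Coherent Groth.Agent.DCat

attribute [local instance] HasDerivedCategory.standard
attribute [-instance] Int.instConditionallyCompleteLinearOrder

namespace Groth.Agent.DCat.SerrePairing17

variable (k : Type u) [Field k]


/-- `O` of the point. -/
noncomputable abbrev P₀ : DCoh.D (Spec (CommRingCat.of k)) :=
  DCoh.inD (Spec (CommRingCat.of k)) (Coh.structureModule (Spec (CommRingCat.of k)))

/-- `O` of the point is the free module on the whole space. -/
noncomputable def isoPS : P₀ k ≅ DualLib.RingBase.PS k :=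
  (DerivedCategory.singleFunctor _ 0).mapIso (DQCoh.topIso (CommRingCat.of k) ≪≫ tildeSelf).symm

/-- Scalars are the endomorphisms of `O`. -/
theorem bijective_smul_P₀ : Function.Bijective fun r : k => r • 𝟙 (P₀ k) := by
  have h := ((isoPS k).symm.homCongr (isoPS k).symm).bijective.comp (DualLib.RingBase.bijective_smul_PS (R := k))
  convert h using 1
  funext r
  simp [Iso.homCongr, Linear.smul_comp, Linear.comp_smul]

/-- The scalar of an endomorphism of `O`. -/
noncomputable def scalar : (P₀ k ⟶ P₀ k) →ₗ[k] k :=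
  (LinearEquiv.ofBijective (LinearMap.toSpanSingleton k (P₀ k ⟶ P₀ k) (𝟙 (P₀ k))) (bijective_smul_P₀ k)).symm.toLinearMap

theorem scalar_spec (e : P₀ k ⟶ P₀ k) : scalar k e • 𝟙 (P₀ k) = e :=
  (LinearEquiv.ofBijective (LinearMap.toSpanSingleton k (P₀ k ⟶ P₀ k) (𝟙 (P₀ k)))
    (bijective_smul_P₀ k)).apply_symm_apply e

/-- Linear maps from functors which are linear on maps. -/
noncomputable def mapLin {R : Type u} [CommRing R] {C D : Type*} [Category C] [Category D] [Preadditive C]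
    [Preadditive D] [Linear R C] [Linear R D] (F : C ⥤ D) [F.Additive]
    (hF : ∀ {A B : C} (a : R) (x : A ⟶ B), F.map (a • x) = a • F.map x) {A B : C} {P Q : D} (u : P ⟶ F.obj A)
    (ε : F.obj B ⟶ Q) : (A ⟶ B) →ₗ[R] (P ⟶ Q) where
  toFun x := u ≫ F.map x ≫ ε
  map_add' x y := by rw [Functor.map_add, Preadditive.add_comp, Preadditive.comp_add]
  map_smul' a x := by rw [hF, Linear.smul_comp, Linear.comp_smul, RingHom.id_apply]

variable [PreservesFiniteLimits (tilde.functor (CommRingCat.of k))]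

/-- Linear forms on sections come from maps to `O`. -/
theorem exists_functional (G : DCoh.D (Spec (CommRingCat.of k))) (hG : DCoh.IsQCohD G) (L : (P₀ k ⟶ G) →ₗ[k] k) :
    ∃ φ : G ⟶ P₀ k, ∀ x : P₀ k ⟶ G, x ≫ φ = L x • 𝟙 (P₀ k) := by
  obtain ⟨φ, hφ⟩ := DualLib.FieldFun.exists_functional (k := k) G hG
    (L.comp (Linear.leftComp k G (isoPS k).hom))
  refine ⟨φ ≫ (isoPS k).inv, fun x => ?_⟩
  have h : ((isoPS k).inv ≫ x) ≫ φ =
      L ((isoPS k).hom ≫ (isoPS k).inv ≫ x) • 𝟙 _ := hφ ((isoPS k).inv ≫ x)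
  rw [Iso.hom_inv_id_assoc, Category.assoc, ← cancel_epi (isoPS k).hom, Iso.hom_inv_id_assoc] at h
  rw [← Category.assoc, h, Linear.comp_smul, Category.comp_id, Linear.smul_comp, Iso.hom_inv_id]

/-- A map to `O` killed by all sections vanishes. -/
theorem eq_zero_of_sections (G : DCoh.D (Spec (CommRingCat.of k))) (hG : DCoh.IsQCohD G) (ψ : G ⟶ P₀ k)
    (h : ∀ x : P₀ k ⟶ G, x ≫ ψ = 0) : ψ = 0 := by
  obtain ⟨C, g, δ, hT⟩ := distinguished_cocone_triangle ψ
  have hC : DCoh.IsQCohD C := DQCoh.isQCohD_obj₃ hT hG (RelEquivBC.isQCohD_inD_structure _)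
  have hne : (𝟙 (P₀ k)) ≠ 0 := fun h0 =>
    one_ne_zero ((bijective_smul_P₀ k).1 (show (1 : k) • 𝟙 (P₀ k) = (0 : k) • 𝟙 (P₀ k) by rw [h0, smul_zero, smul_zero]))
  have hg : g ≠ 0 := fun h0 => by
    obtain ⟨x, hx⟩ := Triangle.coyoneda_exact₂ _ hT (𝟙 (P₀ k)) (show 𝟙 (P₀ k) ≫ g = 0 by rw [h0, comp_zero])
    exact hne (hx.trans (h x))
  obtain ⟨L, hL⟩ : ∃ L : Module.Dual k (P₀ k ⟶ C), L g ≠ 0 :=
    not_forall.1 fun h0 => hg ((Module.forall_dual_apply_eq_zero_iff k g).1 h0)
  obtain ⟨φ, hφ⟩ := exists_functional k C hC L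
  have h1 : (ψ ≫ g) ≫ φ = 0 := by
    rw [show ψ ≫ g = 0 from comp_distTriang_mor_zero₁₂ _ hT, zero_comp]
  rw [Category.assoc, hφ, Linear.comp_smul, Category.comp_id] at h1
  exact (smul_eq_zero.1 h1).resolve_left hL

section Scheme

variable {k} {X : Scheme.{u}} [X.Over (Spec (CommRingCat.of k))] [IsProper (X ↘ (Spec (CommRingCat.of k)))] [DCoh.HasRpush (X ↘ (Spec (CommRingCat.of k)))]
  (hq : DCoh.RpushPreservesQCoh (X ↘ (Spec (CommRingCat.of k)))) [DCoh.HasShriek (X ↘ (Spec (CommRingCat.of k))) hq]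
  (OY : DCoh.DQCoh (Spec (CommRingCat.of k))) (hOY : OY.obj ≅ P₀ k)

include hOY in
/-- Trace and duality: a linear form `T` on `Hom(O, f^!k)` making composition a perfect pairing. -/
theorem exists_trace (W : DCoh.D X) (hW : W ≅ DCoh.dualizingCx (X ↘ (Spec (CommRingCat.of k))) hq OY) :
    ∃ T : (DCoh.inD X (Coh.structureModule X) ⟶ W) →ₗ[k] k,
      ∀ Y : DCoh.D X, DCoh.IsQCohD Y →
        Function.Bijective fun φ : Y ⟶ W => T.comp (Linear.rightComp k (DCoh.inD X (Coh.structureModule X)) φ) := by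
  let f := X ↘ (Spec (CommRingCat.of k))
  let R := DCoh.Rpush f
  haveI : f.IsOver (Spec (CommRingCat.of k)) := DualLib.RingBase.isOver_str (R := k) (X := X)
  haveI : R.Additive := DualLib.RingBase.additive_Rpush (R := k) (X := X)
  haveI := hasLpull f
  obtain ⟨ap⟩ := nonempty_pullPushAdj f
  obtain ⟨c⟩ := RelEquivBC.nonempty_Lpull_inD_structure f
  let A := DCoh.shriekAdj f hq
  let ε : R.obj W ⟶ P₀ k := R.map hW.hom ≫ (A.counit.app OY).hom ≫ hOY.hom
  let u := ap.homEquiv _ _ c.hom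
  let T : (DCoh.inD X (Coh.structureModule X) ⟶ W) →ₗ[k] k :=
    (scalar k).comp (mapLin (R := k) R (fun a x => DualLib.RingBase.map_smul_Rpush (R := k) (X := X) a x) u ε)
  refine ⟨T, fun Y hY => ?_⟩
  let G := R.obj Y
  have hG : DCoh.IsQCohD G := hq Y hY
  let Yq : DCoh.DQCoh X := ⟨Y, hY⟩
  let τ : (DCoh.inD X (Coh.structureModule X) ⟶ Y) → (P₀ k ⟶ G) := fun x => u ≫ R.map x
  have hτ : Function.Bijective τ := by
    have e : τ = (ap.homEquiv _ Y) ∘ fun x => c.hom ≫ x := funext fun x => (ap.homEquiv_naturality_right c.hom x).symm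
    exact e ▸ (ap.homEquiv _ _).bijective.comp c.symm.homFromEquiv.bijective
  let ρ : (Y ⟶ W) → (G ⟶ P₀ k) := fun φ => R.map φ ≫ ε
  have hρ : Function.Bijective ρ := by
    let F := ObjectProperty.fullyFaithfulι (DCoh.IsQCohD (X := X))
    let F' := ObjectProperty.fullyFaithfulι (DCoh.IsQCohD (X := (Spec (CommRingCat.of k))))
    let ω : DCoh.DQCoh X := (DCoh.shriek f hq).obj OY
    have e : ρ = (fun m : G ⟶ OY.obj => m ≫ hOY.hom) ∘ (fun m => m.hom) ∘ (A.homEquiv Yq OY).symm ∘
        (F.homEquiv (X := Yq) (Y := ω)).symm ∘ fun φ => φ ≫ hW.hom := by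
      funext φ
      simp only [Function.comp_apply, Adjunction.homEquiv_counit, ρ, ε]
      show _ = (R.map (φ ≫ hW.hom) ≫ (A.counit.app OY).hom) ≫ hOY.hom
      rw [Functor.map_comp, Category.assoc, Category.assoc]
    rw [e]
    exact hOY.homToEquiv.bijective.comp ((F'.homEquiv (X := (DCoh.RpushQ f hq).obj Yq) (Y := OY)).bijective.comp
      ((Equiv.bijective _).comp ((Equiv.bijective _).comp hW.homToEquiv.bijective)))
  have key : ∀ (φ : Y ⟶ W) (x : DCoh.inD X (Coh.structureModule X) ⟶ Y),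
      T (x ≫ φ) = scalar k (τ x ≫ ρ φ) := fun φ x => by
    show scalar k (u ≫ R.map (x ≫ φ) ≫ ε) = _
    simp only [τ, ρ, Functor.map_comp, Category.assoc]
  refine ⟨fun φ φ' h => hρ.1 ?_, fun L => ?_⟩
  · rw [← sub_eq_zero]
    refine eq_zero_of_sections k G hG _ fun x => ?_
    obtain ⟨x, rfl⟩ := hτ.2 x
    have hx : T (x ≫ φ) = T (x ≫ φ') := LinearMap.congr_fun h x
    rw [key, key] at hx
    rw [Preadditive.comp_sub, ← scalar_spec k (τ x ≫ ρ φ), ← scalar_spec k (τ x ≫ ρ φ'), hx, sub_self]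
  · let τl : (DCoh.inD X (Coh.structureModule X) ⟶ Y) ≃ₗ[k] (P₀ k ⟶ G) :=
      LinearEquiv.ofBijective
        { toFun := τ
          map_add' := fun x y => by simp only [τ, Functor.map_add, Preadditive.comp_add]
          map_smul' := fun a x => by
            show u ≫ R.map (a • x) = a • (u ≫ R.map x)
            rw [show R.map (a • x) = a • R.map x from DualLib.RingBase.map_smul_Rpush (R := k) (X := X) a x,
              Linear.comp_smul] } hτ
    obtain ⟨ψ, hψ⟩ := exists_functional k G hG (L.comp τl.symm.toLinearMap)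
    obtain ⟨φ, rfl⟩ := hρ.2 ψ
    refine ⟨φ, LinearMap.ext fun x => ?_⟩
    show T (x ≫ φ) = L x
    rw [key, hψ]
    refine (bijective_smul_P₀ k).1 ?_
    show scalar k _ • 𝟙 (P₀ k) = L x • 𝟙 (P₀ k)
    rw [scalar_spec]
    exact congrArg (fun y => L y • 𝟙 (P₀ k)) (τl.symm_apply_apply x)

end Scheme

end Groth.Agent.DCat.SerrePairing17
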