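import Groth.Agent.DCat.SerreLeft17
import Groth.Agent.DCat.SerrePairing17
import Groth.Agent.DCat.PerfTensor
import Groth.Agent.DualLib.EndIso

/-!
# The trace on perfect complexes and the nondegeneracy of the Serre pairing
-/

set_option autoImplicit false
set_option backward.isDefEq.respectTransparency false
set_option backward.defeqAttrib.useBackward true
set_option linter.style.haveILetI false
set_option synthInstance.maxHeartbeats 100000

universe u

open CategoryTheory CategoryTheory.Limits AlgebraicGeometry HomologicalComplex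
open Groth.Agent.ModStalk

attribute [local instance] HasDerivedCategory.standard
attribute [-instance] Int.instConditionallyCompleteLinearOrder

namespace Groth.Agent.DCat.SerreTrace17

open RHomEval SerreLeft17 RHomBidual

variable {X : Scheme.{u}}

open DerivedCategory (Q)

theorem bijective_Psi {K : CochainComplex X.Modules ℤ} (hK : IsKFlatFor (shT X) K)
    (hp : DCoh.IsPerfect (Q.obj K)) (T : DCoh.D X) : Function.Bijective (Psi K T) := by
  obtain ⟨D, hD, ⟨eD⟩⟩ := PullPerf.exists_kflat_rep (dual K)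
  obtain ⟨e₁⟩ := TotSymm.nonempty_LTD_flip hD
  obtain ⟨e₂⟩ := TotSymm.nonempty_LT_leftT hD
  let φ : RHomNat.LT D ≅ (TotSymm.LTD (X := X)).flip.obj (dual K) :=
    e₂ ≪≫ e₁.symm ≪≫ (TotSymm.LTD (X := X)).flip.mapIso eD
  let Θ : ∀ T : DCoh.D X, (T ⟶ Q.obj K) → (T ⟶ dual D) := fun T y =>
    (RHomNat.adjE D).homEquiv T (one X) (φ.hom.app T ≫ Psi K T y)
  let ev := Θ _ (𝟙 (Q.obj K))
  have hΘ : ∀ (T : DCoh.D X) (y : T ⟶ Q.obj K), Θ T y = y ≫ ev := fun T y => by
    have h := φ.hom.naturality y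
    simp only [ev, Θ]
    rw [← Adjunction.homEquiv_naturality_left, reassoc_of% h, ← Psi_comp, Category.comp_id]
  haveI : IsIso ev := by
    refine ProjPerf.isIso_of_locally _ fun x => ?_
    obtain ⟨V, C, a, m, hxV, h₁, h₂, hfree, ⟨e⟩⟩ := ProjPerf.exists_free_nhd hp x
    refine ⟨V, hxV, isIso_rd_of_shriek V.ι _ fun N hN => ?_⟩
    have hG := bidU_of_bounded V.ι C a m h₁ h₂ hfree
    obtain ⟨J, g₁, g₂, hJ, q₁, q₂⟩ := exists_zigzag V e
    have gC : Bid V.ι ((ShriekTot.shriekC V.ι).obj C) := (bid_qis V.ι ((shiftFunctorZero _ ℤ).app _).hom).1 (hG.2 0)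
    have kC := ShriekTensor.isKFlatFor_restr V.ι (ShriekTot.isKFlatFor_shriek V.ι hG.1)
    have kJ := ShriekTensor.isKFlatFor_restr V.ι hJ
    haveI := q₁
    haveI := q₂
    have gK : Bid V.ι K := (bid_restrict_iff V.ι g₂ kJ (ShriekTensor.isKFlatFor_restr V.ι hK)).1
      ((bid_restrict_iff V.ι g₁ kJ kC).2 gC)
    let T' := Q.obj ((ShriekTot.shriekC V.ι).obj N)
    have k : (fun y : T' ⟶ Q.obj K => y ≫ ev) =
        (RHomNat.adjE D).homEquiv T' (one X) ∘ (φ.app T').symm.homFromEquiv ∘ Psi K T' := funext fun y => by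
      rw [← hΘ]
      rfl
    rw [k]
    exact (Equiv.bijective _).comp ((Equiv.bijective _).comp (gK N hN))
  have k : ⇑(Psi K T) = (φ.app T).homFromEquiv ∘ ((RHomNat.adjE D).homEquiv T (one X)).symm ∘
      fun y : T ⟶ Q.obj K => y ≫ ev := funext fun y => by
    simp only [Function.comp_apply]
    rw [← hΘ]
    simp only [Θ, Equiv.symm_apply_apply]
    exact ((φ.app T).inv_hom_id_assoc _).symm
  rw [k]
  exact (Equiv.bijective _).comp ((Equiv.bijective _).comp (asIso ev).homToEquiv.bijective)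

variable {K K' L L' : CochainComplex X.Modules ℤ}

/-- `D_L ⊗ K → RHom(L, K)`. -/
noncomputable def omega (hK : IsKFlatFor (shT X) K) (hL : IsKFlatFor (shT X) L) :
    (TotSymm.LTD.obj (Q.obj K)).obj (dual L) ⟶ (RHomNat.RH L).obj (Q.obj K) :=
  (TotSymm.LTDIso.app K).hom.app (dual L) ≫ (ltIso hK).hom.app (dual L) ≫ Phi hK hL (one X) ≫
    (RHomNat.RH L).map (leftUnit hK).hom

theorem isIso_omega (hK : IsKFlatFor (shT X) K) (hL : IsKFlatFor (shT X) L) (pL : DCoh.IsPerfect (Q.obj L)) :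
    IsIso (omega hK hL) := by
  haveI := isIso_Phi hK hL pL (one X)
  unfold omega
  infer_instance

theorem omega_nat₁ (hK : IsKFlatFor (shT X) K) (hK' : IsKFlatFor (shT X) K') (hL : IsKFlatFor (shT X) L)
    (t : K ⟶ K') :
    (TotSymm.LTD.map (Q.map t)).app (dual L) ≫ omega hK' hL = omega hK hL ≫ (RHomNat.RH L).map (Q.map t) := by
  have h₁ := congr_app ((TotSymm.LTDIso (X := X)).hom.naturality t) (dual L)
  have h₂ := congr_app (ltIso_nat hK hK' t) (dual L)
  simp only [Functor.comp_map, NatTrans.comp_app, TotSymm.lhatF] at h₁ h₂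
  simp only [omega, Category.assoc, Iso.app_hom]
  rw [reassoc_of% h₁, reassoc_of% h₂, reassoc_of% (Phi_nat_left hK hK' hL t (one X)), ← Functor.map_comp,
    ← Functor.map_comp, leftUnit_nat]

theorem omega_nat₂ (hK : IsKFlatFor (shT X) K) (hL : IsKFlatFor (shT X) L) (hL' : IsKFlatFor (shT X) L')
    (g : L ⟶ L') :
    omega hK hL' ≫ (RHomNat.rhat g).app (Q.obj K) =
      (TotSymm.LTD.obj (Q.obj K)).map ((RHomNat.rhat g).app (one X)) ≫ omega hK hL := by
  let r := (RHomNat.rhat g).app (one X)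
  have h₁ := ((TotSymm.LTDIso (X := X)).app K).hom.naturality r
  have h₂ := (ltIso hK).hom.naturality r
  have h₃ := (RHomNat.rhat g).naturality (leftUnit hK).hom
  simp only [omega, Category.assoc]
  rw [h₃, ← reassoc_of% (Phi_nat hK hL hL' g (one X)), ← reassoc_of% h₂]
  erw [← reassoc_of% h₁]

/-- The trace `RHom(L, L) → O`. -/
noncomputable def tr (hL : IsKFlatFor (shT X) L) (pL : DCoh.IsPerfect (Q.obj L)) :
    (RHomNat.RH L).obj (Q.obj L) ⟶ one X :=
  haveI := isIso_omega hL hL pL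
  inv (omega hL hL) ≫ Psi L (Q.obj L) (𝟙 (Q.obj L))

theorem omega_tr (hK : IsKFlatFor (shT X) K) (hL : IsKFlatFor (shT X) L) (pL : DCoh.IsPerfect (Q.obj L))
    (f : Q.obj K ⟶ Q.obj L) :
    omega hK hL ≫ (RHomNat.RH L).map f ≫ tr hL pL = Psi L (Q.obj K) f := by
  obtain ⟨Z, s, hs, t, rfl⟩ := DerivedCategory.right_fac f
  haveI := hs
  obtain ⟨N, c, hN, -, hc, -⟩ := exists_kflat_sheaf Z
  haveI : IsIso (Q.map c) := (DerivedCategory.isIso_Q_map_iff_quasiIso _ c).2 hc
  have key : ∀ v : N ⟶ L, omega hN hL ≫ (RHomNat.RH L).map (Q.map v) ≫ tr hL pL = Psi L _ (Q.map v) := fun v => by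
    haveI := isIso_omega hL hL pL
    rw [← reassoc_of% (omega_nat₁ hN hL hL v), tr, IsIso.hom_inv_id_assoc]
    refine Eq.trans ?_ (congrArg (Psi L _) (Category.comp_id (Q.map v)))
    exact (Psi_comp (Q.map v) (𝟙 (Q.obj L))).symm
  haveI : IsIso (((TotSymm.LTD (X := X)).flip.obj (dual L)).map (Q.map (c ≫ s))) := by
    rw [Q.map_comp]; infer_instance
  rw [← cancel_epi (((TotSymm.LTD (X := X)).flip.obj (dual L)).map (Q.map (c ≫ s))), ← Psi_comp]
  have e : Q.map (c ≫ s) ≫ inv (Q.map s) ≫ Q.map t = Q.map (c ≫ t) := by simp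
  rw [e, Functor.flip_obj_map, reassoc_of% (omega_nat₁ hN hK hL (c ≫ s)), ← Functor.map_comp_assoc, e, key]

/-- Composition with the trace is a perfect pairing. -/
theorem bijective_tr (hK : IsKFlatFor (shT X) K) (hL : IsKFlatFor (shT X) L) (pL : DCoh.IsPerfect (Q.obj L)) :
    Function.Bijective fun f : Q.obj K ⟶ Q.obj L => (RHomNat.RH L).map f ≫ tr hL pL := by
  haveI := isIso_omega hK hL pL
  have e : (fun f : Q.obj K ⟶ Q.obj L => (RHomNat.RH L).map f ≫ tr hL pL) =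
      (asIso (omega hK hL)).homFromEquiv ∘ Psi L (Q.obj K) := funext fun f => by
    rw [Function.comp_apply, ← omega_tr hK hL pL f]
    exact ((asIso (omega hK hL)).inv_hom_id_assoc _).symm
  rw [e]
  exact (Equiv.bijective _).comp (bijective_Psi hL pL _)

/-- The trace is dinatural. -/
theorem tr_nat (hL : IsKFlatFor (shT X) L) (pL : DCoh.IsPerfect (Q.obj L)) (hL' : IsKFlatFor (shT X) L')
    (pL' : DCoh.IsPerfect (Q.obj L')) (g : L ⟶ L') :
    (RHomNat.rhat g).app (Q.obj L) ≫ tr hL pL = (RHomNat.RH L').map (Q.map g) ≫ tr hL' pL' := by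
  haveI := isIso_omega hL hL' pL'
  haveI := isIso_omega hL hL pL
  rw [← cancel_epi (omega hL hL'), omega_tr hL hL' pL', reassoc_of% (omega_nat₂ hL hL hL' g), tr,
    IsIso.hom_inv_id_assoc, ← Psi_nat g, Category.id_comp]

section Pairing

variable {W : CochainComplex X.Modules ℤ} (hW : IsKFlatFor (shT X) W)

/-- `L ⊗ O = L`. -/
noncomputable def unitIso (hL : IsKFlatFor (shT X) L) : (RHomNat.LT L).obj (one X) ≅ Q.obj L :=
  (ltIso hL).app (one X) ≪≫ leftUnit hL

/-- `Hom(L, M) → Hom(O, RHom(L, M))`. -/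
noncomputable def tp (hL : IsKFlatFor (shT X) L) {M : DCoh.D X} (u : Q.obj L ⟶ M) : one X ⟶ (RHomNat.RH L).obj M :=
  (RHomNat.adjE L).homEquiv (one X) M ((unitIso hL).hom ≫ u)

theorem bijective_tp (hL : IsKFlatFor (shT X) L) (M : DCoh.D X) : Function.Bijective (tp hL (M := M)) :=
  ((RHomNat.adjE L).homEquiv _ _).bijective.comp (unitIso hL).symm.homFromEquiv.bijective

theorem tp_nat (hL : IsKFlatFor (shT X) L) {M N : DCoh.D X} (u : Q.obj L ⟶ M) (v : M ⟶ N) :
    tp hL (u ≫ v) = tp hL u ≫ (RHomNat.RH L).map v := by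
  rw [tp, tp, ← Category.assoc, Adjunction.homEquiv_naturality_right]

theorem tp_pre (hL : IsKFlatFor (shT X) L) (hL' : IsKFlatFor (shT X) L') (g : L ⟶ L') {M : DCoh.D X}
    (u : Q.obj L' ⟶ M) : tp hL (Q.map g ≫ u) = tp hL' u ≫ (RHomNat.rhat g).app M := by
  refine ((RHomNat.adjE L).homEquiv _ _).symm.injective ?_
  rw [RHomNat.tr_rhat, tp, tp, Equiv.symm_apply_apply, Equiv.symm_apply_apply]
  have h₁ := congr_app (ltIso_nat hL hL' g) (one X)
  simp only [NatTrans.comp_app] at h₁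
  simp only [unitIso, Iso.trans_hom, Iso.app_hom, Category.assoc]
  rw [reassoc_of% h₁, reassoc_of% (leftUnit_nat hL hL' g)]

/-- The functional `Hom(L, W ⊗ L) → Hom(O, W)`. -/
noncomputable def trW (hL : IsKFlatFor (shT X) L) (pL : DCoh.IsPerfect (Q.obj L))
    (u : Q.obj L ⟶ (leftT hW).obj (Q.obj L)) : one X ⟶ Q.obj W :=
  haveI := isIso_Phi hW hL pL (Q.obj L)
  tp hL u ≫ inv (Phi hW hL (Q.obj L)) ≫ (leftT hW).map (tr hL pL) ≫ (leftUnit hW).hom

/-- The trace property for maps of complexes. -/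
theorem trW_nat (hL : IsKFlatFor (shT X) L) (pL : DCoh.IsPerfect (Q.obj L)) (hL' : IsKFlatFor (shT X) L')
    (pL' : DCoh.IsPerfect (Q.obj L')) (g : L ⟶ L') (u : Q.obj L' ⟶ (leftT hW).obj (Q.obj L)) :
    trW hW hL pL (Q.map g ≫ u) = trW hW hL' pL' (u ≫ (leftT hW).map (Q.map g)) := by
  haveI := isIso_Phi hW hL pL (Q.obj L)
  haveI := isIso_Phi hW hL' pL' (Q.obj L)
  haveI := isIso_Phi hW hL' pL' (Q.obj L')
  have h₁ : (RHomNat.rhat g).app ((leftT hW).obj (Q.obj L)) ≫ inv (Phi hW hL (Q.obj L)) =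
      inv (Phi hW hL' (Q.obj L)) ≫ (leftT hW).map ((RHomNat.rhat g).app (Q.obj L)) := by
    rw [IsIso.comp_inv_eq, Category.assoc, IsIso.eq_inv_comp, Phi_nat]
  have h₂ : (RHomNat.RH L').map ((leftT hW).map (Q.map g)) ≫ inv (Phi hW hL' (Q.obj L')) =
      inv (Phi hW hL' (Q.obj L)) ≫ (leftT hW).map ((RHomNat.RH L').map (Q.map g)) := by
    rw [IsIso.comp_inv_eq, Category.assoc, IsIso.eq_inv_comp, Phi_nat_obj]
  simp only [trW, tp_pre hL hL', tp_nat, Category.assoc]
  rw [reassoc_of% h₁, reassoc_of% h₂, ← Functor.map_comp_assoc, ← Functor.map_comp_assoc, tr_nat hL pL hL' pL']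

/-- The trace property. -/
theorem trW_comm (hL : IsKFlatFor (shT X) L) (pL : DCoh.IsPerfect (Q.obj L)) (hL' : IsKFlatFor (shT X) L')
    (pL' : DCoh.IsPerfect (Q.obj L')) (e : Q.obj L ⟶ Q.obj L') (u : Q.obj L' ⟶ (leftT hW).obj (Q.obj L)) :
    trW hW hL pL (e ≫ u) = trW hW hL' pL' (u ≫ (leftT hW).map e) := by
  obtain ⟨Z, s, hs, t, rfl⟩ := DerivedCategory.right_fac e
  haveI := hs
  obtain ⟨N, c, hN, -, hc, -⟩ := exists_kflat_sheaf Z
  haveI : IsIso (Q.map c) := (DerivedCategory.isIso_Q_map_iff_quasiIso _ c).2 hc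
  haveI hcs : IsIso (Q.map (c ≫ s)) := by rw [Q.map_comp]; infer_instance
  have pN : DCoh.IsPerfect (Q.obj N) := PCTriangle.perfect_iso (asIso (Q.map (c ≫ s))).symm pL
  have e' : inv (Q.map s) ≫ Q.map t = inv (Q.map (c ≫ s)) ≫ Q.map (c ≫ t) := by simp
  rw [e']
  have h := trW_nat hW hN pN hL pL (c ≫ s)
    ((inv (Q.map (c ≫ s)) ≫ Q.map (c ≫ t) ≫ u) ≫ inv ((leftT hW).map (Q.map (c ≫ s))))
  simp only [Category.assoc, IsIso.inv_hom_id, Category.comp_id, IsIso.hom_inv_id_assoc] at h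
  rw [Category.assoc, ← h, trW_nat hW hN pN hL' pL' (c ≫ t), Category.assoc, (leftT hW).map_comp, Functor.map_inv]

end Pairing

end Groth.Agent.DCat.SerreTrace17
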