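import Mathlib.CategoryTheory.Abelian.GrothendieckCategory.Basic
import Mathlib.CategoryTheory.Abelian.Subobject
import Mathlib.CategoryTheory.Generator.Basic
import Mathlib.CategoryTheory.Limits.Shapes.Products
import Mathlib.CategoryTheory.Subobject.Limits
import Mathlib.CategoryTheory.Abelian.GrothendieckAxioms.Connected
import Mathlib.CategoryTheory.Abelian.GrothendieckCategory.Subobject

/-! Objects generated by a family of maps from a generator indexed by a small type. -/

set_option autoImplicit false
set_option backward.isDefEq.respectTransparency false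
set_option backward.defeqAttrib.useBackward true

universe w v u

open CategoryTheory CategoryTheory.Limits

namespace Groth.Agent.DCat

variable {C : Type u} [Category.{v} C] [Abelian C]

/-- `Y` receives a jointly epimorphic family of maps from `G` indexed by `K`. -/
def Gen (G : C) (K : Type w) (Y : C) : Prop :=
  ∃ g : K → (G ⟶ Y), ∀ ⦃Z : C⦄ (h : Y ⟶ Z), (∀ k, g k ≫ h = 0) → h = 0

lemma Gen.of_epi {G : C} {K : Type w} {Y Y' : C} (hY : Gen G K Y) (f : Y ⟶ Y') [Epi f] :
    Gen G K Y' := by
  obtain ⟨g, hg⟩ := hY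
  refine ⟨fun k => g k ≫ f, fun Z h hh => ?_⟩
  rw [← cancel_epi f, comp_zero]
  exact hg _ (fun k => by simpa using hh k)

lemma Gen.exists_epi [HasCoproducts.{w} C] {G : C} {K : Type w} {Y : C} (hY : Gen G K Y) :
    ∃ q : (∐ fun _ : K => G) ⟶ Y, Epi q := by
  obtain ⟨g, hg⟩ := hY
  exact ⟨Sigma.desc g, Preadditive.epi_of_cancel_zero _ fun h hh =>
    hg h fun k => by simpa using Sigma.ι (fun _ : K => G) k ≫= hh⟩

/-- Subobjects are equal if their pullbacks along an epimorphism are. -/
lemma le_of_pullback_le {T E : C} (q : T ⟶ E) [Epi q] {s t : Subobject E}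
    (h : (Subobject.pullback q).obj s ≤ (Subobject.pullback q).obj t) : s ≤ t := by
  have hs := Subobject.isPullback q s
  have : Epi (Subobject.pullbackπ q s) := by
    have : Epi (pullback.fst s.arrow q) := inferInstance
    rw [← hs.isoPullback_hom_fst]
    exact epi_comp _ _
  have e : s.arrow ≫ cokernel.π t.arrow = 0 := by
    rw [← cancel_epi (Subobject.pullbackπ q s), comp_zero, reassoc_of% hs.w,
      ← Subobject.ofLE_arrow_assoc h, ← reassoc_of% (Subobject.isPullback q t).w,
      cokernel.condition, comp_zero, comp_zero]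
  exact Subobject.le_of_comm (Abelian.monoLift t.arrow s.arrow e) (Abelian.monoLift_comp _ _ _)

lemma pullback_injective {T E : C} (q : T ⟶ E) [Epi q] :
    Function.Injective (Subobject.pullback q).obj :=
  fun _ _ h => le_antisymm (le_of_pullback_le q h.le) (le_of_pullback_le q h.ge)

variable [WellPowered.{v} C] {G : C} (hG : IsSeparator G)

omit [WellPowered.{v} C] in
include hG in
lemma eq_zero_of_separator {X Y : C} (h : X ⟶ Y) (hh : ∀ f : G ⟶ X, f ≫ h = 0) : h = 0 :=
  hG.def h 0 fun f => by simpa using hh f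

include hG in
/-- An epimorphism onto a subobject of a quotient of `T` is detected by a family of maps from `G`
indexed by the subobjects of `T`. -/
lemma exists_small_lift {P Y E T : C} (p : P ⟶ Y) [Epi p] (i : Y ⟶ E) [Mono i] (q : T ⟶ E) [Epi q] :
    ∃ g : Shrink.{v} (Subobject T) → (G ⟶ P),
      ∀ ⦃Z : C⦄ (h : Y ⟶ Z), (∀ s, g s ≫ p ≫ h = 0) → h = 0 := by
  classical
  let e : Subobject Y → Shrink.{v} (Subobject T) := fun s =>
    equivShrink _ ((Subobject.pullback q).obj ((Subobject.map i).obj s))
  have he : Function.Injective e := fun a b h =>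
    Subobject.map_obj_injective i (pullback_injective q ((equivShrink _).injective h))
  refine ⟨fun s => if hs : ∃ f : G ⟶ P, e (imageSubobject (f ≫ p)) = s then hs.choose else 0,
    fun Z h hh => ?_⟩
  rw [← cancel_epi p, comp_zero]
  refine eq_zero_of_separator hG _ fun f => ?_
  have hs : ∃ f' : G ⟶ P, e (imageSubobject (f' ≫ p)) = e (imageSubobject (f ≫ p)) := ⟨f, rfl⟩
  have h₁ := hh (e (imageSubobject (f ≫ p)))
  simp only [dif_pos hs] at h₁
  have h₂ := he hs.choose_spec
  generalize hs.choose = f' at h₁ h₂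
  rw [← Category.assoc, ← imageSubobject_arrow_comp (f' ≫ p), Category.assoc] at h₁
  rw [← comp_zero (f := factorThruImageSubobject (f' ≫ p)), cancel_epi] at h₁
  rw [← Category.assoc, ← imageSubobject_arrow_comp (f ≫ p), Category.assoc,
    ← Subobject.ofLE_arrow h₂.ge, Category.assoc, h₁, comp_zero, comp_zero]

omit [WellPowered.{v} C] in
/-- The subobject generated by a family of maps. -/
lemma exists_gen_subobject [HasCoproducts.{v} C] (G : C) {Q : C} {K : Type v} (Φ : K → (G ⟶ Q)) :
    ∃ E : Subobject Q, Gen G K (E : C) ∧ (∀ k, ∃ a, a ≫ E.arrow = Φ k) ∧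
      ∀ E' : Subobject Q, (∀ k, ∃ a, a ≫ E'.arrow = Φ k) → E ≤ E' := by
  refine ⟨imageSubobject (Sigma.desc Φ),
    ⟨fun k => Sigma.ι (fun _ : K => G) k ≫ factorThruImageSubobject (Sigma.desc Φ), fun Z h hh => ?_⟩,
    fun k => ⟨Sigma.ι (fun _ : K => G) k ≫ factorThruImageSubobject (Sigma.desc Φ), by simp⟩,
    fun E' hE' => ?_⟩
  · rw [← cancel_epi (factorThruImageSubobject (Sigma.desc Φ)), comp_zero]
    exact Sigma.hom_ext _ _ fun k => by simpa using hh k
  · choose a ha using hE'
    exact imageSubobject_le _ (Sigma.desc a) (Sigma.hom_ext _ _ fun k => by simp [ha])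

omit [WellPowered.{v} C] in
/-- Pullbacks of the inclusions of an exact connected colimit are jointly epimorphic. -/
lemma eq_zero_of_pullback {J : Type w} [SmallCategory J] [IsConnected J] [HasColimitsOfShape J C]
    [HasExactColimitsOfShape J C] {F : J ⥤ C} {c : Cocone F} (hc : IsColimit c) {X Y : C}
    (f : X ⟶ c.pt) (h : X ⟶ Y) (hh : ∀ j, pullback.snd (c.ι.app j) f ≫ h = 0) : h = 0 := by
  refine (hc.pullbackOfHasExactColimitsOfShape f).hom_ext (fun j => ?_)
  rw [← cancel_epi (pullbackObjIso _ _ _).inv]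
  simpa using! hh j

end Groth.Agent.DCat
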