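import Groth.Agent.DCat.LTensorModule
import Groth.Agent.DCat.LTensorCx
import Groth.Agent.DCat.DTenAmp
import Groth.Agent.DualLib.SurjTensor

/-! Tor amplitude bounded below for complexes with no upper bound. -/

set_option autoImplicit false
set_option backward.isDefEq.respectTransparency false
set_option backward.defeqAttrib.useBackward true
set_option linter.style.haveILetI false

universe u

open CategoryTheory CategoryTheory.Limits MonoidalCategory HomologicalComplex

attribute [local instance] HasDerivedCategory.standard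

namespace Groth.Agent.DCat.TorBelow

variable {R : Type u} [CommRing R]

/-- The kernel of a surjection of flat modules is flat. -/
lemma flat_of_shortExact {K M N : Type u} [AddCommGroup K] [Module R K] [AddCommGroup M] [Module R M]
    [AddCommGroup N] [Module R N] [Module.Flat R M] [Module.Flat R N] {i : K →ₗ[R] M} {g : M →ₗ[R] N}
    (hi : Function.Injective i) (hg : Function.Surjective g) (h : Function.Exact i g) : Module.Flat R K := by
  rw [Module.Flat.iff_rTensor_preserves_injective_linearMap]
  intro P Q _ _ _ _ f hf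
  have hP := DCat.lTensor_injective_of_flat_quotient P hi hg h
  have hM := Module.Flat.rTensor_preserves_injective_linearMap (M := M) f hf
  have hsq : i.lTensor Q ∘ₗ f.rTensor K = f.rTensor M ∘ₗ i.lTensor P := by
    rw [LinearMap.lTensor_comp_rTensor, LinearMap.rTensor_comp_lTensor]
  refine Function.Injective.of_comp (f := i.lTensor Q) ?_
  rw [← LinearMap.coe_comp, hsq, LinearMap.coe_comp]
  exact hM.comp hP

/-- `M ⊗^L K` through a K-flat representative of `K`. -/
theorem nonempty_ltensorCx_single (K : DRing.Cx R) [DRing.HasLTensorCx R K] {P : DRing.Cx R}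
    (hP : IsKFlatFor (modT R) P) (eP : DerivedCategory.Q.obj P ≅ DerivedCategory.Q.obj K) (M : ModuleCat.{u} R) :
    Nonempty ((DRing.LTensorCx R K).obj
        (DRing.toD ((CochainComplex.singleFunctor (ModuleCat.{u} R) 0).obj M)) ≅
      DerivedCategory.Q.obj (DRing.tensorCx P M)) := by
  haveI := hasLTen R
  haveI := DualLib.SurjT.isIso_toLTensorCx (P := R) K
  let S := (CochainComplex.singleFunctor (ModuleCat.{u} R) 0).obj M
  haveI := isIso_ε_of_right (K := S) hP
  obtain ⟨t⟩ := exists_tot_single_iso (T := modT R) P M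
  exact ⟨((asIso (DTen.toLTensorCx R K)).app (DerivedCategory.Q.obj S)).symm ≪≫
    (DTen.LTen₂ R).mapIso (Iso.prod (Iso.refl _) eP.symm) ≪≫ asIso ((DTen.ε R).app (S, P)) ≪≫
    DerivedCategory.Q.mapIso (totSymm S P ≪≫ t.symm)⟩

/-- The projection to the smart truncation is invertible above the boundary. -/
theorem isIso_π_f (P : DRing.Cx R) {m i : ℤ} (h : m < i) : IsIso ((P.πTruncGE m).f i) := by
  let e := ComplexShape.embeddingUpIntGE m
  have hi : e.f (i - m).toNat = i := by
    change m + ((i - m).toNat : ℤ) = i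
    omega
  have hb : ¬ e.BoundaryGE (i - m).toNat := by
    simp [e, ComplexShape.boundaryGE_embeddingUpIntGE_iff]
    omega
  change IsIso ((HomologicalComplex.πTruncGE P e).f i)
  dsimp [HomologicalComplex.πTruncGE]
  erw [e.isIso_liftExtend_f_iff _ _ hi]
  exact HomologicalComplex.isIso_restrictionToTruncGE' P e _ hb

/-- The smart truncation is termwise flat when the cokernel at the boundary is. -/
theorem flat_truncGE {P : DRing.Cx R} (hPf : DRing.TermwiseFlat P) (a : ℤ)
    (hc : Module.Flat R (cokernel (P.d (a - 1) a) : ModuleCat.{u} R)) : DRing.TermwiseFlat (P.truncGE a) := fun i => by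
  by_cases hi : i < a
  · haveI := ModuleCat.subsingleton_of_isZero (CochainComplex.isZero_of_isStrictlyGE (P.truncGE a) a i hi)
    infer_instance
  by_cases hi' : i = a
  · subst hi'
    exact @Module.Flat.of_linearEquiv _ _ _ _ _ _ _ _ hc (IsColimit.coconePointUniqueUpToIso (colimit.isColimit _)
      (P.opcyclesIsCokernel (i - 1) i (by simp)) ≪≫ (P.truncGEXIsoOpcycles i).symm).toLinearEquiv.symm
  · haveI := hPf i
    exact Module.Flat.of_linearEquiv (P.truncGEXIso a i (by omega)).toLinearEquiv

/-- Degreewise isomorphisms have vanishing kernels. -/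
theorem isZero_kernel_X {P Q : DRing.Cx R} (π : P ⟶ Q) (n : ℤ) [IsIso (π.f n)] : IsZero ((kernel π).X n) := by
  haveI : IsIso ((HomologicalComplex.eval (ModuleCat.{u} R) (ComplexShape.up ℤ) n).map π) := ‹_›
  exact IsZero.of_iso (isZero_kernel_of_mono ((HomologicalComplex.eval (ModuleCat.{u} R) (ComplexShape.up ℤ) n).map π))
    (PreservesKernel.iso (HomologicalComplex.eval (ModuleCat.{u} R) (ComplexShape.up ℤ) n) π)

/-- The first term of a short exact sequence of modules with flat middle and last term. -/
lemma flat_X₁ (T : ShortComplex (ModuleCat.{u} R)) (hT : T.ShortExact) (h₂ : Module.Flat R T.X₂)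
    (h₃ : Module.Flat R T.X₃) : Module.Flat R T.X₁ :=
  flat_of_shortExact ((ModuleCat.mono_iff_injective _).1 hT.mono_f) ((ModuleCat.epi_iff_surjective _).1 hT.epi_g)
    ((ShortComplex.ShortExact.moduleCat_exact_iff_function_exact _).1 hT.exact)

/-- The kernel sequence of an epimorphism of complexes. -/
lemma shortExact_kernel {P Q : DRing.Cx R} (π : P ⟶ Q) [Epi π] :
    (ShortComplex.mk (kernel.ι π) π (kernel.condition π)).ShortExact :=
  { exact := ShortComplex.exact_kernel π }

/-- The kernel of an epimorphism of termwise flat complexes is termwise flat. -/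
lemma flat_kernel {P Q : DRing.Cx R} (π : P ⟶ Q) [Epi π] (hPf : DRing.TermwiseFlat P) (hQf : DRing.TermwiseFlat Q) :
    DRing.TermwiseFlat (kernel π) := fun n =>
  flat_X₁ ((ShortComplex.mk (kernel.ι π) π (kernel.condition π)).map (HomologicalComplex.eval _ (ComplexShape.up ℤ) n))
    ((shortExact_kernel π).map_of_exact _) (hPf n) (hQf n)

/-- A quotient of a K-flat complex of flats by a bounded above complex is K-flat if it is termwise flat. -/
theorem isKFlatFor_of_epi {P Q : DRing.Cx R} (π : P ⟶ Q) [Epi π] (hP : IsKFlatFor (modT R) P)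
    (hPf : DRing.TermwiseFlat P) (hQf : DRing.TermwiseFlat Q) (a : ℤ) (hiso : ∀ n, a < n → IsIso (π.f n)) :
    IsKFlatFor (modT R) Q := by
  have hk : IsKFlatFor (modT R) (kernel π) := isKFlatFor_of_flat (kernel π) a
    (fun n hn => haveI := hiso n hn; isZero_kernel_X π n) (flat_kernel π hPf hQf)
  exact IsKFlatFor.ext₃ (S := ShortComplex.mk (kernel.ι π) π (kernel.condition π))
    (fun M q => shortExact_eval_tensor (shortExact_kernel π) hQf M q) hk hP

/-- The smart truncation of a K-flat complex of flats with flat cokernel is K-flat and termwise flat. -/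
theorem truncGE_flat {P : DRing.Cx R} (hP : IsKFlatFor (modT R) P) (hPf : DRing.TermwiseFlat P) (a : ℤ)
    (hc : Module.Flat R (cokernel (P.d (a - 1) a) : ModuleCat.{u} R)) :
    IsKFlatFor (modT R) (P.truncGE a) ∧ DRing.TermwiseFlat (P.truncGE a) :=
  haveI : Epi (P.πTruncGE a) :=
    inferInstanceAs (Epi (HomologicalComplex.πTruncGE P (ComplexShape.embeddingUpIntGE a)))
  ⟨isKFlatFor_of_epi (P.πTruncGE a) hP hPf (flat_truncGE hPf a hc) a fun _ hn => isIso_π_f P hn,
    flat_truncGE hPf a hc⟩

/-- Tor amplitude `≥ a` in terms of a K-flat complex of flat modules in degrees `≥ a`. -/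
theorem ge_iff (a : ℤ) (K : DRing.Cx R) [DRing.HasLTensorCx R K] :
    (∀ (M : ModuleCat.{u} R) (i : ℤ), i < a →
        Subsingleton (Dual.HD R ((DRing.LTensorCx R K).obj
          (DRing.toD ((CochainComplex.singleFunctor (ModuleCat.{u} R) 0).obj M))) i)) ↔
      ∃ E : DRing.Cx R, IsKFlatFor (modT R) E ∧ DRing.TermwiseFlat E ∧ (∀ i : ℤ, i < a → IsZero (E.X i)) ∧
        Nonempty (DRing.toD E ≅ DRing.toD K) := by
  constructor
  · intro h
    obtain ⟨P, c, hP, hPf, hc, -⟩ := exists_kflat K
    haveI := hc
    haveI := isIso_Q_map_of_qis c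
    have key : ∀ (M : ModuleCat.{u} R) (i : ℤ), i < a → (DRing.tensorCx P M).ExactAt i := fun M i hi => by
      obtain ⟨e⟩ := nonempty_ltensorCx_single K hP (asIso (DerivedCategory.Q.map c)) M
      exact (isZero_homology_toD_iff _ i).1 (((subsingleton_HD_iff _ i).1 (h M i hi)).of_iso
        ((DerivedCategory.homologyFunctor (ModuleCat.{u} R) i).mapIso e.symm))
    have hPe : ∀ i, i < a → P.ExactAt i := fun i hi => (key (𝟙_ _) i hi).of_iso
      (Hom.isoOfComponents (fun n => ρ_ _) (fun p q _ => (rightUnitor_naturality _).symm))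
    haveI : P.IsGE a := (CochainComplex.isGE_iff _ _).2 hPe
    have hfl : Module.Flat R (cokernel (P.d (a - 1) a) : ModuleCat.{u} R) :=
      haveI := flat_cokernel_of_exactAt P hPf a (fun M => key M (a - 1) (by omega))
        (C := ModuleCat.of R (P.X a ⧸ LinearMap.range (P.d (a - 1) a).hom))
        (ModuleCat.ofHom (LinearMap.range (P.d (a - 1) a).hom).mkQ) (Submodule.mkQ_surjective _)
        (LinearMap.exact_map_mkQ_range (P.d (a - 1) a).hom)
      Module.Flat.of_linearEquiv (ModuleCat.cokernelIsoRangeQuotient (P.d (a - 1) a)).toLinearEquiv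
    obtain ⟨h₁, h₂⟩ := truncGE_flat hP hPf a hfl
    exact ⟨P.truncGE a, h₁, h₂, fun i hi => CochainComplex.isZero_of_isStrictlyGE _ a i hi,
      ⟨(asIso (DerivedCategory.Q.map (P.πTruncGE a))).symm ≪≫ asIso (DerivedCategory.Q.map c)⟩⟩
  · rintro ⟨E, hE, -, hz, ⟨e⟩⟩ M i hi
    obtain ⟨t⟩ := nonempty_ltensorCx_single K hE e M
    rw [subsingleton_HD_iff]
    refine IsZero.of_iso ?_ ((DerivedCategory.homologyFunctor (ModuleCat.{u} R) i).mapIso t)
    exact (isZero_homology_toD_iff _ i).2 (HomologicalComplex.ExactAt.of_isZero ((tensorRight M).map_isZero (hz i hi)))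

end Groth.Agent.DCat.TorBelow
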