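import Groth.Prelude.Def_DTor2
import Groth.Agent.DCat.LPull
import Mathlib.Algebra.Homology.ShortComplex.ModuleCat

/-! Flatness from vanishing of Tor. -/

set_option autoImplicit false
set_option backward.isDefEq.respectTransparency false
set_option backward.defeqAttrib.useBackward true
set_option linter.style.haveILetI false

universe u

open CategoryTheory CategoryTheory.Limits MonoidalCategory
open scoped TensorProduct

namespace Groth.Agent.DCat

variable {R : Type u} [CommRing R]

/-- Flatness of a cokernel from exactness of the tensored three-term sequence. -/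
lemma flat_of_tor_exact {P₀ P₁ P₂ C : Type u} [AddCommGroup P₀] [Module R P₀] [AddCommGroup P₁] [Module R P₁]
    [AddCommGroup P₂] [Module R P₂] [AddCommGroup C] [Module R C] [Module.Flat R P₂]
    {d' : P₀ →ₗ[R] P₁} {d : P₁ →ₗ[R] P₂} {π : P₂ →ₗ[R] C} (hd : d.comp d' = 0)
    (hπ : Function.Surjective π) (hex : Function.Exact d π)
    (htor : ∀ (A : Type u) [AddCommGroup A] [Module R A], Function.Exact (d'.rTensor A) (d.rTensor A)) :
    Module.Flat R C := by
  rw [Module.Flat.iff_lTensor_preserves_injective_linearMap]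
  intro N N' _ _ _ _ f hf
  rw [injective_iff_map_eq_zero]
  intro x hx
  obtain ⟨y, rfl⟩ := LinearMap.rTensor_surjective N hπ x
  have h1 : π.rTensor N' (f.lTensor P₂ y) = 0 := by
    rw [← LinearMap.comp_apply, LinearMap.rTensor_comp_lTensor, ← LinearMap.lTensor_comp_rTensor]
    exact hx
  obtain ⟨z, hz⟩ := (rTensor_exact N' hex hπ (f.lTensor P₂ y)).1 h1
  have hq : Function.Surjective (LinearMap.range f).mkQ := Submodule.mkQ_surjective _
  have hfq : Function.Exact f (LinearMap.range f).mkQ := LinearMap.exact_map_mkQ_range f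
  have h2 : d.rTensor (N' ⧸ LinearMap.range f) ((LinearMap.range f).mkQ.lTensor P₁ z) = 0 := by
    rw [← LinearMap.comp_apply, LinearMap.rTensor_comp_lTensor, ← LinearMap.lTensor_comp_rTensor,
      LinearMap.comp_apply, hz, ← LinearMap.comp_apply, ← LinearMap.lTensor_comp,
      hfq.linearMap_comp_eq_zero, LinearMap.lTensor_zero, LinearMap.zero_apply]
  obtain ⟨w, hw⟩ := (htor _ _).1 h2
  obtain ⟨w', rfl⟩ := LinearMap.lTensor_surjective P₀ hq w
  have h3 : (LinearMap.range f).mkQ.lTensor P₁ (z - d'.rTensor N' w') = 0 := by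
    have e : (LinearMap.range f).mkQ.lTensor P₁ (d'.rTensor N' w') =
        d'.rTensor (N' ⧸ LinearMap.range f) ((LinearMap.range f).mkQ.lTensor P₀ w') := by
      rw [← LinearMap.comp_apply, ← LinearMap.comp_apply, LinearMap.lTensor_comp_rTensor,
        LinearMap.rTensor_comp_lTensor]
    rw [map_sub, e, hw, sub_self]
  obtain ⟨v, hv⟩ := (lTensor_exact P₁ hfq hq _).1 h3
  have h4 : y = d.rTensor N v := by
    apply Module.Flat.lTensor_preserves_injective_linearMap (M := P₂) f hf
    have e₀ : d.rTensor N' (d'.rTensor N' w') = 0 := by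
      rw [← LinearMap.comp_apply, ← LinearMap.rTensor_comp, hd, LinearMap.rTensor_zero, LinearMap.zero_apply]
    rw [← LinearMap.comp_apply _ (d.rTensor N), LinearMap.lTensor_comp_rTensor, ← LinearMap.rTensor_comp_lTensor,
      LinearMap.comp_apply, hv, map_sub, e₀, sub_zero, hz]
  rw [h4, ← LinearMap.comp_apply, ← LinearMap.rTensor_comp, hex.linearMap_comp_eq_zero,
    LinearMap.rTensor_zero, LinearMap.zero_apply]

/-- Flatness of a cokernel of a differential. -/
theorem flat_cokernel_of_exactAt (P : DRing.Cx R) (hP : DRing.TermwiseFlat P) (a : ℤ)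
    (h : ∀ A : ModuleCat.{u} R,
      (((tensorRight A).mapHomologicalComplex (ComplexShape.up ℤ)).obj P).ExactAt (a - 1))
    {C : ModuleCat.{u} R} (π : P.X a ⟶ C) (hπ : Function.Surjective π)
    (hex : Function.Exact (P.d (a - 1) a) π) : Module.Flat R C := by
  haveI : Module.Flat R (P.X a) := hP a
  refine flat_of_tor_exact (P₀ := P.X (a - 2)) (P₁ := P.X (a - 1)) (P₂ := P.X a)
    (d' := (P.d (a - 2) (a - 1)).hom) (d := (P.d (a - 1) a).hom) (π := π.hom) ?_ hπ hex fun A _ _ => ?_
  · rw [← ModuleCat.hom_comp, P.d_comp_d]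
    rfl
  · have h' := h (ModuleCat.of R A)
    rw [HomologicalComplex.exactAt_iff' _ (a - 2) (a - 1) a (by simp; omega) (by simp)] at h'
    exact (ShortComplex.ShortExact.moduleCat_exact_iff_function_exact _).1 h'

end Groth.Agent.DCat
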