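import Mathlib.Algebra.Homology.BifunctorShift
import Mathlib.Algebra.Homology.BifunctorHomotopy
import Mathlib.Algebra.Homology.HomologicalComplexAbelian
import Mathlib.Algebra.Homology.HomologicalComplexLimits
import Mathlib.CategoryTheory.Abelian.GrothendieckAxioms.Basic

/-! Exactness and continuity of the total tensor complex of a biadditive functor. -/

set_option autoImplicit false
set_option backward.isDefEq.respectTransparency false
set_option backward.defeqAttrib.useBackward true

universe t v₁ v₂ v₃ u₁ u₂ u₃

open CategoryTheory CategoryTheory.Limits HomologicalComplex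

namespace Groth.Agent.DCat

variable {A : Type u₁} [Category.{v₁} A] [Preadditive A] {B : Type u₂} [Category.{v₂} B] [Preadditive B]
  {C : Type u₃} [Category.{v₃} C] [Abelian C]
  (T : A ⥤ B ⥤ C) [T.Additive] [∀ a, (T.obj a).Additive]
  [∀ (K₁ : CochainComplex A ℤ) (K₂ : CochainComplex B ℤ), CochainComplex.HasMapBifunctor K₁ K₂ T]

/-- The total tensor complex. -/
noncomputable abbrev tot (K : CochainComplex A ℤ) (L : CochainComplex B ℤ) : CochainComplex C ℤ :=
  mapBifunctor K L T (ComplexShape.up ℤ)

/-- Functoriality in the second variable. -/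
noncomputable abbrev totMap₂ (K : CochainComplex A ℤ) {L L' : CochainComplex B ℤ} (f : L ⟶ L') :
    tot T K L ⟶ tot T K L' :=
  mapBifunctorMap (𝟙 K) f T (ComplexShape.up ℤ)

/-- Functoriality in the first variable. -/
noncomputable abbrev totMap₁ {K K' : CochainComplex A ℤ} (f : K ⟶ K') (L : CochainComplex B ℤ) :
    tot T K L ⟶ tot T K' L :=
  mapBifunctorMap f (𝟙 L) T (ComplexShape.up ℤ)

/-- The fibre of the total degree. -/
abbrev TotIdx (n : ℤ) : Type :=
  ↥(ComplexShape.π (ComplexShape.up ℤ) (ComplexShape.up ℤ) (ComplexShape.up ℤ) ⁻¹' {n})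

section Exact

variable [HasCountableCoproducts C] [CountableAB4 C]

/-- The total complex of a termwise short exact sequence is short exact. -/
theorem shortExact_tot₂ (K : CochainComplex A ℤ) {S : ShortComplex (CochainComplex B ℤ)}
    (zero : totMap₂ T K S.f ≫ totMap₂ T K S.g = 0)
    (h : ∀ p q : ℤ, ((S.map (HomologicalComplex.eval B (ComplexShape.up ℤ) q)).map (T.obj (K.X p))).ShortExact) :
    (ShortComplex.mk (totMap₂ T K S.f) (totMap₂ T K S.g) zero).ShortExact := by
  refine shortExact_of_degreewise_shortExact _ fun n => ?_
  let S' : ShortComplex (Discrete (TotIdx n) ⥤ C) :=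
    ShortComplex.mk
      (Discrete.natTrans (F := Discrete.functor fun i : TotIdx n => (T.obj (K.X i.1.1)).obj (S.X₁.X i.1.2))
        (G := Discrete.functor fun i : TotIdx n => (T.obj (K.X i.1.1)).obj (S.X₂.X i.1.2))
        fun i => (T.obj (K.X i.as.1.1)).map (S.f.f i.as.1.2))
      (Discrete.natTrans (G := Discrete.functor fun i : TotIdx n => (T.obj (K.X i.1.1)).obj (S.X₃.X i.1.2))
        fun i => (T.obj (K.X i.as.1.1)).map (S.g.f i.as.1.2))
      (by
        ext i
        simp [← Functor.map_comp, ← comp_f, S.zero])
  have hS' : S'.ShortExact := by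
    have hex : ∀ i, (S'.map ((evaluation _ C).obj i)).ShortExact := fun ⟨i⟩ => h i.1.1 i.1.2
    refine { exact := ?_, mono_f := ?_, epi_g := ?_ }
    · rw [ShortComplex.exact_iff_isZero_homology]
      refine Functor.isZero _ fun i => IsZero.of_iso ?_ (S'.mapHomologyIso ((evaluation _ C).obj i)).symm
      exact ((ShortComplex.exact_iff_isZero_homology _).1 (hex i).exact)
    · haveI : ∀ i, Mono (S'.f.app i) := fun i => (hex i).mono_f
      exact NatTrans.mono_of_mono_app _
    · haveI : ∀ i, Epi (S'.g.app i) := fun i => (hex i).epi_g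
      exact NatTrans.epi_of_epi_app _
  have := hS'.map_of_exact colim
  refine ShortComplex.shortExact_of_iso ?_ this
  refine ShortComplex.isoMk (Iso.refl _) (Iso.refl _) (Iso.refl _) ?_ ?_ <;>
  · refine Sigma.hom_ext _ _ fun i => ?_
    dsimp [S', GradedObject.mapObj]
    rw [Category.comp_id, Category.id_comp]
    change ιMapBifunctor _ _ T (ComplexShape.up ℤ) i.1.1 i.1.2 n i.2 ≫ _ = _
    rw [ι_mapBifunctorMap]
    simp
    rfl

end Exact

section Colimit

variable {J : Type t} [SmallCategory J]

/-- The total complex commutes with colimits in the second variable. -/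
noncomputable def isColimitTot₂ (K : CochainComplex A ℤ) {F : J ⥤ CochainComplex B ℤ} {c : Cocone F}
    (hc : ∀ p q : ℤ, IsColimit ((T.obj (K.X p)).mapCocone
      ((HomologicalComplex.eval B (ComplexShape.up ℤ) q).mapCocone c))) :
    IsColimit ((T.map₂CochainComplex.obj K).mapCocone c) :=
  isColimitOfEval _ _ fun n =>
    { desc := fun s => mapBifunctorDesc fun p q h =>
        (hc p q).desc (Cocone.mk s.pt
          { app := fun j => ιMapBifunctor K (F.obj j) T (ComplexShape.up ℤ) p q n h ≫ s.ι.app j
            naturality := fun j j' f => by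
              have := s.w f
              dsimp at this ⊢
              rw [Category.comp_id, ← this, ι_mapBifunctorMap_assoc]
              simp })
      fac := fun s j => by
        refine mapBifunctor.hom_ext fun p q h => ?_
        dsimp
        rw [ι_mapBifunctorMap_assoc]
        simp only [id_f, CategoryTheory.Functor.map_id, NatTrans.id_app, Category.id_comp, ι_mapBifunctorDesc]
        exact (hc p q).fac _ j
      uniq := fun s m hm => by
        refine mapBifunctor.hom_ext fun p q h => ?_
        rw [ι_mapBifunctorDesc]
        refine (hc p q).hom_ext fun j => ?_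
        rw [(hc p q).fac]
        dsimp at hm ⊢
        rw [← hm j, ι_mapBifunctorMap_assoc]
        simp }

end Colimit

end Groth.Agent.DCat
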