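import Groth.Agent.DCat.KHomLimits
import Groth.Agent.CommAlg4.SESResol
import Mathlib.Algebra.Homology.HomotopyCategory.MappingCocone
import Mathlib.Algebra.Homology.HomotopyCategory.HomologicalFunctor
import Mathlib.Algebra.Homology.HomotopyCategory.ShiftSequence
import Mathlib.CategoryTheory.Abelian.GrothendieckAxioms.Basic

/-! K-injective resolutions from towers, when countable products are exact. -/

set_option autoImplicit false
set_option backward.isDefEq.respectTransparency false
set_option backward.defeqAttrib.useBackward true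
set_option linter.style.haveILetI false

universe v u

open CategoryTheory CategoryTheory.Limits HomologicalComplex CochainComplex Pretriangulated

namespace Groth.Agent.DCat.TowerKInj17

variable {A : Type u} [Category.{v} A] [Abelian A]

/-- The shift map of an eventually constant tower has a kernel split by the tower's value. -/
theorem tower {H : ℕ → A} {X : A} (τ : ∀ n, H (n + 1) ⟶ H n) (α : ∀ n, X ⟶ H n)
    (hα : ∀ n, α (n + 1) ≫ τ n = α n) (n₀ : ℕ) (hiso : ∀ n, n₀ ≤ n → IsIso (α n))
    {c : Fan H} (hc : IsLimit c) (F : X ⟶ c.pt) (hF : ∀ n, F ≫ c.proj n = α n)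
    (Φ : c.pt ⟶ c.pt) (hΦ : ∀ n, Φ ≫ c.proj n = c.proj n - c.proj (n + 1) ≫ τ n) :
    Epi Φ ∧ ∃ r : c.pt ⟶ X, F ≫ r = 𝟙 X ∧ ∀ (W : A) (g : W ⟶ c.pt), g ≫ Φ = 0 → g ≫ r ≫ F = g := by
  have hτ : ∀ n, n₀ ≤ n → IsIso (τ n) := fun n hn => by
    haveI := hiso n hn
    haveI := hiso (n + 1) (by omega)
    haveI : IsIso (α (n + 1) ≫ τ n) := by rw [hα]; infer_instance
    exact IsIso.of_isIso_comp_left (α (n + 1)) (τ n)
  haveI := hiso n₀ le_rfl
  refine ⟨?_, c.proj n₀ ≫ inv (α n₀), by rw [← Category.assoc, hF, IsIso.hom_inv_id], fun W g hg => ?_⟩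
  · -- a section
    let up : ∀ k : ℕ, c.pt ⟶ H (n₀ + k) := fun k =>
      Nat.rec (motive := fun k => c.pt ⟶ H (n₀ + k)) 0
        (fun k s => (s - c.proj (n₀ + k)) ≫ @inv _ _ _ _ (τ (n₀ + k)) (hτ _ (by omega))) k
    have hup : ∀ k, up (k + 1) ≫ τ (n₀ + k) = up k - c.proj (n₀ + k) := fun k => by
      haveI := hτ (n₀ + k) (by omega)
      show ((up k - c.proj (n₀ + k)) ≫ inv (τ (n₀ + k))) ≫ _ = _
      rw [Category.assoc, IsIso.inv_hom_id, Category.comp_id]
    have hs : ∀ d, ∀ n, n + d ≥ n₀ → ∃ s : ∀ m, n ≤ m → (c.pt ⟶ H m),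
        ∀ m (hm : n ≤ m), s m hm - s (m + 1) (by omega) ≫ τ m = c.proj m := by
      intro d
      induction d with
      | zero =>
        intro n hn
        refine ⟨fun m hm => up (m - n₀) ≫ eqToHom (congrArg H (by omega)), fun m hm => ?_⟩
        obtain ⟨k, rfl⟩ := Nat.exists_eq_add_of_le (show n₀ ≤ m by omega)
        have e : ∀ (j l : ℕ) (h : j = l) (h' : H (n₀ + j) = H (n₀ + l)), up j ≫ eqToHom h' = up l := by
          rintro j _ rfl h'; simp
        dsimp only
        rw [e (n₀ + k - n₀) k (by omega), show up (n₀ + k + 1 - n₀) ≫ eqToHom _ = up (k + 1) from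
          e (n₀ + k + 1 - n₀) (k + 1) (by omega) (congrArg H (by omega)), hup]
        abel
      | succ d ih =>
        intro n hn
        obtain ⟨s, hs⟩ := ih (n + 1) (by omega)
        refine ⟨fun m hm => if h : n + 1 ≤ m then s m h else
          c.proj m + s (m + 1) (by omega) ≫ τ m, fun m hm => ?_⟩
        dsimp only
        rw [dif_pos (show n + 1 ≤ m + 1 by omega)]
        by_cases h : n + 1 ≤ m
        · rw [dif_pos h]; exact hs m h
        · rw [dif_neg h]; abel
    obtain ⟨s, hs⟩ := hs n₀ 0 (by omega)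
    haveI : IsSplitEpi Φ := ⟨⟨⟨Fan.IsLimit.lift hc fun m => s m (Nat.zero_le _), Fan.IsLimit.hom_ext hc _ _ fun m => by
      rw [Category.assoc, hΦ, Preadditive.comp_sub, Fan.IsLimit.fac, Category.id_comp, ← Category.assoc,
        Fan.IsLimit.fac, hs m (Nat.zero_le _)]⟩⟩⟩
    infer_instance
  · have hg' : ∀ n, g ≫ c.proj n = g ≫ c.proj (n + 1) ≫ τ n := fun n => by
      rw [← sub_eq_zero, ← Preadditive.comp_sub, ← hΦ, ← Category.assoc, hg, zero_comp]
    let h := g ≫ (c.proj n₀ ≫ inv (α n₀)) ≫ F - g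
    have h0 : h ≫ c.proj n₀ = 0 := by simp [h, hF]
    have hh : ∀ n, h ≫ c.proj n = (h ≫ c.proj (n + 1)) ≫ τ n := fun n => by
      simp only [h, Preadditive.sub_comp, Category.assoc, hF, hα, ← hg']
    have hall : ∀ n, h ≫ c.proj n = 0 := fun n => by
      by_cases hn : n₀ ≤ n
      · induction n, hn using Nat.le_induction with
        | base => exact h0
        | succ n hn ih =>
          haveI := hτ n hn
          rw [← cancel_mono (τ n), ← hh, ih, zero_comp]
      · obtain ⟨d, hd⟩ : ∃ d, n + d = n₀ := ⟨n₀ - n, by omega⟩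
        clear hn
        induction d generalizing n with
        | zero => obtain rfl : n = n₀ := hd; exact h0
        | succ d ih => rw [hh, ih (n + 1) (by omega), zero_comp]
    exact sub_eq_zero.1 (Fan.IsLimit.hom_ext hc _ _ fun n => (hall n).trans zero_comp.symm)

section Prod

variable [HasLimitsOfShape (Discrete ℕ) A] [HasExactLimitsOfShape (Discrete ℕ) A]

/-- Homology commutes with exact countable products. -/
theorem nonempty_isLimit_homology {F : Discrete ℕ ⥤ CochainComplex A ℤ} {c : Cone F} (hc : IsLimit c) (n : ℤ) :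
    Nonempty (IsLimit ((homologyFunctor A (ComplexShape.up ℤ) n).mapCone c)) := by
  let Φ : (Functor.const _).obj (c.pt.sc n) ⟶ F ⋙ shortComplexFunctor A (ComplexShape.up ℤ) n :=
    (Functor.constComp _ _ _).inv ≫ Functor.whiskerRight c.π _
  let S : ShortComplex (Discrete ℕ ⥤ A) := ShortComplex.mk
    (Functor.whiskerLeft (F ⋙ shortComplexFunctor A (ComplexShape.up ℤ) n) ShortComplex.π₁Toπ₂)
    (Functor.whiskerLeft (F ⋙ shortComplexFunctor A (ComplexShape.up ℤ) n) ShortComplex.π₂Toπ₃)
    (by ext j; exact ((F ⋙ shortComplexFunctor A (ComplexShape.up ℤ) n).obj j).zero)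
  have hev := fun i : ℤ => isLimitOfPreserves (HomologicalComplex.eval A (ComplexShape.up ℤ) i) hc
  let e : c.pt.sc n ≅ S.map lim := ShortComplex.isoMk
    ((hev _).conePointUniqueUpToIso (limit.isLimit S.X₁))
    ((hev _).conePointUniqueUpToIso (limit.isLimit S.X₂))
    ((hev _).conePointUniqueUpToIso (limit.isLimit S.X₃))
    (limit.hom_ext fun j => by
      dsimp
      erw [Category.assoc, limMap_π, IsLimit.conePointUniqueUpToIso_hom_comp_assoc, Category.assoc,
        IsLimit.conePointUniqueUpToIso_hom_comp]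
      exact (c.π.app j).comm _ _)
    (limit.hom_ext fun j => by
      dsimp
      erw [Category.assoc, limMap_π, IsLimit.conePointUniqueUpToIso_hom_comp_assoc, Category.assoc,
        IsLimit.conePointUniqueUpToIso_hom_comp]
      exact (c.π.app j).comm _ _)
  let i : S.homology ≅ F ⋙ homologyFunctor A (ComplexShape.up ℤ) n :=
    NatIso.ofComponents (fun j => (S.mapHomologyIso ((evaluation (Discrete ℕ) A).obj j)).symm) fun {j j'} g => by
      obtain rfl := Discrete.ext (Discrete.eq_of_hom g)
      obtain rfl : g = 𝟙 _ := Subsingleton.elim _ _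
      simp
  let τ : ∀ j, lim (J := Discrete ℕ) (C := A) ⟶ (evaluation (Discrete ℕ) A).obj j := fun j => { app := fun G => limit.π G j }
  refine ⟨IsLimit.ofIsoLimit ((IsLimit.postcomposeHomEquiv i _).symm (limit.isLimit S.homology))
    (Cone.ext (ShortComplex.homologyMapIso e ≪≫ S.mapHomologyIso lim).symm fun j => ?_)⟩
  rw [Iso.symm_hom, Iso.eq_inv_comp]
  have h₁ := S.homologyMap_mapNatTrans (τ j)
  have h₂ : e.hom ≫ S.mapNatTrans (τ j) = Φ.app j := by
    ext <;> dsimp [e, Φ, τ] <;> erw [IsLimit.conePointUniqueUpToIso_hom_comp] <;> simp <;> rfl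
  have h₃ : ShortComplex.homologyMap e.hom ≫ ShortComplex.homologyMap (S.mapNatTrans (τ j)) =
      ShortComplex.homologyMap (S₁ := c.pt.sc n) (S₂ := S.map ((evaluation (Discrete ℕ) A).obj j)) (Φ.app j) :=
    (ShortComplex.homologyMap_comp _ _).symm.trans (congrArg (fun x => ShortComplex.homologyMap x) h₂)
  rw [h₁] at h₃
  refine Eq.trans ?_ (Eq.trans h₃ ?_)
  · dsimp [i, τ]
    simp
  · dsimp [Φ]
    simp
    rfl

end Prod

/-- A cone of K-injective complexes is K-injective. -/
theorem isKInjective_cocone {P P' : CochainComplex A ℤ} (Φ : P ⟶ P') [P.IsKInjective] [P'.IsKInjective] :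
    (CochainComplex.mappingCocone Φ).IsKInjective := by
  haveI : (CochainComplex.mappingCone Φ).IsKInjective := by
    rw [isKInjective_iff_rightOrthogonal]
    exact ObjectProperty.ext_of_isTriangulatedClosed₃ _ _ (HomotopyCategory.mappingCone_triangleh_distinguished Φ)
      (IsKInjective.rightOrthogonal P) (IsKInjective.rightOrthogonal P')
  exact inferInstanceAs ((CochainComplex.mappingCone Φ)⟦(-1 : ℤ)⟧).IsKInjective

/-- Cohomology of a mapping cocone of a map with epi cohomology maps. -/
theorem cocone_homology {P P' : CochainComplex A ℤ} (Φ : P ⟶ P') (i : ℤ)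
    (h : Epi (homologyMap Φ (i - 1))) :
    Mono (homologyMap (mappingCocone.fst Φ) i) ∧ homologyMap (mappingCocone.fst Φ) i ≫ homologyMap Φ i = 0 := by
  let q := HomotopyCategory.quotient A (ComplexShape.up ℤ)
  let T := q.mapTriangle.obj (mappingCocone.triangle Φ)
  have hT : T ∈ distTriang (HomotopyCategory A (ComplexShape.up ℤ)) :=
    (rotate_distinguished_triangle T).2 (isomorphic_distinguished _
      (HomotopyCategory.mappingCone_triangleh_distinguished Φ) _
      (((Functor.mapTriangleRotateIso q).app _) ≪≫ q.mapTriangle.mapIso (mappingCocone.rotateTriangleIso Φ)))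
  let H := HomotopyCategory.homologyFunctor A (ComplexShape.up ℤ) 0
  let w := fun j => HomotopyCategory.homologyFunctorFactors A (ComplexShape.up ℤ) j
  have hk : ∀ (j : ℤ) {a b : CochainComplex A ℤ} (g : a ⟶ b),
      (H.shift j).map (q.map g) ≫ (w j).hom.app b = (w j).hom.app a ≫ homologyMap g j := fun j _ _ g =>
    (w j).hom.naturality g
  have he : Epi ((H.shift (i - 1)).map T.mor₂) := by
    have : (H.shift (i - 1)).map (q.map Φ) = (w (i - 1)).hom.app _ ≫ homologyMap Φ (i - 1) ≫ (w (i - 1)).inv.app _ := by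
      rw [← Category.assoc, ← hk, Category.assoc, Iso.hom_inv_id_app]
      exact (Category.comp_id _).symm
    show Epi ((H.shift (i - 1)).map (q.map Φ))
    rw [this]
    exact @epi_comp _ _ _ _ _ _ inferInstance _ (epi_comp _ _)
  have hm : Mono ((H.shift i).map T.mor₁) :=
    (H.homologySequence_mono_shift_map_mor₁_iff T hT (i - 1) i (by omega)).2
      ((H.homologySequence_epi_shift_map_mor₂_iff T hT (i - 1) i (by omega)).1 he)
  refine ⟨?_, ?_⟩
  · have : homologyMap (mappingCocone.fst Φ) i = (w i).inv.app _ ≫ (H.shift i).map (q.map (mappingCocone.fst Φ)) ≫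
        (w i).hom.app _ := by rw [hk, ← Category.assoc, Iso.inv_hom_id_app]; exact (Category.id_comp _).symm
    rw [this]
    haveI : Mono ((H.shift i).map (q.map (mappingCocone.fst Φ))) := hm
    infer_instance
  · have h0 : (H.shift i).map (q.map (mappingCocone.fst Φ)) ≫ (H.shift i).map (q.map Φ) = 0 :=
      H.homologySequence_comp T hT i
    rw [← cancel_epi ((w i).hom.app _), ← Category.assoc, ← hk, Category.assoc, ← hk, ← Category.assoc, h0,
      zero_comp, comp_zero]

variable [EnoughInjectives A] [HasLimitsOfShape (Discrete ℕ) A] [HasExactLimitsOfShape (Discrete ℕ) A]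

/-- K-injective resolutions exist when countable products are exact. -/
theorem exists_resolution (K : CochainComplex A ℤ) :
    ∃ (I : CochainComplex A ℤ) (f : K ⟶ I), I.IsKInjective ∧ QuasiIso f := by
  let N : ℕ → ℤ := fun n => -(n : ℤ)
  choose I ι hι hI hIge using fun n : ℕ =>
    CochainComplex.Plus.modelCategoryQuillen.exists_quasiIso_injective (K.truncGE (N n)) (N n)
  haveI : ∀ n, (I n).IsKInjective := fun n => by
    haveI := hIge n
    haveI : ∀ j, Injective ((I n).X j) := hI n
    exact CochainComplex.isKInjective_of_injective (I n) (N n)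
  let a : ∀ n, K ⟶ I n := fun n => K.πTruncGE (N n) ≫ ι n
  have ha : ∀ (n : ℕ) (i : ℤ), N n ≤ i → IsIso (homologyMap (a n) i) := fun n i hi => by
    haveI := hι n
    haveI := K.quasiIsoAt_πTruncGE (N n) i hi
    rw [← quasiIsoAt_iff_isIso_homologyMap]
    infer_instance
  have hstep : ∀ n, ∃ t : I (n + 1) ⟶ I n, Nonempty (Homotopy (a (n + 1) ≫ t) (a n)) := fun n => by
    haveI : (K.truncGE (N n)).IsStrictlyGE (N (n + 1)) :=
      (K.truncGE (N n)).isStrictlyGE_of_ge (N (n + 1)) (N n) (by simp only [N]; omega)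
    let p : K.truncGE (N (n + 1)) ⟶ K.truncGE (N n) :=
      truncGEMap (K.πTruncGE (N n)) (N (n + 1)) ≫ inv ((K.truncGE (N n)).πTruncGE (N (n + 1)))
    have hp : K.πTruncGE (N (n + 1)) ≫ p = K.πTruncGE (N n) := by
      simp only [p]
      rw [← Category.assoc, CochainComplex.πTruncGE_naturality, Category.assoc, IsIso.hom_inv_id, Category.comp_id]
    haveI := hι (n + 1)
    obtain ⟨t, ⟨h⟩⟩ := Groth.Agent.CommAlg4.SESResol.exists_factor_kInjective (ι (n + 1)) (p ≫ ι n)
    refine ⟨t, ⟨(Homotopy.ofEq (by simp [a])).trans ((h.compLeft (K.πTruncGE (N (n + 1)))).trans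
      (Homotopy.ofEq (by simp only [a, ← Category.assoc, hp])))⟩⟩
  choose t ht using hstep
  let c := limit.cone (Discrete.functor I)
  let hc : IsLimit c := limit.isLimit _
  let P := c.pt
  haveI : P.IsKInjective := isKInjective_pi (c := c) hc fun n => inferInstance
  let Φ : P ⟶ P := Fan.IsLimit.lift (c := c) hc fun n => Fan.proj c n - Fan.proj c (n + 1) ≫ t n
  let F : K ⟶ P := Fan.IsLimit.lift (c := c) hc a
  obtain ⟨hFΦ⟩ : Nonempty (Homotopy (F ≫ Φ) 0) := nonempty_homotopy_zero_fan (c := c) hc _ fun n => ⟨by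
    refine (Homotopy.ofEq ?_).trans (Homotopy.equivSubZero (ht n).some.symm)
    rw [Category.assoc, Fan.IsLimit.fac, Preadditive.comp_sub, Fan.IsLimit.fac, ← Category.assoc, Fan.IsLimit.fac]⟩
  let f : K ⟶ mappingCocone Φ := mappingCocone.lift Φ F (-(HomComplex.Cochain.ofHomotopy hFΦ)) (by
    rw [HomComplex.δ_neg, HomComplex.δ_ofHomotopy, HomComplex.Cochain.ofHom_zero, sub_zero, neg_add_cancel])
  have hff : f ≫ mappingCocone.fst Φ = F := mappingCocone.lift_fst _ _ _ _
  -- the tower in a fixed degree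
  have key : ∀ i : ℤ, Epi (homologyMap Φ i) ∧ ∃ r : P.homology i ⟶ K.homology i, homologyMap F i ≫ r = 𝟙 _ ∧
      ∀ (W : A) (g : W ⟶ P.homology i), g ≫ homologyMap Φ i = 0 → g ≫ r ≫ homologyMap F i = g := fun i => by
    obtain ⟨hl⟩ := nonempty_isLimit_homology hc i
    let d : Fan fun n => (I n).homology i := Fan.mk (P.homology i) fun n => homologyMap (Fan.proj c n) i
    let ν : Discrete.functor I ⋙ homologyFunctor A (ComplexShape.up ℤ) i ≅ Discrete.functor fun n => (I n).homology i :=
      Discrete.natIso fun _ => Iso.refl _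
    have hd : IsLimit d := ((IsLimit.postcomposeHomEquiv ν _).symm hl).ofIsoLimit
      (Cone.ext (Iso.refl _) fun ⟨n⟩ => (Category.comp_id _).trans (Category.id_comp _).symm)
    refine tower (fun n => homologyMap (t n) i) (fun n => homologyMap (a n) i) (fun n => ?_) (-i).toNat
      (fun n hn => ha n i (by simp only [N]; omega)) (c := d) hd _ (fun n => ?_) _ fun n => ?_
    · rw [← homologyMap_comp, (ht n).some.homologyMap_eq]
    · exact (homologyMap_comp _ _ i).symm.trans (congrArg (fun g => homologyMap g i) (Fan.IsLimit.fac hc _ n))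
    · refine (homologyMap_comp _ _ i).symm.trans ((congrArg (fun g => homologyMap g i) (Fan.IsLimit.fac hc _ n)).trans ?_)
      rw [homologyMap_sub, homologyMap_comp]
      rfl
  refine ⟨mappingCocone Φ, f, isKInjective_cocone Φ, ⟨fun i => ?_⟩⟩
  rw [quasiIsoAt_iff_isIso_homologyMap]
  obtain ⟨hm, h0⟩ := cocone_homology Φ i (key (i - 1)).1
  obtain ⟨-, r, hr, hg⟩ := key i
  refine ⟨homologyMap (mappingCocone.fst Φ) i ≫ r, ?_, ?_⟩
  · rw [← Category.assoc, ← homologyMap_comp, hff, hr]
  · rw [← cancel_mono (homologyMap (mappingCocone.fst Φ) i), Category.assoc, ← homologyMap_comp, hff, Category.id_comp,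
      Category.assoc]
    exact hg _ _ h0

end Groth.Agent.DCat.TowerKInj17
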