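import Mathlib.CategoryTheory.Triangulated.Subcategory
import Mathlib.CategoryTheory.Localization.Triangulated
import Mathlib.CategoryTheory.Localization.CalculusOfFractions.Preadditive

set_option autoImplicit false
set_option backward.isDefEq.respectTransparency false

universe v u v' u'

open CategoryTheory CategoryTheory.Limits CategoryTheory.Pretriangulated ZeroObject

namespace Groth.Agent.DCat

variable {D : Type u} [Category.{v} D] [Preadditive D] [HasZeroObject D] [HasShift D ℤ]
  [∀ n : ℤ, (shiftFunctor D n).Additive] [Pretriangulated D]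
variable {E : Type u'} [Category.{v'} E] (Q : D ⥤ E) (S : MorphismProperty D) [Q.IsLocalization S]

/-- An object dies in a localization iff some arrow of `S` into it is zero. -/
lemma isZero_loc_obj_iff_precomp [S.HasLeftCalculusOfFractions] [S.HasRightCalculusOfFractions]
    (Z : D) : IsZero (Q.obj Z) ↔ ∃ Z' : D, S (0 : Z' ⟶ Z) := by
  letI : Preadditive E := Localization.preadditive Q S
  haveI : Q.Additive := Localization.functor_additive Q S
  have : Q.map (𝟙 Z) = Q.map 0 ↔ IsZero (Q.obj Z) := by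
    rw [IsZero.iff_id_eq_zero, Q.map_id, Q.map_zero]
  rw [← this, MorphismProperty.map_eq_iff_precomp Q S]
  constructor
  · rintro ⟨Z', s, hs, h⟩
    rw [Category.comp_id, comp_zero] at h
    exact ⟨Z', h ▸ hs⟩
  · rintro ⟨Z', hs⟩
    exact ⟨Z', 0, hs, by simp⟩

/-- An object dies in a localization iff some arrow of `S` out of it is zero. -/
lemma isZero_loc_obj_iff_postcomp [S.HasLeftCalculusOfFractions]
    (Z : D) : IsZero (Q.obj Z) ↔ ∃ Z' : D, S (0 : Z ⟶ Z') := by
  letI : Preadditive E := Localization.preadditive Q S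
  haveI : Q.Additive := Localization.functor_additive Q S
  have : Q.map (𝟙 Z) = Q.map 0 ↔ IsZero (Q.obj Z) := by
    rw [IsZero.iff_id_eq_zero, Q.map_id, Q.map_zero]
  rw [← this, MorphismProperty.map_eq_iff_postcomp Q S]
  constructor
  · rintro ⟨Z', s, hs, h⟩
    rw [Category.id_comp, zero_comp] at h
    exact ⟨Z', h ▸ hs⟩
  · rintro ⟨Z', hs⟩
    exact ⟨Z', 0, hs, by simp⟩

/-- Retracts of objects killed by a localization are killed. -/
lemma isZero_loc_obj_of_retract [S.HasLeftCalculusOfFractions] {Z Y : D} (i : Z ⟶ Y) (r : Y ⟶ Z)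
    (hir : i ≫ r = 𝟙 Z) (hY : IsZero (Q.obj Y)) : IsZero (Q.obj Z) := by
  letI : Preadditive E := Localization.preadditive Q S
  rw [IsZero.iff_id_eq_zero, ← Q.map_id, ← hir, Q.map_comp, hY.eq_of_tgt (Q.map i) 0, zero_comp]

/-- The cone of a zero morphism splits. -/
lemma exists_iso_cone_zero {X Y C : D} {g : Y ⟶ C} {h : C ⟶ X⟦(1 : ℤ)⟧}
    (hT : Triangle.mk (0 : X ⟶ Y) g h ∈ distTriang D) :
    Nonempty (C ≅ Y ⊞ (X⟦(1 : ℤ)⟧)) := by
  obtain ⟨e, -, -⟩ := exists_iso_binaryBiproduct_of_distTriang _ (rot_of_distTriang _ hT)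
    (by simp)
  exact ⟨e⟩

/-- The cone of an arrow of a compatible multiplicative system dies in the localization. -/
lemma isZero_loc_obj_cone [S.HasLeftCalculusOfFractions] [S.IsCompatibleWithTriangulation]
    {T : Triangle D} (hT : T ∈ distTriang D) (h : S T.mor₁) : IsZero (Q.obj T.obj₃) := by
  rw [isZero_loc_obj_iff_postcomp Q S]
  obtain ⟨c, hc, -⟩ := S.compatible_with_triangulation T (contractibleTriangle T.obj₂) hT
    (contractible_distinguished _) T.mor₁ (𝟙 _) h (S.id_mem _) rfl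
  exact ⟨(0 : D), (isZero_zero D).eq_of_tgt c 0 ▸ hc⟩

/-- A morphism becomes invertible iff its cone dies. -/
lemma isIso_loc_map_iff_isZero [S.HasLeftCalculusOfFractions] [S.HasRightCalculusOfFractions]
    [S.IsCompatibleWithTriangulation] {T : Triangle D} (hT : T ∈ distTriang D) :
    IsIso (Q.map T.mor₁) ↔ IsZero (Q.obj T.obj₃) := by
  let e := Localization.compUniqFunctor S.Q Q S
  rw [← NatIso.isIso_map_iff e, isZero_loc_obj_iff_precomp Q S, ← isZero_loc_obj_iff_precomp S.Q S]
  have h := S.Q.map_distinguished _ hT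
  refine ⟨fun hi => ?_, fun hz => ?_⟩
  · have : IsIso ((Localization.uniq S.Q Q S).functor.map (S.Q.map T.mor₁)) := hi
    exact Triangle.isZero₃_of_isIso₁ _ h (isIso_of_fully_faithful (Localization.uniq S.Q Q S).functor (S.Q.map T.mor₁))
  · have : IsIso (S.Q.map T.mor₁) := (Triangle.isZero₃_iff_isIso₁ _ h).1 hz
    dsimp
    infer_instance

/-- The kernel of a Verdier quotient consists of the direct summands of the objects of `B`. -/
lemma isZero_quotient_obj_iff [IsTriangulated D] (B : ObjectProperty D) [B.IsTriangulated]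
    (Q : D ⥤ E) [Q.IsLocalization B.trW] (Z : D) :
    IsZero (Q.obj Z) ↔ ∃ (Z' Y : D), B Y ∧ Nonempty (Z ⊞ Z' ≅ Y) := by
  constructor
  · intro h
    obtain ⟨Z', hZ'⟩ := (isZero_loc_obj_iff_precomp Q B.trW Z).1 h
    obtain ⟨Y, g, k, hT, hY⟩ := (B.trW_iff _).1 hZ'
    obtain ⟨e⟩ := exists_iso_cone_zero hT
    exact ⟨_, Y, hY, ⟨e.symm⟩⟩
  · rintro ⟨Z', Y, hY, ⟨e⟩⟩
    refine isZero_loc_obj_of_retract Q B.trW (biprod.inl ≫ e.hom) (e.inv ≫ biprod.fst) (by simp) ?_
    refine (isZero_loc_obj_iff_precomp Q B.trW Y).2 ⟨0, ?_⟩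
    exact (B.trW_iff _).2 ⟨Y, 𝟙 Y, 0, (Triangle.distinguished_iff_of_isZero₁ _ (isZero_zero _)).2
      (inferInstanceAs (IsIso (𝟙 Y))), hY⟩

end Groth.Agent.DCat
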