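import Mathlib.CategoryTheory.Triangulated.Orthogonal
import Mathlib.CategoryTheory.Triangulated.Subcategory
import Mathlib.CategoryTheory.Triangulated.Opposite.Pretriangulated
import Mathlib.CategoryTheory.Idempotents.Basic
import Mathlib.CategoryTheory.Adjunction.PartialAdjoint
import Mathlib.CategoryTheory.Limits.Shapes.Opposites.Products

/-! Semiorthogonal decompositions and idempotent completeness. -/

set_option autoImplicit false
set_option backward.isDefEq.respectTransparency false
set_option backward.defeqAttrib.useBackward true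
set_option linter.style.haveILetI false

universe v u

open CategoryTheory CategoryTheory.Limits CategoryTheory.Pretriangulated Opposite

namespace Groth.Agent.DCat

variable {D : Type u} [Category.{v} D] [Preadditive D] [HasZeroObject D] [HasShift D ℤ]
  [∀ n : ℤ, (shiftFunctor D n).Additive] [Pretriangulated D]

open ObjectProperty in
/-- Objects decomposed along two orthogonal triangulated classes form a triangulated class. -/
theorem isTriangulated_extensionProduct [IsTriangulated D] (L R : ObjectProperty D) [L.IsTriangulated] [R.IsTriangulated]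
    (h0 : ∀ (a b : D), L a → R b → ∀ f : a ⟶ b, f = 0) : (L.extensionProduct R).IsTriangulated := by
  let M := L.extensionProduct R
  have hswap : R.extensionProduct L ≤ M := by
    intro X ⟨r, l, f, g, h, hT, hr, hl⟩
    obtain rfl : h = 0 := h0 _ _ hl (R.le_shift 1 _ hr) h
    obtain ⟨e, -, -⟩ := exists_iso_binaryBiproduct_of_distTriang _ hT rfl
    exact M.prop_of_iso ((biprod.braiding l r) ≪≫ e.symm)
      ⟨l, r, _, _, _, binaryBiproductTriangle_distinguished l r, hl, hr⟩
  have hM : M.extensionProduct M ≤ M := by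
    calc M.extensionProduct M = L.extensionProduct ((R.extensionProduct L).extensionProduct R) := by
          simp only [M, extensionProduct_assoc]
      _ ≤ L.extensionProduct (M.extensionProduct R) :=
          monotone_extensionProduct_right _ (monotone_extensionProduct_left _ hswap)
      _ = (L.extensionProduct L).extensionProduct (R.extensionProduct R) := by
          simp only [M, extensionProduct_assoc]
      _ ≤ L.isoClosure.extensionProduct (R.extensionProduct R) :=
          monotone_extensionProduct_left _ (extensionProduct_le_of_isTriangulatedClosed₂' le_rfl le_rfl)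
      _ ≤ L.isoClosure.extensionProduct R.isoClosure :=
          monotone_extensionProduct_right _ (extensionProduct_le_of_isTriangulatedClosed₂' le_rfl le_rfl)
      _ = M := by rw [extensionProduct_isoClosure_left, extensionProduct_isoClosure_right]
  haveI : M.ContainsZero := by
    obtain ⟨Z, hZ, hP⟩ := L.exists_prop_of_containsZero
    exact ⟨⟨Z, hZ, L.le_extensionProduct_left R Z hP⟩⟩
  haveI : M.IsTriangulatedClosed₂ := IsTriangulatedClosed₂.mk' fun T hT h₁ h₃ =>
    hM _ ⟨_, _, T.mor₁, T.mor₂, T.mor₃, hT, h₁, h₃⟩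
  exact {}

open ObjectProperty in
/-- The inclusion has a left adjoint iff decompositions exist. -/
theorem isRightAdjoint_ι_iff (P : ObjectProperty D) [P.IsTriangulated] :
    P.ι.IsRightAdjoint ↔ ∀ X : D, ∃ (A B : D) (f : A ⟶ X) (g : X ⟶ B) (h : B ⟶ (shiftFunctor D (1 : ℤ)).obj A),
      Triangle.mk f g h ∈ distTriang D ∧ P B ∧ P.leftOrthogonal A := by
  constructor
  · intro hR X
    let η := (Adjunction.ofIsRightAdjoint P.ι).unit.app X
    let LX := P.ι.leftAdjoint.obj X
    have hη : ∀ B' : D, P B' → Function.Bijective fun g : P.ι.obj LX ⟶ B' => η ≫ g := fun B' hB' => by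
      have := ((Adjunction.ofIsRightAdjoint P.ι).homEquiv X ⟨B', hB'⟩).bijective
      refine ⟨fun g g' h => ?_, fun g => ?_⟩
      · exact congrArg (fun k => P.ι.map k) (this.1 (a₁ := P.homMk g) (a₂ := P.homMk g')
          (by rw [Adjunction.homEquiv_unit, Adjunction.homEquiv_unit]; exact h))
      · obtain ⟨g', hg'⟩ := this.2 g
        refine ⟨P.ι.map g', ?_⟩
        rw [Adjunction.homEquiv_unit] at hg'
        exact hg'
    obtain ⟨A, f, h, hT⟩ := distinguished_cocone_triangle₁ η
    refine ⟨A, P.ι.obj LX, f, η, h, hT, LX.property, fun B' φ hB' => ?_⟩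
    let F := shiftFunctor D (1 : ℤ)
    have h0 : h ≫ F.map φ = 0 := (hη _ (P.le_shift 1 _ hB')).1 (by
      change η ≫ h ≫ F.map φ = η ≫ 0
      rw [← Category.assoc, show η ≫ h = 0 from comp_distTriang_mor_zero₂₃ _ hT, zero_comp, comp_zero])
    obtain ⟨z, hz⟩ := Triangle.yoneda_exact₃ _ (rot_of_distTriang _ hT) (F.map φ) h0
    obtain ⟨z', rfl⟩ := F.map_surjective z
    obtain ⟨g', hg'⟩ := (hη _ hB').2 z'
    refine F.map_injective ?_
    refine hz.trans ?_
    change (-F.map f) ≫ F.map z' = F.map 0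
    rw [Preadditive.neg_comp, ← F.map_comp, ← hg', ← Category.assoc,
      show f ≫ η = 0 from comp_distTriang_mor_zero₁₂ _ hT, zero_comp, Functor.map_zero, neg_zero]
  · intro hdec
    refine Functor.isRightAdjoint_of_leftAdjointObjIsDefined_eq_top ?_
    ext X
    simp only [Pi.top_apply, Prop.top_eq_true, iff_true]
    obtain ⟨A, B, f, g, h, hT, hB, hA⟩ := hdec X
    rw [Functor.leftAdjointObjIsDefined_iff]
    have hbij : ∀ B' : P.FullSubcategory, Function.Bijective fun k : (⟨B, hB⟩ : P.FullSubcategory) ⟶ B' => g ≫ P.ι.map k := by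
      intro B'
      constructor
      · intro k k' hk
        refine P.ι.map_injective ?_
        rw [← sub_eq_zero]
        obtain ⟨z, hz⟩ := Triangle.yoneda_exact₃ _ hT (P.ι.map k - P.ι.map k')
          (by dsimp at hk ⊢; rw [Preadditive.comp_sub, sub_eq_zero]; exact hk)
        dsimp at hz z ⊢
        rw [hz, (show z = 0 from (P.leftOrthogonal.le_shift (1 : ℤ) _ hA) z B'.property), comp_zero]
      · intro x
        obtain ⟨k, hk⟩ := Triangle.yoneda_exact₂ _ hT x (hA _ B'.property)
        exact ⟨P.homMk k, hk.symm⟩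
    exact Functor.CorepresentableBy.isCorepresentable
      { homEquiv := fun {B'} => Equiv.ofBijective _ (hbij B')
        homEquiv_comp := fun {B' B''} a k => by simp }

open ObjectProperty in
/-- The inclusion has a right adjoint iff decompositions exist. -/
theorem isLeftAdjoint_ι_iff (P : ObjectProperty D) [P.IsTriangulated] :
    P.ι.IsLeftAdjoint ↔ ∀ X : D, ∃ (A B : D) (f : A ⟶ X) (g : X ⟶ B) (h : B ⟶ (shiftFunctor D (1 : ℤ)).obj A),
      Triangle.mk f g h ∈ distTriang D ∧ P A ∧ P.rightOrthogonal B := by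
  constructor
  · intro hL X
    let adj := Adjunction.ofIsLeftAdjoint P.ι
    let RX := P.ι.rightAdjoint.obj X
    let ε : P.ι.obj RX ⟶ X := adj.counit.app X
    have hε : ∀ A' : D, P A' → Function.Bijective fun g : A' ⟶ P.ι.obj RX => g ≫ ε := fun A' hA' => by
      have := (adj.homEquiv ⟨A', hA'⟩ X).symm.bijective
      refine ⟨fun g g' h => ?_, fun g => ?_⟩
      · exact congrArg (fun k => P.ι.map k) (this.1 (a₁ := P.homMk g) (a₂ := P.homMk g')
          (by rw [Adjunction.homEquiv_counit, Adjunction.homEquiv_counit]; exact h))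
      · obtain ⟨g', hg'⟩ := this.2 g
        refine ⟨P.ι.map g', ?_⟩
        rw [Adjunction.homEquiv_counit] at hg'
        exact hg'
    obtain ⟨B, g, h, hT⟩ := distinguished_cocone_triangle ε
    refine ⟨P.ι.obj RX, B, ε, g, h, hT, RX.property, fun A' φ hA' => ?_⟩
    have hφh : φ ≫ h = 0 := by
      let F := shiftFunctor D (1 : ℤ)
      let j := (shiftFunctorCompIsoId D (-1 : ℤ) 1 (by omega)).app A'
      obtain ⟨α, hα⟩ := F.map_surjective (j.hom ≫ φ ≫ h)
      have hz : α ≫ ε = 0 := F.map_injective (by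
        rw [F.map_comp, hα, Functor.map_zero, Category.assoc, Category.assoc,
          show h ≫ F.map ε = 0 from comp_distTriang_mor_zero₃₁ _ hT, comp_zero, comp_zero])
      rw [← cancel_epi j.hom, ← hα, (hε _ (P.le_shift (-1) _ hA')).1 (a₁ := α) (a₂ := 0) (by simpa using hz),
        Functor.map_zero, comp_zero]
    obtain ⟨x, hx⟩ := Triangle.coyoneda_exact₃ _ hT φ hφh
    obtain ⟨x', hx'⟩ := (hε _ hA').2 x
    rw [hx, ← hx']
    dsimp
    rw [Category.assoc, show ε ≫ g = 0 from comp_distTriang_mor_zero₁₂ _ hT, comp_zero]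
  · intro hdec
    refine Functor.isLeftAdjoint_of_rightAdjointObjIsDefined_eq_top ?_
    ext X
    simp only [Pi.top_apply, Prop.top_eq_true, iff_true]
    obtain ⟨A, B, f, g, h, hT, hA, hB⟩ := hdec X
    rw [Functor.rightAdjointObjIsDefined_iff]
    have hbij : ∀ A' : P.FullSubcategory, Function.Bijective fun k : A' ⟶ (⟨A, hA⟩ : P.FullSubcategory) => P.ι.map k ≫ f := by
      intro A'
      constructor
      · intro k k' hk
        refine P.ι.map_injective ?_
        rw [← sub_eq_zero]
        obtain ⟨z, hz⟩ := Triangle.coyoneda_exact₂ _ (inv_rot_of_distTriang _ hT) (P.ι.map k - P.ι.map k')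
          (by dsimp at hk ⊢; rw [Preadditive.sub_comp, sub_eq_zero]; exact hk)
        dsimp at hz z ⊢
        rw [hz, (show z = 0 from (P.rightOrthogonal.le_shift (-1 : ℤ) _ hB) z A'.property), zero_comp]
      · intro x
        obtain ⟨k, hk⟩ := Triangle.coyoneda_exact₂ _ hT x (hB _ A'.property)
        exact ⟨P.homMk k, hk.symm⟩
    exact Functor.RepresentableBy.isRepresentable
      { homEquiv := fun {A'} => Equiv.ofBijective _ (hbij A')
        homEquiv_comp := fun {A' A''} a k => by simp }

/-- Idempotents split when countable sums exist. -/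
theorem isIdempotentComplete_of_nat_coproducts [HasColimitsOfShape (Discrete ℕ) D] : IsIdempotentComplete D := by
  refine ⟨fun X e he => ?_⟩
  let K : ℕ → D := fun _ => X
  let s : ∐ K ⟶ ∐ K := Sigma.desc fun n => e ≫ Sigma.ι K (n + 1)
  let t := 𝟙 _ - s
  obtain ⟨Y, p, c, hT⟩ := distinguished_cocone_triangle t
  have hpt : t ≫ p = 0 := comp_distTriang_mor_zero₁₂ _ hT
  have hp : ∀ n, e ≫ Sigma.ι K (n + 1) ≫ p = Sigma.ι K n ≫ p := fun n => by
    have := Sigma.ι K n ≫= hpt
    simp [t, s, Preadditive.comp_sub, sub_eq_zero] at this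
    exact this.symm
  have hsurj : ∀ (A : D) (b : ∀ n, K n ⟶ A), ∃ a : ∀ n, K n ⟶ A, ∀ n, a n - e ≫ a (n + 1) = b n := by
    intro A b
    let cc : ℕ → (X ⟶ A) := fun n => -∑ i ∈ Finset.range n, e ≫ b i
    have hcc : ∀ n, cc n - cc (n + 1) = e ≫ b n := fun n => by simp [cc, Finset.sum_range_succ]
    refine ⟨fun n => (b n - e ≫ b n) + e ≫ cc n, fun n => ?_⟩
    simp only [Preadditive.comp_add, Preadditive.comp_sub, reassoc_of% he, sub_self, zero_add]
    rw [add_sub_assoc, ← Preadditive.comp_sub, hcc, reassoc_of% he, sub_add_cancel]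
  have htsurj : ∀ (A : D) (b : ∐ K ⟶ A), ∃ a, t ≫ a = b := fun A b => by
    obtain ⟨a, ha⟩ := hsurj A fun n => Sigma.ι K n ≫ b
    exact ⟨Sigma.desc a, Sigma.hom_ext _ _ fun n => by simp [t, s, Preadditive.comp_sub, ha]⟩
  let i : X ⟶ Y := Sigma.ι K 0 ≫ p
  have hinj : ∀ (A : D) (z : Y ⟶ A), i ≫ z = 0 → z = 0 := by
    intro A z hz
    have hn : ∀ n, Sigma.ι K n ≫ p ≫ z = 0 := by
      intro n
      induction n with
      | zero => exact (Category.assoc _ _ _).symm.trans hz
      | succ n ih =>
        have h1 : e ≫ Sigma.ι K (n + 1) ≫ p ≫ z = 0 := by rw [reassoc_of% hp, ih]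
        have h2 : e ≫ Sigma.ι K (n + 1) ≫ p ≫ z = Sigma.ι K (n + 1) ≫ p ≫ z := by
          rw [← reassoc_of% hp (n + 1), reassoc_of% he]
        rw [← h2, h1]
    obtain ⟨w, hw⟩ := Triangle.yoneda_exact₃ _ hT z (Sigma.hom_ext _ _ fun n => (hn n).trans comp_zero.symm)
    dsimp at w hw
    obtain ⟨b, hb⟩ : ∃ b, t⟦(1 : ℤ)⟧' ≫ b = w := by
      let F := shiftFunctor D (1 : ℤ)
      let j := (shiftFunctorCompIsoId D (-1 : ℤ) 1 (by omega)).app A
      obtain ⟨w', hw'⟩ := F.map_surjective (w ≫ j.inv)
      obtain ⟨a, ha⟩ := htsurj _ w'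
      refine ⟨F.map a ≫ j.hom, ?_⟩
      rw [← F.map_comp_assoc, ha, hw', Category.assoc, Iso.inv_hom_id, Category.comp_id]
    rw [hw, ← hb, ← Category.assoc, show c ≫ t⟦(1 : ℤ)⟧' = 0 from comp_distTriang_mor_zero₃₁ _ hT, zero_comp]
  have hi : e ≫ i = i := by
    change e ≫ Sigma.ι K 0 ≫ p = Sigma.ι K 0 ≫ p
    rw [← hp 0, reassoc_of% he]
  obtain ⟨r, hr⟩ := Triangle.yoneda_exact₂ _ hT (Sigma.desc fun _ => e) (Sigma.hom_ext _ _ fun n => by
    simp [t, s, K, Preadditive.comp_sub, he])
  dsimp at hr r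
  have hir : i ≫ r = e := by
    change (Sigma.ι K 0 ≫ p) ≫ r = e
    rw [Category.assoc, ← hr, Sigma.ι_desc]
  refine ⟨Y, r, i, ?_, hir⟩
  rw [← sub_eq_zero]
  refine hinj _ _ ?_
  rw [Preadditive.comp_sub, reassoc_of% hir, hi, Category.comp_id, sub_self]

end Groth.Agent.DCat
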