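import Groth.Prelude.Def_DRing2
import Groth.Agent.DCat.TwoTerm
import Mathlib.Algebra.Homology.DerivedCategory.Linear
import Mathlib.Algebra.Category.ModuleCat.Projective

/-! Representatives in degrees `[-1, 0]`. -/

set_option autoImplicit false
set_option backward.isDefEq.respectTransparency false
set_option backward.defeqAttrib.useBackward true

universe u

open CategoryTheory CategoryTheory.Limits HomologicalComplex
attribute [local instance] HasDerivedCategory.standard

namespace Groth.Agent.DCat.TwoTerm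

variable {R : Type u} [CommRing R]

theorem exists_strict (K : Dual.D R) (hK : ∀ i : ℤ, i ≠ -1 → i ≠ 0 → Subsingleton (Dual.HD R K i)) :
    ∃ E : DRing.Cx R, DRing.VanishesOutside E (-1) 0 ∧ Nonempty (DRing.toD E ≅ K) := by
  have : K.IsGE (-1) := (DerivedCategory.isGE_iff K (-1)).2 fun i hi =>
    @ModuleCat.isZero_of_subsingleton R _ _ (hK i (by omega) (by omega))
  have : K.IsLE 0 := (DerivedCategory.isLE_iff K 0).2 fun i hi =>
    @ModuleCat.isZero_of_subsingleton R _ _ (hK i (by omega) (by omega))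
  obtain ⟨E, _, _, ⟨e⟩⟩ := DerivedCategory.exists_iso_Q_obj_of_isGE_of_isLE K (-1) 0
  refine ⟨E, fun i hi => ?_, ⟨e.symm⟩⟩
  rcases hi with hi | hi
  · exact E.isZero_of_isStrictlyGE (-1) i hi
  · exact E.isZero_of_isStrictlyLE 0 i hi

/-- Replace the degree `0` term by any module mapping onto the cokernel of the differential. -/
theorem exists_cover (E : DRing.Cx R) (hE : DRing.VanishesOutside E (-1) 0) (P : Type u) [AddCommGroup P]
    [Module R P] (π : P →ₗ[R] E.X 0) (hπ : LinearMap.range π ⊔ LinearMap.range (E.d (-1) 0).hom = ⊤) :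
    ∃ F : DRing.Cx R, DRing.VanishesOutside F (-1) 0 ∧ Nonempty (F.X 0 ≅ ModuleCat.of R P) ∧
      Nonempty (F.X (-1) ≅ ModuleCat.of R
        (LinearMap.ker (π ∘ₗ LinearMap.fst R P (E.X (-1)) - (E.d (-1) 0).hom ∘ₗ LinearMap.snd R P (E.X (-1))))) ∧
      Nonempty (DRing.toD F ≅ DRing.toD E) := by
  let d := (E.d (-1) 0).hom
  let Q := LinearMap.ker (π ∘ₗ LinearMap.fst R P (E.X (-1)) - d ∘ₗ LinearMap.snd R P (E.X (-1)))
  let dF : ModuleCat.of R Q ⟶ ModuleCat.of R P := ModuleCat.ofHom (LinearMap.fst R P _ ∘ₗ Q.subtype)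
  have hr : (ComplexShape.up ℤ).Rel (-1) 0 := by simp
  let F := HomologicalComplex.double dF hr
  have hF : DRing.VanishesOutside F (-1) 0 := fun i hi =>
    isZero_double_X dF hr i (by omega) (by omega)
  let φ : F ⟶ E := mkHomFromDouble hr (by omega) (ModuleCat.ofHom (LinearMap.snd R P _ ∘ₗ Q.subtype))
    (ModuleCat.ofHom π) (by
      refine ModuleCat.hom_ext (LinearMap.ext fun x => ?_)
      exact (sub_eq_zero.1 x.2).symm)
    (fun k hk => (hE k (Or.inr (by simp at hk; omega))).eq_of_tgt _ _)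
  have : QuasiIso φ := ⟨fun i => by
    by_cases hi : i = -1
    · subst hi
      rw [quasiIsoAt_iff' φ (-2) (-1) 0 (by simp) (by simp)]
      refine quasiIso_of _ (fun x hx hr' => ?_) fun y hy => ?_
      · obtain ⟨q, rfl⟩ : ∃ q, (doubleXIso₀ dF hr).inv q = x :=
          ⟨(doubleXIso₀ dF hr).hom x, Iso.hom_inv_id_apply _ _⟩
        have h1 : q.1.1 = 0 := by
          have : (doubleXIso₁ dF hr (by omega)).hom ((F.d (-1) 0) ((doubleXIso₀ dF hr).inv q)) = 0 :=
            (congrArg _ hx).trans (map_zero _)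
          simp only [F, double_d dF hr (by omega)] at this
          simp only [ConcreteCategory.comp_apply, Iso.inv_hom_id_apply] at this
          exact this
        have h2 : q.1.2 = 0 := by
          obtain ⟨w, hw⟩ := hr'
          have e : φ.f (-1) ((doubleXIso₀ dF hr).inv q) = q.1.2 := by
            simp only [φ, mkHomFromDouble_f₀, ConcreteCategory.comp_apply]
            erw [Iso.inv_hom_id_apply]
            rfl
          have : Subsingleton (E.X (-2)) := ModuleCat.subsingleton_of_isZero (hE (-2) (Or.inl (by omega)))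
          refine e.symm.trans (hw.symm.trans ?_)
          have hw0 : w = 0 := @Subsingleton.elim (E.X (-2)) this _ _
          rw [hw0, map_zero]
        have : q = 0 := Subtype.ext (Prod.ext h1 h2)
        rw [this, map_zero]
        exact zero_mem _
      · have hy' : d y = 0 := hy
        refine ⟨(doubleXIso₀ dF hr).inv (⟨(0, y), by simp [Q, hy']⟩ : Q), ?_, 0, ?_⟩
        · show F.d (-1) 0 _ = 0
          simp only [F, double_d dF hr (by omega), ConcreteCategory.comp_apply, Iso.inv_hom_id_apply]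
          exact map_zero (doubleXIso₁ dF hr (by omega)).inv.hom
        · rw [map_zero]
          show (0 : E.X (-1)) = (show E.X (-1) from y) - φ.f (-1) _
          simp only [φ, mkHomFromDouble_f₀, ConcreteCategory.comp_apply]
          erw [Iso.inv_hom_id_apply]
          exact (sub_self y).symm
    by_cases hi0 : i = 0
    · subst hi0
      rw [quasiIsoAt_iff' φ (-1) 0 1 (by simp) (by simp)]
      refine quasiIso_of _ (fun x _ hr' => ?_) fun y _ => ?_
      · obtain ⟨k, hk⟩ := hr'
        obtain ⟨p, rfl⟩ : ∃ p, (doubleXIso₁ dF hr (by omega)).inv p = x :=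
          ⟨(doubleXIso₁ dF hr (by omega)).hom x, Iso.hom_inv_id_apply _ _⟩
        have hkp : d k = π p := by
          refine hk.trans ?_
          show φ.f 0 _ = π p
          simp only [φ, mkHomFromDouble_f₁, ConcreteCategory.comp_apply]
          erw [Iso.inv_hom_id_apply]
          rfl
        refine ⟨(doubleXIso₀ dF hr).inv (⟨(p, k), by simp [Q, hkp]⟩ : Q), ?_⟩
        show F.d (-1) 0 _ = _
        simp only [F, double_d dF hr (by omega), ConcreteCategory.comp_apply, Iso.inv_hom_id_apply]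
        rfl
      · have hy : (show E.X 0 from y) ∈ LinearMap.range π ⊔ LinearMap.range d := hπ ▸ Submodule.mem_top
        obtain ⟨_, ⟨p, rfl⟩, _, ⟨k, rfl⟩, hyk⟩ := Submodule.mem_sup.1 hy
        refine ⟨(doubleXIso₁ dF hr (by omega)).inv p, ?_, k, ?_⟩
        · show F.d 0 1 _ = 0
          rw [show F.d 0 1 = 0 from double_d_eq_zero₀ dF hr 0 1 (by omega)]
          rfl
        · show d k = (show E.X 0 from y) - φ.f 0 _
          simp only [φ, mkHomFromDouble_f₁, ConcreteCategory.comp_apply]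
          erw [Iso.inv_hom_id_apply]
          exact eq_sub_of_add_eq' hyk
    · rw [quasiIsoAt_iff_exactAt']
      · exact ExactAt.of_isZero (hF i (by omega))
      · exact ExactAt.of_isZero (hE i (by omega))⟩
  exact ⟨F, hF, ⟨doubleXIso₁ dF hr (by omega)⟩, ⟨doubleXIso₀ dF hr⟩, ⟨asIso (DerivedCategory.Q.map φ)⟩⟩

theorem exists_projective_rep (K : Dual.D R)
    (hK : ∀ i : ℤ, i ≠ -1 → i ≠ 0 → Subsingleton (Dual.HD R K i)) :
    ∃ E : DRing.Cx R, DRing.VanishesOutside E (-1) 0 ∧ Module.Projective R (E.X 0) ∧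
      Nonempty (DRing.toD E ≅ K) := by
  obtain ⟨E, hE, ⟨e⟩⟩ := exists_strict K hK
  obtain ⟨F, hF, ⟨e₀⟩, -, ⟨e'⟩⟩ := exists_cover E hE (E.X 0 →₀ R) (Finsupp.linearCombination R id) (by
    rw [LinearMap.range_eq_top.2 (Finsupp.linearCombination_id_surjective R (E.X 0)), top_sup_eq])
  exact ⟨F, hF, Module.Projective.of_equiv e₀.symm.toLinearEquiv, ⟨e' ≪≫ e⟩⟩

/-- the extension class of `f : E⁻¹ ⟶ N` is killed by `a` iff `a f` extends to `E⁰`. -/
theorem exists_ext_of (E : DRing.Cx R) (hE : DRing.VanishesOutside E (-1) 0) [Module.Projective R (E.X 0)]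
    {N : ModuleCat.{u} R} (f : E.X (-1) ⟶ N) :
    ∃ ξ : DRing.toD E ⟶ ((DerivedCategory.singleFunctor (ModuleCat.{u} R) 0).obj N)⟦(1 : ℤ)⟧,
      ∀ a : R, a • ξ = 0 ↔ ∃ h : E.X 0 ⟶ N, a • f = E.d (-1) 0 ≫ h := by
  have hM : ∀ i, 0 < i → IsZero (E.X i) := fun i hi => hE i (Or.inr hi)
  have : Projective (ModuleCat.of R (E.X 0)) := inferInstance
  have : Projective (E.X 0) := this
  obtain ⟨g, hg⟩ := exists_hom_single hM f ((hE (-2) (Or.inl (by omega))).eq_of_src _ _)
  refine ⟨DerivedCategory.Q.map g ≫ (extIso N).hom, fun a => ?_⟩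
  rw [← Linear.smul_comp, ← CategoryTheory.Functor.map_smul, ext_eq_zero_iff hM]
  simp only [HomologicalComplex.smul_f_apply, Linear.smul_comp, hg]

theorem smul_ext_eq_zero (E : DRing.Cx R) (hE : DRing.VanishesOutside E (-1) 0) [Module.Projective R (E.X 0)]
    {N : ModuleCat.{u} R}
    (ξ : DRing.toD E ⟶ ((DerivedCategory.singleFunctor (ModuleCat.{u} R) 0).obj N)⟦(1 : ℤ)⟧)
    (a : R) (h : E.X 0 ⟶ E.X (-1)) (hh : E.d (-1) 0 ≫ h = a • 𝟙 (E.X (-1))) : a • ξ = 0 := by
  have hM : ∀ i, 0 < i → IsZero (E.X i) := fun i hi => hE i (Or.inr hi)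
  have : Projective (ModuleCat.of R (E.X 0)) := inferInstance
  have : Projective (E.X 0) := this
  obtain ⟨g, rfl⟩ := exists_ext hM ξ
  rw [← Linear.smul_comp, ← CategoryTheory.Functor.map_smul, ext_eq_zero_iff hM]
  refine ⟨h ≫ g.f (-1) ≫ (singleObjXSelf (ComplexShape.up ℤ) (-1) N).hom, ?_⟩
  rw [HomologicalComplex.smul_f_apply, Linear.smul_comp, ← Category.assoc, hh, Linear.smul_comp,
    Category.id_comp]

end Groth.Agent.DCat.TwoTerm
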